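import Cfsg.Agent.Lib.CT.Orthogonality

/-!
# Ordinary character theory: induction, generalized characters
-/

namespace Cfsg.Agent.CT

open scoped ComplexConjugate
open Representation Module

universe u v w

section Extend

variable {G : Type u} [Group G] (H : Subgroup G)

theorem extendByZero_mem (θ : H → ℂ) {g : G} (hg : g ∈ H) : extendByZero H θ g = θ ⟨g, hg⟩ :=
  Subtype.val_injective.extend_apply θ 0 ⟨g, hg⟩

theorem extendByZero_coe (θ : H → ℂ) (h : H) : extendByZero H θ h = θ h :=
  extendByZero_mem H θ h.2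

theorem extendByZero_not_mem (θ : H → ℂ) {g : G} (hg : g ∉ H) : extendByZero H θ g = 0 := by
  refine Function.extend_apply' _ _ _ ?_
  rintro ⟨a, rfl⟩
  exact hg a.2

theorem sum_extendByZero [Fintype G] [Fintype H] (θ : H → ℂ) (f : G → ℂ) :
    ∑ g : G, extendByZero H θ g * f g = ∑ h : H, θ h * f h := by
  classical
  rw [← Finset.sum_subset (Finset.subset_univ (Finset.univ.filter fun g => g ∈ H))
    (fun g _ hg => by
      rw [Finset.mem_filter] at hg
      rw [extendByZero_not_mem H θ (fun h => hg ⟨Finset.mem_univ g, h⟩), zero_mul]),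
    Finset.sum_subtype (Finset.univ.filter fun g => g ∈ H) (p := fun g => g ∈ H) (by simp)]
  exact Finset.sum_congr rfl fun h _ => by rw [extendByZero_coe]

end Extend

section Ind

variable {G : Type u} [Group G] [Fintype G] (H : Subgroup G)

theorem isClassFunction_indFun (θ : H → ℂ) : IsClassFunction G (indFun H θ) := by
  intro g x
  unfold indFun
  congr 1
  refine Fintype.sum_equiv (Equiv.mulLeft x⁻¹) _ _ fun y => ?_
  simp [mul_assoc]

theorem indFun_add (θ η : H → ℂ) : indFun H (θ + η) = indFun H θ + indFun H η := by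
  funext g
  simp only [indFun, Pi.add_apply, ← mul_add, ← Finset.sum_add_distrib]
  congr 1
  refine Finset.sum_congr rfl fun x _ => ?_
  by_cases h : x⁻¹ * g * x ∈ H
  · simp [extendByZero_mem H _ h]
  · simp [extendByZero_not_mem H _ h]

theorem indFun_smul (c : ℂ) (θ : H → ℂ) : indFun H (c • θ) = c • indFun H θ := by
  funext g
  simp only [indFun, Pi.smul_apply, smul_eq_mul, Finset.mul_sum]
  refine Finset.sum_congr rfl fun x _ => ?_
  by_cases h : x⁻¹ * g * x ∈ H
  · simp [extendByZero_mem H _ h, mul_left_comm]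
  · simp [extendByZero_not_mem H _ h]

@[simp] theorem indFun_zero : indFun H (0 : H → ℂ) = 0 := by
  simpa using indFun_smul H 0 (0 : H → ℂ)

theorem indFun_neg (θ : H → ℂ) : indFun H (-θ) = -indFun H θ := by
  simpa using indFun_smul H (-1) θ

theorem indFun_sub (θ η : H → ℂ) : indFun H (θ - η) = indFun H θ - indFun H η := by
  rw [sub_eq_add_neg, indFun_add, indFun_neg, sub_eq_add_neg]

theorem indFun_sum {ι : Type w} (s : Finset ι) (f : ι → H → ℂ) :
    indFun H (∑ i ∈ s, f i) = ∑ i ∈ s, indFun H (f i) := by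
  classical
  induction s using Finset.induction with
  | empty => simp
  | insert i s hi ih => rw [Finset.sum_insert hi, indFun_add, ih, Finset.sum_insert hi]

theorem indFun_eq_zero_of_not_conj_mem (θ : H → ℂ) {g : G} (h : ∀ x : G, x⁻¹ * g * x ∉ H) :
    indFun H θ g = 0 := by
  simp [indFun, extendByZero_not_mem H θ (h _)]

theorem indFun_one_eval (θ : H → ℂ) : indFun H θ 1 = (H.index : ℂ) * θ 1 := by
  have h1 : extendByZero H θ 1 = θ 1 := extendByZero_coe H θ 1
  simp only [indFun, mul_one, inv_mul_cancel, h1, Finset.sum_const, Finset.card_univ, nsmul_eq_mul]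
  rw [← Nat.card_eq_fintype_card, ← H.index_mul_card]
  have : (Nat.card H : ℂ) ≠ 0 := Nat.cast_ne_zero.mpr Nat.card_pos.ne'
  push_cast
  field_simp

/-- Frobenius reciprocity. -/
theorem frobenius_reciprocity [Fintype H] (θ : H → ℂ) {χ : G → ℂ} (hχ : IsClassFunction G χ) :
    classInner (indFun H θ) χ = classInner θ (fun h : H => χ h) := by
  have hx : ∀ x : G, ∑ g : G, extendByZero H θ (x⁻¹ * g * x) * conj (χ g) =
      ∑ h : H, θ h * conj (χ h) := by
    intro x
    rw [← sum_extendByZero H θ (fun g => conj (χ g))]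
    refine Fintype.sum_equiv (MulAut.conj x⁻¹).toEquiv _ _ fun g => ?_
    have e : χ (x⁻¹ * g * x) = χ g := by simpa using hχ g x⁻¹
    simp [e]
  simp only [classInner, indFun]
  calc (Nat.card G : ℂ)⁻¹ *
        ∑ g : G, ((Nat.card H : ℂ)⁻¹ * ∑ x : G, extendByZero H θ (x⁻¹ * g * x)) * conj (χ g)
      = (Nat.card G : ℂ)⁻¹ * (Nat.card H : ℂ)⁻¹ *
          ∑ x : G, ∑ g : G, extendByZero H θ (x⁻¹ * g * x) * conj (χ g) := by
        rw [Finset.sum_comm, mul_assoc]
        congr 1
        simp only [Finset.mul_sum, Finset.sum_mul, mul_assoc]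
    _ = (Nat.card H : ℂ)⁻¹ * ∑ h : H, θ h * conj (χ h) := by
        simp only [hx, Finset.sum_const, Finset.card_univ, nsmul_eq_mul, ← Nat.card_eq_fintype_card]
        have hc : (Nat.card G : ℂ) ≠ 0 := card_ne_zero
        field_simp

theorem frobenius_reciprocity' [Fintype H] {χ : G → ℂ} (hχ : IsClassFunction G χ) (θ : H → ℂ) :
    classInner χ (indFun H θ) = classInner (fun h : H => χ h) θ := by
  rw [← classInner_conj_symm, frobenius_reciprocity H θ hχ, classInner_conj_symm]

theorem isCharacter_indFun {θ : H → ℂ} (hθ : IsCharacter H θ) : IsCharacter G (indFun H θ) := by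
  classical
  haveI := Fintype.ofFinite H
  refine isCharacter_iff.mpr ⟨isClassFunction_indFun H θ, fun χ => ?_⟩
  rw [frobenius_reciprocity H θ (isClassFunction_of_isIrr χ.2)]
  exact classInner_character_nat hθ (isCharacter_restrict H (isCharacter_of_isIrr χ.2))

/-- The projection formula. -/
theorem indFun_mul_restrict (θ : H → ℂ) {χ : G → ℂ} (hχ : IsClassFunction G χ) :
    indFun H (θ * fun h : H => χ h) = indFun H θ * χ := by
  funext g
  simp only [indFun, Pi.mul_apply]
  rw [mul_assoc, Finset.sum_mul]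
  congr 1
  refine Finset.sum_congr rfl fun x _ => ?_
  by_cases h : x⁻¹ * g * x ∈ H
  · have e : χ (x⁻¹ * g * x) = χ g := by simpa using hχ g x⁻¹
    simp [extendByZero_mem H _ h, e]
  · simp [extendByZero_not_mem H _ h]

/-- Transitivity of induction. -/
theorem indFun_trans (K : Subgroup G) [Fintype K] (hHK : H ≤ K) (θ : H → ℂ) :
    indFun K (indFun (H.subgroupOf K)
      (fun x => θ ⟨(x : K), Subgroup.mem_subgroupOf.mp x.2⟩)) = indFun H θ := by
  classical
  funext g
  set θ' : H.subgroupOf K → ℂ := fun x => θ ⟨(x : K), Subgroup.mem_subgroupOf.mp x.2⟩ with hθ'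
  have key : ∀ a : G, extendByZero K (indFun (H.subgroupOf K) θ') a =
      (Nat.card H : ℂ)⁻¹ * ∑ y : K, extendByZero H θ ((y : G)⁻¹ * a * y) := by
    intro a
    by_cases ha : a ∈ K
    · rw [extendByZero_mem K _ ha, indFun,
        Nat.card_congr (Subgroup.subgroupOfEquivOfLe hHK).toEquiv]
      congr 1
      refine Finset.sum_congr rfl fun y _ => ?_
      by_cases hy : (y : G)⁻¹ * a * y ∈ H
      · rw [extendByZero_mem H _ hy,
          extendByZero_mem (H.subgroupOf K) _
            (Subgroup.mem_subgroupOf.mpr (by simpa using hy))]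
        simp [hθ']
      · rw [extendByZero_not_mem H _ hy, extendByZero_not_mem (H.subgroupOf K) _
          (fun h => hy (by simpa using Subgroup.mem_subgroupOf.mp h))]
    · rw [extendByZero_not_mem K _ ha]
      symm
      rw [Finset.sum_eq_zero (fun y _ => extendByZero_not_mem H _ fun h => ha ?_), mul_zero]
      have := K.mul_mem (K.mul_mem y.2 (hHK h)) (K.inv_mem y.2)
      simpa [mul_assoc] using this
  simp only [indFun] at key ⊢
  simp only [key, ← Finset.mul_sum]
  rw [Finset.sum_comm]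
  have hy : ∀ y : K, ∑ x : G, extendByZero H θ ((y : G)⁻¹ * (x⁻¹ * g * x) * y) =
      ∑ x : G, extendByZero H θ (x⁻¹ * g * x) := fun y =>
    Fintype.sum_equiv (Equiv.mulRight (y : G)) _ _ fun x => by simp [mul_assoc]
  simp only [hy, Finset.sum_const, Finset.card_univ, nsmul_eq_mul, ← Nat.card_eq_fintype_card]
  have hK : (Nat.card K : ℂ) ≠ 0 := Nat.cast_ne_zero.mpr Nat.card_pos.ne'
  field_simp

/-- The permutation character of a transitive action is induced from the trivial character. -/
theorem indFun_one_eq_fixedBy (X : Type v) [MulAction G X] [Finite X]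
    [MulAction.IsPretransitive G X] (x₀ : X) (g : G) :
    indFun (MulAction.stabilizer G x₀) (fun _ => 1) g = Nat.card (MulAction.fixedBy X g) := by
  classical
  haveI := Fintype.ofFinite X
  set S := MulAction.stabilizer G x₀
  have h1 : ∀ x : G, extendByZero S (fun _ => (1 : ℂ)) (x⁻¹ * g * x) =
      if g • (x • x₀) = x • x₀ then 1 else 0 := by
    intro x
    have hiff : x⁻¹ * g * x ∈ S ↔ g • (x • x₀) = x • x₀ := by
      rw [MulAction.mem_stabilizer_iff, mul_smul, mul_smul, inv_smul_eq_iff]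
    by_cases h : x⁻¹ * g * x ∈ S
    · rw [extendByZero_mem S _ h, if_pos (hiff.mp h)]
    · rw [extendByZero_not_mem S _ h, if_neg (mt hiff.mpr h)]
  have h2 : ∀ y : X, ((Finset.univ.filter fun x : G => x • x₀ = y).card : ℂ) = Nat.card S := by
    intro y
    obtain ⟨x, rfl⟩ := MulAction.exists_smul_eq G x₀ y
    rw [Nat.card_eq_fintype_card, ← Finset.card_univ]
    norm_cast
    refine Finset.card_bij (fun a _ => (⟨x⁻¹ * a, ?_⟩ : S)) (fun a _ => Finset.mem_univ _)
      (fun a ha b hb h => by simpa using h) (fun s _ => ⟨x * s, ?_, by simp⟩)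
    · rename_i ha
      rw [MulAction.mem_stabilizer_iff, mul_smul, (Finset.mem_filter.mp ha).2, inv_smul_smul]
    · simp [mul_smul, MulAction.mem_stabilizer_iff.mp s.2]
  rw [indFun, Finset.sum_congr rfl fun x _ => h1 x,
    ← Finset.sum_fiberwise_of_maps_to (g := fun x : G => x • x₀) (t := Finset.univ)
      (fun x _ => Finset.mem_univ _)]
  have h3 : ∀ y : X, ∑ x ∈ Finset.univ.filter (fun x : G => x • x₀ = y),
      (if g • (x • x₀) = x • x₀ then (1 : ℂ) else 0) = Nat.card S * if g • y = y then 1 else 0 := by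
    intro y
    rw [← h2 y, Finset.sum_congr rfl fun x hx => by rw [(Finset.mem_filter.mp hx).2],
      Finset.sum_const, nsmul_eq_mul]
  simp only [h3, ← Finset.mul_sum]
  rw [← mul_assoc, inv_mul_cancel₀ (Nat.cast_ne_zero.mpr Nat.card_pos.ne'), one_mul,
    Finset.sum_boole, Nat.card_eq_fintype_card, Fintype.card_subtype]
  simp [MulAction.mem_fixedBy]

theorem isCharacter_indFun_one : IsCharacter G (indFun H (fun _ => (1 : ℂ))) :=
  isCharacter_indFun H isCharacter_one

end Ind

section Normal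

variable {G : Type u} [Group G] (N : Subgroup G) [hN : N.Normal]

/-- The conjugate of a function on a normal subgroup: `n ↦ θ (g n g⁻¹)`. -/
def conjFun (g : G) (θ : N → ℂ) : N → ℂ := fun n => θ ⟨g * n * g⁻¹, hN.conj_mem (n : G) n.2 g⟩

theorem conjFun_eq_comp (g : G) (θ : N → ℂ) :
    conjFun N g θ = fun n => θ (MulAut.conjNormal g n) := by
  funext n
  exact congrArg θ (Subtype.ext (MulAut.conjNormal_apply g n).symm)

theorem conjFun_one (θ : N → ℂ) : conjFun N 1 θ = θ := by
  funext n
  simp [conjFun]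

theorem conjFun_mul (g h : G) (θ : N → ℂ) :
    conjFun N (g * h) θ = conjFun N h (conjFun N g θ) := by
  funext n
  simp [conjFun, mul_assoc]

theorem conjFun_add (g : G) (a b : N → ℂ) :
    conjFun N g (a + b) = conjFun N g a + conjFun N g b := rfl

theorem conjFun_smul (g : G) (c : ℂ) (a : N → ℂ) : conjFun N g (c • a) = c • conjFun N g a := rfl

theorem isCharacter_conjFun (g : G) {θ : N → ℂ} (h : IsCharacter N θ) :
    IsCharacter N (conjFun N g θ) :=
  conjFun_eq_comp N g θ ▸ isCharacter_comp (MulAut.conjNormal g).toMonoidHom h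

theorem isIrrCharacter_conjFun (g : G) {θ : N → ℂ} (h : IsIrrCharacter N θ) :
    IsIrrCharacter N (conjFun N g θ) :=
  conjFun_eq_comp N g θ ▸
    isIrrCharacter_comp (MulAut.conjNormal g).toMonoidHom (MulAut.conjNormal g).surjective h

theorem classInner_conjFun [Fintype N] (g : G) (φ ψ : N → ℂ) :
    classInner (conjFun N g φ) (conjFun N g ψ) = classInner φ ψ := by
  simp only [classInner, conjFun_eq_comp]
  congr 1
  exact Fintype.sum_equiv (MulAut.conjNormal g).toEquiv _ _ fun n => rfl

theorem conjFun_restrict (g : G) {χ : G → ℂ} (hχ : IsClassFunction G χ) :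
    conjFun N g (fun n : N => χ n) = fun n : N => χ n :=
  funext fun n => hχ n g

theorem conjFun_of_mem {θ : N → ℂ} (hθ : IsClassFunction N θ) {g : G} (hg : g ∈ N) :
    conjFun N g θ = θ :=
  funext fun n => hθ n ⟨g, hg⟩

theorem indFun_eq_zero_of_not_mem [Fintype G] (θ : N → ℂ) {g : G} (hg : g ∉ N) :
    indFun N θ g = 0 :=
  indFun_eq_zero_of_not_conj_mem N θ fun x h => hg <| by
    simpa [mul_assoc] using hN.conj_mem _ h x

theorem indFun_apply_normal [Fintype G] (θ : N → ℂ) (n : N) :
    indFun N θ n = (Nat.card N : ℂ)⁻¹ * ∑ g : G, conjFun N g θ n := by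
  unfold indFun
  congr 1
  refine Fintype.sum_equiv (Equiv.inv G) _ _ fun x => ?_
  rw [extendByZero_mem N θ (by simpa using hN.conj_mem (n : G) n.2 x⁻¹)]
  simp [conjFun]

theorem restrict_indFun [Fintype G] (θ : N → ℂ) :
    (fun n : N => indFun N θ n) = (Nat.card N : ℂ)⁻¹ • ∑ g : G, conjFun N g θ := by
  funext n
  simp [indFun_apply_normal, Finset.sum_apply]

end Normal

section Generalized

variable {G : Type u} [Group G]

theorem isGen_of_isCharacter {χ : G → ℂ} (h : IsCharacter G χ) : IsGeneralizedCharacter G χ :=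
  ⟨χ, 0, h, isCharacter_zero, (sub_zero χ).symm⟩

theorem isGen_of_isIrr {χ : G → ℂ} (h : IsIrrCharacter G χ) : IsGeneralizedCharacter G χ :=
  isGen_of_isCharacter (isCharacter_of_isIrr h)

theorem isGen_zero : IsGeneralizedCharacter G (0 : G → ℂ) := isGen_of_isCharacter isCharacter_zero

theorem isGen_neg {a : G → ℂ} (ha : IsGeneralizedCharacter G a) :
    IsGeneralizedCharacter G (-a) := by
  obtain ⟨p, q, hp, hq, rfl⟩ := ha
  exact ⟨q, p, hq, hp, neg_sub p q⟩

theorem isGen_add {a b : G → ℂ} (ha : IsGeneralizedCharacter G a)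
    (hb : IsGeneralizedCharacter G b) : IsGeneralizedCharacter G (a + b) := by
  obtain ⟨p, q, hp, hq, rfl⟩ := ha
  obtain ⟨r, s, hr, hs, rfl⟩ := hb
  exact ⟨p + r, q + s, isCharacter_add hp hr, isCharacter_add hq hs, by abel⟩

theorem isGen_sub {a b : G → ℂ} (ha : IsGeneralizedCharacter G a)
    (hb : IsGeneralizedCharacter G b) : IsGeneralizedCharacter G (a - b) :=
  sub_eq_add_neg a b ▸ isGen_add ha (isGen_neg hb)

theorem isGen_sum {ι : Type w} (s : Finset ι) {f : ι → G → ℂ}
    (h : ∀ i ∈ s, IsGeneralizedCharacter G (f i)) : IsGeneralizedCharacter G (∑ i ∈ s, f i) :=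
  Finset.sum_induction f (IsGeneralizedCharacter G) (fun _ _ => isGen_add) isGen_zero h

theorem isGen_zsmul (k : ℤ) {a : G → ℂ} (ha : IsGeneralizedCharacter G a) :
    IsGeneralizedCharacter G ((k : ℂ) • a) := by
  obtain ⟨p, q, hp, hq, rfl⟩ := ha
  obtain ⟨n, rfl | rfl⟩ := k.eq_nat_or_neg
  · exact ⟨(n : ℂ) • p, (n : ℂ) • q, isCharacter_nsmul n hp, isCharacter_nsmul n hq,
      by simp [smul_sub]⟩
  · exact ⟨(n : ℂ) • q, (n : ℂ) • p, isCharacter_nsmul n hq, isCharacter_nsmul n hp,
      by simp [smul_sub, neg_smul]; abel⟩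

theorem isGen_mul {a b : G → ℂ} (ha : IsGeneralizedCharacter G a)
    (hb : IsGeneralizedCharacter G b) : IsGeneralizedCharacter G (a * b) := by
  obtain ⟨p, q, hp, hq, rfl⟩ := ha
  obtain ⟨r, s, hr, hs, rfl⟩ := hb
  exact ⟨p * r + q * s, p * s + q * r,
    isCharacter_add (isCharacter_mul hp hr) (isCharacter_mul hq hs),
    isCharacter_add (isCharacter_mul hp hs) (isCharacter_mul hq hr), by ring⟩

theorem isClassFunction_of_isGen {a : G → ℂ} (ha : IsGeneralizedCharacter G a) :
    IsClassFunction G a := by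
  obtain ⟨p, q, hp, hq, rfl⟩ := ha
  intro g x
  simp [isClassFunction_of_isCharacter hp g x, isClassFunction_of_isCharacter hq g x]

theorem isGen_comp {H : Type v} [Group H] (φ : H →* G) {a : G → ℂ}
    (ha : IsGeneralizedCharacter G a) : IsGeneralizedCharacter H (fun x => a (φ x)) := by
  obtain ⟨p, q, hp, hq, rfl⟩ := ha
  exact ⟨_, _, isCharacter_comp φ hp, isCharacter_comp φ hq, rfl⟩

theorem isGen_restrict (H : Subgroup G) {a : G → ℂ} (ha : IsGeneralizedCharacter G a) :
    IsGeneralizedCharacter H (fun x : H => a x) :=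
  isGen_comp H.subtype ha

theorem isGen_indFun [Fintype G] (H : Subgroup G) {a : H → ℂ}
    (ha : IsGeneralizedCharacter H a) : IsGeneralizedCharacter G (indFun H a) := by
  obtain ⟨p, q, hp, hq, rfl⟩ := ha
  exact ⟨_, _, isCharacter_indFun H hp, isCharacter_indFun H hq, indFun_sub H p q⟩

theorem isGen_inner_int [Fintype G] {a : G → ℂ} (ha : IsGeneralizedCharacter G a)
    {b : G → ℂ} (hb : IsGeneralizedCharacter G b) : ∃ m : ℤ, classInner a b = m := by
  obtain ⟨p, q, hp, hq, rfl⟩ := ha
  obtain ⟨r, s, hr, hs, rfl⟩ := hb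
  obtain ⟨n1, e1⟩ := classInner_character_nat hp hr
  obtain ⟨n2, e2⟩ := classInner_character_nat hq hr
  obtain ⟨n3, e3⟩ := classInner_character_nat hp hs
  obtain ⟨n4, e4⟩ := classInner_character_nat hq hs
  exact ⟨n1 - n2 - (n3 - n4), by
    simp [classInner_sub_left, classInner_sub_right, e1, e2, e3, e4]⟩

theorem isGen_iff [Fintype G] {a : G → ℂ} :
    IsGeneralizedCharacter G a ↔ IsClassFunction G a ∧
      ∀ χ : IrrCharacter G, ∃ m : ℤ, classInner a χ = m := by
  refine ⟨fun h => ⟨isClassFunction_of_isGen h, fun χ => isGen_inner_int h (isGen_of_isIrr χ.2)⟩,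
    fun ⟨h, hm⟩ => ?_⟩
  choose m hm using hm
  rw [classFunction_eq_sum h]
  exact isGen_sum _ fun χ _ => hm χ ▸ isGen_zsmul _ (isGen_of_isIrr χ.2)

/-- A generalized character of norm one with positive degree is irreducible. -/
theorem isIrr_of_isGen_norm_one [Fintype G] {a : G → ℂ} (ha : IsGeneralizedCharacter G a)
    (h : classInner a a = 1) (hpos : 0 < (a 1).re) : IsIrrCharacter G a := by
  classical
  obtain ⟨hcf, hm⟩ := isGen_iff.mp ha
  choose m hm using hm
  have hexp := classFunction_eq_sum hcf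
  simp only [hm] at hexp
  have hsum : ∑ χ : IrrCharacter G, m χ ^ 2 = 1 := by
    have := classInner_eq_sum (f := a) hcf
    rw [h] at this
    simp only [hm, map_intCast, ← pow_two] at this
    exact_mod_cast this.symm
  obtain ⟨χ₀, hχ₀⟩ : ∃ χ : IrrCharacter G, m χ ≠ 0 := by
    by_contra hh
    push Not at hh
    simp [hh] at hsum
  have hrest : ∀ χ : IrrCharacter G, χ ≠ χ₀ → m χ = 0 := by
    intro χ hχ
    by_contra hne
    have := Finset.sum_le_sum_of_subset_of_nonneg (f := fun c : IrrCharacter G => m c ^ 2)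
      (Finset.subset_univ {χ₀, χ}) (fun c _ _ => sq_nonneg (m c))
    rw [Finset.sum_pair hχ.symm, hsum] at this
    have a1 := (sq_pos_iff (a := m χ)).mpr hne
    have a2 := (sq_pos_iff (a := m χ₀)).mpr hχ₀
    omega
  have h1 : m χ₀ ^ 2 = 1 := by
    rw [← hsum, Finset.sum_eq_single χ₀ (fun b _ hb => by simp [hrest b hb]) (by simp)]
  have ha' : a = (m χ₀ : ℂ) • (χ₀ : G → ℂ) := by
    conv_lhs => rw [hexp]
    exact Finset.sum_eq_single χ₀ (fun b _ hb => by simp [hrest b hb]) (by simp)
  rcases sq_eq_one_iff.mp h1 with h2 | h2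
  · rw [ha', h2]; simpa using χ₀.2
  · exfalso
    rw [ha', h2, Pi.smul_apply, deg_eq (isCharacter_of_isIrr χ₀.2)] at hpos
    have h3 : (0 : ℝ) ≤ deg (χ₀ : G → ℂ) := Nat.cast_nonneg _
    simp at hpos
    linarith

end Generalized

end Cfsg.Agent.CT
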