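import Cfsg.Agent.Lib.CT.Integral
import Cfsg.Agent.Lib.CT.Induced
import Mathlib.GroupTheory.Abelianization.Defs

/-!
# Ordinary character theory: kernels, quotients, linear characters
-/

namespace Cfsg.Agent.CT

open scoped ComplexConjugate
open Representation Module

universe u v

variable {G : Type u} [Group G]

/-- The subgroup of elements at which a function has translation-invariant value; for a character
this is its kernel. -/
def kerChar (χ : G → ℂ) : Subgroup G where
  carrier := {g | (∀ x, χ (x * g) = χ x)}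
  one_mem' x := by simp
  mul_mem' {a b} ha hb x := by rw [← mul_assoc, hb, ha]
  inv_mem' {a} ha x := by
    conv_rhs => rw [show x = x * a⁻¹ * a by group]
    rw [ha]

theorem mem_kerChar_of_rep {V : Type v} [AddCommGroup V] [Module ℂ V]
    (ρ : Representation ℂ G V) {g : G} (h : ρ g = 1) : g ∈ kerChar ρ.character := fun x => by
  simp [Representation.character, map_mul, h]

theorem mem_kerChar_iff [Finite G] {χ : G → ℂ} (hχ : IsCharacter G χ) {g : G} :
    g ∈ kerChar χ ↔ χ g = χ 1 := by
  refine ⟨fun h => by simpa using h 1, fun h => ?_⟩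
  obtain ⟨n, ρ, rfl⟩ := hχ
  exact mem_kerChar_of_rep ρ ((char_eq_degree_iff ρ g).mp (h.trans (Representation.char_one ρ)))

theorem rep_eq_one_iff [Finite G] {V : Type v} [AddCommGroup V] [Module ℂ V]
    [FiniteDimensional ℂ V] (ρ : Representation ℂ G V) (g : G) :
    ρ g = 1 ↔ ρ.character g = ρ.character 1 := by
  rw [Representation.char_one]
  exact (char_eq_degree_iff ρ g).symm

/-- A character trivial on a normal subgroup comes from the quotient. -/
theorem exists_quotient_character [Finite G] {χ : G → ℂ} (hχ : IsCharacter G χ) (N : Subgroup G)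
    [N.Normal] (h : ∀ n ∈ N, χ n = χ 1) :
    ∃ ψ : G ⧸ N → ℂ, IsCharacter (G ⧸ N) ψ ∧ ∀ g, ψ (QuotientGroup.mk g) = χ g := by
  obtain ⟨n, ρ, rfl⟩ := hχ
  have hN : N ≤ MonoidHom.ker ρ := fun x hx =>
    MonoidHom.mem_ker.mpr ((rep_eq_one_iff ρ x).mpr (h x hx))
  exact ⟨_, ⟨n, QuotientGroup.lift N ρ hN, rfl⟩, fun g => rfl⟩

theorem exists_quotient_irr [Finite G] {χ : G → ℂ} (hχ : IsIrrCharacter G χ) (N : Subgroup G)
    [N.Normal] (h : ∀ n ∈ N, χ n = χ 1) :
    ∃ ψ : G ⧸ N → ℂ, IsIrrCharacter (G ⧸ N) ψ ∧ ∀ g, ψ (QuotientGroup.mk g) = χ g := by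
  obtain ⟨n, ρ, hρ, rfl⟩ := hχ
  have hN : N ≤ MonoidHom.ker ρ := fun x hx =>
    MonoidHom.mem_ker.mpr ((rep_eq_one_iff ρ x).mpr (h x hx))
  obtain ⟨hV, hW⟩ := (isIrreducible_iff ρ).mp hρ
  refine ⟨_, ⟨n, QuotientGroup.lift N ρ hN, (isIrreducible_iff _).mpr ⟨hV, fun W hW' =>
    hW W fun g v hv => hW' (QuotientGroup.mk g) v hv⟩, rfl⟩, fun g => rfl⟩

theorem isIrr_inflate {χ : G → ℂ} (N : Subgroup G) [N.Normal] {ψ : G ⧸ N → ℂ}
    (hψ : IsIrrCharacter (G ⧸ N) ψ) (h : ∀ g, ψ (QuotientGroup.mk g) = χ g) :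
    IsIrrCharacter G χ := by
  have := isIrrCharacter_comp (QuotientGroup.mk' N) (QuotientGroup.mk'_surjective N) hψ
  simpa [h] using this

/-- Irreducible characters of a commutative finite group are linear. -/
theorem irr_degree_one_of_comm [Finite G] (hc : ∀ a b : G, a * b = b * a) {χ : G → ℂ}
    (hχ : IsIrrCharacter G χ) : χ 1 = 1 := by
  obtain ⟨n, ρ, hρ, rfl⟩ := hχ
  haveI : IsMulCommutative G := ⟨⟨hc⟩⟩
  rw [Representation.char_one, IsIrreducible.finrank_eq_one_of_isMulCommutative ρ, Nat.cast_one]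

theorem exists_hom_of_comm [Finite G] (hc : ∀ a b : G, a * b = b * a) {χ : G → ℂ}
    (hχ : IsIrrCharacter G χ) : ∃ lam : G →* ℂˣ, χ = fun g => (lam g : ℂ) :=
  exists_hom_of_degree_one (isCharacter_of_isIrr hχ) (irr_degree_one_of_comm hc hχ)

theorem linear_trivial_on_commutator {χ : G → ℂ} (hχ : IsCharacter G χ) (h1 : χ 1 = 1) :
    ∀ g ∈ commutator G, χ g = χ 1 := by
  obtain ⟨lam, rfl⟩ := exists_hom_of_degree_one hχ h1
  intro g hg
  have : g ∈ lam.ker := Abelianization.commutator_subset_ker lam hg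
  simp [MonoidHom.mem_ker.mp this]

/-- Linear irreducible characters correspond to irreducible characters of the abelianization. -/
theorem card_linear_irr [Finite G] :
    Nat.card {χ : IrrCharacter G // (χ : G → ℂ) 1 = 1} = (commutator G).index := by
  classical
  have hc : ∀ a b : G ⧸ commutator G, a * b = b * a := fun a b => by
    induction a using QuotientGroup.induction_on with | _ a =>
    induction b using QuotientGroup.induction_on with | _ b =>
    exact (inferInstance : CommGroup (Abelianization G)).mul_comm (Abelianization.of a)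
      (Abelianization.of b)
  have e1 : Nat.card (ConjClasses (G ⧸ commutator G)) = Nat.card (G ⧸ commutator G) := by
    refine (Nat.card_eq_of_bijective ConjClasses.mk ⟨fun a b h => ?_, ConjClasses.mk_surjective⟩).symm
    obtain ⟨c, hcab⟩ := isConj_iff.mp (ConjClasses.mk_eq_mk_iff_isConj.mp h)
    rw [← hcab, hc c a, mul_inv_cancel_right]
  rw [Subgroup.index_eq_card, ← e1, ← card_irr_eq_card_conjClasses]
  refine Nat.card_congr (Equiv.ofBijective (fun χ =>
    ⟨Classical.choose (exists_quotient_irr χ.1.2 (commutator G)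
      (linear_trivial_on_commutator (isCharacter_of_isIrr χ.1.2) χ.2)),
     (Classical.choose_spec (exists_quotient_irr χ.1.2 (commutator G)
      (linear_trivial_on_commutator (isCharacter_of_isIrr χ.1.2) χ.2))).1⟩) ⟨?_, ?_⟩)
  · intro a b hab
    have ha := (Classical.choose_spec (exists_quotient_irr a.1.2 (commutator G)
      (linear_trivial_on_commutator (isCharacter_of_isIrr a.1.2) a.2))).2
    have hb := (Classical.choose_spec (exists_quotient_irr b.1.2 (commutator G)
      (linear_trivial_on_commutator (isCharacter_of_isIrr b.1.2) b.2))).2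
    refine Subtype.ext (Subtype.ext (funext fun g => ?_))
    rw [← ha g, ← hb g]
    exact congrFun (congrArg Subtype.val hab) _
  · intro ψ
    have hd : (fun g : G => (ψ : G ⧸ commutator G → ℂ) (QuotientGroup.mk g)) 1 = 1 :=
      irr_degree_one_of_comm hc ψ.2
    have hi := isIrr_inflate (commutator G) ψ.2
      (χ := fun g => (ψ : G ⧸ commutator G → ℂ) (QuotientGroup.mk g)) (fun g => rfl)
    refine ⟨⟨⟨_, hi⟩, hd⟩, Subtype.ext (funext fun q => ?_)⟩
    induction q using QuotientGroup.induction_on with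
    | _ g =>
      exact (Classical.choose_spec (exists_quotient_irr hi (commutator G)
        (linear_trivial_on_commutator (isCharacter_of_isIrr hi) hd))).2 g

/-- A group is commutative iff all irreducible characters are linear. -/
theorem comm_iff_all_linear [Finite G] :
    (∀ a b : G, a * b = b * a) ↔ ∀ χ : IrrCharacter G, (χ : G → ℂ) 1 = 1 := by
  refine ⟨fun h χ => irr_degree_one_of_comm h χ.2, fun h a b => ?_⟩
  haveI := Fintype.ofFinite G
  have key : ∀ χ : IrrCharacter G, (χ : G → ℂ) (a * b * a⁻¹ * b⁻¹) = (χ : G → ℂ) 1 := by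
    intro χ
    refine linear_trivial_on_commutator (isCharacter_of_isIrr χ.2) (h χ) _ ?_
    rw [← commutatorElement_def]
    exact Subgroup.commutator_mem_commutator (Subgroup.mem_top a) (Subgroup.mem_top b)
  have h1 : a * b * a⁻¹ * b⁻¹ = 1 := isConj_one_left.mp (isConj_iff_forall_irr.mpr key)
  calc a * b = (a * b * a⁻¹ * b⁻¹) * (b * a) := by group
    _ = b * a := by rw [h1, one_mul]

end Cfsg.Agent.CT
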