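import Cfsg.Agent.Lib.CT.TI
import Cfsg.Agent.Lib.CT.Kernel
import Mathlib.GroupTheory.Complement

/-!
# The Frobenius kernel theorem
-/

namespace Cfsg.Agent.CT

open scoped ComplexConjugate

universe u

variable {G : Type u} [Group G] [Fintype G] {H : Subgroup G}

/-- A character of a TI complement extends to the whole group. -/
theorem exists_extension_TI (hTI : IsTI H (H : Set G)) {ψ : H → ℂ} (hψ : IsIrrCharacter H ψ)
    (hne : ψ ≠ fun _ => 1) :
    ∃ χ : G → ℂ, IsIrrCharacter G χ ∧ (∀ h : H, χ h = ψ h) ∧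
      ∀ g : G, (∀ x : G, x⁻¹ * g * x ∉ H) → χ g = χ 1 := by
  classical
  set d : ℂ := (deg ψ : ℂ) with hd
  have hψc := isCharacter_of_isIrr hψ
  have h1c : IsCharacter H (fun _ : H => d) := by
    convert isCharacter_nsmul (deg ψ) (isCharacter_one (G := H)) using 1
    funext x; simp [hd]
  set φ : H → ℂ := ψ - fun _ => d with hφ
  have hφcf : IsClassFunction H φ :=
    isClassFunction_sub_const (isClassFunction_of_isIrr hψ) d
  have hsupp : ∀ x : H, (x : G) ∉ (H : Set G) → φ x = 0 := fun x hx => absurd x.2 hx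
  have hφ1 : φ 1 = 0 := by simp [hφ, hd, ← deg_eq hψc]
  set χ : G → ℂ := indFun H φ + fun _ => d with hχ
  have hres : ∀ h : H, χ h = ψ h := by
    intro h
    have e : indFun H φ h = φ h := by
      by_cases h1 : h = 1
      · subst h1
        rw [OneMemClass.coe_one, indFun_one_eval, hφ1, mul_zero]
      · exact indFun_eq_on_TI hTI hφcf hsupp h.2 h1
    simp only [hχ, Pi.add_apply, e]
    simp [hφ]
  have hone : IsIrrCharacter G (fun _ : G => (1 : ℂ)) := isIrrCharacter_one
  have hgen : IsGeneralizedCharacter G χ := by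
    refine isGen_add (isGen_indFun H ⟨ψ, _, hψc, h1c, rfl⟩) (isGen_of_isCharacter ?_)
    convert isCharacter_nsmul (deg ψ) (isCharacter_one (G := G)) using 1
    funext x; simp [hd]
  have hdf : (fun _ : H => d) = d • fun _ : H => (1 : ℂ) := by funext x; simp
  have hφone : classInner φ (fun _ : H => (1 : ℂ)) = -d := by
    rw [hφ, classInner_sub_left, irr_inner_of_ne hψ isIrrCharacter_one hne, hdf,
      classInner_smul_left, irr_inner_self isIrrCharacter_one]
    ring
  have hφφ : classInner φ φ = 1 + d ^ 2 := by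
    have h2 : classInner φ ψ = 1 := by
      rw [hφ, classInner_sub_left, irr_inner_self hψ, hdf, classInner_smul_left,
        irr_inner_of_ne isIrrCharacter_one hψ (fun e => hne e.symm)]
      ring
    conv_lhs => arg 2; rw [hφ]
    rw [classInner_sub_right, h2, hdf, classInner_smul_right, hφone, hd, map_natCast]
    ring
  have hnorm : classInner χ χ = 1 := by
    have e : (fun _ : G => d) = d • fun _ : G => (1 : ℂ) := by funext x; simp
    have hαone : classInner (indFun H φ) (fun _ : G => (1 : ℂ)) = -d := by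
      rw [frobenius_reciprocity H φ (isClassFunction_of_isIrr hone)]
      exact hφone
    have honeα : classInner (fun _ : G => (1 : ℂ)) (indFun H φ) = -d := by
      rw [← classInner_conj_symm, hαone, hd, map_neg, map_natCast]
    rw [hχ, e, classInner_add_left, classInner_add_right, classInner_add_right,
      classInner_indFun_TI hTI hφcf hsupp hsupp hφ1, hφφ, classInner_smul_right,
      classInner_smul_left, classInner_smul_left, classInner_smul_right, hαone, honeα,
      irr_inner_self hone, hd, map_natCast]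
    ring
  have hχ1 : χ 1 = d := by simp [hχ, indFun_one_eval, hφ1]
  refine ⟨χ, isIrr_of_isGen_norm_one hgen hnorm ?_, hres, fun g hg => ?_⟩
  · rw [hχ1, hd]
    simpa using deg_pos hψ
  · rw [hχ1]
    simp [hχ, indFun_eq_zero_of_not_conj_mem H φ hg]

/-- Frobenius's theorem: a TI self-normalizing subgroup has a normal complement, consisting of the
identity and the elements in no conjugate. -/
theorem frobenius_kernel (hTI : IsTI H (H : Set G)) :
    ∃ K : Subgroup G, K.Normal ∧ Nat.card K = H.index ∧ K ⊓ H = ⊥ ∧ Subgroup.IsComplement' K H ∧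
      ∀ g : G, g ∈ K ↔ g = 1 ∨ ∀ x : G, x⁻¹ * g * x ∉ H := by
  classical
  let F : {ψ : IrrCharacter H // ψ ≠ trivIrr H} → G → ℂ := fun ψ =>
    Classical.choose (exists_extension_TI hTI ψ.1.2 (fun e => ψ.2 (Subtype.ext e)))
  have hF : ∀ ψ, IsIrrCharacter G (F ψ) ∧ (∀ h : H, F ψ h = (ψ.1 : H → ℂ) h) ∧
      ∀ g : G, (∀ x : G, x⁻¹ * g * x ∉ H) → F ψ g = F ψ 1 := fun ψ =>
    Classical.choose_spec (exists_extension_TI hTI ψ.1.2 (fun e => ψ.2 (Subtype.ext e)))
  let K : Subgroup G := ⨅ ψ, kerChar (F ψ)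
  have hmem : ∀ g, g ∈ K ↔ ∀ ψ, F ψ g = F ψ 1 := fun g => by
    simp only [K, Subgroup.mem_iInf]
    exact forall_congr' fun ψ => mem_kerChar_iff (isCharacter_of_isIrr (hF ψ).1)
  have hnorm : K.Normal := ⟨fun g hg x => (hmem _).mpr fun ψ => by
    rw [isClassFunction_of_isIrr (hF ψ).1 g x]; exact (hmem g).mp hg ψ⟩
  have hKH : K ⊓ H = ⊥ := by
    rw [eq_bot_iff]
    intro h hh
    have hc : IsConj (⟨h, hh.2⟩ : H) 1 := isConj_iff_forall_irr.mpr fun χ => by
      by_cases e : χ = trivIrr H
      · subst e; rfl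
      · have h1 := (hmem h).mp hh.1 ⟨χ, e⟩
        rw [(hF ⟨χ, e⟩).2.1 ⟨h, hh.2⟩] at h1
        rw [h1, ← (hF ⟨χ, e⟩).2.1 1]
        rfl
    exact Subgroup.mem_bot.mpr (congrArg Subtype.val (isConj_one_left.mp hc))
  have hiff : ∀ g : G, g ∈ K ↔ g = 1 ∨ ∀ x : G, x⁻¹ * g * x ∉ H := by
    intro g
    refine ⟨fun hg => or_iff_not_imp_right.mpr fun hh => ?_, fun hg => ?_⟩
    · push Not at hh
      obtain ⟨x, hx⟩ := hh
      have h1 : x⁻¹ * g * x = 1 :=
        Subgroup.mem_bot.mp (hKH ▸ ⟨by simpa using hnorm.conj_mem g hg x⁻¹, hx⟩)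
      calc g = x * (x⁻¹ * g * x) * x⁻¹ := by group
        _ = 1 := by rw [h1]; group
    · rcases hg with rfl | hg
      · exact one_mem _
      · exact (hmem g).mpr fun ψ => (hF ψ).2.2 g hg
  have hcard : Nat.card K = H.index := by
    let f : H → ℂ := fun h => if h = 1 then 0 else 1
    have hf : IsClassFunction H f := fun a b => if_congr (conj_eq_one_iff) rfl rfl
    have hval : ∀ g : G, indFun H f g = if g ∈ K then 0 else 1 := by
      intro g
      split_ifs with hg
      · rcases (hiff g).mp hg with rfl | h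
        · simp [indFun_one_eval, f]
        · exact indFun_eq_zero_of_not_conj_mem H f h
      · rw [hiff] at hg
        push Not at hg
        obtain ⟨hg1, x, hx⟩ := hg
        have e : indFun H f g = indFun H f (x⁻¹ * g * x) := by
          have := isClassFunction_indFun H f g x⁻¹
          simpa using this.symm
        have hne : (⟨x⁻¹ * g * x, hx⟩ : H) ≠ 1 := by
          intro e'
          have e'' : x⁻¹ * g * x = 1 := congrArg Subtype.val e'
          exact hg1 (calc g = x * (x⁻¹ * g * x) * x⁻¹ := by group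
            _ = 1 := by rw [e'']; group)
        rw [e]
        refine (indFun_eq_on_TI hTI hf (fun y hy => absurd y.2 hy)
          (t := ⟨x⁻¹ * g * x, hx⟩) hx hne).trans ?_
        exact if_neg hne
    have h1 := frobenius_reciprocity H f (χ := fun _ : G => (1 : ℂ))
      (isClassFunction_of_isIrr isIrrCharacter_one)
    simp only [classInner, hval, map_one, mul_one] at h1
    have e1 : ∑ g : G, (if g ∈ K then (0 : ℂ) else 1) = (Nat.card G : ℂ) - Nat.card K := by
      rw [Finset.sum_ite, Finset.sum_const_zero, zero_add, Finset.sum_const, nsmul_eq_mul, mul_one,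
        Nat.card_eq_fintype_card, Nat.card_eq_fintype_card, Fintype.card_subtype,
        ← Nat.cast_sub (Finset.card_le_univ _), ← Finset.card_compl]
      congr 2
      ext g
      simp
    have e2 : ∑ h : H, f h = (Nat.card H : ℂ) - 1 := by
      simp only [f]
      rw [Finset.sum_ite, Finset.sum_const_zero, zero_add, Finset.sum_const, nsmul_eq_mul, mul_one,
        Finset.filter_ne' Finset.univ (1 : H), Finset.card_erase_of_mem (Finset.mem_univ _),
        Finset.card_univ, ← Nat.card_eq_fintype_card, Nat.cast_sub Nat.card_pos, Nat.cast_one]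
    rw [e1, e2, ← H.index_mul_card, Nat.cast_mul] at h1
    have hH : (Nat.card H : ℂ) ≠ 0 := Nat.cast_ne_zero.mpr Nat.card_pos.ne'
    have hI : (H.index : ℂ) ≠ 0 := Nat.cast_ne_zero.mpr Subgroup.index_ne_zero_of_finite
    field_simp at h1
    have : (Nat.card K : ℂ) = (H.index : ℂ) := by linear_combination -h1
    exact_mod_cast this
  refine ⟨K, hnorm, hcard, hKH, ?_, hiff⟩
  refine Subgroup.isComplement'_of_disjoint_and_mul_eq_univ (disjoint_iff.mpr hKH) ?_
  haveI := hnorm
  have hinj : Function.Injective fun p : K × H => (p.1 : G) * (p.2 : G) := by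
    rintro ⟨a, b⟩ ⟨c, d⟩ e
    simp only at e
    have hm : (c : G)⁻¹ * a = d * (b : G)⁻¹ := by
      calc (c : G)⁻¹ * a = (c : G)⁻¹ * ((a : G) * b) * (b : G)⁻¹ := by group
        _ = (c : G)⁻¹ * ((c : G) * d) * (b : G)⁻¹ := by rw [e]
        _ = d * (b : G)⁻¹ := by group
    have hm1 : (c : G)⁻¹ * a = 1 := Subgroup.mem_bot.mp (hKH ▸
      ⟨K.mul_mem (K.inv_mem c.2) a.2, hm ▸ H.mul_mem d.2 (H.inv_mem b.2)⟩)
    have hac : (a : G) = c := (inv_mul_eq_one.mp hm1).symm
    refine Prod.ext (Subtype.ext hac) (Subtype.ext ?_)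
    rw [hac] at e
    exact mul_left_cancel e
  have hbij := (Fintype.bijective_iff_injective_and_card _).mpr ⟨hinj, by
    rw [Fintype.card_prod, ← Nat.card_eq_fintype_card, ← Nat.card_eq_fintype_card,
      ← Nat.card_eq_fintype_card, hcard, H.index_mul_card]⟩
  refine Set.eq_univ_of_forall fun g => ?_
  obtain ⟨⟨a, b⟩, e⟩ := hbij.2 g
  exact ⟨a, a.2, b, b.2, e⟩

end Cfsg.Agent.CT
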