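import Cfsg.Agent.Lib.CT.Orthogonality
import Mathlib.RingTheory.IntegralClosure.Algebra.Basic
import Mathlib.RingTheory.IntegralClosure.IntegrallyClosed
import Mathlib.RingTheory.PrincipalIdealDomain
import Mathlib.RingTheory.Polynomial.RationalRoot
import Mathlib.FieldTheory.Minpoly.IsIntegrallyClosed
import Mathlib.Algebra.Polynomial.Splits
import Mathlib.FieldTheory.IntermediateField.Adjoin.Basic
import Mathlib.GroupTheory.Solvable
import Mathlib.GroupTheory.Sylow

/-!
# Ordinary character theory: integrality, central characters, Burnside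
-/

namespace Cfsg.Agent.CT

open scoped ComplexConjugate
open Representation Module

universe u v w

section Rat

/-- A rational algebraic integer is an integer. -/
theorem dvd_of_isIntegral_div {a b : ℕ} (hb : b ≠ 0) (h : IsIntegral ℤ ((a : ℂ) / b)) : b ∣ a := by
  have h' : IsIntegral ℤ ((a : ℚ) / b) := by
    rw [← isIntegral_algebraMap_iff (A := ℚ) (B := ℂ) (algebraMap ℚ ℂ).injective]
    simpa using h
  obtain ⟨y, hy⟩ := IsIntegrallyClosed.isIntegral_iff.mp h'
  have hy' : (y : ℚ) * b = a := by
    have e : (y : ℚ) = (a : ℚ) / b := by simpa using hy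
    rw [e]
    field_simp
  have hz : y * (b : ℤ) = (a : ℤ) := by exact_mod_cast hy'
  exact Int.natCast_dvd_natCast.mp ⟨y, by rw [← hz]; ring⟩

theorem isIntegral_natCast (n : ℕ) : IsIntegral ℤ (n : ℂ) := by
  simpa using (isIntegral_algebraMap (R := ℤ) (A := ℂ) (x := (n : ℤ)))

theorem isIntegral_intCast (n : ℤ) : IsIntegral ℤ (n : ℂ) := by
  simpa using (isIntegral_algebraMap (R := ℤ) (A := ℂ) (x := n))

theorem isIntegral_conj {z : ℂ} (h : IsIntegral ℤ z) : IsIntegral ℤ (conj z) :=
  map_isIntegral_int (starRingEnd ℂ) h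

end Rat

section Scalar

variable {G : Type u} [Group G] [Fintype G] {V : Type v} [AddCommGroup V] [Module ℂ V]

/-- If an integral combination of the group elements acts as a scalar, the scalar is integral. -/
theorem isIntegral_of_sum_eq_scalar [Nontrivial V] (ρ : Representation ℂ G V) (a : G → ℂ)
    (ha : ∀ g, IsIntegral ℤ (a g)) (c : ℂ) (h : ∑ g, a g • ρ g = c • LinearMap.id) :
    IsIntegral ℤ c := by
  classical
  obtain ⟨v, hv⟩ := exists_ne (0 : V)
  have hfg : (Algebra.adjoin ℤ (Set.range a)).toSubmodule.FG :=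
    fg_adjoin_of_finite (Set.finite_range a) (by rintro _ ⟨g, rfl⟩; exact ha g)
  obtain ⟨s, hs⟩ := hfg
  set B := Algebra.adjoin ℤ (Set.range a) with hB
  set N : Submodule ℤ V := Submodule.span ℤ (Set.image2 (fun b g => b • ρ g v) (↑s : Set ℂ) Set.univ)
    with hN
  have key : ∀ b ∈ B, ∀ g, b • ρ g v ∈ N := by
    intro b hb g
    have hb' : b ∈ Submodule.span ℤ (↑s : Set ℂ) := hs ▸ hb
    induction hb' using Submodule.span_induction with
    | mem x hx => exact Submodule.subset_span ⟨x, hx, g, trivial, rfl⟩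
    | zero => simp
    | add x y hx hy ihx ihy =>
      rw [add_smul]
      exact add_mem (ihx (by have := hs ▸ hx; exact this)) (ihy (by have := hs ▸ hy; exact this))
    | smul m x hx ih =>
      rw [smul_assoc]
      exact N.smul_mem m (ih (by have := hs ▸ hx; exact this))
  refine isIntegral_of_smul_mem_submodule N ?_
    (Submodule.fg_span (Set.Finite.image2 _ s.finite_toSet Set.finite_univ)) c ?_
  · intro e
    have := key 1 B.one_mem 1
    rw [e] at this
    simp [hv] at this
  · intro n hn
    induction hn using Submodule.span_induction with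
    | mem x hx =>
      obtain ⟨b, hb, g, -, rfl⟩ := hx
      have hbB : b ∈ B := by
        have : b ∈ Submodule.span ℤ (↑s : Set ℂ) := Submodule.subset_span hb
        rwa [hs] at this
      have e : c • (b • ρ g v) = ∑ x : G, (b * a x) • ρ (x * g) v := by
        rw [smul_comm]
        have := LinearMap.congr_fun h.symm (ρ g v)
        simp only [LinearMap.smul_apply, LinearMap.id_apply, LinearMap.sum_apply] at this
        rw [this, Finset.smul_sum]
        simp [smul_smul, map_mul]
      show c • (b • ρ g v) ∈ N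
      rw [e]
      exact Submodule.sum_mem _ fun x _ =>
        key _ (B.mul_mem hbB (Algebra.subset_adjoin ⟨x, rfl⟩)) _
    | zero => simp
    | add x y _ _ ihx ihy => rw [smul_add]; exact add_mem ihx ihy
    | smul m x _ ih => rw [smul_comm]; exact N.smul_mem m ih

variable [FiniteDimensional ℂ V] (ρ : Representation ℂ G V) [ρ.IsIrreducible]

theorem weighted_sum_scalar {f : G → ℂ} (hf : IsClassFunction G f) :
    ∑ g, f g • ρ g = ((∑ g, f g * ρ.character g) / (finrank ℂ V : ℂ)) • LinearMap.id := by
  have hf' : IsClassFunction G fun g => f g⁻¹ := fun g x => by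
    show f (x * g * x⁻¹)⁻¹ = f g⁻¹
    have := hf g⁻¹ x
    simpa [mul_assoc] using this
  have hre : ∑ g, f g⁻¹ • ρ g⁻¹ = ∑ g, f g • ρ g :=
    Fintype.sum_equiv (Equiv.inv G) _ _ fun g => rfl
  have h := eq_scalar_of_commute ρ (∑ g, f g • ρ g) fun x => by
    have := weighted_sum_commute ρ hf' x
    rw [hre] at this
    exact this.symm
  conv_lhs => rw [h]
  simp [map_sum, Representation.character]

theorem isIntegral_class_weighted {f : G → ℂ} (hf : IsClassFunction G f)
    (hint : ∀ g, IsIntegral ℤ (f g)) :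
    IsIntegral ℤ ((∑ g, f g * ρ.character g) / (finrank ℂ V : ℂ)) :=
  have := ((isIrreducible_iff ρ).mp ‹_›).1
  isIntegral_of_sum_eq_scalar ρ f hint _ (weighted_sum_scalar ρ hf)

open Classical in
/-- Values of central characters are algebraic integers. -/
theorem isIntegral_omega (g : G) :
    IsIntegral ℤ (((Subgroup.centralizer ({g} : Set G)).index : ℂ) * ρ.character g /
      (finrank ℂ V : ℂ)) := by
  have hf : IsClassFunction G fun x => if IsConj g x then (1 : ℂ) else 0 :=
    isClassFunction_iff.mpr fun a b hab =>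
      if_congr ⟨fun h => h.trans hab, fun h => h.trans hab.symm⟩ rfl rfl
  have h := isIntegral_class_weighted ρ hf fun x => by
    split_ifs
    · exact isIntegral_one
    · exact isIntegral_zero
  convert h using 2
  rw [← card_conj_class g, Nat.card_eq_fintype_card, Fintype.card_subtype, Finset.card_filter,
    Nat.cast_sum, Finset.sum_mul]
  refine Finset.sum_congr rfl fun x _ => ?_
  by_cases hx : IsConj g x
  · simp only [if_pos hx, Nat.cast_one, one_mul]
    exact isClassFunction_isConj (fun a b => ρ.char_conj a b) hx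
  · simp only [if_neg hx, Nat.cast_zero, zero_mul]

theorem sum_conj_char_mul : ∑ g, conj (ρ.character g) * ρ.character g = (Nat.card G : ℂ) := by
  have h := irr_inner_self (isIrrCharacter_character ρ)
  rw [classInner, inv_mul_eq_one₀ card_ne_zero] at h
  rw [h]
  exact Finset.sum_congr rfl fun g _ => mul_comm _ _

include ρ in
theorem finrank_dvd_card : finrank ℂ V ∣ Nat.card G := by
  refine dvd_of_isIntegral_div (finrank_pos_of_irreducible ρ).ne' ?_
  rw [← sum_conj_char_mul ρ]
  exact isIntegral_class_weighted ρ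
    (fun g x => by simp) (fun g => isIntegral_conj (isIntegral_char ρ g))

/-- Central elements act as scalars. -/
theorem central_scalar {z : G} (hz : z ∈ Subgroup.center G) :
    ∃ ω : ℂ, ρ z = ω • LinearMap.id ∧ ‖ω‖ = 1 := by
  have h := eq_scalar_of_commute ρ (ρ z) fun g => by
    rw [← map_mul, ← map_mul, Subgroup.mem_center_iff.mp hz g]
  refine ⟨_, h, ?_⟩
  set ω := LinearMap.trace ℂ V (ρ z) / (finrank ℂ V : ℂ)
  haveI := ((isIrreducible_iff ρ).mp ‹_›).1
  obtain ⟨v, hv⟩ := exists_ne (0 : V)
  have hk : ∀ k : ℕ, ρ (z ^ k) v = ω ^ k • v := by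
    intro k
    induction k with
    | zero => simp
    | succ k ih =>
      rw [pow_succ', map_mul, Module.End.mul_apply, ih, map_smul, h]
      simp [smul_smul, pow_succ]
  have h1 := hk (orderOf z)
  rw [pow_orderOf_eq_one, map_one, Module.End.one_apply] at h1
  have h2 : (ω ^ orderOf z - 1) • v = 0 := by rw [sub_smul, one_smul, ← h1, sub_self]
  exact Complex.norm_eq_one_of_pow_eq_one
    (sub_eq_zero.mp ((smul_eq_zero.mp h2).resolve_right hv)) (orderOf_pos z).ne'

include ρ in
/-- The degree divides the index of any central subgroup. -/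
theorem finrank_dvd_index_of_le_center (Z : Subgroup G) (hZ : Z ≤ Subgroup.center G) :
    finrank ℂ V ∣ Z.index := by
  classical
  haveI := ((isIrreducible_iff ρ).mp ‹_›).1
  let F : G → Module.End ℂ V := fun g => conj (ρ.character g) • ρ g
  have hF : ∀ (g : G), ∀ z ∈ Z, F (g * z) = F g := by
    intro g z hz
    obtain ⟨ω, hω, hω1⟩ := central_scalar ρ (hZ hz)
    have e1 : ρ (g * z) = ω • ρ g := by rw [map_mul, hω, mul_smul_comm]; rfl
    have e2 : ρ.character (g * z) = ω * ρ.character g := by
      simp [Representation.character, e1]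
    have hω2 : conj ω * ω = 1 := by rw [Complex.conj_mul', hω1]; simp
    simp only [F, e1, e2, map_mul, smul_smul]
    rw [mul_right_comm, hω2, one_mul]
  have hout : ∀ g : G, F g = F (QuotientGroup.mk g : G ⧸ Z).out := by
    intro g
    obtain ⟨z, hz⟩ := QuotientGroup.mk_out_eq_mul Z g
    rw [hz, hF g z z.2]
  have hsum : ∑ g, F g = Nat.card Z • ∑ q : G ⧸ Z, F q.out := by
    rw [Finset.sum_congr rfl fun g _ => hout g,
      ← Finset.sum_fiberwise_of_maps_to (g := fun g : G => (QuotientGroup.mk g : G ⧸ Z))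
        (t := Finset.univ) (fun _ _ => Finset.mem_univ _), Finset.smul_sum]
    refine Finset.sum_congr rfl fun q _ => ?_
    rw [Finset.sum_congr rfl fun g hg => by rw [(Finset.mem_filter.mp hg).2], Finset.sum_const]
    congr 1
    have := QuotientGroup.card_preimage_mk Z {q}
    rw [Nat.card_coe_set_eq, Nat.card_coe_set_eq, Set.ncard_singleton, mul_one] at this
    rw [Set.ncard_eq_toFinset_card'] at this
    convert this using 1
    congr 1
    ext x
    simp
  have hscal : ∑ g, F g = ((Nat.card G : ℂ) / (finrank ℂ V : ℂ)) • LinearMap.id := by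
    rw [← sum_conj_char_mul ρ]
    exact weighted_sum_scalar ρ (f := fun g => conj (ρ.character g)) fun g x => by simp
  have hZc : (Nat.card Z : ℂ) ≠ 0 := Nat.cast_ne_zero.mpr Nat.card_pos.ne'
  have hq : ∑ q : G ⧸ Z, F q.out = ((Z.index : ℂ) / (finrank ℂ V : ℂ)) • LinearMap.id := by
    rw [hsum, ← Nat.cast_smul_eq_nsmul ℂ] at hscal
    have h2 := congrArg (fun T => (Nat.card Z : ℂ)⁻¹ • T) hscal
    simp only [smul_smul, inv_mul_cancel₀ hZc, one_smul] at h2
    rw [h2, ← Z.index_mul_card]
    congr 1
    push_cast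
    field_simp
  refine dvd_of_isIntegral_div (finrank_pos_of_irreducible ρ).ne' ?_
  let a : G → ℂ := fun g =>
    if (QuotientGroup.mk g : G ⧸ Z).out = g then conj (ρ.character g) else 0
  refine isIntegral_of_sum_eq_scalar ρ a (fun g => ?_) _ ?_
  · simp only [a]
    split_ifs
    · exact isIntegral_conj (isIntegral_char ρ g)
    · exact isIntegral_zero
  · rw [← hq]
    simp only [a, ite_smul, zero_smul]
    rw [Finset.sum_ite, Finset.sum_const_zero, add_zero]
    refine Finset.sum_bij (fun g _ => (QuotientGroup.mk g : G ⧸ Z)) (fun _ _ => Finset.mem_univ _)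
      (fun g hg g' hg' e => ?_) (fun q _ => ⟨q.out, by simp, by simp⟩) (fun g hg => ?_)
    · rw [← (Finset.mem_filter.mp hg).2, ← (Finset.mem_filter.mp hg').2, e]
    · rw [(Finset.mem_filter.mp hg).2]

end Scalar

section Norm

theorem roots_all_eq_mean {n : ℕ} (ω : Fin n → ℂ) (hω : ∀ i, ‖ω i‖ = 1)
    (h : ‖∑ i, ω i‖ = n) (i : Fin n) : ω i = (∑ j, ω j) / n := by
  have hn : (n : ℝ) ≠ 0 := Nat.cast_ne_zero.mpr i.pos.ne'
  set c := (∑ j, ω j) / (n : ℂ) with hc
  have hc1 : ‖c‖ = 1 := by
    rw [hc, norm_div, h, Complex.norm_natCast, div_self hn]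
  have hre : ∑ j, (ω j * conj c).re = n := by
    rw [← Complex.re_sum, ← Finset.sum_mul]
    have : ∑ j, ω j = (n : ℂ) * c := by
      rw [hc]
      have hn' : (n : ℂ) ≠ 0 := by exact_mod_cast hn
      rw [mul_div_cancel₀ _ hn']
    rw [this, mul_assoc, Complex.mul_conj', hc1]
    simp
  have hs : ∑ j, ‖ω j - c‖ ^ 2 = 0 := by
    have : ∀ j, ‖ω j - c‖ ^ 2 = 2 - 2 * (ω j * conj c).re := by
      intro j
      rw [Complex.sq_norm, Complex.normSq_sub, ← Complex.sq_norm, ← Complex.sq_norm, hω, hc1]
      ring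
    simp only [this, Finset.sum_sub_distrib, ← Finset.mul_sum, hre, Finset.sum_const,
      Finset.card_univ, Fintype.card_fin, nsmul_eq_mul]
    ring
  rw [Finset.sum_eq_zero_iff_of_nonneg fun j _ => sq_nonneg _] at hs
  simpa [sub_eq_zero] using hs i (Finset.mem_univ i)

variable {G : Type u} [Group G] [Finite G] {V : Type v} [AddCommGroup V] [Module ℂ V]
  [FiniteDimensional ℂ V]

theorem scalar_of_norm_eq (ρ : Representation ℂ G V) {g : G}
    (h : ‖ρ.character g‖ = (finrank ℂ V : ℝ)) :
    ρ g = (ρ.character g / (finrank ℂ V : ℂ)) • LinearMap.id := by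
  obtain ⟨b, ω, hb, hω⟩ := exists_eigenbasis (ρ g) (orderOf_pos g)
    (by rw [← map_pow, pow_orderOf_eq_one, map_one])
  have htr : ρ.character g = ∑ i, ω i := trace_eq_sum_of_eigenbasis _ b ω hb
  refine b.ext fun i => ?_
  have e := roots_all_eq_mean ω
    (fun i => Complex.norm_eq_one_of_pow_eq_one (hω i) (orderOf_pos g).ne') (htr ▸ h) i
  rw [LinearMap.smul_apply, LinearMap.id_apply, hb, htr, e]

theorem norm_eq_iff_scalar (ρ : Representation ℂ G V) (g : G) :
    ‖ρ.character g‖ = (finrank ℂ V : ℝ) ↔ ∃ ω : ℂ, ρ g = ω • LinearMap.id := by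
  refine ⟨fun h => ⟨_, scalar_of_norm_eq ρ h⟩, fun ⟨ω, hω⟩ => ?_⟩
  rcases subsingleton_or_nontrivial V with hV | hV
  · have h0 : finrank ℂ V = 0 := finrank_zero_of_subsingleton
    have := norm_char_le ρ g
    rw [h0] at this ⊢
    exact le_antisymm this (by simp)
  · obtain ⟨b, μ, hb, hμ⟩ := exists_eigenbasis (ρ g) (orderOf_pos g)
      (by rw [← map_pow, pow_orderOf_eq_one, map_one])
    have hp : 0 < finrank ℂ V := Module.finrank_pos
    have h1 : μ ⟨0, hp⟩ = ω := by
      have := hb ⟨0, hp⟩
      rw [hω] at this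
      exact (smul_left_injective ℂ (b.ne_zero ⟨0, hp⟩) this).symm
    have hn : ‖ω‖ = 1 := h1 ▸ Complex.norm_eq_one_of_pow_eq_one (hμ _) (orderOf_pos g).ne'
    simp [Representation.character, hω, hn]

theorem char_eq_degree_iff (ρ : Representation ℂ G V) (g : G) :
    ρ.character g = (finrank ℂ V : ℂ) ↔ ρ g = LinearMap.id := by
  refine ⟨fun h => ?_, fun h => by simp [Representation.character, h]⟩
  rcases subsingleton_or_nontrivial V with hV | hV
  · exact LinearMap.ext fun v => Subsingleton.elim _ _
  · rw [scalar_of_norm_eq ρ (by rw [h]; simp), h,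
      div_self (Nat.cast_ne_zero.mpr Module.finrank_pos.ne'), one_smul]

open Polynomial in
/-- An average of roots of unity which is an algebraic integer is zero or of absolute value one. -/
theorem average_zero_or_norm_one {n m : ℕ} (hm : 0 < m) (ω : Fin n → ℂ) (hω : ∀ i, ω i ^ m = 1)
    (hint : IsIntegral ℤ ((∑ i, ω i) / (n : ℂ))) :
    (∑ i, ω i) = 0 ∨ ‖∑ i, ω i‖ = (n : ℝ) := by
  classical
  set α := (∑ i, ω i) / (n : ℂ) with hα
  rcases Nat.eq_zero_or_pos n with rfl | hn
  · simp
  by_cases h0 : α = 0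
  · left
    rw [hα, div_eq_zero_iff] at h0
    exact h0.resolve_right (Nat.cast_ne_zero.mpr hn.ne')
  right
  have hωint : ∀ x ∈ Set.range ω, IsIntegral ℚ x := by
    rintro _ ⟨i, rfl⟩
    exact IsIntegral.of_pow hm (by rw [hω i]; exact isIntegral_one)
  let K := IntermediateField.adjoin ℚ (Set.range ω)
  haveI : FiniteDimensional ℚ K :=
    IntermediateField.finiteDimensional_adjoin hωint
  have hmemω : ∀ i, ω i ∈ K := fun i => IntermediateField.subset_adjoin ℚ _ ⟨i, rfl⟩
  let w : Fin n → K := fun i => ⟨ω i, hmemω i⟩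
  let a : K := (∑ i, w i) / (n : K)
  have ha : (a : ℂ) = α := by simp [a, w, hα]
  have hroots : ∀ β ∈ ((minpoly ℚ α).map (algebraMap ℚ ℂ)).roots, ‖β‖ ≤ 1 := by
    intro β hβ
    have hβ' : β ∈ (minpoly ℚ a).rootSet ℂ := by
      rw [mem_rootSet]
      refine ⟨minpoly.ne_zero (IsIntegral.of_finite ℚ a), ?_⟩
      have hmin : minpoly ℚ a = minpoly ℚ α := by
        rw [← ha]
        exact (minpoly.algebraMap_eq (algebraMap K ℂ).injective a).symm
      rw [hmin, aeval_def, ← eval_map]
      exact ((mem_roots').mp hβ).2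
    rw [← Algebra.IsAlgebraic.range_eval_eq_rootSet_minpoly] at hβ'
    obtain ⟨φ, rfl⟩ := hβ'
    have hw : ∀ i, ‖φ (w i)‖ = 1 := fun i => by
      refine Complex.norm_eq_one_of_pow_eq_one (n := m) ?_ hm.ne'
      rw [← map_pow, show w i ^ m = 1 from Subtype.ext (hω i), map_one]
    show ‖φ a‖ ≤ 1
    simp only [a, map_div₀, map_sum, map_natCast, norm_div, Complex.norm_natCast]
    rw [div_le_one (by exact_mod_cast hn)]
    refine (norm_sum_le _ _).trans ?_
    simp [hw]
  have hαint : IsIntegral ℚ α := hint.tower_top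
  set P := (minpoly ℚ α).map (algebraMap ℚ ℂ) with hP
  have hPm : P.Monic := (minpoly.monic hαint).map _
  have hspl : P.Splits := IsAlgClosed.splits P
  have hprod := hspl.coeff_zero_eq_prod_roots_of_monic hPm
  obtain ⟨z, hz0, hz⟩ : ∃ z : ℤ, z ≠ 0 ∧ P.coeff 0 = z := by
    refine ⟨(minpoly ℤ α).coeff 0, ?_, ?_⟩
    · intro hz
      refine minpoly.coeff_zero_ne_zero hαint h0 ?_
      rw [minpoly.isIntegrallyClosed_eq_field_fractions' ℚ hint, Polynomial.coeff_map, hz, map_zero]
    · rw [hP, minpoly.isIntegrallyClosed_eq_field_fractions' ℚ hint]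
      simp [Polynomial.map_map]
  have hge : (1 : ℝ) ≤ ‖P.roots.prod‖ := by
    have h1 : ‖P.coeff 0‖ = ‖P.roots.prod‖ := by rw [hprod]; simp
    rw [← h1, hz, Complex.norm_intCast]
    exact_mod_cast Int.one_le_abs hz0
  have hαroot : α ∈ P.roots := by
    rw [mem_roots hPm.ne_zero, IsRoot, hP, eval_map, ← aeval_def, minpoly.aeval]
  obtain ⟨t, ht⟩ := Multiset.exists_cons_of_mem hαroot
  have hle : ∀ s : Multiset ℂ, (∀ β ∈ s, ‖β‖ ≤ 1) → ‖s.prod‖ ≤ 1 := by
    intro s
    induction s using Multiset.induction with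
    | empty => simp
    | cons x s ih =>
      intro h
      rw [Multiset.prod_cons, norm_mul]
      exact mul_le_one₀ (h x (Multiset.mem_cons_self x s)) (norm_nonneg _)
        (ih fun b hb => h b (Multiset.mem_cons_of_mem hb))
  have hα1 : ‖α‖ = 1 := by
    refine le_antisymm (hroots α hαroot) ?_
    rw [ht, Multiset.prod_cons, norm_mul] at hge
    exact hge.trans (mul_le_of_le_one_right (norm_nonneg _)
      (hle t fun b hb => hroots b (ht ▸ Multiset.mem_cons_of_mem hb)))
  rw [hα, norm_div, Complex.norm_natCast,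
    div_eq_one_iff_eq (Nat.cast_ne_zero.mpr hn.ne')] at hα1
  exact hα1

end Norm

section Burnside

variable {G : Type u} [Group G] [Fintype G] {V : Type v} [AddCommGroup V] [Module ℂ V]
  [FiniteDimensional ℂ V]

theorem zero_or_norm_of_coprime (ρ : Representation ℂ G V) [ρ.IsIrreducible] (g : G)
    (hcop : Nat.Coprime (finrank ℂ V) (Subgroup.centralizer ({g} : Set G)).index) :
    ρ.character g = 0 ∨ ‖ρ.character g‖ = (finrank ℂ V : ℝ) := by
  obtain ⟨ω, hω, hχ⟩ := exists_eigenvalues_one ρ g
  rw [hχ]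
  refine average_zero_or_norm_one (orderOf_pos g) ω hω ?_
  rw [← hχ]
  set n := finrank ℂ V
  set k := (Subgroup.centralizer ({g} : Set G)).index
  have hb : (1 : ℤ) = n * Nat.gcdA n k + k * Nat.gcdB n k := by
    rw [← Nat.gcd_eq_gcd_ab]
    simp [show Nat.gcd n k = 1 from hcop]
  have e : ρ.character g / (n : ℂ) = (Nat.gcdA n k : ℂ) * ρ.character g +
      (Nat.gcdB n k : ℂ) * ((k : ℂ) * ρ.character g / (n : ℂ)) := by
    have hn : (n : ℂ) ≠ 0 := Nat.cast_ne_zero.mpr (finrank_pos_of_irreducible ρ).ne'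
    have hb' : (1 : ℂ) = (n : ℂ) * (Nat.gcdA n k : ℂ) + (k : ℂ) * (Nat.gcdB n k : ℂ) := by
      exact_mod_cast hb
    field_simp
    linear_combination (ρ.character g) * hb'
  rw [e]
  exact (((isIntegral_intCast _).mul (isIntegral_char ρ g)).add
    ((isIntegral_intCast _).mul (isIntegral_omega ρ g)))

theorem center_eq_top_of_class_prime_pow [IsSimpleGroup G] {p k : ℕ} (hp : p.Prime) {g : G}
    (hg : g ≠ 1) (hclass : (Subgroup.centralizer ({g} : Set G)).index = p ^ k) :
    Subgroup.center G = ⊤ := by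
  classical
  refine ((Subgroup.center G).normal_of_characteristic.eq_bot_or_eq_top).resolve_left fun hbot => ?_
  have hcen : g ∉ Subgroup.center G := by
    rw [hbot, Subgroup.mem_bot]; exact hg
  have key : ∀ χ : IrrCharacter G, χ ≠ trivIrr G → ¬ p ∣ deg (χ : G → ℂ) → (χ : G → ℂ) g = 0 := by
    intro χ hne hdvd
    obtain ⟨n, ρ, hρ, hχ⟩ := χ.2
    rw [← hχ] at hdvd ⊢
    rw [deg_eq_finrank] at hdvd
    rcases zero_or_norm_of_coprime ρ g
      (hclass ▸ (Nat.Coprime.pow_right k ((hp.coprime_iff_not_dvd.mpr hdvd).symm))) with h | h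
    · exact h
    exfalso
    have hs := scalar_of_norm_eq ρ h
    let f := ρ.asGroupHom
    rcases f.normal_ker.eq_bot_or_eq_top with hk | hk
    · apply hcen
      rw [Subgroup.mem_center_iff]
      intro x
      have hinj : Function.Injective f := f.ker_eq_bot_iff.mp hk
      apply hinj
      apply Units.ext
      simp only [map_mul, Units.val_mul, f, Representation.asGroupHom_apply]
      rw [hs]
      ext v
      simp
    · have hid : ∀ x, ρ x = 1 := fun x => by
        have : f x = 1 := MonoidHom.mem_ker.mp (hk ▸ Subgroup.mem_top x)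
        exact congrArg Units.val this
      have hV := (isIrreducible_iff ρ).mp hρ
      have h1 : finrank ℂ (Fin n → ℂ) = 1 := by
        obtain ⟨v, hv⟩ := @exists_ne _ hV.1 (0 : Fin n → ℂ)
        rcases hV.2 (Submodule.span ℂ {v}) (fun x w hw => by simpa [hid x] using hw) with e | e
        · simp [hv] at e
        · rw [← finrank_top ℂ, ← e, finrank_span_singleton hv]
      refine hne (Subtype.ext ?_)
      rw [← hχ]
      funext x
      simp only [Representation.character, hid x, LinearMap.trace_one, trivIrr_apply]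
      exact_mod_cast h1
  have horth := column_orthogonality g (1 : G)
  rw [if_neg (fun c => hg (isConj_one_left.mp c))] at horth
  rw [← Finset.add_sum_erase _ _ (Finset.mem_univ (trivIrr G))] at horth
  simp only [trivIrr_apply, map_one, mul_one] at horth
  have hint : IsIntegral ℤ ((1 : ℕ) / (p : ℂ)) := by
    have e : ((1 : ℕ) : ℂ) / (p : ℂ) = -∑ χ ∈ Finset.univ.erase (trivIrr G),
        (χ : G → ℂ) g * conj ((χ : G → ℂ) 1) / (p : ℂ) := by
      rw [← Finset.sum_div, ← neg_div, Nat.cast_one, eq_neg_of_add_eq_zero_left horth]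
    rw [e]
    refine IsIntegral.neg (IsIntegral.sum _ fun χ hχ => ?_)
    by_cases hd : p ∣ deg (χ : G → ℂ)
    · obtain ⟨r, hr⟩ := hd
      rw [deg_eq (isCharacter_of_isIrr χ.2), hr, map_natCast, Nat.cast_mul]
      have : (χ : G → ℂ) g * ((p : ℂ) * (r : ℂ)) / (p : ℂ) = (χ : G → ℂ) g * r := by
        have hp0 : (p : ℂ) ≠ 0 := Nat.cast_ne_zero.mpr hp.ne_zero
        field_simp
      rw [this]
      exact (isIntegral_isCharacter (isCharacter_of_isIrr χ.2) g).mul (isIntegral_natCast r)
    · rw [key χ (Finset.mem_erase.mp hχ).1 hd, zero_mul, zero_div]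
      exact isIntegral_zero
  exact hp.one_lt.ne' (Nat.dvd_one.mp (dvd_of_isIntegral_div hp.ne_zero hint))

theorem card_prime_of_class_prime_pow [IsSimpleGroup G] {p k : ℕ} (hp : p.Prime) {g : G}
    (hg : g ≠ 1) (hclass : (Subgroup.centralizer ({g} : Set G)).index = p ^ k) :
    (Nat.card G).Prime := by
  have h := center_eq_top_of_class_prime_pow hp hg hclass
  letI : CommGroup G := { ‹Group G› with
    mul_comm := fun a b => Subgroup.mem_center_iff.mp (h ▸ Subgroup.mem_top b) a }
  exact IsSimpleGroup.prime_card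

end Burnside

/-- Burnside's theorem on orders with two prime divisors. -/
theorem isSolvable_of_card_two_primes {p q : ℕ} (hp : p.Prime) (hq : q.Prime) (N : ℕ) :
    ∀ (G : Type u) [Group G] [Finite G] (a b : ℕ), Nat.card G = N →
      Nat.card G = p ^ a * q ^ b → Group.IsSolvable G := by
  induction N using Nat.strong_induction_on with
  | _ N ih =>
    intro G _ _ a b hN hcard
    rcases subsingleton_or_nontrivial G with hG | hG
    · infer_instance
    have hdvd : ∀ d, d ∣ Nat.card G → ∃ a' b', d = p ^ a' * q ^ b' := by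
      intro d hd
      rw [hcard] at hd
      obtain ⟨d1, d2, h1, h2, rfl⟩ := Nat.dvd_mul.mp hd
      obtain ⟨i, -, rfl⟩ := (Nat.dvd_prime_pow hp).mp h1
      obtain ⟨j, -, rfl⟩ := (Nat.dvd_prime_pow hq).mp h2
      exact ⟨i, j, rfl⟩
    by_cases hsimp : IsSimpleGroup G
    · haveI := Fintype.ofFinite G
      suffices (Nat.card G).Prime by
        haveI := Fact.mk this
        haveI := isCyclic_of_prime_card (α := G) (p := Nat.card G) rfl
        exact Group.isSolvable_of_comm fun x y => (IsCyclic.commutative (α := G)).is_comm.comm x y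
      -- a prime divisor and a central element of a Sylow subgroup
      obtain ⟨r, s, c, d, hr, hs, hcd, hc⟩ : ∃ r s c d : ℕ, r.Prime ∧ s.Prime ∧
          Nat.card G = r ^ c * s ^ d ∧ r ∣ Nat.card G := by
        rcases Nat.eq_zero_or_pos a with rfl | ha
        · refine ⟨q, p, b, 0, hq, hp, by rw [hcard]; ring, ?_⟩
          rcases Nat.eq_zero_or_pos b with rfl | hb
          · exact absurd hcard (by simpa using (Finite.one_lt_card (α := G)).ne')
          · rw [hcard]; exact Dvd.dvd.mul_left (dvd_pow_self q hb.ne') _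
        · exact ⟨p, q, a, b, hp, hq, hcard, by
            rw [hcard]; exact Dvd.dvd.mul_right (dvd_pow_self p ha.ne') _⟩
      haveI := Fact.mk hr
      obtain ⟨P⟩ : Nonempty (Sylow r G) := inferInstance
      haveI : Nontrivial (P : Subgroup G) := by
        rw [Subgroup.nontrivial_iff_ne_bot]
        exact Sylow.ne_bot_of_dvd_card P hc
      haveI := P.2.center_nontrivial
      obtain ⟨z, hz⟩ := exists_ne (1 : Subgroup.center (P : Subgroup G))
      have hz1 : ((z : (P : Subgroup G)) : G) ≠ 1 := fun e => hz (Subtype.ext (Subtype.ext e))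
      have hle : (P : Subgroup G) ≤
          Subgroup.centralizer ({((z : (P : Subgroup G)) : G)} : Set G) := by
        intro x hx
        rw [Subgroup.mem_centralizer_singleton_iff]
        exact congrArg Subtype.val (Subgroup.mem_center_iff.mp z.2 ⟨x, hx⟩)
      have hi : (Subgroup.centralizer ({((z : (P : Subgroup G)) : G)} : Set G)).index ∣ s ^ d := by
        have h1 := Subgroup.index_dvd_of_le hle
        refine (h1.trans ?_)
        have h2 : ¬ r ∣ (P : Subgroup G).index := P.not_dvd_index
        have h3 : (P : Subgroup G).index ∣ r ^ c * s ^ d := hcd ▸ Subgroup.index_dvd_card _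
        exact ((hr.coprime_iff_not_dvd.mpr h2).pow_left c).symm.dvd_of_dvd_mul_left h3
      obtain ⟨e, -, he⟩ := (Nat.dvd_prime_pow hs).mp hi
      exact card_prime_of_class_prime_pow hs hz1 he
    · obtain ⟨H, hH, hH1, hH2⟩ : ∃ H : Subgroup G, H.Normal ∧ H ≠ ⊥ ∧ H ≠ ⊤ := by
        by_contra hh
        refine hsimp (@IsSimpleGroup.mk G _ hG fun H hH => ?_)
        by_contra h'
        push Not at h'
        exact hh ⟨H, hH, h'.1, h'.2⟩
      have h1 : Nat.card H < N := by
        rw [← hN]
        exact lt_of_le_of_ne (Nat.le_of_dvd Nat.card_pos H.card_subgroup_dvd_card)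
          (fun e => hH2 (Subgroup.eq_top_of_card_eq H e))
      have h2 : Nat.card (G ⧸ H) < N := by
        have hq1 : Nat.card (G ⧸ H) * Nat.card H = N := by
          rw [← Subgroup.index_eq_card, H.index_mul_card, hN]
        have hH' : 1 < Nat.card H := (Subgroup.one_lt_card_iff_ne_bot H).mpr hH1
        have : 0 < Nat.card (G ⧸ H) := Nat.card_pos
        nlinarith
      obtain ⟨a1, b1, e1⟩ := hdvd _ H.card_subgroup_dvd_card
      obtain ⟨a2, b2, e2⟩ := hdvd (Nat.card (G ⧸ H))
        (by rw [← Subgroup.index_eq_card]; exact H.index_dvd_card)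
      haveI := ih _ h1 H a1 b1 rfl e1
      haveI := ih _ h2 (G ⧸ H) a2 b2 rfl e2
      exact Group.isSolvable_of_ker_le_range H.subtype (QuotientGroup.mk' H) (by simp)

end Cfsg.Agent.CT
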