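import Cfsg.Agent.Lib.CT.Induced

/-!
# Induction from the normalizer of a trivial-intersection set
-/

namespace Cfsg.Agent.CT

open scoped ComplexConjugate

universe u

variable {G : Type u} [Group G] [Fintype G] (N : Subgroup G) (S : Set G)

/-- `S` meets its conjugates by elements outside `N` only in the identity. -/
def IsTI : Prop := ∀ g : G, g ∉ N → ∀ s ∈ S, g * s * g⁻¹ ∈ S → s = 1

variable {N S}

theorem indFun_eq_on_TI (hTI : IsTI N S) {ψ : N → ℂ} (hψ : IsClassFunction N ψ)
    (hS : ∀ x : N, (x : G) ∉ S → ψ x = 0) {t : N} (htS : (t : G) ∈ S) (ht1 : t ≠ 1) :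
    indFun N ψ t = ψ t := by
  classical
  have h : ∀ x : G, extendByZero N ψ (x⁻¹ * t * x) = if x ∈ N then ψ t else 0 := by
    intro x
    split_ifs with hx
    · rw [extendByZero_mem N ψ (N.mul_mem (N.mul_mem (N.inv_mem hx) t.2) hx)]
      refine (congrArg ψ (Subtype.ext ?_)).trans (hψ t ⟨x, hx⟩⁻¹)
      simp
    · by_cases hm : x⁻¹ * t * x ∈ N
      · rw [extendByZero_mem N ψ hm]
        refine hS _ fun hmS => ?_
        exact ht1 (Subtype.ext (hTI x⁻¹ (fun h => hx (inv_mem_iff.mp h)) _ htS
          (by simpa using hmS)))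
      · rw [extendByZero_not_mem N ψ hm]
  simp only [indFun, h]
  rw [Finset.sum_ite, Finset.sum_const_zero, add_zero, Finset.sum_const, nsmul_eq_mul,
    ← Fintype.card_subtype, ← Nat.card_eq_fintype_card, ← mul_assoc,
    inv_mul_cancel₀ (Nat.cast_ne_zero.mpr Nat.card_pos.ne'), one_mul]

/-- Induction is an isometry on class functions supported on `S` and vanishing at the identity. -/
theorem classInner_indFun_TI [Fintype N] (hTI : IsTI N S) {ψ θ : N → ℂ}
    (hθ : IsClassFunction N θ) (hψS : ∀ x : N, (x : G) ∉ S → ψ x = 0)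
    (hθS : ∀ x : N, (x : G) ∉ S → θ x = 0) (hψ1 : ψ 1 = 0) :
    classInner (indFun N ψ) (indFun N θ) = classInner ψ θ := by
  rw [frobenius_reciprocity N ψ (isClassFunction_indFun N θ)]
  simp only [classInner]
  congr 1
  refine Finset.sum_congr rfl fun x _ => ?_
  by_cases hx : (x : G) ∈ S
  · by_cases hx1 : x = 1
    · simp [hx1, hψ1]
    · rw [indFun_eq_on_TI hTI hθ hθS hx hx1]
  · simp [hψS x hx]

theorem isClassFunction_sub_const {H : Type u} [Group H] {f : H → ℂ} (hf : IsClassFunction H f)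
    (c : ℂ) : IsClassFunction H (f - fun _ => c) := fun g x => by simp [hf g x]

end Cfsg.Agent.CT
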