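import Cfsg.Agent.Lib.CT.Induced

/-!
# Ordinary character theory: Clifford theory
-/

namespace Cfsg.Agent.CT

open scoped ComplexConjugate
open Representation Module

universe u

variable {G : Type u} [Group G]

theorem classInner_re_nonneg [Fintype G] {a b : G → ℂ} (ha : IsCharacter G a)
    (hb : IsCharacter G b) : 0 ≤ (classInner a b).re := by
  obtain ⟨n, hn⟩ := classInner_character_nat ha hb
  simp [hn]

/-- A character that contains an irreducible character leaves a character as difference. -/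
theorem isCharacter_sub_constituent [Fintype G] {θ χ : G → ℂ} (hθ : IsCharacter G θ)
    (hχ : IsIrrCharacter G χ) {k : ℕ} (hk : k ≤ mult θ χ) :
    IsCharacter G (θ - (k : ℂ) • χ) := by
  classical
  have hc := isCharacter_of_isIrr hχ
  refine isCharacter_iff.mpr ⟨fun g x => ?_, fun η => ?_⟩
  · simp [isClassFunction_of_isCharacter hθ g x, isClassFunction_of_isCharacter hc g x]
  · rw [classInner_sub_left, classInner_smul_left, mult_spec hθ (isCharacter_of_isIrr η.2),
      irr_inner hχ η.2]
    by_cases h : χ = (η : G → ℂ)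
    · subst h
      exact ⟨mult θ η - k, by rw [Nat.cast_sub hk]; simp⟩
    · exact ⟨mult θ η, by simp [h]⟩

theorem char_eq_zero_of_deg {θ : G → ℂ} (hθ : IsCharacter G θ) (h : θ 1 = 0) : θ = 0 := by
  obtain ⟨n, ρ, rfl⟩ := hθ
  have hn : n = 0 := by simpa [Representation.char_one] using h
  subst hn
  funext g
  show LinearMap.trace ℂ _ (ρ g) = 0
  rw [show ρ g = 0 from LinearMap.ext fun v => Subsingleton.elim _ _]
  simp

/-- An irreducible constituent of full degree is everything. -/
theorem eq_of_deg_le [Fintype G] {θ χ : G → ℂ} (hθ : IsCharacter G θ) (hχ : IsIrrCharacter G χ)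
    (hne : classInner θ χ ≠ 0) (hdeg : deg θ ≤ deg χ) : θ = χ := by
  have hm : 1 ≤ mult θ χ := by
    rw [Nat.one_le_iff_ne_zero]
    intro h
    exact hne (by rw [mult_spec hθ (isCharacter_of_isIrr hχ), h, Nat.cast_zero])
  have hd := isCharacter_sub_constituent hθ hχ hm
  rw [Nat.cast_one, one_smul] at hd
  have h0 : deg (θ - χ) = 0 := by
    have e := deg_eq hd
    rw [Pi.sub_apply, deg_eq hθ, deg_eq (isCharacter_of_isIrr hχ)] at e
    have e' : deg θ = deg (θ - χ) + deg χ := by
      have : (deg θ : ℂ) = ((deg (θ - χ) + deg χ : ℕ) : ℂ) := by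
        push_cast; rw [← e]; ring
      exact_mod_cast this
    omega
  exact sub_eq_zero.mp (char_eq_zero_of_deg hd (by rw [deg_eq hd, h0, Nat.cast_zero]))

theorem classInner_eq_of_res_ne_zero {H : Subgroup G} [Fintype H] [Fintype G] {θ χ : G → ℂ}
    (hθ : IsCharacter G θ) (hχ : IsIrrCharacter G χ) {η : H → ℂ} (hη : IsCharacter H η)
    (h1 : classInner θ χ ≠ 0) (h2 : classInner (fun h : H => χ h) η ≠ 0) :
    classInner (fun h : H => θ h) η ≠ 0 := by
  classical
  rw [← frobenius_reciprocity' H (isClassFunction_of_isCharacter hθ) η]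
  have hi := isCharacter_indFun H hη
  rw [classInner_eq_sum (isClassFunction_of_isCharacter hi)]
  intro h0
  rw [← frobenius_reciprocity' H (isClassFunction_of_isIrr hχ) η] at h2
  simp only [mult_spec hθ (isCharacter_of_isIrr (Subtype.prop _)),
    mult_spec hi (isCharacter_of_isIrr (Subtype.prop _)), map_natCast] at h0
  rw [classInner_comm_of_char (isCharacter_of_isIrr hχ) hi,
    mult_spec hi (isCharacter_of_isIrr hχ)] at h2
  rw [mult_spec hθ (isCharacter_of_isIrr hχ)] at h1
  have h0' : ∑ ξ : IrrCharacter G, mult θ ξ * mult (indFun H η) ξ = 0 := by exact_mod_cast h0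
  have := Finset.sum_eq_zero_iff.mp h0' ⟨χ, hχ⟩ (Finset.mem_univ _)
  rcases mul_eq_zero.mp this with h | h
  · exact h1 (by rw [h, Nat.cast_zero])
  · exact h2 (by rw [h, Nat.cast_zero])

section Normal

variable (N : Subgroup G) [hN : N.Normal]

/-- The inertia group of a function on a normal subgroup. -/
def inertia (φ : N → ℂ) : Subgroup G where
  carrier := {g | conjFun N g φ = φ}
  one_mem' := conjFun_one N φ
  mul_mem' {a b} ha hb := by
    show conjFun N (a * b) φ = φ
    rw [conjFun_mul, ha]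
    exact hb
  inv_mem' {a} ha := by
    show conjFun N a⁻¹ φ = φ
    conv_lhs => rw [← ha]
    rw [← conjFun_mul, mul_inv_cancel, conjFun_one]

theorem mem_inertia {φ : N → ℂ} {g : G} : g ∈ inertia N φ ↔ conjFun N g φ = φ := Iff.rfl

theorem mem_inertia_iff {φ : N → ℂ} {g : G} :
    g ∈ inertia N φ ↔ ∀ n : N, φ ⟨g * n * g⁻¹, hN.conj_mem (n : G) n.2 g⟩ = φ n :=
  funext_iff

theorem le_inertia {φ : N → ℂ} (hφ : IsClassFunction N φ) : N ≤ inertia N φ :=
  fun _ hg => conjFun_of_mem N hφ hg

/-- The orbit of a function on a normal subgroup under conjugation. -/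
noncomputable def conjOrbit [Fintype G] (φ : N → ℂ) : Finset (N → ℂ) :=
  haveI := Classical.decEq (N → ℂ)
  Finset.univ.image fun g : G => conjFun N g φ

theorem mem_conjOrbit [Fintype G] {φ ψ : N → ℂ} :
    ψ ∈ conjOrbit N φ ↔ ∃ g : G, conjFun N g φ = ψ := by
  simp [conjOrbit]

theorem self_mem_conjOrbit [Fintype G] (φ : N → ℂ) : φ ∈ conjOrbit N φ :=
  (mem_conjOrbit N).mpr ⟨1, conjFun_one N φ⟩

open Classical in
theorem card_conjFun_fiber [Fintype G] (φ : N → ℂ) (g₀ : G) :
    (Finset.univ.filter fun g : G => conjFun N g φ = conjFun N g₀ φ).card =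
      Nat.card (inertia N φ) := by
  rw [Nat.card_eq_fintype_card, Fintype.card_subtype]
  refine Finset.card_bij (fun g _ => g * g₀⁻¹) (fun g hg => ?_) (fun a _ b _ h => by simpa using h)
    (fun t ht => ⟨t * g₀, ?_, by simp⟩)
  · simp only [Finset.mem_filter, Finset.mem_univ, true_and] at hg ⊢
    show conjFun N (g * g₀⁻¹) φ = φ
    rw [conjFun_mul, hg, ← conjFun_mul, mul_inv_cancel, conjFun_one]
  · simp only [Finset.mem_filter, Finset.mem_univ, true_and] at ht ⊢
    rw [conjFun_mul, show conjFun N t φ = φ from ht]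

open Classical in
theorem card_conjOrbit [Fintype G] (φ : N → ℂ) :
    (conjOrbit N φ).card = (inertia N φ).index := by
  have h := Finset.card_eq_sum_card_image (fun g : G => conjFun N g φ) Finset.univ
  have h' : Fintype.card G = (conjOrbit N φ).card * Nat.card (inertia N φ) := by
    rw [← Finset.card_univ, h, Finset.sum_congr (s₂ := conjOrbit N φ)
      (g := fun _ => Nat.card (inertia N φ)) (Finset.ext fun ψ => by simp [mem_conjOrbit]) ?_,
      Finset.sum_const, smul_eq_mul]
    intro ψ hψ
    obtain ⟨g₀, rfl⟩ := (mem_conjOrbit N).mp hψ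
    exact card_conjFun_fiber N φ g₀
  rw [← Nat.card_eq_fintype_card, ← (inertia N φ).index_mul_card] at h'
  exact (Nat.eq_of_mul_eq_mul_right Nat.card_pos h').symm

theorem sum_conjFun [Fintype G] (φ : N → ℂ) :
    ∑ g : G, conjFun N g φ = (Nat.card (inertia N φ) : ℂ) • ∑ ψ ∈ conjOrbit N φ, ψ := by
  classical
  rw [Finset.smul_sum,
    ← Finset.sum_fiberwise_of_maps_to (g := fun g : G => conjFun N g φ) (t := conjOrbit N φ)
      (fun g _ => (mem_conjOrbit N).mpr ⟨g, rfl⟩)]
  refine Finset.sum_congr rfl fun ψ hψ => ?_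
  obtain ⟨g₀, rfl⟩ := (mem_conjOrbit N).mp hψ
  rw [Finset.sum_congr rfl fun g hg => (Finset.mem_filter.mp hg).2, Finset.sum_const,
    card_conjFun_fiber, Nat.cast_smul_eq_nsmul]

theorem restrict_indFun_orbit [Fintype G] {φ : N → ℂ} (hφ : IsClassFunction N φ) :
    (fun n : N => indFun N φ n) =
      (((inertia N φ).index : ℂ)⁻¹ * (N.index : ℂ)) • ∑ ψ ∈ conjOrbit N φ, ψ := by
  rw [restrict_indFun, sum_conjFun, smul_smul]
  congr 1
  have hT := (inertia N φ).index_mul_card
  have hN' := N.index_mul_card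
  have a : (Nat.card N : ℂ) ≠ 0 := Nat.cast_ne_zero.mpr Nat.card_pos.ne'
  have b : ((inertia N φ).index : ℂ) ≠ 0 := Nat.cast_ne_zero.mpr Subgroup.index_ne_zero_of_finite
  have e : ((inertia N φ).index : ℂ) * Nat.card (inertia N φ) = (N.index : ℂ) * Nat.card N := by
    exact_mod_cast hT.trans hN'.symm
  field_simp
  linear_combination e

theorem classInner_restrict_conjFun [Fintype N] {χ : G → ℂ} (hχ : IsClassFunction G χ)
    (φ : N → ℂ) (g : G) :
    classInner (fun n : N => χ n) (conjFun N g φ) = classInner (fun n : N => χ n) φ := by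
  conv_lhs => rw [← conjFun_restrict N g hχ]
  exact classInner_conjFun N g _ φ

/-- Constituents of the restriction are conjugate. -/
theorem exists_conj_of_constituent [Fintype G] [Fintype N] {χ : G → ℂ} (hχ : IsIrrCharacter G χ)
    {φ ψ : N → ℂ} (hφ : IsIrrCharacter N φ) (hψ : IsIrrCharacter N ψ)
    (h1 : classInner (fun n : N => χ n) φ ≠ 0) (h2 : classInner (fun n : N => χ n) ψ ≠ 0) :
    ∃ g : G, conjFun N g φ = ψ := by
  have hi := isCharacter_indFun N (isCharacter_of_isIrr hφ)
  have h3 : classInner (indFun N φ) χ ≠ 0 := by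
    rw [frobenius_reciprocity N φ (isClassFunction_of_isIrr hχ),
      classInner_comm_of_char (isCharacter_of_isIrr hφ)
        (isCharacter_restrict N (isCharacter_of_isIrr hχ))]
    exact h1
  have h4 := classInner_eq_of_res_ne_zero hi hχ (isCharacter_of_isIrr hψ) h3 h2
  rw [restrict_indFun, classInner_smul_left, classInner_sum_left] at h4
  obtain ⟨g, -, hg⟩ := Finset.exists_ne_zero_of_sum_ne_zero (right_ne_zero_of_mul h4)
  exact ⟨g, eq_of_inner_ne_zero (isIrrCharacter_conjFun N g hφ) hψ hg⟩

/-- Clifford's theorem. -/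
theorem clifford [Fintype G] [Fintype N] {χ : G → ℂ} (hχ : IsIrrCharacter G χ) {φ : N → ℂ}
    (hφ : IsIrrCharacter N φ) (h1 : classInner (fun n : N => χ n) φ ≠ 0) :
    (fun n : N => χ n) = classInner (fun n : N => χ n) φ • ∑ ψ ∈ conjOrbit N φ, ψ := by
  classical
  have hres := isCharacter_restrict N (isCharacter_of_isIrr hχ)
  have horb : ∀ ψ ∈ conjOrbit N φ, IsIrrCharacter N ψ := fun ψ hψ => by
    obtain ⟨g, rfl⟩ := (mem_conjOrbit N).mp hψ
    exact isIrrCharacter_conjFun N g hφ
  refine classFunction_ext (isClassFunction_of_isCharacter hres) ?_ fun η => ?_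
  · intro x y
    simp only [Pi.smul_apply, Finset.sum_apply]
    congr 1
    exact Finset.sum_congr rfl fun ψ hψ => isClassFunction_of_isIrr (horb ψ hψ) x y
  rw [classInner_smul_left, classInner_sum_left]
  by_cases hη : (η : N → ℂ) ∈ conjOrbit N φ
  · rw [Finset.sum_eq_single (η : N → ℂ)
      (fun b hb hne => irr_inner_of_ne (horb b hb) η.2 hne) (fun h => absurd hη h),
      irr_inner_self η.2, mul_one]
    obtain ⟨g, hg⟩ := (mem_conjOrbit N).mp hη
    rw [← hg]
    exact classInner_restrict_conjFun N (isClassFunction_of_isIrr hχ) φ g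
  · rw [Finset.sum_eq_zero fun b hb => irr_inner_of_ne (horb b hb) η.2 fun e : b = (η : N → ℂ) =>
      hη (e ▸ hb), mul_zero]
    by_contra hne
    exact hη ((mem_conjOrbit N).mpr (exists_conj_of_constituent N hχ hφ η.2 h1 hne))

theorem clifford_mult [Fintype G] [Fintype N] {χ : G → ℂ} (hχ : IsIrrCharacter G χ) {φ : N → ℂ}
    (hφ : IsIrrCharacter N φ) (h1 : classInner (fun n : N => χ n) φ ≠ 0) :
    deg χ = mult (fun n : N => χ n) φ * (inertia N φ).index * deg φ := by
  have h := congrFun (clifford N hχ hφ h1) 1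
  rw [mult_spec (isCharacter_restrict N (isCharacter_of_isIrr hχ)) (isCharacter_of_isIrr hφ),
    Pi.smul_apply, Finset.sum_apply,
    Finset.sum_congr rfl (g := fun _ => (deg φ : ℂ)) fun ψ hψ => by
      obtain ⟨g, rfl⟩ := (mem_conjOrbit N).mp hψ
      rw [← deg_eq (isCharacter_of_isIrr hφ)]
      exact congrArg φ (Subtype.ext (by simp)),
    Finset.sum_const, card_conjOrbit, nsmul_eq_mul, smul_eq_mul, OneMemClass.coe_one,
    deg_eq (isCharacter_of_isIrr hχ)] at h
  rw [mul_assoc]
  exact_mod_cast h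

/-- For an invariant constituent the restriction is a multiple of it. -/
theorem restrict_eq_smul_of_invariant [Fintype G] [Fintype N] {χ : G → ℂ}
    (hχ : IsIrrCharacter G χ) {φ : N → ℂ} (hφ : IsIrrCharacter N φ)
    (h1 : classInner (fun n : N => χ n) φ ≠ 0) (hinv : ∀ g, conjFun N g φ = φ) :
    (fun n : N => χ n) = classInner (fun n : N => χ n) φ • φ := by
  have : conjOrbit N φ = {φ} := by
    ext ψ
    simp [mem_conjOrbit, hinv, eq_comm]
  simpa [this] using clifford N hχ hφ h1

theorem exists_irr_over [Fintype G] [Fintype N] {φ : N → ℂ} (hφ : IsIrrCharacter N φ) :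
    ∃ χ : IrrCharacter G, classInner (fun n : N => (χ : G → ℂ) n) φ ≠ 0 := by
  have hi := isCharacter_indFun N (isCharacter_of_isIrr hφ)
  obtain ⟨χ, hχ⟩ := exists_constituent hi (fun h => by
    have := congrFun h 1
    rw [indFun_one_eval, Pi.zero_apply] at this
    exact mul_ne_zero (Nat.cast_ne_zero.mpr Subgroup.index_ne_zero_of_finite)
      (irr_one_ne_zero hφ) this)
  refine ⟨χ, ?_⟩
  rwa [← classInner_comm_of_char (isCharacter_of_isIrr hφ)
      (isCharacter_restrict N (isCharacter_of_isIrr χ.2)),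
    ← frobenius_reciprocity N φ (isClassFunction_of_isIrr χ.2)]

theorem exists_constituent_restrict [Fintype G] (H : Subgroup G) [Fintype H] {χ : G → ℂ}
    (hχ : IsIrrCharacter G χ) :
    ∃ η : IrrCharacter H, classInner (fun h : H => χ h) η ≠ 0 :=
  exists_constituent (isCharacter_restrict H (isCharacter_of_isIrr hχ))
    fun h => irr_one_ne_zero hχ (congrFun h 1)

end Normal

section Correspondence

variable [Fintype G] (N : Subgroup G) [hN : N.Normal] [Fintype N] {φ : N → ℂ}
  (hφ : IsIrrCharacter N φ) (T : Subgroup G) [Fintype T] (hT : T = inertia N φ) (hNT : N ≤ T)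

/-- Restriction to a normal subgroup of a function on an intermediate subgroup. -/
def resTo (ψ : T → ℂ) : N → ℂ := fun n => ψ ⟨n, hNT n.2⟩

theorem isCharacter_resTo {ψ : T → ℂ} (h : IsCharacter T ψ) :
    IsCharacter N (resTo N T hNT ψ) :=
  isCharacter_comp (Subgroup.inclusion hNT) h

include hφ hT in
/-- An irreducible of the inertia group over `φ` restricts to a multiple of `φ`. -/
theorem resTo_eq_smul {ψ : T → ℂ} (hψ : IsIrrCharacter T ψ)
    (h1 : classInner (resTo N T hNT ψ) φ ≠ 0) :
    resTo N T hNT ψ = classInner (resTo N T hNT ψ) φ • φ := by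
  classical
  let M : Subgroup T := N.subgroupOf T
  let e : M ≃* N := Subgroup.subgroupOfEquivOfLe hNT
  let φ' : M → ℂ := fun m => φ (e m)
  have hφ' : IsIrrCharacter M φ' := isIrrCharacter_comp e.toMonoidHom e.surjective hφ
  have hin : classInner (fun m : M => ψ m) φ' = classInner (resTo N T hNT ψ) φ := by
    simp only [classInner]
    rw [Nat.card_congr e.toEquiv]
    congr 1
    exact Fintype.sum_equiv e.toEquiv _ _ fun m => rfl
  have hinv : ∀ t : T, conjFun M t φ' = φ' := by
    intro t
    funext m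
    have ht : (t : G) ∈ inertia N φ := hT ▸ t.2
    exact congrFun ht (e m)
  have h := restrict_eq_smul_of_invariant M hψ hφ' (hin ▸ h1) hinv
  funext n
  have h' := congrFun h (e.symm n)
  have hv : ((e.symm n : M) : T) = ⟨n, hNT n.2⟩ := rfl
  simp only [Pi.smul_apply, smul_eq_mul, hin] at h' ⊢
  simpa [resTo, hv, φ'] using h'

include hφ hT in
theorem deg_eq_of_over {ψ : T → ℂ} (hψ : IsIrrCharacter T ψ)
    (h1 : classInner (resTo N T hNT ψ) φ ≠ 0) :
    deg ψ = mult (resTo N T hNT ψ) φ * deg φ := by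
  have h := congrFun (resTo_eq_smul N hφ T hT hNT hψ h1) 1
  rw [mult_spec (isCharacter_resTo N T hNT (isCharacter_of_isIrr hψ)) (isCharacter_of_isIrr hφ),
    Pi.smul_apply, deg_eq (isCharacter_of_isIrr hφ), smul_eq_mul] at h
  have h' : ψ 1 = (mult (resTo N T hNT ψ) φ : ℂ) * deg φ := h
  rw [deg_eq (isCharacter_of_isIrr hψ)] at h'
  exact_mod_cast h'

include hφ in
/-- Multiplicities over `φ` add up over constituents of the restriction to `T`. -/
theorem sum_mult_over {χ : G → ℂ} (hχ : IsCharacter G χ) :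
    mult (fun n : N => χ n) φ =
      ∑ ψ : IrrCharacter T, mult (fun t : T => χ t) ψ * mult (resTo N T hNT ψ) φ := by
  have h := character_eq_sum (isCharacter_restrict T hχ)
  have h2 : (fun n : N => χ n) =
      ∑ ψ : IrrCharacter T, (mult (fun t : T => χ t) ψ : ℂ) • resTo N T hNT ψ := by
    funext n
    have := congrFun h ⟨n, hNT n.2⟩
    simpa [resTo, Finset.sum_apply] using this
  have h3 := congrArg (fun f => classInner f φ) h2
  simp only [classInner_sum_left, classInner_smul_left,
    mult_spec (isCharacter_restrict N hχ) (isCharacter_of_isIrr hφ),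
    mult_spec (isCharacter_resTo N T hNT (isCharacter_of_isIrr (Subtype.prop _)))
      (isCharacter_of_isIrr hφ)] at h3
  exact_mod_cast h3

include hφ hT in
/-- The Clifford correspondence, surjectivity. -/
theorem exists_correspondent {χ : G → ℂ} (hχ : IsIrrCharacter G χ)
    (hcon : classInner (fun n : N => χ n) φ ≠ 0) :
    ∃ ψ : T → ℂ, IsIrrCharacter T ψ ∧ indFun T ψ = χ ∧
      classInner (resTo N T hNT ψ) φ = classInner (fun n : N => χ n) φ := by
  have hcn := isCharacter_restrict N (isCharacter_of_isIrr hχ)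
  have hms := sum_mult_over N hφ T hNT (isCharacter_of_isIrr hχ)
  have he : mult (fun n : N => χ n) φ ≠ 0 := fun h =>
    hcon (by rw [mult_spec hcn (isCharacter_of_isIrr hφ), h, Nat.cast_zero])
  rw [hms] at he
  obtain ⟨ψ, -, hψ⟩ := Finset.exists_ne_zero_of_sum_ne_zero he
  obtain ⟨hψ1, hψ2⟩ := mul_ne_zero_iff.mp hψ
  have hψc := isCharacter_of_isIrr ψ.2
  have hover : classInner (resTo N T hNT ψ) φ ≠ 0 := by
    rw [mult_spec (isCharacter_resTo N T hNT hψc) (isCharacter_of_isIrr hφ)]
    exact_mod_cast hψ2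
  have hle : mult (resTo N T hNT ψ) φ ≤ mult (fun n : N => χ n) φ := by
    rw [hms]
    refine le_trans ?_ (Finset.single_le_sum (f := fun c : IrrCharacter T =>
      mult (fun t : T => χ t) c * mult (resTo N T hNT c) φ) (fun _ _ => Nat.zero_le _)
      (Finset.mem_univ ψ))
    exact Nat.le_mul_of_pos_left _ (Nat.pos_of_ne_zero hψ1)
  have hind := isCharacter_indFun T hψc
  have hnz : classInner (indFun T (ψ : T → ℂ)) χ ≠ 0 := by
    rw [frobenius_reciprocity T _ (isClassFunction_of_isIrr hχ),
      classInner_comm_of_char hψc (isCharacter_restrict T (isCharacter_of_isIrr hχ)),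
      mult_spec (isCharacter_restrict T (isCharacter_of_isIrr hχ)) hψc]
    exact_mod_cast hψ1
  have hdχ := clifford_mult N hχ hφ hcon
  have hdψ := deg_eq_of_over N hφ T hT hNT ψ.2 hover
  have hdi : deg (indFun T (ψ : T → ℂ)) = T.index * deg (ψ : T → ℂ) := by
    have h := deg_eq hind
    rw [indFun_one_eval, deg_eq hψc] at h
    exact_mod_cast h.symm
  have hge : deg χ ≤ deg (indFun T (ψ : T → ℂ)) := by
    refine le_trans ?_ (constituent_deg_le hind ⟨χ, hχ⟩)
    refine Nat.le_mul_of_pos_left _ (Nat.pos_of_ne_zero fun h => hnz ?_)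
    rw [mult_spec hind (isCharacter_of_isIrr hχ), h, Nat.cast_zero]
  rw [← hT] at hdχ
  have hmeq : mult (resTo N T hNT ψ) φ = mult (fun n : N => χ n) φ := by
    refine le_antisymm hle ?_
    rw [hdi, hdψ, hdχ] at hge
    have hpos : 0 < T.index * deg φ :=
      Nat.mul_pos (Nat.pos_of_ne_zero Subgroup.index_ne_zero_of_finite) (deg_pos hφ)
    nlinarith
  refine ⟨ψ, ψ.2, eq_of_deg_le hind hχ hnz (le_of_eq ?_), ?_⟩
  · rw [hdi, hdψ, hdχ, hmeq]; ring
  · rw [mult_spec (isCharacter_resTo N T hNT hψc) (isCharacter_of_isIrr hφ), hmeq,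
      mult_spec hcn (isCharacter_of_isIrr hφ)]

include hφ hT in
/-- The Clifford correspondence, irreducibility of induced characters. -/
theorem isIrr_indFun_of_over {ψ : T → ℂ} (hψ : IsIrrCharacter T ψ)
    (h1 : classInner (resTo N T hNT ψ) φ ≠ 0) : IsIrrCharacter G (indFun T ψ) := by
  have hψc := isCharacter_of_isIrr hψ
  have hind := isCharacter_indFun T hψc
  obtain ⟨χ, hχ⟩ := exists_constituent hind (fun h => by
    have := congrFun h 1
    rw [indFun_one_eval, Pi.zero_apply] at this
    exact mul_ne_zero (Nat.cast_ne_zero.mpr Subgroup.index_ne_zero_of_finite)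
      (irr_one_ne_zero hψ) this)
  have hres := isCharacter_restrict T (isCharacter_of_isIrr χ.2)
  have hm1 : mult (fun t : T => (χ : G → ℂ) t) ψ ≠ 0 := by
    intro h
    apply hχ
    rw [frobenius_reciprocity T _ (isClassFunction_of_isIrr χ.2),
      classInner_comm_of_char hψc hres, mult_spec hres hψc, h, Nat.cast_zero]
  have hm2 : mult (resTo N T hNT ψ) φ ≠ 0 := fun h => h1 (by
    rw [mult_spec (isCharacter_resTo N T hNT hψc) (isCharacter_of_isIrr hφ), h, Nat.cast_zero])
  have hle : mult (resTo N T hNT ψ) φ ≤ mult (fun n : N => (χ : G → ℂ) n) φ := by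
    rw [sum_mult_over N hφ T hNT (isCharacter_of_isIrr χ.2)]
    refine le_trans ?_ (Finset.single_le_sum (f := fun c : IrrCharacter T =>
      mult (fun t : T => (χ : G → ℂ) t) c * mult (resTo N T hNT c) φ) (fun _ _ => Nat.zero_le _)
      (Finset.mem_univ ⟨ψ, hψ⟩))
    exact Nat.le_mul_of_pos_left _ (Nat.pos_of_ne_zero hm1)
  have hcon : classInner (fun n : N => (χ : G → ℂ) n) φ ≠ 0 := by
    rw [mult_spec (isCharacter_restrict N (isCharacter_of_isIrr χ.2)) (isCharacter_of_isIrr hφ),
      Nat.cast_ne_zero]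
    omega
  have hdχ := clifford_mult N χ.2 hφ hcon
  have hdψ := deg_eq_of_over N hφ T hT hNT hψ h1
  have hdi : deg (indFun T ψ) = T.index * deg ψ := by
    have h := deg_eq hind
    rw [indFun_one_eval, deg_eq hψc] at h
    exact_mod_cast h.symm
  rw [eq_of_deg_le hind χ.2 hχ ?_]
  · exact χ.2
  · rw [← hT] at hdχ
    rw [hdi, hdψ, hdχ]
    calc T.index * (mult (resTo N T hNT ψ) φ * deg φ)
        = mult (resTo N T hNT ψ) φ * T.index * deg φ := by ring
      _ ≤ _ := Nat.mul_le_mul_right _ (Nat.mul_le_mul_right _ hle)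

end Correspondence

end Cfsg.Agent.CT
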