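import Cfsg.Agent.Lib.CT.Induced
import Mathlib.LinearAlgebra.Matrix.Kronecker
import Mathlib.LinearAlgebra.Projection

/-!
# The Frobenius–Schur indicator
-/

namespace Cfsg.Agent.CT

open scoped ComplexConjugate Kronecker

universe u

variable {G : Type u} [Group G]

/-- The Frobenius–Schur indicator. -/
noncomputable def fsInd [Fintype G] (χ : G → ℂ) : ℂ := (Nat.card G : ℂ)⁻¹ * ∑ s : G, χ (s * s)

theorem trace_idem_nat {ι : Type*} [Fintype ι] [DecidableEq ι]
    (E : Matrix ι ι ℂ) (h : E * E = E) : ∃ r : ℕ, E.trace = r := by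
  let f := Matrix.toLin' E
  have hf : IsIdempotentElem f := by
    show (Matrix.toLin' E).comp (Matrix.toLin' E) = Matrix.toLin' E
    rw [← Matrix.toLin'_mul, h]
  obtain ⟨p, hp⟩ := (LinearMap.isProj_iff_isIdempotentElem f).mpr hf
  exact ⟨_, (Matrix.trace_toLin'_eq E).symm.trans (LinearMap.IsProj.trace hp)⟩

/-- The indicator is `a - b` where `a + b` is the multiplicity of the trivial character in `χ²`. -/
theorem fsInd_split [Fintype G] {χ : G → ℂ} (hχ : IsCharacter G χ) :
    ∃ a b : ℕ, fsInd χ = (a : ℂ) - b ∧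
      classInner χ (fun g => conj (χ g)) = (a : ℂ) + b := by
  classical
  obtain ⟨n, ρ, rfl⟩ := hχ
  let A : G → Matrix (Fin n) (Fin n) ℂ := fun g => LinearMap.toMatrix' (ρ g)
  have hA : ∀ g h, A (g * h) = A g * A h := fun g h => by
    simp only [A, map_mul, Module.End.mul_eq_comp, LinearMap.toMatrix'_comp]
  have hAtr : ∀ g, (A g).trace = ρ.character g := fun g => by
    show _ = LinearMap.trace ℂ _ (ρ g)
    rw [LinearMap.trace_eq_matrix_trace ℂ (Pi.basisFun ℂ (Fin n)),
      LinearMap.toMatrix_eq_toMatrix']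
  let K : G → Matrix (Fin n × Fin n) (Fin n × Fin n) ℂ := fun g => A g ⊗ₖ A g
  have hK : ∀ g h, K g * K h = K (g * h) := fun g h => by
    simp only [K, hA, Matrix.mul_kronecker_mul]
  let T : Matrix (Fin n × Fin n) (Fin n × Fin n) ℂ :=
    fun x y => if x = (y.2, y.1) then 1 else 0
  have hTl : ∀ (M : Matrix (Fin n × Fin n) (Fin n × Fin n) ℂ) (x y : Fin n × Fin n),
      (T * M) x y = M (x.2, x.1) y := by
    intro M x y
    rw [Matrix.mul_apply, Finset.sum_eq_single (x.2, x.1)]
    · simp [T]
    · intro b _ hb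
      have : x ≠ (b.2, b.1) := fun e => hb (by rw [e])
      simp [T, this]
    · simp
  have hTr : ∀ (M : Matrix (Fin n × Fin n) (Fin n × Fin n) ℂ) (x y : Fin n × Fin n),
      (M * T) x y = M x (y.2, y.1) := by
    intro M x y
    rw [Matrix.mul_apply, Finset.sum_eq_single (y.2, y.1)]
    · simp [T]
    · intro b _ hb
      simp [T, hb]
    · simp
  have hTK : ∀ g, T * K g = K g * T := by
    intro g
    ext x y
    rw [hTl, hTr]
    simp [K, Matrix.kroneckerMap_apply, mul_comm]
  have htr : ∀ g, (T * K g).trace = ρ.character (g * g) := by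
    intro g
    rw [← hAtr, hA]
    simp only [Matrix.trace, Matrix.diag, hTl, K, Matrix.kroneckerMap_apply, Matrix.mul_apply,
      Fintype.sum_prod_type]
    exact Finset.sum_congr rfl fun i _ => Finset.sum_congr rfl fun j _ => mul_comm _ _
  let S : Matrix (Fin n × Fin n) (Fin n × Fin n) ℂ := (Nat.card G : ℂ)⁻¹ • ∑ g : G, K g
  have hG : (Nat.card G : ℂ) ≠ 0 := card_ne_zero
  have hSS : S * S = S := by
    have h1 : ∀ g, K g * (∑ h : G, K h) = ∑ h : G, K h := fun g => by
      rw [Finset.mul_sum]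
      simp only [hK]
      exact Fintype.sum_bijective _ (Group.mulLeft_bijective g) _ _ (fun _ => rfl)
    simp only [S, Matrix.smul_mul, Matrix.mul_smul, Finset.sum_mul, h1, Finset.sum_const,
      Finset.card_univ, ← Nat.card_eq_fintype_card, smul_smul, ← Nat.cast_smul_eq_nsmul ℂ]
    congr 1
    field_simp
  have hTS : T * S = S * T := by
    simp only [S, Matrix.mul_smul, Matrix.smul_mul, Finset.mul_sum, Finset.sum_mul, hTK]
  have hTT : T * T = 1 := by
    ext x y
    rw [hTl]
    simp only [T, Matrix.one_apply]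
    by_cases h : x = y
    · simp [h]
    · rw [if_neg h, if_neg]
      intro e
      exact h (Prod.ext (congrArg Prod.snd e) (congrArg Prod.fst e))
  have a : S * (T * S) = T * S := by rw [← mul_assoc, ← hTS, mul_assoc, hSS]
  have b : T * S * S = T * S := by rw [mul_assoc, hSS]
  have c : T * S * (T * S) = S := by rw [mul_assoc, a, ← mul_assoc, hTT, one_mul]
  let E := (2 : ℂ)⁻¹ • (S + T * S)
  let E' := (2 : ℂ)⁻¹ • (S - T * S)
  have hEE : E * E = E := by
    simp only [E, Matrix.smul_mul, Matrix.mul_smul, add_mul, mul_add, hSS, a, b, c, smul_smul]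
    module
  have hEE' : E' * E' = E' := by
    simp only [E', Matrix.smul_mul, Matrix.mul_smul, sub_mul, mul_sub, hSS, a, b, c, smul_smul]
    module
  obtain ⟨r, hr⟩ := trace_idem_nat E hEE
  obtain ⟨r', hr'⟩ := trace_idem_nat E' hEE'
  simp only [E, E', Matrix.trace_smul, Matrix.trace_add, Matrix.trace_sub, smul_eq_mul] at hr hr'
  refine ⟨r, r', ?_, ?_⟩
  · have hval : (T * S).trace = fsInd ρ.character := by
      simp only [fsInd, S, Matrix.mul_smul, Matrix.trace_smul, Finset.mul_sum, Matrix.trace_sum,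
        htr, smul_eq_mul]
    rw [← hval]
    linear_combination hr - hr'
  · have hval : S.trace = classInner ρ.character (fun g => conj (ρ.character g)) := by
      simp only [classInner, S, Matrix.trace_smul, Matrix.trace_sum, smul_eq_mul, K,
        Matrix.trace_kronecker, hAtr, Complex.conj_conj]
    rw [← hval]
    linear_combination hr + hr'

theorem conj_irr [Finite G] {χ : G → ℂ} (hχ : IsIrrCharacter G χ) :
    IsIrrCharacter G (fun g => conj (χ g)) := by
  haveI := Fintype.ofFinite G
  refine isIrr_of_inner_self (isCharacter_conj (isCharacter_of_isIrr hχ)) ?_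
  rw [← classInner_conj_symm, show classInner (fun g => conj (χ g)) (fun g => conj (χ g)) =
    conj (classInner χ χ) by simp [classInner], irr_inner_self hχ]
  simp

theorem fsInd_irr [Fintype G] {χ : G → ℂ} (hχ : IsIrrCharacter G χ) :
    (fsInd χ = 0 ∨ fsInd χ = 1 ∨ fsInd χ = -1) ∧ (fsInd χ = 0 ↔ ∃ s, (χ s).im ≠ 0) := by
  obtain ⟨a, b, h1, h2⟩ := fsInd_split (isCharacter_of_isIrr hχ)
  by_cases hr : ∃ s, (χ s).im ≠ 0
  · obtain ⟨s, hs⟩ := hr
    have hne : χ ≠ fun g => conj (χ g) := fun e => hs (Complex.conj_eq_iff_im.mp (congrFun e s).symm)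
    rw [irr_inner_of_ne hχ (conj_irr hχ) hne] at h2
    have h0 : a + b = 0 := by exact_mod_cast h2.symm
    obtain ⟨rfl, rfl⟩ : a = 0 ∧ b = 0 := by omega
    simp only [Nat.cast_zero, sub_zero] at h1
    exact ⟨Or.inl h1, ⟨fun _ => ⟨s, hs⟩, fun _ => h1⟩⟩
  · have he : (fun g => conj (χ g)) = χ := by
      funext g
      push Not at hr
      exact Complex.conj_eq_iff_im.mpr (hr g)
    rw [he, irr_inner_self hχ] at h2
    have h0 : a + b = 1 := by exact_mod_cast h2.symm
    rcases Nat.eq_zero_or_pos a with rfl | ha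
    · obtain rfl : b = 1 := by omega
      simp only [Nat.cast_zero, Nat.cast_one, zero_sub] at h1
      refine ⟨Or.inr (Or.inr h1), ⟨fun e => ?_, fun h => absurd h hr⟩⟩
      rw [h1] at e
      norm_num at e
    · obtain ⟨rfl, rfl⟩ : a = 1 ∧ b = 0 := by omega
      simp only [Nat.cast_zero, Nat.cast_one, sub_zero] at h1
      refine ⟨Or.inr (Or.inl h1), ⟨fun e => ?_, fun h => absurd h hr⟩⟩
      rw [h1] at e
      norm_num at e

end Cfsg.Agent.CT
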