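import Cfsg.Agent.Lib.CT.Integral
import Cfsg.Agent.Lib.CT.Induced
import Cfsg.Agent.Lib.CT.Clifford
import Cfsg.Agent.Lib.CT.FrobeniusSchur

/-!
# Character tables: permutation lemma, class multiplication, products, odd order
-/

namespace Cfsg.Agent.CT

open scoped ComplexConjugate

universe u v

variable {G : Type u} [Group G]

section Perm

variable [Fintype G]

open Classical in
theorem card_classes_filter (P : ConjClasses G → Prop) :
    ∑ g : G, (if P (ConjClasses.mk g) then
      (Nat.card (Subgroup.centralizer ({g} : Set G)) : ℂ) else 0) =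
      (Nat.card G : ℂ) * Nat.card {C : ConjClasses G // P C} := by
  haveI : Finite (ConjClasses G) := Finite.of_surjective _ ConjClasses.mk_surjective
  haveI := Fintype.ofFinite (ConjClasses G)
  rw [← Finset.sum_fiberwise_of_maps_to (g := ConjClasses.mk) (t := Finset.univ)
    (fun _ _ => Finset.mem_univ _)]
  have h : ∀ C : ConjClasses G,
      ∑ g ∈ Finset.univ.filter (fun g => ConjClasses.mk g = C), (if P (ConjClasses.mk g) then
        (Nat.card (Subgroup.centralizer ({g} : Set G)) : ℂ) else 0) =
      if P C then (Nat.card G : ℂ) else 0 := by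
    intro C
    obtain ⟨g₀, rfl⟩ := ConjClasses.mk_surjective C
    have hc : ∀ g ∈ Finset.univ.filter (fun g => ConjClasses.mk g = ConjClasses.mk g₀),
        (if P (ConjClasses.mk g) then
          (Nat.card (Subgroup.centralizer ({g} : Set G)) : ℂ) else 0) =
        if P (ConjClasses.mk g₀) then
          (Nat.card (Subgroup.centralizer ({g₀} : Set G)) : ℂ) else 0 := by
      intro g hg
      have e := (Finset.mem_filter.mp hg).2
      rw [e]
      congr 2
      have h1 := card_conj_class_mul_centralizer g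
      have h2 := card_conj_class_mul_centralizer g₀
      have hgc := ConjClasses.mk_eq_mk_iff_isConj.mp e
      have h3 : Nat.card {x : G // IsConj g x} = Nat.card {x : G // IsConj g₀ x} :=
        Nat.card_congr (Equiv.subtypeEquivRight fun x =>
          ⟨fun a => hgc.symm.trans a, fun a => hgc.trans a⟩)
      rw [h3, ← h2] at h1
      haveI : Nonempty {x : G // IsConj g₀ x} := ⟨⟨g₀, IsConj.refl g₀⟩⟩
      exact Nat.eq_of_mul_eq_mul_left Nat.card_pos h1
    rw [Finset.sum_congr rfl hc, Finset.sum_const, nsmul_eq_mul]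
    by_cases hP : P (ConjClasses.mk g₀)
    · rw [if_pos hP, if_pos hP, ← Fintype.card_subtype, ← Nat.card_eq_fintype_card]
      have e : Nat.card {g : G // ConjClasses.mk g = ConjClasses.mk g₀} =
          Nat.card {x : G // IsConj g₀ x} :=
        Nat.card_congr (Equiv.subtypeEquivRight fun x => by
          rw [ConjClasses.mk_eq_mk_iff_isConj]
          exact isConj_comm)
      rw [e, ← Nat.cast_mul, card_conj_class_mul_centralizer]
    · rw [if_neg hP, if_neg hP, mul_zero]
  rw [Finset.sum_congr rfl fun C _ => h C, Finset.sum_ite, Finset.sum_const_zero, add_zero,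
    Finset.sum_const, nsmul_eq_mul, mul_comm, Nat.card_eq_fintype_card (α := {C // P C}),
    Fintype.card_subtype]

/-- Brauer's permutation lemma. -/
theorem brauer_permutation (σ : IrrCharacter G ≃ IrrCharacter G)
    (τ : ConjClasses G → ConjClasses G)
    (h : ∀ (χ : IrrCharacter G) (g g' : G), ConjClasses.mk g' = τ (ConjClasses.mk g) →
      (σ χ : G → ℂ) g' = (χ : G → ℂ) g) :
    Nat.card {χ : IrrCharacter G // σ χ = χ} = Nat.card {C : ConjClasses G // τ C = C} := by
  classical
  have key : ∀ g : G, (if τ (ConjClasses.mk g) = ConjClasses.mk g then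
      (Nat.card (Subgroup.centralizer ({g} : Set G)) : ℂ) else 0) =
      ∑ χ : IrrCharacter G, (χ : G → ℂ) g * conj ((σ χ : G → ℂ) g) := by
    intro g
    obtain ⟨g', hg'⟩ := ConjClasses.mk_surjective (τ (ConjClasses.mk g))
    have h1 := column_orthogonality g' g
    rw [← Equiv.sum_comp σ] at h1
    rw [Finset.sum_congr rfl fun χ _ => by rw [h χ g g' hg']] at h1
    rw [h1]
    have hiff : τ (ConjClasses.mk g) = ConjClasses.mk g ↔ IsConj g' g := by
      rw [← hg']
      exact ConjClasses.mk_eq_mk_iff_isConj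
    by_cases hc : IsConj g' g
    · rw [if_pos (hiff.mpr hc), if_pos hc]
      have h2 := column_orthogonality g g
      have h3 := column_orthogonality g' g'
      rw [if_pos (IsConj.refl _)] at h2 h3
      rw [← h2, ← h3]
      refine Finset.sum_congr rfl fun χ _ => ?_
      rw [isClassFunction_isConj (isClassFunction_of_isIrr χ.2) hc]
    · rw [if_neg (mt hiff.mp hc), if_neg hc]
  have hs := card_classes_filter (G := G) (fun C => τ C = C)
  rw [Finset.sum_congr rfl (g := fun g => ∑ χ : IrrCharacter G,
    (χ : G → ℂ) g * conj ((σ χ : G → ℂ) g)) (fun g _ => by convert key g using 2),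
    Finset.sum_comm] at hs
  have hin : ∀ χ : IrrCharacter G, ∑ g : G, (χ : G → ℂ) g * conj ((σ χ : G → ℂ) g) =
      (Nat.card G : ℂ) * if σ χ = χ then 1 else 0 := by
    intro χ
    have e := irr_inner_subtype χ (σ χ)
    rw [classInner] at e
    have hG : (Nat.card G : ℂ) ≠ 0 := card_ne_zero
    rw [inv_mul_eq_iff_eq_mul₀ hG] at e
    rw [e]
    congr 1
    exact if_congr eq_comm rfl rfl
  simp only [hin, ← Finset.mul_sum, Finset.sum_boole] at hs
  rw [← Fintype.card_subtype, ← Nat.card_eq_fintype_card] at hs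
  exact_mod_cast mul_left_cancel₀ card_ne_zero hs

/-- Class multiplication coefficients. -/
theorem class_mul_formula (a b c : G) :
    (Nat.card {p : G × G // IsConj a p.1 ∧ IsConj b p.2 ∧ p.1 * p.2 = c} : ℂ) =
      (Nat.card {x : G // IsConj a x} : ℂ) * (Nat.card {x : G // IsConj b x} : ℂ) /
        (Nat.card G : ℂ) * ∑ χ : IrrCharacter G,
          (χ : G → ℂ) a * (χ : G → ℂ) b * conj ((χ : G → ℂ) c) / (χ : G → ℂ) 1 := by
  classical
  let N : G → ℂ := fun z =>
    ∑ x : G, ∑ y : G, if IsConj a x ∧ IsConj b y ∧ x * y = z then 1 else 0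
  have hN : ∀ z, N z =
      (Nat.card {p : G × G // IsConj a p.1 ∧ IsConj b p.2 ∧ p.1 * p.2 = z} : ℂ) := by
    intro z
    rw [Nat.card_eq_fintype_card, Fintype.card_subtype, Finset.card_filter, Nat.cast_sum,
      Fintype.sum_prod_type]
    simp [N]
  have hconj : ∀ (u x w : G), IsConj u (w * x * w⁻¹) ↔ IsConj u x := fun u x w =>
    ⟨fun h => h.trans (isConj_iff.mpr ⟨w, rfl⟩).symm, fun h => h.trans (isConj_iff.mpr ⟨w, rfl⟩)⟩
  have hcf : IsClassFunction G N := by
    intro z w
    simp only [N]
    symm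
    refine Fintype.sum_equiv (MulAut.conj w).toEquiv _ _ fun x => ?_
    refine Fintype.sum_equiv (MulAut.conj w).toEquiv _ _ fun y => ?_
    simp only [MulEquiv.toEquiv_eq_coe, EquivLike.coe_coe, MulAut.conj_apply]
    refine if_congr ?_ rfl rfl
    rw [hconj, hconj, show w * x * w⁻¹ * (w * y * w⁻¹) = w * (x * y) * w⁻¹ by group,
      mul_left_inj, mul_right_inj]
  have hinner : ∀ χ : IrrCharacter G, classInner N χ = (Nat.card G : ℂ)⁻¹ *
      conj ((Nat.card {x : G // IsConj a x} : ℂ) * (Nat.card {x : G // IsConj b x} : ℂ) *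
        ((χ : G → ℂ) a * (χ : G → ℂ) b / (χ : G → ℂ) 1)) := by
    intro χ
    rw [classInner]
    congr 1
    obtain ⟨n, ρ, hρ, hχ⟩ := χ.2
    rw [← hχ]
    have hcl : ∀ u : G, ∑ x : G, (if IsConj u x then (1 : ℂ) else 0) • ρ x =
        ((Nat.card {x : G // IsConj u x} : ℂ) * ρ.character u / (n : ℂ)) • LinearMap.id := by
      intro u
      have h := weighted_sum_scalar ρ (f := fun x => if IsConj u x then (1 : ℂ) else 0)
        (fun x w => if_congr (hconj u x w) rfl rfl)
      rw [h, Module.finrank_fin_fun]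
      congr 2
      rw [Nat.card_eq_fintype_card, Fintype.card_subtype, Finset.card_filter, Nat.cast_sum,
        Finset.sum_mul]
      refine Finset.sum_congr rfl fun x _ => ?_
      by_cases hx : IsConj u x
      · simp only [if_pos hx, Nat.cast_one, one_mul]
        exact (isClassFunction_isConj (fun p q => ρ.char_conj p q) hx).symm
      · simp only [if_neg hx, Nat.cast_zero, zero_mul]
    have hn : ρ.character 1 = (n : ℂ) := by simp [Representation.char_one]
    have htr : ∑ x : G, ∑ y : G, (if IsConj a x then (1 : ℂ) else 0) *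
        (if IsConj b y then 1 else 0) * ρ.character (x * y) =
        (Nat.card {x : G // IsConj a x} : ℂ) * (Nat.card {x : G // IsConj b x} : ℂ) *
          (ρ.character a * ρ.character b / ρ.character 1) := by
      have h := congrArg (LinearMap.trace ℂ _) (congrArg₂ (· * ·) (hcl a) (hcl b))
      rw [Finset.sum_mul_sum] at h
      simp only [map_sum, smul_mul_smul_comm, map_smul, ← map_mul, smul_eq_mul] at h
      refine h.trans ?_
      rw [show (LinearMap.id : (Fin n → ℂ) →ₗ[ℂ] (Fin n → ℂ)) * LinearMap.id = LinearMap.id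
        from rfl, LinearMap.trace_id, Module.finrank_fin_fun, hn]
      have : (n : ℂ) ≠ 0 := by
        have := finrank_pos_of_irreducible ρ
        rw [Module.finrank_fin_fun] at this
        exact_mod_cast this.ne'
      field_simp
    rw [← htr, map_sum]
    simp only [N, Finset.sum_mul, map_sum]
    rw [Finset.sum_comm]
    refine Finset.sum_congr rfl fun x _ => ?_
    rw [Finset.sum_comm]
    refine Finset.sum_congr rfl fun y _ => ?_
    by_cases hx : IsConj a x
    · by_cases hy : IsConj b y
      · simp only [hx, hy, true_and, ite_mul, one_mul, zero_mul, Finset.sum_ite_eq,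
          Finset.mem_univ, if_true]
      · simp only [hy, false_and, and_false, if_false, mul_zero, zero_mul, map_zero,
          Finset.sum_const_zero]
    · simp only [hx, false_and, if_false, zero_mul, map_zero, Finset.sum_const_zero]
  have hval := congrFun (classFunction_eq_sum hcf) c
  simp only [Finset.sum_apply, Pi.smul_apply, smul_eq_mul, hinner] at hval
  have h2 : conj (N c) = N c := by rw [hN c]; exact map_natCast _ _
  rw [← hN c, ← h2, hval, map_sum, Finset.mul_sum]
  refine Finset.sum_congr rfl fun χ _ => ?_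
  simp only [map_mul, map_inv₀, map_natCast, Complex.conj_conj]
  ring

theorem conj_irr_involutive :
    Function.Involutive fun χ : IrrCharacter G =>
      (⟨fun g => conj ((χ : G → ℂ) g), conj_irr χ.2⟩ : IrrCharacter G) := fun χ =>
  Subtype.ext (funext fun g => Complex.conj_conj _)

/-- Complex conjugation as a permutation of the irreducible characters. -/
noncomputable def conjEquiv : IrrCharacter G ≃ IrrCharacter G :=
  conj_irr_involutive.toPerm _

theorem conjEquiv_apply (χ : IrrCharacter G) (g : G) :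
    (conjEquiv χ : G → ℂ) g = conj ((χ : G → ℂ) g) := rfl

theorem conjEquiv_conjEquiv (χ : IrrCharacter G) : conjEquiv (conjEquiv χ) = χ :=
  conj_irr_involutive χ

theorem card_real_irr :
    Nat.card {χ : IrrCharacter G // ∀ g : G, ((χ : G → ℂ) g).im = 0} =
      Nat.card {C : ConjClasses G // ∀ g : G, ConjClasses.mk g = C → IsConj g g⁻¹} := by
  let τ : ConjClasses G → ConjClasses G := fun C => ConjClasses.mk (Quotient.out C)⁻¹
  have hτ : ∀ g : G, τ (ConjClasses.mk g) = ConjClasses.mk g⁻¹ := by
    intro g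
    have h : IsConj (Quotient.out (ConjClasses.mk g)) g :=
      Quotient.exact (s := IsConj.setoid G) (Quotient.out_eq (ConjClasses.mk g))
    obtain ⟨c, hc⟩ := isConj_iff.mp h
    exact ConjClasses.mk_eq_mk_iff_isConj.mpr (isConj_iff.mpr ⟨c, by rw [← conj_inv, hc]⟩)
  have h := brauer_permutation conjEquiv τ fun χ g g' e => by
    rw [hτ, ConjClasses.mk_eq_mk_iff_isConj] at e
    rw [conjEquiv_apply, isClassFunction_isConj (isClassFunction_of_isIrr χ.2) e,
      char_inv_eq_conj (isCharacter_of_isIrr χ.2), Complex.conj_conj]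
  refine (Nat.card_congr (Equiv.subtypeEquivRight fun χ => ?_)).trans
    (h.trans (Nat.card_congr (Equiv.subtypeEquivRight fun C => ?_)))
  · rw [Subtype.ext_iff, funext_iff]
    exact forall_congr' fun g => by rw [conjEquiv_apply, Complex.conj_eq_iff_im]
  · obtain ⟨g₀, rfl⟩ := ConjClasses.mk_surjective C
    rw [hτ]
    refine ⟨fun e g hg => ?_, fun e => ?_⟩
    · have h1 := ConjClasses.mk_eq_mk_iff_isConj.mp hg
      obtain ⟨c, hc⟩ := isConj_iff.mp h1
      have h2 : IsConj g⁻¹ g₀⁻¹ := isConj_iff.mpr ⟨c, by rw [← conj_inv, hc]⟩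
      exact h1.trans ((ConjClasses.mk_eq_mk_iff_isConj.mp e).symm.trans h2.symm)
    · exact ConjClasses.mk_eq_mk_iff_isConj.mpr (e g₀ rfl).symm

omit [Fintype G] in
theorem eq_one_of_conj_inv_of_odd [Finite G] (hodd : Odd (Nat.card G)) {g : G}
    (h : IsConj g g⁻¹) : g = 1 := by
  obtain ⟨c, hc⟩ := isConj_iff.mp h
  have h2 : Commute (c ^ 2) g := by
    have e : c * g⁻¹ * c⁻¹ = g := by
      rw [show c * g⁻¹ * c⁻¹ = (c * g * c⁻¹)⁻¹ by group, hc, inv_inv]
    have e2 : c ^ 2 * g * (c ^ 2)⁻¹ = g := by
      rw [show c ^ 2 * g * (c ^ 2)⁻¹ = c * (c * g * c⁻¹) * c⁻¹ by rw [pow_two]; group, hc, e]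
    exact mul_inv_eq_iff_eq_mul.mp e2
  obtain ⟨r, hr⟩ : Odd (orderOf c) := hodd.of_dvd_nat (orderOf_dvd_natCard c)
  have h3 : c = (c ^ 2) ^ (r + 1) := by
    rw [← pow_mul, show 2 * (r + 1) = orderOf c + 1 by omega, pow_succ, pow_orderOf_eq_one,
      one_mul]
  have h4 : Commute c g := by rw [h3]; exact h2.pow_left _
  have h5 : g⁻¹ = g := by rw [← hc, h4.eq, mul_inv_cancel_right]
  have h6 : g ^ 2 = 1 := by rw [pow_two]; nth_rw 1 [← h5]; exact inv_mul_cancel g
  obtain ⟨s, hs⟩ : Odd (orderOf g) := hodd.of_dvd_nat (orderOf_dvd_natCard g)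
  have h7 := pow_orderOf_eq_one g
  rw [hs, pow_add, pow_one, pow_mul, h6, one_pow, one_mul] at h7
  exact h7

omit [Fintype G] in
theorem real_irr_eq_one_of_odd [Finite G] (hodd : Odd (Nat.card G)) {χ : IrrCharacter G}
    (hreal : ∀ g : G, ((χ : G → ℂ) g).im = 0) : χ = trivIrr G := by
  haveI := Fintype.ofFinite G
  have h := card_real_irr (G := G)
  have h1 : Nat.card {C : ConjClasses G // ∀ g : G, ConjClasses.mk g = C → IsConj g g⁻¹} = 1 := by
    refine Nat.card_eq_one_iff_unique.mpr ⟨⟨fun C D => ?_⟩, ⟨⟨ConjClasses.mk 1, fun g hg => ?_⟩⟩⟩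
    · obtain ⟨c, hc⟩ := ConjClasses.mk_surjective C.1
      obtain ⟨d, hd⟩ := ConjClasses.mk_surjective D.1
      apply Subtype.ext
      rw [← hc, ← hd, eq_one_of_conj_inv_of_odd hodd (C.2 c hc),
        eq_one_of_conj_inv_of_odd hodd (D.2 d hd)]
    · have := ConjClasses.mk_eq_mk_iff_isConj.mp hg
      rw [isConj_one_left] at this
      subst this
      simp
  rw [h1] at h
  obtain ⟨hs, -⟩ := Nat.card_eq_one_iff_unique.mp h
  exact congrArg Subtype.val (@Subsingleton.elim _ hs ⟨χ, hreal⟩ ⟨trivIrr G, fun g => by simp⟩)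

end Perm

section Product

variable {H : Type v} [Group H]

theorem isCharacter_prodFun {φ : G → ℂ} {ψ : H → ℂ} (hφ : IsCharacter G φ) (hψ : IsCharacter H ψ) :
    IsCharacter (G × H) (fun x => φ x.1 * ψ x.2) :=
  isCharacter_mul (isCharacter_comp (MonoidHom.fst G H) hφ)
    (isCharacter_comp (MonoidHom.snd G H) hψ)

variable [Fintype G] [Fintype H]

theorem classInner_prodFun (φ φ' : G → ℂ) (ψ ψ' : H → ℂ) :
    classInner (fun x : G × H => φ x.1 * ψ x.2) (fun x : G × H => φ' x.1 * ψ' x.2) =
      classInner φ φ' * classInner ψ ψ' := by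
  simp only [classInner, Nat.card_prod, Nat.cast_mul, mul_inv, Fintype.sum_prod_type, map_mul]
  rw [show ∀ a b c d : ℂ, a * b * (c * d) = (a * c) * (b * d) from fun a b c d => by ring,
    Finset.sum_mul_sum, Finset.mul_sum, Finset.mul_sum]
  refine Finset.sum_congr rfl fun x _ => ?_
  rw [Finset.mul_sum, Finset.mul_sum]
  refine Finset.sum_congr rfl fun y _ => ?_
  ring

theorem isIrr_prod_iff (θ : G × H → ℂ) :
    IsIrrCharacter (G × H) θ ↔
      ∃ (φ : G → ℂ) (ψ : H → ℂ), IsIrrCharacter G φ ∧ IsIrrCharacter H ψ ∧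
        θ = fun x => φ x.1 * ψ x.2 := by
  constructor
  · intro hθ
    by_contra hne
    push Not at hne
    have hcf := isClassFunction_of_isIrr hθ
    have hzero : ∀ (φ : IrrCharacter G) (ψ : IrrCharacter H),
        classInner θ (fun x : G × H => (φ : G → ℂ) x.1 * (ψ : H → ℂ) x.2) = 0 := fun φ ψ =>
      irr_inner_of_ne hθ (isIrr_of_inner_self
        (isCharacter_prodFun (isCharacter_of_isIrr φ.2) (isCharacter_of_isIrr ψ.2))
        (by rw [classInner_prodFun, irr_inner_self φ.2, irr_inner_self ψ.2, mul_one]))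
        (hne _ _ φ.2 ψ.2)
    have h1 : ∀ (ψ : IrrCharacter H) (g : G),
        classInner (fun h => θ (g, h)) (ψ : H → ℂ) = 0 := by
      intro ψ g
      refine congrFun (classFunction_eq_zero (f := fun g => classInner (fun h => θ (g, h))
        (ψ : H → ℂ)) ?_ ?_) g
      · intro a x
        simp only [classInner]
        congr 1
        refine Finset.sum_congr rfl fun h _ => ?_
        congr 1
        simpa using hcf (a, h) (x, 1)
      · intro φ hφ
        rw [← hzero ⟨φ, hφ⟩ ψ]
        simp only [classInner, Nat.card_prod, Nat.cast_mul, mul_inv, Fintype.sum_prod_type, map_mul,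
          Finset.mul_sum, Finset.sum_mul]
        refine Finset.sum_congr rfl fun a _ => Finset.sum_congr rfl fun h _ => ?_
        ring
    refine irr_one_ne_zero hθ ?_
    have h2 : (fun h => θ (1, h)) = 0 := by
      refine classFunction_eq_zero ?_ fun ψ hψ => h1 ⟨ψ, hψ⟩ 1
      intro h x
      simpa using hcf (1, h) (1, x)
    exact congrFun h2 1
  · rintro ⟨φ, ψ, hφ, hψ, rfl⟩
    exact isIrr_of_inner_self
      (isCharacter_prodFun (isCharacter_of_isIrr hφ) (isCharacter_of_isIrr hψ))
      (by rw [classInner_prodFun, irr_inner_self hφ, irr_inner_self hψ, mul_one])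

end Product

end Cfsg.Agent.CT
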