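import Cfsg.Agent.Lib.CT.Basic
import Mathlib.GroupTheory.GroupAction.ConjAct
import Mathlib.GroupTheory.Index

/-!
# Ordinary character theory: orthogonality relations and decomposition
-/

namespace Cfsg.Agent.CT

open scoped ComplexConjugate
open Representation Module

universe u v w

section Inner

variable {G : Type u} [Group G] [Fintype G]

theorem card_ne_zero : (Nat.card G : ℂ) ≠ 0 := Nat.cast_ne_zero.mpr Nat.card_pos.ne'

/-- `classInner` as a bare average; the `Fintype` instance does not matter. -/
theorem classInner_eq_finsum (φ ψ : G → ℂ) :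
    classInner φ ψ = (Nat.card G : ℂ)⁻¹ * ∑ᶠ g : G, φ g * conj (ψ g) := by
  rw [classInner, finsum_eq_sum_of_fintype]

theorem classInner_add_left (a b ψ : G → ℂ) :
    classInner (a + b) ψ = classInner a ψ + classInner b ψ := by
  simp [classInner, add_mul, Finset.sum_add_distrib, mul_add]

theorem classInner_add_right (φ a b : G → ℂ) :
    classInner φ (a + b) = classInner φ a + classInner φ b := by
  simp [classInner, mul_add, Finset.sum_add_distrib]

theorem classInner_smul_left (c : ℂ) (φ ψ : G → ℂ) :
    classInner (c • φ) ψ = c * classInner φ ψ := by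
  simp [classInner, Finset.mul_sum, mul_assoc, mul_left_comm]

theorem classInner_smul_right (c : ℂ) (φ ψ : G → ℂ) :
    classInner φ (c • ψ) = conj c * classInner φ ψ := by
  simp [classInner, Finset.mul_sum, mul_left_comm]

@[simp] theorem classInner_zero_left (ψ : G → ℂ) : classInner 0 ψ = 0 := by simp [classInner]

@[simp] theorem classInner_zero_right (φ : G → ℂ) : classInner φ 0 = 0 := by simp [classInner]

theorem classInner_neg_left (φ ψ : G → ℂ) : classInner (-φ) ψ = -classInner φ ψ := by
  simp [classInner]

theorem classInner_neg_right (φ ψ : G → ℂ) : classInner φ (-ψ) = -classInner φ ψ := by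
  simp [classInner]

theorem classInner_sub_left (a b ψ : G → ℂ) :
    classInner (a - b) ψ = classInner a ψ - classInner b ψ := by
  rw [sub_eq_add_neg, classInner_add_left, classInner_neg_left, sub_eq_add_neg]

theorem classInner_sub_right (φ a b : G → ℂ) :
    classInner φ (a - b) = classInner φ a - classInner φ b := by
  rw [sub_eq_add_neg, classInner_add_right, classInner_neg_right, sub_eq_add_neg]

theorem classInner_sum_left {ι : Type w} (s : Finset ι) (f : ι → G → ℂ) (ψ : G → ℂ) :
    classInner (∑ i ∈ s, f i) ψ = ∑ i ∈ s, classInner (f i) ψ := by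
  simp only [classInner, Finset.sum_apply, Finset.sum_mul, Finset.mul_sum]
  exact Finset.sum_comm

theorem classInner_sum_right {ι : Type w} (s : Finset ι) (φ : G → ℂ) (f : ι → G → ℂ) :
    classInner φ (∑ i ∈ s, f i) = ∑ i ∈ s, classInner φ (f i) := by
  simp only [classInner, Finset.sum_apply, map_sum, Finset.mul_sum]
  exact Finset.sum_comm

theorem classInner_conj_symm (φ ψ : G → ℂ) : conj (classInner φ ψ) = classInner ψ φ := by
  simp [classInner, mul_comm]

theorem classInner_self (φ : G → ℂ) :
    classInner φ φ = (((Nat.card G : ℝ)⁻¹ * ∑ g : G, ‖φ g‖ ^ 2 : ℝ) : ℂ) := by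
  simp [classInner, Complex.mul_conj']

theorem classInner_self_eq_zero {φ : G → ℂ} (h : classInner φ φ = 0) : φ = 0 := by
  rw [classInner_self, Complex.ofReal_eq_zero] at h
  have h0 : (Nat.card G : ℝ)⁻¹ ≠ 0 := inv_ne_zero (Nat.cast_ne_zero.mpr Nat.card_pos.ne')
  have h1 := (mul_eq_zero.mp h).resolve_left h0
  rw [Finset.sum_eq_zero_iff_of_nonneg fun g _ => sq_nonneg _] at h1
  funext g
  simpa using h1 g (Finset.mem_univ g)

theorem classInner_char_char {V : Type v} {W : Type w} [AddCommGroup V] [Module ℂ V]
    [FiniteDimensional ℂ V] [AddCommGroup W] [Module ℂ W] [FiniteDimensional ℂ W]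
    (σ : Representation ℂ G W) (ρ : Representation ℂ G V) :
    classInner σ.character ρ.character = finrank ℂ (IntertwiningMap ρ σ) := by
  haveI := invertibleOfNonzero (card_ne_zero (G := G))
  rw [← card_inv_mul_sum_char_mul_char_eq_finrank ρ σ, classInner]
  simp [char_inv]

theorem classInner_character_nat {φ ψ : G → ℂ} (h1 : IsCharacter G φ) (h2 : IsCharacter G ψ) :
    ∃ n : ℕ, classInner φ ψ = n := by
  obtain ⟨n, σ, rfl⟩ := h1
  obtain ⟨m, ρ, rfl⟩ := h2
  exact ⟨_, classInner_char_char σ ρ⟩

theorem classInner_comm_of_char {φ ψ : G → ℂ} (h1 : IsCharacter G φ) (h2 : IsCharacter G ψ) :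
    classInner φ ψ = classInner ψ φ := by
  obtain ⟨n, hn⟩ := classInner_character_nat h2 h1
  rw [← classInner_conj_symm ψ φ, hn]
  simp

theorem irr_inner_self {χ : G → ℂ} (h : IsIrrCharacter G χ) : classInner χ χ = 1 := by
  obtain ⟨n, ρ, hρ, rfl⟩ := h
  rw [classInner_char_char, IsIrreducible.finrank_intertwiningMap_self ρ]
  simp

theorem irr_inner_of_ne {χ ψ : G → ℂ} (hχ : IsIrrCharacter G χ) (hψ : IsIrrCharacter G ψ)
    (hne : χ ≠ ψ) : classInner χ ψ = 0 := by
  obtain ⟨n, σ, hσ, rfl⟩ := hχ
  obtain ⟨m, ρ, hρ, rfl⟩ := hψ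
  have : IsEmpty (ρ.Equiv σ) := ⟨fun e => hne (Representation.char_iso e).symm⟩
  rw [classInner_char_char, finrank_eq_zero_of_subsingleton]
  simp

open Classical in
theorem irr_inner {χ ψ : G → ℂ} (hχ : IsIrrCharacter G χ) (hψ : IsIrrCharacter G ψ) :
    classInner χ ψ = if χ = ψ then 1 else 0 := by
  split_ifs with h
  · exact h ▸ irr_inner_self hχ
  · exact irr_inner_of_ne hχ hψ h

open Classical in
theorem irr_inner_subtype (χ ψ : IrrCharacter G) :
    classInner (χ : G → ℂ) ψ = if χ = ψ then 1 else 0 := by
  rw [irr_inner χ.2 ψ.2]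
  simp [Subtype.ext_iff]

theorem irr_linearIndependent_aux :
    LinearIndependent ℂ (fun χ : IrrCharacter G => (χ : G → ℂ)) := by
  classical
  rw [linearIndependent_iff']
  intro s c hsum i hi
  have := congrArg (fun f => classInner f (i : G → ℂ)) hsum
  simpa [classInner_sum_left, classInner_smul_left, irr_inner_subtype, hi] using this

end Inner

theorem irr_linearIndependent (G : Type u) [Group G] [Finite G] :
    LinearIndependent ℂ (fun χ : IrrCharacter G => (χ : G → ℂ)) :=
  have := Fintype.ofFinite G
  irr_linearIndependent_aux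

theorem irr_finite (G : Type u) [Group G] [Finite G] : Finite (IrrCharacter G) :=
  have := (irr_linearIndependent G).finite
  this

/-- The irreducible characters form a finite type. -/
noncomputable instance irrFintype (G : Type u) [Group G] [Finite G] : Fintype (IrrCharacter G) :=
  haveI := irr_finite G
  Fintype.ofFinite _

/-- The trivial character, as an element of `IrrCharacter G`. -/
def trivIrr (G : Type u) [Group G] : IrrCharacter G := ⟨fun _ => 1, isIrrCharacter_one⟩

@[simp] theorem trivIrr_apply (G : Type u) [Group G] (g : G) : (trivIrr G : G → ℂ) g = 1 := rfl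

/-- A linear character, as an element of `IrrCharacter G`. -/
def linIrr {G : Type u} [Group G] (lam : G →* ℂˣ) : IrrCharacter G :=
  ⟨fun g => (lam g : ℂ), isIrrCharacter_lin lam⟩

section Complete

variable {G : Type u} [Group G] [Fintype G]

theorem weighted_sum_commute {V : Type v} [AddCommGroup V] [Module ℂ V]
    (ρ : Representation ℂ G V) {f : G → ℂ} (hf : IsClassFunction G f) (h : G) :
    ρ h * (∑ g, f g • ρ g⁻¹) = (∑ g, f g • ρ g⁻¹) * ρ h := by
  rw [Finset.mul_sum, Finset.sum_mul]
  refine Fintype.sum_equiv (MulAut.conj h).toEquiv _ _ fun g => ?_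
  simp only [MulEquiv.toEquiv_eq_coe, MulEquiv.coe_toEquiv, MulAut.conj_apply,
    mul_smul_comm, smul_mul_assoc, ← map_mul, hf g h]
  simp [mul_assoc]

/-- A commuting endomorphism of an irreducible representation is the scalar `trace / degree`. -/
theorem eq_scalar_of_commute {V : Type v} [AddCommGroup V] [Module ℂ V] [FiniteDimensional ℂ V]
    (ρ : Representation ℂ G V) [ρ.IsIrreducible] (T : Module.End ℂ V)
    (hT : ∀ g, T * ρ g = ρ g * T) :
    T = (LinearMap.trace ℂ V T / (finrank ℂ V : ℂ)) • LinearMap.id := by
  let φ : IntertwiningMap ρ ρ := LinearMap.intertwiningMap_of_isIntertwiningMap ρ ρ T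
    fun g v => LinearMap.congr_fun (hT g) v
  obtain ⟨c, hc⟩ := (IsIrreducible.algebraMap_intertwiningMap_bijective_of_isAlgClosed (ρ := ρ)).2 φ
  have hT' : T = c • LinearMap.id := by
    have := congrArg IntertwiningMap.toLinearMap hc.symm
    rw [Algebra.algebraMap_eq_smul_one] at this
    exact this
  have hn : (finrank ℂ V : ℂ) ≠ 0 := Nat.cast_ne_zero.mpr (finrank_pos_of_irreducible ρ).ne'
  conv_rhs => rw [hT']
  rw [map_smul, LinearMap.trace_id, smul_eq_mul, mul_div_assoc, div_self hn, mul_one]
  exact hT'

theorem weighted_sum_eq_zero {f : G → ℂ} (hf : IsClassFunction G f)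
    (h0 : ∀ χ : G → ℂ, IsIrrCharacter G χ → classInner f χ = 0) (n : ℕ) :
    ∀ (V : Type v) [AddCommGroup V] [Module ℂ V] [FiniteDimensional ℂ V]
      (ρ : Representation ℂ G V), finrank ℂ V = n → ∑ g, f g • ρ g⁻¹ = 0 := by
  induction n using Nat.strong_induction_on with
  | _ n ih =>
    intro V _ _ _ ρ hn
    by_cases hirr : ρ.IsIrreducible
    · rw [eq_scalar_of_commute ρ _ fun h => (weighted_sum_commute ρ hf h).symm]
      have : LinearMap.trace ℂ V (∑ g, f g • ρ g⁻¹) = 0 := by
        rw [map_sum]
        have h1 := h0 _ (isIrrCharacter_character ρ)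
        rw [classInner, mul_eq_zero] at h1
        have h2 := h1.resolve_left (inv_ne_zero card_ne_zero)
        rw [← h2]
        refine Finset.sum_congr rfl fun g _ => ?_
        rw [map_smul, smul_eq_mul, ← char_inv ρ g]
        rfl
      rw [this, zero_div, zero_smul]
    · rcases subsingleton_or_nontrivial V with hV | hV
      · exact LinearMap.ext fun v => Subsingleton.elim _ _
      · obtain ⟨W, hW, hWne⟩ : ∃ W : Submodule ℂ V, (∀ g, ∀ v ∈ W, ρ g v ∈ W) ∧
            ¬(W = ⊥ ∨ W = ⊤) := by
          by_contra hh
          exact hirr ((isIrreducible_iff ρ).mpr ⟨hV, fun W hW => by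
            by_contra h'
            exact hh ⟨W, hW, h'⟩⟩)
        rw [not_or] at hWne
        obtain ⟨W', hWW', hW'⟩ := exists_isCompl_invariant ρ W hW
        have hW'ne : W' ≠ ⊤ := by
          rintro rfl
          exact hWne.1 (by simpa using hWW'.inf_eq_bot)
        have key : ∀ U : Submodule ℂ V, ∀ hU : (∀ g, ∀ v ∈ U, ρ g v ∈ U), U ≠ ⊤ →
            ∀ x ∈ U, (∑ g, f g • ρ g⁻¹) x = 0 := by
          intro U hU hne x hx
          have h1 := ih _ (hn ▸ Submodule.finrank_lt hne) U (restrictSub ρ U hU) rfl
          have h2 := congrArg Subtype.val (LinearMap.congr_fun h1 ⟨x, hx⟩)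
          simpa [LinearMap.sum_apply, Subrepresentation.toRepresentation] using h2
        refine LinearMap.ext fun v => ?_
        obtain ⟨a, ha, b, hb, rfl⟩ := Submodule.mem_sup.mp
          (show v ∈ W ⊔ W' by rw [hWW'.sup_eq_top]; trivial)
        rw [map_add, key W hW hWne.2 a ha, key W' hW' hW'ne b hb]
        simp

end Complete

/-- The permutation representation on functions. -/
noncomputable def permRep (G : Type u) [Group G] (X : Type v) [MulAction G X] :
    Representation ℂ G (X → ℂ) where
  toFun g := LinearMap.funLeft ℂ ℂ fun x : X => g⁻¹ • x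
  map_one' := by ext; simp [LinearMap.funLeft]
  map_mul' g h := by ext; simp [LinearMap.funLeft, mul_smul]

theorem permRep_apply {G : Type u} [Group G] {X : Type v} [MulAction G X] (g : G) (F : X → ℂ)
    (x : X) : permRep G X g F x = F (g⁻¹ • x) := rfl

theorem permRep_character {G : Type u} [Group G] {X : Type v} [MulAction G X] [Finite X] (g : G) :
    (permRep G X).character g = Nat.card (MulAction.fixedBy X g) := by
  classical
  haveI := Fintype.ofFinite X
  show LinearMap.trace ℂ _ (permRep G X g) = _
  rw [LinearMap.trace_eq_matrix_trace ℂ (Pi.basisFun ℂ X), Matrix.trace,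
    Nat.card_eq_fintype_card, Fintype.card_of_subtype (Finset.univ.filter fun x : X => g • x = x)
      (fun x => by simp [MulAction.mem_fixedBy])]
  rw [Finset.card_filter, Nat.cast_sum]
  refine Finset.sum_congr rfl fun x _ => ?_
  rw [Matrix.diag_apply, LinearMap.toMatrix_apply, Pi.basisFun_repr, Pi.basisFun_apply,
    permRep_apply, Pi.single_apply]
  push_cast
  refine if_congr ?_ rfl rfl
  rw [inv_smul_eq_iff]
  exact eq_comm

theorem isCharacter_perm {G : Type u} [Group G] (X : Type v) [MulAction G X] [Finite X] :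
    IsCharacter G (fun g => (Nat.card (MulAction.fixedBy X g) : ℂ)) := by
  haveI := Fintype.ofFinite X
  have := isCharacter_character (permRep G X)
  rwa [show (permRep G X).character = _ from funext permRep_character] at this

section Decompose

variable {G : Type u} [Group G] [Fintype G]

theorem classFunction_eq_zero {f : G → ℂ} (hf : IsClassFunction G f)
    (h0 : ∀ χ : G → ℂ, IsIrrCharacter G χ → classInner f χ = 0) : f = 0 := by
  classical
  have h1 := weighted_sum_eq_zero hf h0 _ (G → ℂ) (permRep G G) rfl
  funext x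
  have h2 := congrFun (LinearMap.congr_fun h1 (Pi.single 1 1)) x⁻¹
  simpa [LinearMap.sum_apply, Finset.sum_apply, permRep_apply, Pi.single_apply,
    mul_inv_eq_one] using h2

theorem isClassFunction_sum {ι : Type w} (s : Finset ι) {f : ι → G → ℂ}
    (h : ∀ i ∈ s, IsClassFunction G (f i)) : IsClassFunction G (∑ i ∈ s, f i) := by
  intro g x
  simp only [Finset.sum_apply]
  exact Finset.sum_congr rfl fun i hi => h i hi g x

/-- A class function is the combination of irreducible characters given by inner products. -/
theorem classFunction_eq_sum {f : G → ℂ} (hf : IsClassFunction G f) :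
    f = ∑ χ : IrrCharacter G, classInner f χ • (χ : G → ℂ) := by
  classical
  refine eq_of_sub_eq_zero (classFunction_eq_zero ?_ fun ψ hψ => ?_)
  · intro g x
    simp only [Pi.sub_apply, Finset.sum_apply, Pi.smul_apply, hf g x]
    congr 1
    exact Finset.sum_congr rfl fun χ _ => by rw [isClassFunction_of_isIrr χ.2 g x]
  · rw [classInner_sub_left, classInner_sum_left]
    simp only [classInner_smul_left]
    rw [Finset.sum_eq_single (⟨ψ, hψ⟩ : IrrCharacter G)]
    · rw [irr_inner_self hψ, mul_one, sub_self]
    · intro b _ hb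
      rw [irr_inner_of_ne b.2 hψ fun h => hb (Subtype.ext h), mul_zero]
    · simp

theorem classFunction_ext {f g : G → ℂ} (hf : IsClassFunction G f) (hg : IsClassFunction G g)
    (h : ∀ χ : IrrCharacter G, classInner f χ = classInner g χ) : f = g := by
  rw [classFunction_eq_sum hf, classFunction_eq_sum hg]
  simp only [h]

theorem classInner_eq_sum {f g : G → ℂ} (hg : IsClassFunction G g) :
    classInner f g = ∑ χ : IrrCharacter G, classInner f χ * conj (classInner g χ) := by
  conv_lhs => rw [classFunction_eq_sum hg]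
  rw [classInner_sum_right]
  simp [classInner_smul_right, mul_comm]

/-- The multiplicity of `χ` in a character `θ`. -/
noncomputable def mult (θ χ : G → ℂ) : ℕ := ⌊(classInner θ χ).re⌋₊

theorem mult_spec {θ χ : G → ℂ} (hθ : IsCharacter G θ) (hχ : IsCharacter G χ) :
    classInner θ χ = (mult θ χ : ℂ) := by
  obtain ⟨n, hn⟩ := classInner_character_nat hθ hχ
  simp [mult, hn]

/-- A character is a non-negative integral combination of irreducible characters. -/
theorem character_eq_sum {θ : G → ℂ} (hθ : IsCharacter G θ) :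
    θ = ∑ χ : IrrCharacter G, (mult θ χ : ℂ) • (χ : G → ℂ) := by
  conv_lhs => rw [classFunction_eq_sum (isClassFunction_of_isCharacter hθ)]
  exact Finset.sum_congr rfl fun χ _ => by rw [mult_spec hθ (isCharacter_of_isIrr χ.2)]

theorem isCharacter_iff {θ : G → ℂ} :
    IsCharacter G θ ↔ IsClassFunction G θ ∧
      ∀ χ : IrrCharacter G, ∃ n : ℕ, classInner θ χ = n := by
  constructor
  · exact fun h => ⟨isClassFunction_of_isCharacter h,
      fun χ => classInner_character_nat h (isCharacter_of_isIrr χ.2)⟩
  · rintro ⟨h, hn⟩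
    choose n hn using hn
    rw [classFunction_eq_sum h]
    exact isCharacter_sum _ fun χ _ => hn χ ▸ isCharacter_nsmul _ (isCharacter_of_isIrr χ.2)

/-- A character of norm one is irreducible. -/
theorem isIrr_of_inner_self {θ : G → ℂ} (hθ : IsCharacter G θ) (h : classInner θ θ = 1) :
    IsIrrCharacter G θ := by
  classical
  have hs := character_eq_sum hθ
  have hsum : ((∑ χ : IrrCharacter G, mult θ χ ^ 2 : ℕ) : ℂ) = ((1 : ℕ) : ℂ) := by
    rw [Nat.cast_one, ← h, classInner_eq_sum (isClassFunction_of_isCharacter hθ), Nat.cast_sum]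
    refine Finset.sum_congr rfl fun χ _ => ?_
    rw [mult_spec hθ (isCharacter_of_isIrr χ.2)]
    simp [pow_two]
  have hsum' := Nat.cast_injective hsum
  obtain ⟨χ₀, hχ₀⟩ : ∃ χ : IrrCharacter G, mult θ χ ≠ 0 := by
    by_contra hh
    push_neg at hh
    simp [hh] at hsum'
  have hrest : ∀ χ : IrrCharacter G, χ ≠ χ₀ → mult θ χ = 0 := by
    intro χ hχ
    by_contra hne
    have := Finset.sum_le_sum_of_subset (f := fun c : IrrCharacter G => mult θ c ^ 2)
      (Finset.subset_univ {χ₀, χ})
    rw [Finset.sum_pair hχ.symm, hsum'] at this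
    have a1 := Nat.one_le_pow 2 _ (Nat.pos_of_ne_zero hne)
    have a2 := Nat.one_le_pow 2 _ (Nat.pos_of_ne_zero hχ₀)
    omega
  have h1 : mult θ χ₀ ^ 2 = 1 := by
    rw [← hsum', Finset.sum_eq_single χ₀ (fun b _ hb => by simp [hrest b hb]) (by simp)]
  have h2 : mult θ χ₀ = 1 := by simpa using h1
  rw [hs, Finset.sum_eq_single χ₀ (fun b _ hb => by simp [hrest b hb]) (by simp), h2]
  simpa using χ₀.2

theorem isIrrCharacter_iff {θ : G → ℂ} :
    IsIrrCharacter G θ ↔ IsCharacter G θ ∧ classInner θ θ = 1 :=
  ⟨fun h => ⟨isCharacter_of_isIrr h, irr_inner_self h⟩, fun h => isIrr_of_inner_self h.1 h.2⟩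

theorem exists_constituent {θ : G → ℂ} (hθ : IsCharacter G θ) (h : θ ≠ 0) :
    ∃ χ : IrrCharacter G, classInner θ χ ≠ 0 := by
  by_contra hh
  push_neg at hh
  exact h (classFunction_eq_zero (isClassFunction_of_isCharacter hθ) fun χ hχ => hh ⟨χ, hχ⟩)

theorem eq_of_inner_ne_zero {χ ψ : G → ℂ} (hχ : IsIrrCharacter G χ) (hψ : IsIrrCharacter G ψ)
    (h : classInner χ ψ ≠ 0) : χ = ψ :=
  by_contra fun hne => h (irr_inner_of_ne hχ hψ hne)

theorem constituent_deg_le {θ : G → ℂ} (hθ : IsCharacter G θ) (χ : IrrCharacter G) :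
    mult θ χ * deg (χ : G → ℂ) ≤ deg θ := by
  have h := congrFun (character_eq_sum hθ) 1
  rw [deg_eq hθ, Finset.sum_apply] at h
  simp only [Pi.smul_apply, smul_eq_mul] at h
  rw [Finset.sum_congr rfl fun c _ => by rw [deg_eq (isCharacter_of_isIrr c.2)]] at h
  have h' : deg θ = ∑ c : IrrCharacter G, mult θ c * deg (c : G → ℂ) := by exact_mod_cast h
  rw [h']
  exact Finset.single_le_sum (f := fun c : IrrCharacter G => mult θ c * deg (c : G → ℂ))
    (fun c _ => Nat.zero_le _) (Finset.mem_univ χ)

end Decompose

section Columns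

variable {G : Type u} [Group G] [Fintype G]

theorem card_conj_class_mul_centralizer (h : G) :
    Nat.card {x : G // IsConj h x} * Nat.card (Subgroup.centralizer ({h} : Set G)) = Nat.card G := by
  classical
  have e1 : Nat.card {x : G // IsConj h x} = Nat.card (MulAction.orbit (ConjAct G) h) := by
    refine Nat.card_congr (Equiv.subtypeEquivRight fun x => ?_)
    rw [ConjAct.mem_orbit_conjAct]
    exact isConj_comm
  have e2 : Nat.card (Subgroup.centralizer ({h} : Set G)) =
      Nat.card (MulAction.stabilizer (ConjAct G) h) := by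
    refine Nat.card_congr ?_
    refine ConjAct.toConjAct.toEquiv.subtypeEquiv fun g => ?_
    simp [Subgroup.mem_centralizer_singleton_iff, ConjAct.smul_def, mul_inv_eq_iff_eq_mul]
  rw [e1, e2]
  have := MulAction.card_orbit_mul_card_stabilizer_eq_card_group (ConjAct G) h
  simpa [Nat.card_eq_fintype_card, ConjAct.card] using this

theorem card_conj_class (h : G) :
    Nat.card {x : G // IsConj h x} = (Subgroup.centralizer ({h} : Set G)).index := by
  have h1 := card_conj_class_mul_centralizer h
  rw [← (Subgroup.centralizer ({h} : Set G)).index_mul_card] at h1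
  exact Nat.eq_of_mul_eq_mul_right Nat.card_pos h1

open Classical in
/-- Second orthogonality relation. -/
theorem column_orthogonality (g h : G) :
    ∑ χ : IrrCharacter G, (χ : G → ℂ) g * conj ((χ : G → ℂ) h) =
      if IsConj g h then (Nat.card (Subgroup.centralizer ({g} : Set G)) : ℂ) else 0 := by
  let δ : G → ℂ := fun x => if IsConj h x then 1 else 0
  have hδ : IsClassFunction G δ := by
    intro x y
    have : IsConj h (y * x * y⁻¹) ↔ IsConj h x := by
      have hxy : IsConj x (y * x * y⁻¹) := isConj_iff.mpr ⟨y, rfl⟩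
      exact ⟨fun a => a.trans hxy.symm, fun a => a.trans hxy⟩
    exact if_congr this rfl rfl
  have hinner : ∀ χ : IrrCharacter G, classInner δ χ =
      (Nat.card G : ℂ)⁻¹ * (Nat.card {x : G // IsConj h x} : ℂ) * conj ((χ : G → ℂ) h) := by
    intro χ
    rw [classInner, mul_assoc]
    congr 1
    rw [Nat.card_eq_fintype_card, Fintype.card_subtype, Finset.card_filter, Nat.cast_sum,
      Finset.sum_mul]
    refine Finset.sum_congr rfl fun x _ => ?_
    by_cases hx : IsConj h x
    · simp only [δ, if_pos hx, isClassFunction_isConj (isClassFunction_of_isIrr χ.2) hx,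
        Nat.cast_one, one_mul]
    · simp only [δ, if_neg hx, Nat.cast_zero, zero_mul]
  have hg := congrFun (classFunction_eq_sum hδ) g
  simp only [Finset.sum_apply, Pi.smul_apply, smul_eq_mul, hinner] at hg
  have hcard : ((Nat.card {x : G // IsConj h x} : ℂ) *
      Nat.card (Subgroup.centralizer ({h} : Set G))) = Nat.card G := by
    exact_mod_cast card_conj_class_mul_centralizer h
  have hk : (Nat.card {x : G // IsConj h x} : ℂ) ≠ 0 := by
    intro e
    rw [e, zero_mul] at hcard
    exact card_ne_zero hcard.symm
  have hsum : ∑ χ : IrrCharacter G, (χ : G → ℂ) g * conj ((χ : G → ℂ) h) =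
      δ g * Nat.card (Subgroup.centralizer ({h} : Set G)) := by
    rw [hg, Finset.sum_mul]
    refine Finset.sum_congr rfl fun χ _ => ?_
    have hC : (Nat.card (Subgroup.centralizer ({h} : Set G)) : ℂ) ≠ 0 :=
      Nat.cast_ne_zero.mpr Nat.card_pos.ne'
    rw [← hcard]
    field_simp
  rw [hsum]
  by_cases hgh : IsConj g h
  · have h1 := card_conj_class_mul_centralizer g
    have h2 := card_conj_class_mul_centralizer h
    have h3 : Nat.card {x : G // IsConj g x} = Nat.card {x : G // IsConj h x} :=
      Nat.card_congr (Equiv.subtypeEquivRight fun x =>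
        ⟨fun a => hgh.symm.trans a, fun a => hgh.trans a⟩)
    rw [h3, ← h2] at h1
    have hpos : 0 < Nat.card {x : G // IsConj h x} :=
      Nat.pos_of_ne_zero fun e => hk (by rw [e]; simp)
    have h4 := Nat.eq_of_mul_eq_mul_left hpos h1
    simp only [δ, if_pos hgh, if_pos hgh.symm, one_mul, h4]
  · have : ¬IsConj h g := fun a => hgh a.symm
    simp only [δ, if_neg hgh, if_neg this, zero_mul]

theorem sum_degree_sq : ∑ χ : IrrCharacter G, (χ : G → ℂ) 1 ^ 2 = (Nat.card G : ℂ) := by
  classical
  have h := column_orthogonality (1 : G) 1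
  rw [if_pos (IsConj.refl 1)] at h
  have : Subgroup.centralizer ({1} : Set G) = ⊤ := by
    ext x; simp [Subgroup.mem_centralizer_singleton_iff]
  rw [this, Nat.card_congr Subgroup.topEquiv.toEquiv] at h
  rw [← h]
  refine Finset.sum_congr rfl fun χ _ => ?_
  rw [deg_eq (isCharacter_of_isIrr χ.2)]
  simp [pow_two]

theorem regular_eq_sum [DecidableEq G] (g : G) :
    ∑ χ : IrrCharacter G, (χ : G → ℂ) 1 * (χ : G → ℂ) g =
      if g = 1 then (Nat.card G : ℂ) else 0 := by
  classical
  have h := column_orthogonality g (1 : G)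
  have hsum : ∑ χ : IrrCharacter G, (χ : G → ℂ) 1 * (χ : G → ℂ) g =
      ∑ χ : IrrCharacter G, (χ : G → ℂ) g * conj ((χ : G → ℂ) 1) :=
    Finset.sum_congr rfl fun χ _ => by
      rw [deg_eq (isCharacter_of_isIrr χ.2)]
      simp [mul_comm]
  rw [hsum, h]
  rcases eq_or_ne g 1 with rfl | hg
  · have : Subgroup.centralizer ({1} : Set G) = ⊤ := by
      ext x; simp [Subgroup.mem_centralizer_singleton_iff]
    rw [if_pos (IsConj.refl 1), if_pos rfl, this, Nat.card_congr Subgroup.topEquiv.toEquiv]
  · rw [if_neg hg, if_neg fun c => hg (isConj_one_left.mp c)]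

theorem isConj_iff_forall_irr {g h : G} :
    IsConj g h ↔ ∀ χ : IrrCharacter G, (χ : G → ℂ) g = (χ : G → ℂ) h := by
  classical
  refine ⟨fun hc χ => isClassFunction_isConj (isClassFunction_of_isIrr χ.2) hc, fun he => ?_⟩
  by_contra hne
  have h1 := column_orthogonality g h
  rw [if_neg hne] at h1
  have h2 := column_orthogonality h h
  rw [if_pos (IsConj.refl h)] at h2
  rw [Finset.sum_congr rfl fun χ _ => by rw [he χ], h2] at h1
  exact Nat.card_pos.ne' (Nat.cast_eq_zero.mp h1)

end Columns

/-- Class functions, viewed on conjugacy classes: as many irreducibles as classes. -/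
theorem card_irr_eq_card_conjClasses (G : Type u) [Group G] [Finite G] :
    Nat.card (IrrCharacter G) = Nat.card (ConjClasses G) := by
  classical
  haveI := Fintype.ofFinite G
  let L : (ConjClasses G → ℂ) →ₗ[ℂ] (G → ℂ) := LinearMap.funLeft ℂ ℂ ConjClasses.mk
  have hL : Function.Injective L :=
    LinearMap.funLeft_injective_of_surjective _ _ _ ConjClasses.mk_surjective
  have hmem : ∀ χ : IrrCharacter G, ∃ c, L c = (χ : G → ℂ) := fun χ =>
    ⟨fun C => Quotient.liftOn C (χ : G → ℂ)
      (fun a b hab => isClassFunction_isConj (isClassFunction_of_isIrr χ.2) hab),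
      funext fun g => rfl⟩
  choose c hc using hmem
  have hli : LinearIndependent ℂ c :=
    LinearIndependent.of_comp L (by
      have : L ∘ c = fun χ : IrrCharacter G => (χ : G → ℂ) := funext hc
      rw [this]
      exact irr_linearIndependent G)
  have hspan : ⊤ ≤ Submodule.span ℂ (Set.range c) := by
    intro f _
    have hf : IsClassFunction G (L f) := by
      intro g x
      show f (ConjClasses.mk _) = f (ConjClasses.mk _)
      rw [ConjClasses.mk_eq_mk_iff_isConj.mpr (isConj_iff.mpr ⟨x, rfl⟩ : IsConj g (x * g * x⁻¹))]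
    have he : f = ∑ χ : IrrCharacter G, classInner (L f) χ • c χ := by
      refine hL ?_
      rw [map_sum]
      simp only [map_smul, hc]
      exact classFunction_eq_sum hf
    rw [he]
    exact Submodule.sum_mem _ fun χ _ => Submodule.smul_mem _ _ (Submodule.subset_span ⟨χ, rfl⟩)
  have hb := Module.finrank_eq_nat_card_basis (Basis.mk hli hspan)
  haveI : Finite (ConjClasses G) := Finite.of_surjective _ ConjClasses.mk_surjective
  haveI := Fintype.ofFinite (ConjClasses G)
  rw [← hb, Module.finrank_fintype_fun_eq_card, Nat.card_eq_fintype_card]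

/-- Representations with equal characters are equivalent. -/
theorem nonempty_equiv_of_character_eq {G : Type u} [Group G] [Finite G] (n : ℕ) :
    ∀ {V : Type v} {W : Type w} [AddCommGroup V] [Module ℂ V] [FiniteDimensional ℂ V]
      [AddCommGroup W] [Module ℂ W] [FiniteDimensional ℂ W]
      (ρ : Representation ℂ G V) (σ : Representation ℂ G W),
      finrank ℂ V = n → ρ.character = σ.character → Nonempty (ρ.Equiv σ) := by
  haveI := Fintype.ofFinite G
  induction n using Nat.strong_induction_on with
  | _ n ih =>
    intro V W _ _ _ _ _ _ ρ σ hn h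
    have hdim : finrank ℂ V = finrank ℂ W := by
      have := congrFun h 1
      simpa [Representation.char_one] using this
    rcases Nat.eq_zero_or_pos n with rfl | hpos
    · haveI : Subsingleton V := Module.finrank_zero_iff.mp hn
      haveI : Subsingleton W := Module.finrank_zero_iff.mp (hdim ▸ hn)
      exact ⟨Representation.Equiv.mk 0 fun g => LinearMap.ext fun v => Subsingleton.elim _ _⟩
    · -- a minimal invariant submodule
      obtain ⟨A, ⟨hA, hAne⟩, hAmin⟩ := WellFounded.has_min (InvImage.wf
          (fun U : Submodule ℂ V => finrank ℂ U) (Nat.lt_wfRel.wf))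
        {U : Submodule ℂ V | (∀ g, ∀ v ∈ U, ρ g v ∈ U) ∧ U ≠ ⊥}
        ⟨⊤, fun _ _ _ => trivial, by
          intro e
          have h1 := finrank_top ℂ V
          rw [e, finrank_bot] at h1
          omega⟩
      haveI hAirr : (restrictSub ρ A hA).IsIrreducible := by
        refine (isIrreducible_iff _).mpr ⟨Submodule.nontrivial_iff_ne_bot.mpr hAne, fun U hU => ?_⟩
        by_contra hh
        push_neg at hh
        refine hAmin (U.map A.subtype) ⟨?_, ?_⟩ ?_
        · rintro g v ⟨u, hu, rfl⟩
          exact ⟨_, hU g u hu, rfl⟩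
        · intro e
          exact hh.1 (Submodule.map_injective_of_injective A.injective_subtype (by rw [e]; simp))
        · show finrank ℂ (U.map A.subtype) < finrank ℂ A
          rw [Submodule.finrank_map_subtype_eq]
          exact Submodule.finrank_lt hh.2
      obtain ⟨A', hAA', hA'⟩ := exists_isCompl_invariant ρ A hA
      have hpair : classInner σ.character (restrictSub ρ A hA).character ≠ 0 := by
        rw [← h, char_isCompl ρ hAA' hA hA', classInner_add_left,
          irr_inner_self (isIrrCharacter_character _), classInner_char_char]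
        rw [← Nat.cast_one, ← Nat.cast_add, Nat.cast_ne_zero]
        omega
      rw [classInner_char_char, Nat.cast_ne_zero] at hpair
      obtain ⟨φ, hφ⟩ : ∃ φ : IntertwiningMap (restrictSub ρ A hA) σ, φ ≠ 0 := by
        by_contra hh
        push_neg at hh
        haveI : Subsingleton (IntertwiningMap (restrictSub ρ A hA) σ) :=
          ⟨fun a b => (hh a).trans (hh b).symm⟩
        exact hpair (finrank_eq_zero_of_subsingleton ℂ _)
      have hinj := (IsIrreducible.injective_or_eq_zero φ).resolve_right hφ
      let B : Submodule ℂ W := LinearMap.range φ.toLinearMap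
      have hB : ∀ g, ∀ v ∈ B, σ g v ∈ B := φ.range.apply_mem_toSubmodule
      obtain ⟨B', hBB', hB'⟩ := exists_isCompl_invariant σ B hB
      let eAB : A ≃ₗ[ℂ] B := LinearEquiv.ofInjective φ.toLinearMap hinj
      let φ' : (restrictSub ρ A hA).Equiv (restrictSub σ B hB) :=
        Representation.Equiv.mk eAB fun g => LinearMap.ext fun v =>
          Subtype.ext (φ.isIntertwining _ _ g v)
      have hlt : finrank ℂ A' < n := by
        have := Submodule.finrank_add_eq_of_isCompl hAA'
        have : 0 < finrank ℂ A := finrank_pos_of_irreducible (restrictSub ρ A hA)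
        omega
      have hrest : (restrictSub ρ A' hA').character = (restrictSub σ B' hB').character := by
        have := h
        rw [char_isCompl ρ hAA' hA hA', char_isCompl σ hBB' hB hB',
          Representation.char_iso φ'] at this
        exact add_left_cancel this
      obtain ⟨ψ⟩ := ih _ hlt (restrictSub ρ A' hA') (restrictSub σ B' hB') rfl hrest
      let eV := Submodule.prodEquivOfIsCompl A A' hAA'
      let eW := Submodule.prodEquivOfIsCompl B B' hBB'
      refine ⟨Representation.Equiv.mk (eV.symm.trans ((eAB.prodCongr ψ.toLinearEquiv).trans eW))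
        fun g => LinearMap.ext fun v => ?_⟩
      obtain ⟨⟨a, b⟩, rfl⟩ := eV.surjective v
      have hrep : ρ g (eV (a, b)) = eV (restrictSub ρ A hA g a, restrictSub ρ A' hA' g b) := by
        simp [eV, Subrepresentation.toRepresentation, map_add]
      simp only [LinearMap.comp_apply, LinearEquiv.coe_coe, LinearEquiv.trans_apply, hrep,
        LinearEquiv.symm_apply_apply, LinearEquiv.prodCongr_apply]
      simp only [eW, Submodule.coe_prodEquivOfIsCompl', map_add]
      exact congrArg₂ (· + ·) (φ.isIntertwining _ _ g a)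
        (congrArg Subtype.val (ψ.toIntertwiningMap.isIntertwining _ _ g b))

theorem equiv_of_character_eq {G : Type u} [Group G] [Finite G] {V : Type v} {W : Type w}
    [AddCommGroup V] [Module ℂ V] [FiniteDimensional ℂ V]
    [AddCommGroup W] [Module ℂ W] [FiniteDimensional ℂ W]
    (ρ : Representation ℂ G V) (σ : Representation ℂ G W) (h : ρ.character = σ.character) :
    Nonempty (ρ.Equiv σ) :=
  nonempty_equiv_of_character_eq _ ρ σ rfl h

theorem isIrreducible_of_isIrrCharacter {G : Type u} [Group G] [Finite G] {V : Type v}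
    [AddCommGroup V] [Module ℂ V] [FiniteDimensional ℂ V] (ρ : Representation ℂ G V)
    (h : IsIrrCharacter G ρ.character) : ρ.IsIrreducible := by
  obtain ⟨n, σ, hσ, e⟩ := h
  obtain ⟨f⟩ := equiv_of_character_eq σ ρ e
  exact isIrreducible_of_equiv σ ρ f

end Cfsg.Agent.CT
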