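import Cfsg.Agent.Lib.CT.Quasielementary
import Cfsg.Agent.Lib.CT.Clifford
import Cfsg.Agent.Lib.CT.Kernel
import Mathlib.GroupTheory.Nilpotent

/-!
# Brauer induction and Brauer's characterisation of characters
-/

namespace Cfsg.Agent.CT

open scoped ComplexConjugate

universe u v

section Monomial

/-- An irreducible representation with commuting image is one-dimensional. -/
theorem degree_one_of_commute {G : Type u} [Group G] {n : ℕ}
    (ρ : Representation ℂ G (Fin n → ℂ)) [hρ : ρ.IsIrreducible]
    (hc : ∀ g, ∃ c : ℂ, ρ g = c • LinearMap.id) : n = 1 := by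
  obtain ⟨hV, h⟩ := (isIrreducible_iff ρ).mp hρ
  obtain ⟨v, hv⟩ := @exists_ne _ hV (0 : Fin n → ℂ)
  have h1 := h (Submodule.span ℂ {v}) fun g w hw => by
    obtain ⟨c, hc⟩ := hc g
    rw [hc]
    exact Submodule.smul_mem _ c hw
  rcases h1 with e | e
  · simp [hv] at e
  · have h2 := finrank_span_singleton (K := ℂ) hv
    rw [e, finrank_top, Module.finrank_fin_fun] at h2
    exact h2

theorem indFun_top {G : Type u} [Group G] [Fintype G] {χ : G → ℂ} (hχ : IsClassFunction G χ) :
    indFun (⊤ : Subgroup G) (fun x : (⊤ : Subgroup G) => χ x) = χ := by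
  funext g
  have : ∀ x : G, extendByZero (⊤ : Subgroup G) (fun x : (⊤ : Subgroup G) => χ x) (x⁻¹ * g * x)
      = χ g := fun x => by
    rw [extendByZero_mem _ _ (Subgroup.mem_top _)]
    simpa using hχ g x⁻¹
  simp only [indFun, this, Finset.sum_const, Finset.card_univ, nsmul_eq_mul,
    ← Nat.card_eq_fintype_card, Nat.card_congr Subgroup.topEquiv.toEquiv]
  rw [← mul_assoc, inv_mul_cancel₀ card_ne_zero, one_mul]

theorem nilpotent_monomial_aux (n : ℕ) : ∀ (G : Type u) [Group G] [Fintype G] [Group.IsNilpotent G]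
    (χ : G → ℂ), Nat.card G = n → IsIrrCharacter G χ →
      ∃ (H : Subgroup G) (lam : H →* ℂˣ), χ = indFun H (fun h => (lam h : ℂ)) := by
  induction n using Nat.strong_induction_on with
  | _ n ih =>
    intro G _ _ _ χ hn hχ
    classical
    obtain ⟨d, ρ, hρ, rfl⟩ := id hχ
    let S : Subgroup G :=
      { carrier := {g | ∃ c : ℂ, ρ g = c • LinearMap.id}
        one_mem' := ⟨1, by rw [map_one, one_smul]; rfl⟩
        mul_mem' := fun {a b} ⟨c, hc⟩ ⟨c', hc'⟩ => ⟨c * c', by
          rw [map_mul, hc, hc']; ext; simp; ring⟩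
        inv_mem' := fun {a} ⟨c, hc⟩ => ⟨c ^ (orderOf a - 1), by
          have hinv : a⁻¹ = a ^ (orderOf a - 1) := by
            apply inv_eq_of_mul_eq_one_right
            rw [← pow_succ', Nat.sub_add_cancel (orderOf_pos a), pow_orderOf_eq_one]
          rw [hinv, map_pow, hc, smul_pow]
          congr 1
          exact one_pow _⟩ }
    by_cases hS : S = ⊤
    · have hd := degree_one_of_commute ρ fun g => (hS ▸ Subgroup.mem_top g : g ∈ S)
      obtain ⟨lam, hlam⟩ := exists_hom_of_degree_one (isCharacter_character ρ)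
        (by rw [Representation.char_one]; simp [hd])
      refine ⟨⊤, lam.comp (Subgroup.subtype ⊤), ?_⟩
      conv_lhs => rw [← indFun_top (isClassFunction_of_isCharacter (isCharacter_character ρ))]
      rw [hlam]
      rfl
    · haveI : S.Normal := ⟨fun g hg x => by
        obtain ⟨c, hc⟩ := hg
        refine ⟨c, ?_⟩
        have hxx : ρ x * ρ x⁻¹ = 1 := by rw [← map_mul, mul_inv_cancel, map_one]
        rw [map_mul, map_mul, hc, mul_smul_comm, smul_mul_assoc]
        congr 1⟩
      have hQ : Nontrivial (G ⧸ S) := by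
        by_contra hh
        rw [not_nontrivial_iff_subsingleton] at hh
        refine hS (eq_top_iff.mpr fun g _ => ?_)
        exact (QuotientGroup.eq_one_iff g).mp (Subsingleton.elim _ _)
      haveI : Nontrivial (Subgroup.center (G ⧸ S)) :=
        (Subgroup.nontrivial_iff_ne_bot _).mpr (Group.IsNilpotent.center_ne_bot _)
      obtain ⟨z, hz⟩ := exists_ne (1 : Subgroup.center (G ⧸ S))
      obtain ⟨a, ha⟩ := QuotientGroup.mk'_surjective S (z : G ⧸ S)
      have haS : a ∉ S := fun h => hz (Subtype.ext (by
        rw [← ha]; exact (QuotientGroup.eq_one_iff a).mpr h))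
      set A : Subgroup G := S ⊔ Subgroup.zpowers a with hA
      have hcomm : ∀ g : G, g * a * g⁻¹ * a⁻¹ ∈ S := fun g => by
        refine (QuotientGroup.eq_one_iff _).mp ?_
        have hc := Subgroup.mem_center_iff.mp z.2 (QuotientGroup.mk g : G ⧸ S)
        rw [← ha, QuotientGroup.mk'_apply] at hc
        simp only [QuotientGroup.mk_mul, QuotientGroup.mk_inv, hc, mul_inv_cancel_right,
          mul_inv_cancel]
      haveI hAn : A.Normal := by
        refine ⟨fun x hx g => ?_⟩
        have hle : A ≤ A.comap (MulAut.conj g).toMonoidHom := by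
          refine sup_le (fun s hs => ?_) (Subgroup.zpowers_le.mpr ?_)
          · exact Subgroup.mem_sup_left ((inferInstance : S.Normal).conj_mem s hs g)
          · show g * a * g⁻¹ ∈ A
            rw [show g * a * g⁻¹ = g * a * g⁻¹ * a⁻¹ * a by group]
            exact A.mul_mem (Subgroup.mem_sup_left (hcomm g))
              (Subgroup.mem_sup_right (Subgroup.mem_zpowers a))
        exact hle hx
      have hAcomm : ∀ x ∈ A, ∀ y ∈ A, ρ (x * y) = ρ (y * x) := by
        have h1 : ∀ s ∈ S, ∀ g, ρ (s * g) = ρ (g * s) := by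
          rintro s ⟨c, hc⟩ g
          rw [map_mul, map_mul, hc]; ext; simp
        intro x hx y hy
        obtain ⟨s, hs, _, ⟨i, rfl⟩, rfl⟩ := Subgroup.mem_sup_of_normal_left.mp hx
        obtain ⟨t, ht, _, ⟨j, rfl⟩, rfl⟩ := Subgroup.mem_sup_of_normal_left.mp hy
        have e : ∀ p q : G, ρ p = ρ q → ∀ r r', ρ (r * p * r') = ρ (r * q * r') :=
          fun p q h r r' => by simp only [map_mul, h]
        simp only
        calc ρ (s * a ^ i * (t * a ^ j)) = ρ (s * (a ^ i * t) * a ^ j) := by simp only [mul_assoc]
          _ = ρ (s * (t * a ^ i) * a ^ j) := e _ _ (h1 t ht _).symm _ _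
          _ = ρ (1 * (s * t) * a ^ (i + j)) := by simp only [one_mul, zpow_add, mul_assoc]
          _ = ρ (1 * (t * s) * a ^ (i + j)) := e _ _ (h1 s hs t) _ _
          _ = ρ (t * (s * a ^ j) * a ^ i) := by
            rw [add_comm i j]; simp only [one_mul, zpow_add, mul_assoc]
          _ = ρ (t * (a ^ j * s) * a ^ i) := e _ _ (h1 s hs _) _ _
          _ = _ := by simp only [mul_assoc]
      obtain ⟨φ, hφ⟩ := exists_constituent_restrict A hχ
      by_cases hT : inertia A (φ : A → ℂ) = ⊤
      · exfalso
        have hres := restrict_eq_smul_of_invariant A hχ φ.2 hφ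
          fun g => (hT ▸ Subgroup.mem_top g : g ∈ inertia A (φ : A → ℂ))
        set e := classInner (fun n : A => ρ.character n) (φ : A → ℂ)
        let f : A →* Module.End ℂ (Fin d → ℂ) := ρ.comp A.subtype
        have hker : ∀ k ∈ f.ker, (φ : A → ℂ) k = (φ : A → ℂ) 1 := by
          intro k hk
          have h2 : ρ (k : G) = 1 := hk
          have h3 : e * (φ : A → ℂ) k = e * (φ : A → ℂ) 1 := by
            have hk1 := congrFun hres k
            have h11 := congrFun hres 1
            simp only [Pi.smul_apply, smul_eq_mul] at hk1 h11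
            rw [← hk1, ← h11]
            simp [Representation.character, h2]
          exact mul_left_cancel₀ hφ h3
        obtain ⟨φb, hφb, hφe⟩ := exists_quotient_irr φ.2 f.ker hker
        have hb1 : φb 1 = 1 := by
          refine irr_degree_one_of_comm (fun x y => ?_) hφb
          induction x using QuotientGroup.induction_on with | _ x =>
          induction y using QuotientGroup.induction_on with | _ y =>
          refine QuotientGroup.eq.mpr ?_
          rw [MonoidHom.mem_ker]
          show ρ (((x * y : A) : G)⁻¹ * ((y * x : A) : G)) = 1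
          rw [map_mul, Subgroup.coe_mul, Subgroup.coe_mul, ← hAcomm x x.2 y y.2, ← map_mul,
            inv_mul_cancel, map_one]
        have hφ1 : (φ : A → ℂ) 1 = 1 := by rw [← hφe 1]; simpa using hb1
        obtain ⟨lam, hlam⟩ := exists_hom_of_degree_one (isCharacter_of_isIrr φ.2) hφ1
        have haA : a ∈ A := Subgroup.mem_sup_right (Subgroup.mem_zpowers a)
        have hea := congrFun hres ⟨a, haA⟩
        have he1 := congrFun hres 1
        simp only [Pi.smul_apply, smul_eq_mul, hφ1, mul_one, OneMemClass.coe_one,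
          Representation.char_one] at he1 hea
        refine haS ⟨_, scalar_of_norm_eq ρ ?_⟩
        have hn1 : ‖(lam ⟨a, haA⟩ : ℂ)‖ = 1 := by
          refine Complex.norm_eq_one_of_pow_eq_one (n := orderOf (⟨a, haA⟩ : A)) ?_ (orderOf_pos _).ne'
          rw [← Units.val_pow_eq_pow_val, ← map_pow, pow_orderOf_eq_one, map_one, Units.val_one]
        rw [hea, ← he1, norm_mul, Complex.norm_natCast, hlam, hn1, mul_one]
      · set T := inertia A (φ : A → ℂ) with hTdef
        obtain ⟨ψ, hψ, hψi, -⟩ := exists_correspondent A φ.2 T hTdef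
          (le_inertia A (isClassFunction_of_isIrr φ.2)) hχ hφ
        have hlt : Nat.card T < n := by
          rw [← hn]
          exact lt_of_le_of_ne (Nat.le_of_dvd Nat.card_pos T.card_subgroup_dvd_card)
            (fun e => hT (Subgroup.eq_top_of_card_eq T e))
        obtain ⟨H, lam, hH⟩ := ih _ hlt T ψ rfl hψ
        let e : H ≃* H.map T.subtype := H.equivMapOfInjective T.subtype T.subtype_injective
        refine ⟨H.map T.subtype, lam.comp e.symm.toMonoidHom, ?_⟩
        rw [← hψi, hH, ← indFun_map T H]
        congr 1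
        congr 1
        funext x
        have : (⟨((x : T) : G), ⟨(x : T), x.2, rfl⟩⟩ : H.map T.subtype) = e x :=
          Subtype.ext rfl
        rw [this]
        simp

/-- A finite nilpotent group is monomial. -/
theorem nilpotent_monomial {G : Type u} [Group G] [Fintype G] [Group.IsNilpotent G] {χ : G → ℂ}
    (hχ : IsIrrCharacter G χ) :
    ∃ (H : Subgroup G) (lam : H →* ℂˣ), χ = indFun H (fun h => (lam h : ℂ)) :=
  nilpotent_monomial_aux _ G χ rfl hχ

end Monomial

section Elementary

theorem normal_of_central {G : Type u} [Group G] (H : Subgroup G) (h : H ≤ Subgroup.center G) :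
    H.Normal :=
  ⟨fun x hx g => by rwa [Subgroup.mem_center_iff.mp (h hx) g, mul_inv_cancel_right]⟩

theorem isElementary_congr {A : Type u} {B : Type v} [Group A] [Group B] (e : A ≃* B) {p : ℕ}
    (h : IsElementary p A) : IsElementary p B := by
  obtain ⟨x, hx, hcop, k, hk⟩ := h
  refine ⟨e x, ?_, ?_, k, ?_⟩
  · rw [Subgroup.mem_center_iff] at hx ⊢
    intro b
    obtain ⟨a, rfl⟩ := e.surjective b
    rw [← map_mul, ← map_mul, hx a]
  · rwa [MulEquiv.orderOf_eq]
  · rw [← hk]
    have : Subgroup.zpowers (e x) = (Subgroup.zpowers x).map e.toMonoidHom :=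
      (MonoidHom.map_zpowers e.toMonoidHom x).symm
    rw [this]
    exact Subgroup.index_map_equiv _ e

theorem isNilpotent_of_isElementary {E : Type u} [Group E] [Finite E] {p : ℕ} (hp : p.Prime)
    (h : IsElementary p E) : Group.IsNilpotent E := by
  haveI := Fact.mk hp
  obtain ⟨x, hx, -, k, hk⟩ := h
  refine Group.of_quotient_center_nilpotent ?_
  have hd : (Subgroup.center E).index ∣ p ^ k :=
    hk ▸ Subgroup.index_dvd_of_le (Subgroup.zpowers_le.mpr hx)
  rw [Subgroup.index_eq_card] at hd
  exact (IsPGroup.of_card_dvd_pow hd).isNilpotent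

theorem isElementary_subgroup {E : Type u} [Group E] [Finite E] {p : ℕ} (hp : p.Prime)
    (h : IsElementary p E) (H : Subgroup E) : IsElementary p H := by
  obtain ⟨x, hx, hcop, k, hk⟩ := h
  haveI : (Subgroup.zpowers x).Normal := normal_of_central _ (Subgroup.zpowers_le.mpr hx)
  haveI : IsCyclic ((Subgroup.zpowers x).subgroupOf H) := by
    refine isCyclic_of_injective (f := ?_) ?_ (G' := Subgroup.zpowers x)
    · exact { toFun := fun y => ⟨((y : H) : E), y.2⟩, map_one' := rfl, map_mul' := fun _ _ => rfl }
    · intro a b hab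
      exact Subtype.ext (Subtype.ext (congrArg Subtype.val hab : _))
  obtain ⟨w, hw⟩ := IsCyclic.exists_generator (α := (Subgroup.zpowers x).subgroupOf H)
  refine ⟨(w : H), ?_, ?_, ?_⟩
  · rw [Subgroup.mem_center_iff]
    intro y
    refine Subtype.ext ?_
    have : ((w : H) : E) ∈ Subgroup.center E := Subgroup.zpowers_le.mpr hx w.2
    exact Subgroup.mem_center_iff.mp this y
  · refine hcop.coprime_dvd_left ?_
    rw [← Nat.card_zpowers x, ← Subgroup.orderOf_coe]
    have h1 : ((w : H) : E) ∈ Subgroup.zpowers x := w.2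
    have h2 := orderOf_dvd_natCard (⟨_, h1⟩ : Subgroup.zpowers x)
    rwa [← Subgroup.orderOf_coe] at h2
  · have hz : Subgroup.zpowers (w : H) = (Subgroup.zpowers x).subgroupOf H := by
      refine le_antisymm (Subgroup.zpowers_le.mpr w.2) fun y hy => ?_
      obtain ⟨i, hi⟩ := Subgroup.mem_zpowers_iff.mp (hw ⟨y, hy⟩)
      exact Subgroup.mem_zpowers_iff.mpr ⟨i, congrArg Subtype.val hi⟩
    rw [hz]
    have h1 := (Subgroup.zpowers x).relIndex_dvd_index_of_normal H
    rw [hk] at h1
    obtain ⟨j, -, hj⟩ := (Nat.dvd_prime_pow hp).mp h1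
    exact ⟨j, hj⟩

/-- Integral combinations of characters induced from `p`-elementary subgroups. -/
def elemGen (p : ℕ) (G : Type u) [Group G] [Fintype G] : AddSubgroup (G → ℂ) :=
  AddSubgroup.closure
    {f | ∃ (E : Subgroup G) (θ : E → ℂ), IsElementary p E ∧ IsCharacter E θ ∧ f = indFun E θ}

variable {G : Type u} [Group G] [Fintype G] {p : ℕ}

theorem elemGen_le_isGen {f : G → ℂ} (hf : f ∈ elemGen p G) : IsGeneralizedCharacter G f := by
  induction hf using AddSubgroup.closure_induction with
  | mem f hf =>
    obtain ⟨E, θ, -, hθ, rfl⟩ := hf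
    exact isGen_of_isCharacter (isCharacter_indFun E hθ)
  | zero => exact isGen_zero
  | add a b _ _ iha ihb => exact isGen_add iha ihb
  | neg a _ iha => exact isGen_neg iha

theorem mul_mem_elemGen {f χ : G → ℂ} (hf : f ∈ elemGen p G) (hχ : IsCharacter G χ) :
    f * χ ∈ elemGen p G := by
  induction hf using AddSubgroup.closure_induction with
  | mem f hf =>
    obtain ⟨E, θ, hE, hθ, rfl⟩ := hf
    rw [← indFun_mul_restrict E θ (isClassFunction_of_isCharacter hχ)]
    exact AddSubgroup.subset_closure
      ⟨E, _, hE, isCharacter_mul hθ (isCharacter_restrict E hχ), rfl⟩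
  | zero => simp
  | add a b _ _ iha ihb => rw [add_mul]; exact add_mem iha ihb
  | neg a _ iha => rw [neg_mul]; exact neg_mem iha

theorem indFun_mem_elemGen (T : Subgroup G) [Fintype T] {f : T → ℂ} (hf : f ∈ elemGen p T) :
    indFun T f ∈ elemGen p G := by
  induction hf using AddSubgroup.closure_induction with
  | mem f hf =>
    obtain ⟨E, θ, hE, hθ, rfl⟩ := hf
    let e : E ≃* E.map T.subtype := E.equivMapOfInjective T.subtype T.subtype_injective
    refine AddSubgroup.subset_closure ⟨E.map T.subtype, fun y => θ (e.symm y),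
      isElementary_congr e hE, isCharacter_comp e.symm.toMonoidHom hθ, ?_⟩
    rw [← indFun_map T E]
    congr 1
    congr 1
    funext x
    have : (⟨((x : T) : G), ⟨(x : T), x.2, rfl⟩⟩ : E.map T.subtype) = e x := Subtype.ext rfl
    rw [this]
    simp
  | zero => simp
  | add a b _ _ iha ihb => rw [indFun_add]; exact add_mem iha ihb
  | neg a _ iha => rw [indFun_neg]; exact neg_mem iha

omit [Fintype G] in
/-- A `G`-invariant linear character of a normal `p'`-subgroup `C` that is trivial on the
centralizer of a complementing `p`-subgroup is trivial. -/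
theorem linear_invariant_trivial [Finite G] [Fact p.Prime] (C P : Subgroup G) [hC : C.Normal]
    (hP : IsPGroup p P) (hcop : Nat.Coprime (Nat.card C) p) (lam : C →* ℂˣ)
    (hinv : ∀ g ∈ P, ∀ c : C, lam ⟨g * c * g⁻¹, hC.conj_mem (c : G) c.2 g⟩ = lam c)
    (hker : ∀ c : C, (∀ g ∈ P, g * (c : G) = (c : G) * g) → lam c = 1) : lam = 1 := by
  refine MonoidHom.ext fun c₀ => ?_
  rw [MonoidHom.one_apply]
  let X := {c : C // lam c = lam c₀}
  letI act : MulAction P X :=
    { smul := fun g c => ⟨⟨g * (c.1 : G) * (g : G)⁻¹, hC.conj_mem (c.1 : G) c.1.2 g⟩, by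
        rw [hinv g g.2, c.2]⟩
      one_smul := fun c => Subtype.ext (Subtype.ext (by
        show ((1 : P) : G) * (c.1 : G) * ((1 : P) : G)⁻¹ = (c.1 : G)
        simp))
      mul_smul := fun g h c => Subtype.ext (Subtype.ext (by
        show ((g * h : P) : G) * (c.1 : G) * ((g * h : P) : G)⁻¹ =
          (g : G) * ((h : G) * (c.1 : G) * (h : G)⁻¹) * (g : G)⁻¹
        simp [mul_assoc])) }
  have hcard : Nat.card X = Nat.card lam.ker := by
    refine Nat.card_congr ((Equiv.mulLeft c₀⁻¹).subtypeEquiv fun c => ?_)
    simp only [Equiv.coe_mulLeft, MonoidHom.mem_ker, map_mul, map_inv, inv_mul_eq_one]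
    exact eq_comm
  have hmod := hP.card_modEq_card_fixedPoints X
  have hne : Nat.card (MulAction.fixedPoints P X) ≠ 0 := by
    intro h0
    rw [h0] at hmod
    have hd : p ∣ Nat.card X := Nat.modEq_zero_iff_dvd.mp hmod
    rw [hcard] at hd
    have hd' : p ∣ Nat.card C := hd.trans lam.ker.card_subgroup_dvd_card
    exact (Fact.out : p.Prime).coprime_iff_not_dvd.mp hcop.symm hd'
  obtain ⟨⟨⟨c, hc⟩, hfix⟩⟩ := (Nat.card_ne_zero.mp hne).1
  rw [← hc]
  refine hker c fun g hg => ?_
  have h1 := congrArg (fun x : X => ((x.1 : C) : G)) (hfix ⟨g, hg⟩)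
  have h2 : g * (c : G) * g⁻¹ = (c : G) := h1
  exact mul_inv_eq_iff_eq_mul.mp h2

theorem one_mem_elemGen_pqe (hp : p.Prime) (n : ℕ) :
    ∀ (G : Type u) [Group G] [Fintype G] (C : Subgroup G), C.Normal → IsCyclic C →
      Nat.Coprime (Nat.card C) p → (∃ k : ℕ, C.index = p ^ k) → Nat.card G = n →
      (fun _ : G => (1 : ℂ)) ∈ elemGen p G := by
  induction n using Nat.strong_induction_on with
  | _ n ih =>
    intro G _ _ C hCn hCc hcop hind hn
    classical
    obtain ⟨k, hk⟩ := hind
    haveI := Fact.mk hp
    haveI := hCn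
    obtain ⟨P⟩ : Nonempty (Sylow p G) := inferInstance
    have hCP : C ⊔ (P : Subgroup G) = ⊤ := by
      have h1 : (C ⊔ (P : Subgroup G)).index ∣ p ^ k :=
        hk ▸ Subgroup.index_dvd_of_le le_sup_left
      have h2 := Subgroup.index_dvd_of_le (le_sup_right : (P : Subgroup G) ≤ C ⊔ P)
      obtain ⟨j, -, hj⟩ := (Nat.dvd_prime_pow hp).mp h1
      rw [← Subgroup.index_eq_one, hj]
      rcases Nat.eq_zero_or_pos j with rfl | hj0
      · simp
      · exact absurd ((dvd_pow_self p hj0.ne').trans (hj ▸ h2)) P.not_dvd_index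
    set Z : Subgroup G := C ⊓ Subgroup.centralizer (P : Set G) with hZ
    set E : Subgroup G := Z ⊔ (P : Subgroup G) with hEdef
    haveI : IsCyclic Z := isCyclic_of_injective (Subgroup.inclusion (inf_le_left : Z ≤ C))
      (Subgroup.inclusion_injective _)
    have hEel : IsElementary p E := by
      haveI hZ'c : IsCyclic (Z.subgroupOf E) :=
        isCyclic_of_injective (Subgroup.subgroupOfEquivOfLe (le_sup_left : Z ≤ E)).toMonoidHom
          (Subgroup.subgroupOfEquivOfLe (le_sup_left : Z ≤ E)).injective
      obtain ⟨w, hw⟩ := IsCyclic.exists_generator (α := Z.subgroupOf E)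
      have hcent : Z.subgroupOf E ≤ Subgroup.center E := by
        intro z hz
        rw [Subgroup.mem_center_iff]
        intro y
        have hle : E ≤ Subgroup.centralizer ({((z : E) : G)} : Set G) := by
          refine sup_le (fun a ha => ?_) (fun a ha => ?_)
          · rw [Subgroup.mem_centralizer_singleton_iff]
            exact congrArg Subtype.val
              ((IsCyclic.commutative (α := Z)).is_comm.comm ⟨a, ha⟩ ⟨_, Subgroup.mem_subgroupOf.mp hz⟩)
          · rw [Subgroup.mem_centralizer_singleton_iff]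
            exact Subgroup.mem_centralizer_iff.mp (Subgroup.mem_subgroupOf.mp hz).2 a ha
        exact Subtype.ext (Subgroup.mem_centralizer_singleton_iff.mp (hle y.2))
      haveI : (Z.subgroupOf E).Normal := normal_of_central _ hcent
      refine ⟨(w : E), hcent w.2, ?_, ?_⟩
      · rw [← Subgroup.orderOf_coe]
        have hwC : ((w : E) : G) ∈ C := (Subgroup.mem_subgroupOf.mp w.2).1
        refine hcop.coprime_dvd_left ?_
        have h2 := orderOf_dvd_natCard (⟨_, hwC⟩ : C)
        rwa [← Subgroup.orderOf_coe] at h2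
      · have hz : Subgroup.zpowers (w : E) = Z.subgroupOf E := by
          refine le_antisymm (Subgroup.zpowers_le.mpr w.2) fun y hy => ?_
          obtain ⟨i, hi⟩ := Subgroup.mem_zpowers_iff.mp (hw ⟨y, hy⟩)
          exact Subgroup.mem_zpowers_iff.mpr ⟨i, congrArg Subtype.val hi⟩
        rw [hz]
        have hsup : (P : Subgroup G).subgroupOf E ⊔ Z.subgroupOf E = ⊤ := by
          rw [← Subgroup.subgroupOf_sup le_sup_right le_sup_left, sup_comm]
          exact Subgroup.subgroupOf_self E
        have h1 := Subgroup.relIndex_sup_right ((P : Subgroup G).subgroupOf E) (Z.subgroupOf E)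
        rw [hsup, Subgroup.relIndex_top_right] at h1
        rw [h1]
        have h2 := Subgroup.relIndex_dvd_card (Z.subgroupOf E) ((P : Subgroup G).subgroupOf E)
        rw [Nat.card_congr (Subgroup.subgroupOfEquivOfLe
          (le_sup_right : (P : Subgroup G) ≤ E)).toEquiv] at h2
        obtain ⟨m, hm⟩ := P.2.exists_card_eq
        rw [hm] at h2
        obtain ⟨j, -, hj⟩ := (Nat.dvd_prime_pow hp).mp h2
        exact ⟨j, hj⟩
    have hI : IsCharacter G (indFun E (fun _ => (1 : ℂ))) := isCharacter_indFun_one E
    have hmem : indFun E (fun _ => (1 : ℂ)) ∈ elemGen p G :=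
      AddSubgroup.subset_closure ⟨E, _, hEel, isCharacter_one, rfl⟩
    have hmult : mult (indFun E (fun _ => (1 : ℂ))) (fun _ : G => (1 : ℂ)) = 1 := by
      have h : classInner (indFun E (fun _ => (1 : ℂ))) (fun _ : G => (1 : ℂ)) = 1 := by
        rw [frobenius_reciprocity E _ (isClassFunction_of_isIrr isIrrCharacter_one)]
        exact irr_inner_self isIrrCharacter_one
      rw [mult_spec hI isCharacter_one] at h
      exact_mod_cast h
    have hrest : ∀ θ : IrrCharacter G, θ ≠ trivIrr G →
        mult (indFun E (fun _ => (1 : ℂ))) (θ : G → ℂ) ≠ 0 → (θ : G → ℂ) ∈ elemGen p G := by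
      intro θ hne hm
      have hθc := isCharacter_of_isIrr θ.2
      have hθE : classInner (fun x : E => (θ : G → ℂ) x) (fun _ => 1) ≠ 0 := by
        rw [classInner_comm_of_char (isCharacter_restrict E hθc) isCharacter_one,
          ← frobenius_reciprocity E _ (isClassFunction_of_isIrr θ.2), mult_spec hI hθc]
        exact_mod_cast hm
      obtain ⟨l, hl⟩ := exists_constituent_restrict C θ.2
      obtain ⟨lam, hlam⟩ := exists_hom_of_comm
        (fun a b => (IsCyclic.commutative (α := C)).is_comm.comm a b) l.2
      by_cases hT : inertia C (l : C → ℂ) = ⊤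
      · exfalso
        have hinv : ∀ g, conjFun C g (l : C → ℂ) = l :=
          fun g => (hT ▸ Subgroup.mem_top g : g ∈ inertia C (l : C → ℂ))
        have hres := restrict_eq_smul_of_invariant C θ.2 l.2 hl hinv
        set e := classInner (fun n : C => (θ : G → ℂ) n) (l : C → ℂ)
        have hlam1 : lam = 1 := by
          refine linear_invariant_trivial C (P : Subgroup G) P.2 hcop lam (fun g _ c => ?_)
            (fun c hc => ?_)
          · refine Units.ext ?_
            have h := congrFun (hinv g) c
            rw [hlam] at h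
            exact h
          · have hcZ : (c : G) ∈ Z := ⟨c.2, Subgroup.mem_centralizer_iff.mpr fun h hh => hc h hh⟩
            by_contra hne1
            -- the restriction to `Z` is a multiple of a non-trivial linear character
            let μ : Z →* ℂˣ := lam.comp (Subgroup.inclusion (inf_le_left : Z ≤ C))
            have hμ : (fun z : Z => (μ z : ℂ)) ≠ fun _ => 1 := fun h =>
              hne1 (Units.ext (congrFun h ⟨(c : G), hcZ⟩))
            have hZE : Z ≤ E := le_sup_left
            have hθZ : (fun z : Z => (θ : G → ℂ) z) = e • fun z : Z => (μ z : ℂ) := by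
              funext z
              have h := congrFun hres ⟨(z : G), z.2.1⟩
              rw [hlam] at h
              exact h
            have h0 : classInner (fun z : Z => (θ : G → ℂ) z) (fun _ => 1) = 0 := by
              rw [hθZ, classInner_smul_left,
                irr_inner_of_ne (isIrrCharacter_lin μ) isIrrCharacter_one hμ, mul_zero]
            let ZE : Subgroup E := Z.subgroupOf E
            let eZ : ZE ≃* Z := Subgroup.subgroupOfEquivOfLe hZE
            have h1 := classInner_eq_of_res_ne_zero (H := ZE)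
              (θ := fun x : E => (θ : G → ℂ) x) (χ := fun _ => (1 : ℂ))
              (isCharacter_restrict E hθc) isIrrCharacter_one (η := fun _ => (1 : ℂ))
              isCharacter_one hθE (by rw [irr_inner_self isIrrCharacter_one]; exact one_ne_zero)
            apply h1
            rw [← h0]
            simp only [classInner]
            rw [Nat.card_congr eZ.toEquiv]
            congr 1
            exact Fintype.sum_equiv eZ.toEquiv _ _ fun m => rfl
        have htriv : ∀ c ∈ C, (θ : G → ℂ) c = (θ : G → ℂ) 1 := by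
          intro c hc
          have h1 := congrFun hres ⟨c, hc⟩
          have h2 := congrFun hres 1
          simp [hlam, hlam1] at h1 h2
          rw [h1, h2]
        obtain ⟨θb, hθb, hθe⟩ := exists_quotient_irr θ.2 C htriv
        let π : (P : Subgroup G) →* G ⧸ C := (QuotientGroup.mk' C).comp (P : Subgroup G).subtype
        have hπ : Function.Surjective π := by
          intro q
          induction q using QuotientGroup.induction_on with
          | _ g =>
            obtain ⟨c, hc, h, hh, rfl⟩ := Subgroup.mem_sup_of_normal_left.mp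
              (show g ∈ C ⊔ (P : Subgroup G) by rw [hCP]; trivial)
            refine ⟨⟨h, hh⟩, ?_⟩
            show (QuotientGroup.mk h : G ⧸ C) = QuotientGroup.mk (c * h)
            rw [QuotientGroup.mk_mul, (QuotientGroup.eq_one_iff c).mpr hc, one_mul]
        have hθP : IsIrrCharacter (P : Subgroup G) fun y : (P : Subgroup G) => (θ : G → ℂ) y := by
          have := isIrrCharacter_comp π hπ hθb
          simpa [π, hθe] using this
        have hEtop : ∀ g : G, ∃ c ∈ C, ∃ y ∈ (P : Subgroup G), g = c * y := fun g => by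
          obtain ⟨c, hc, h, hh, e⟩ := Subgroup.mem_sup_of_normal_left.mp
            (show g ∈ C ⊔ (P : Subgroup G) by rw [hCP]; trivial)
          exact ⟨c, hc, h, hh, e.symm⟩
        have h1 := classInner_eq_of_res_ne_zero (H := (P : Subgroup G).subgroupOf E)
          (θ := fun x : E => (θ : G → ℂ) x) (χ := fun _ => (1 : ℂ))
          (isCharacter_restrict E hθc) isIrrCharacter_one (η := fun _ => (1 : ℂ))
          isCharacter_one hθE (by rw [irr_inner_self isIrrCharacter_one]; exact one_ne_zero)
        have h2 : classInner (fun y : (P : Subgroup G) => (θ : G → ℂ) y) (fun _ => 1) ≠ 0 := by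
          intro h0
          apply h1
          rw [← h0]
          simp only [classInner]
          rw [Nat.card_congr (Subgroup.subgroupOfEquivOfLe
            (le_sup_right : (P : Subgroup G) ≤ E)).toEquiv]
          congr 1
          exact Fintype.sum_equiv (Subgroup.subgroupOfEquivOfLe
            (le_sup_right : (P : Subgroup G) ≤ E)).toEquiv _ _ fun m => rfl
        have h3 := eq_of_inner_ne_zero hθP isIrrCharacter_one h2
        refine hne (Subtype.ext (funext fun g => ?_))
        obtain ⟨c, hc, y, hy, rfl⟩ := hEtop g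
        have hk : c ∈ kerChar (θ : G → ℂ) := (mem_kerChar_iff hθc).mpr (htriv c hc)
        rw [isClassFunction_mul_comm (isClassFunction_of_isIrr θ.2), hk y, trivIrr_apply]
        exact congrFun h3 ⟨y, hy⟩
      · set T := inertia C (l : C → ℂ) with hTdef
        have hCT : C ≤ T := le_inertia C (isClassFunction_of_isIrr l.2)
        obtain ⟨ψ, hψ, hψi, -⟩ := exists_correspondent C l.2 T hTdef hCT θ.2 hl
        have hlt : Nat.card T < n := by
          rw [← hn]
          exact lt_of_le_of_ne (Nat.le_of_dvd Nat.card_pos T.card_subgroup_dvd_card)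
            (fun e => hT (Subgroup.eq_top_of_card_eq T e))
        haveI : IsCyclic (C.subgroupOf T) :=
          isCyclic_of_injective (Subgroup.subgroupOfEquivOfLe hCT).toMonoidHom
            (Subgroup.subgroupOfEquivOfLe hCT).injective
        have hone := ih _ hlt T (C.subgroupOf T) inferInstance inferInstance
          (by rwa [Nat.card_congr (Subgroup.subgroupOfEquivOfLe hCT).toEquiv]) (by
            have h1 : C.relIndex T ∣ p ^ k := hk ▸ C.relIndex_dvd_index_of_normal T
            obtain ⟨j, -, hj⟩ := (Nat.dvd_prime_pow hp).mp h1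
            exact ⟨j, hj⟩) rfl
        rw [← hψi]
        refine indFun_mem_elemGen T ?_
        have h := mul_mem_elemGen hone (isCharacter_of_isIrr hψ)
        convert h using 1
        funext x
        simp
    have hsum := character_eq_sum hI
    rw [← Finset.add_sum_erase _ _ (Finset.mem_univ (trivIrr G))] at hsum
    have heq : (fun _ : G => (1 : ℂ)) = indFun E (fun _ => (1 : ℂ)) -
        ∑ θ ∈ Finset.univ.erase (trivIrr G),
          (mult (indFun E (fun _ => (1 : ℂ))) (θ : G → ℂ) : ℂ) • (θ : G → ℂ) := by
      rw [eq_sub_iff_add_eq]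
      conv_rhs => rw [hsum]
      congr 1
      show _ = ((mult (indFun E (fun _ => (1 : ℂ))) (fun _ : G => (1 : ℂ)) : ℕ) : ℂ) • _
      rw [hmult, Nat.cast_one, one_smul]
      rfl
    rw [heq]
    refine sub_mem hmem (sum_mem fun θ hθ => ?_)
    by_cases h0 : mult (indFun E (fun _ => (1 : ℂ))) (θ : G → ℂ) = 0
    · simp [h0]
    · rw [Nat.cast_smul_eq_nsmul]
      exact AddSubgroup.nsmul_mem _ (hrest θ (Finset.mem_erase.mp hθ).1 h0) _

/-- Brauer's theorem, local form. -/
theorem brauer_local (hp : p.Prime) :
    ∃ m : ℤ, ¬ (p : ℤ) ∣ m ∧ (fun _ : G => (m : ℂ)) ∈ elemGen p G := by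
  classical
  obtain ⟨m, hm, hmem⟩ := solomon_local (G := G) hp
  refine ⟨m, hm, ?_⟩
  refine (AddSubgroup.closure_le _).mpr ?_ hmem
  rintro _ ⟨H, ⟨C, hCH, hHC, hcyc, hcop, k, hk⟩, rfl⟩
  haveI := hcyc
  haveI : IsCyclic (C.subgroupOf H) :=
    isCyclic_of_injective (Subgroup.subgroupOfEquivOfLe hCH).toMonoidHom
      (Subgroup.subgroupOfEquivOfLe hCH).injective
  refine indFun_mem_elemGen H (one_mem_elemGen_pqe hp _ H (C.subgroupOf H)
    ((Subgroup.normal_subgroupOf_iff_le_normalizer hCH).mpr hHC) inferInstance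
    (by rwa [Nat.card_congr (Subgroup.subgroupOfEquivOfLe hCH).toEquiv]) ⟨k, hk⟩ rfl)

/-- The generators for Brauer's theorem: induced linear characters of elementary subgroups. -/
def linGen (G : Type u) [Group G] [Fintype G] : AddSubgroup (G → ℂ) :=
  AddSubgroup.closure {f | ∃ (E : Subgroup G) (lam : E →* ℂˣ) (q : ℕ), q.Prime ∧
    IsElementary q E ∧ f = indFun E (fun e => (lam e : ℂ))}

theorem elemGen_le_linGen (hp : p.Prime) : elemGen p G ≤ linGen G := by
  classical
  refine (AddSubgroup.closure_le _).mpr ?_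
  rintro _ ⟨E, θ, hE, hθ, rfl⟩
  haveI := isNilpotent_of_isElementary hp hE
  rw [character_eq_sum hθ, indFun_sum]
  refine sum_mem fun χ _ => ?_
  rw [indFun_smul, Nat.cast_smul_eq_nsmul]
  refine AddSubgroup.nsmul_mem _ ?_ _
  obtain ⟨H, lam, hlam⟩ := nilpotent_monomial χ.2
  let e : H ≃* H.map E.subtype := H.equivMapOfInjective E.subtype E.subtype_injective
  refine AddSubgroup.subset_closure ⟨H.map E.subtype, lam.comp e.symm.toMonoidHom, p, hp,
    isElementary_congr e (isElementary_subgroup hp hE H), ?_⟩
  rw [hlam, ← indFun_map E H]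
  congr 1
  congr 1
  funext x
  have : (⟨((x : E) : G), ⟨(x : E), x.2, rfl⟩⟩ : H.map E.subtype) = e x := Subtype.ext rfl
  rw [this]
  simp

/-- The trivial character as a combination over all primes. -/
theorem one_mem_sup_elemGen :
    (fun _ : G => (1 : ℂ)) ∈ ⨆ q : {q : ℕ // q.Prime}, elemGen q.1 G := by
  set S := ⨆ q : {q : ℕ // q.Prime}, elemGen q.1 G with hS
  let φ : ℤ →+ (G → ℂ) :=
    { toFun := fun m _ => (m : ℂ), map_zero' := by ext; simp, map_add' := fun a b => by ext; simp }
  obtain ⟨d, hd⟩ := Int.subgroup_cyclic (S.comap φ)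
  have hnd : ∀ q : ℕ, q.Prime → ¬ (q : ℤ) ∣ d := by
    intro q hq hqd
    obtain ⟨m, hm, hmem⟩ := brauer_local (G := G) hq
    have : m ∈ S.comap φ := le_iSup (fun q : {q : ℕ // q.Prime} => elemGen q.1 G) ⟨q, hq⟩ hmem
    rw [hd, AddSubgroup.mem_closure_singleton] at this
    obtain ⟨i, rfl⟩ := this
    exact hm (by rw [smul_eq_mul]; exact hqd.mul_left i)
  have h1 : d.natAbs = 1 := by
    by_contra hne
    obtain ⟨q, hq, hqd⟩ := Nat.exists_prime_and_dvd hne
    exact hnd q hq (Int.natCast_dvd.mpr hqd)
  have h : (1 : ℤ) ∈ S.comap φ := by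
    rw [hd, AddSubgroup.mem_closure_singleton]
    rcases Int.natAbs_eq d with e | e <;> rw [h1] at e
    · exact ⟨1, by simp [e]⟩
    · exact ⟨-1, by simp [e]⟩
  rw [AddSubgroup.mem_comap] at h
  have e : φ 1 = fun _ : G => (1 : ℂ) := by funext g; simp [φ]
  rwa [e] at h

/-- Brauer's induction theorem. -/
theorem brauer_induction {χ : G → ℂ} (hχ : IsCharacter G χ) : χ ∈ linGen G := by
  have hle : ∀ f ∈ ⨆ q : {q : ℕ // q.Prime}, elemGen q.1 G, f * χ ∈ linGen G := by
    intro f hf
    induction hf using AddSubgroup.iSup_induction' with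
    | hp q x hx => exact elemGen_le_linGen q.2 (mul_mem_elemGen hx hχ)
    | h1 => simp
    | hadd a b _ _ iha ihb => rw [add_mul]; exact add_mem iha ihb
  have := hle _ one_mem_sup_elemGen
  convert this using 1
  funext g
  simp

/-- Brauer's characterisation of characters. -/
theorem isGen_of_restrict_elementary {θ : G → ℂ} (hθ : IsClassFunction G θ)
    (hE : ∀ (E : Subgroup G) (q : ℕ), q.Prime → IsElementary q E →
      IsGeneralizedCharacter E (fun e : E => θ e)) : IsGeneralizedCharacter G θ := by
  have hle : ∀ f ∈ ⨆ q : {q : ℕ // q.Prime}, elemGen q.1 G,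
      IsGeneralizedCharacter G (f * θ) := by
    intro f hf
    induction hf using AddSubgroup.iSup_induction' with
    | hp q x hx =>
      induction hx using AddSubgroup.closure_induction with
      | mem f hf =>
        obtain ⟨E, η, hEl, hη, rfl⟩ := hf
        rw [← indFun_mul_restrict E η hθ]
        exact isGen_indFun E (isGen_mul (isGen_of_isCharacter hη) (hE E q.1 q.2 hEl))
      | zero => simpa using isGen_zero
      | add a b _ _ iha ihb => rw [add_mul]; exact isGen_add iha ihb
      | neg a _ iha => rw [neg_mul]; exact isGen_neg iha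
    | h1 => simpa using isGen_zero
    | hadd a b _ _ iha ihb => rw [add_mul]; exact isGen_add iha ihb
  have := hle _ one_mem_sup_elemGen
  convert this using 1
  funext g
  simp

theorem linGen_exists_list {f : G → ℂ} (hf : f ∈ linGen G) :
    ∃ l : List ((E : Subgroup G) × ((E →* ℂˣ) × ℤ)),
      (∀ t ∈ l, ∃ q : ℕ, q.Prime ∧ IsElementary q t.1) ∧
      f = (l.map fun t => (t.2.2 : ℂ) • indFun t.1 (fun e => (t.2.1 e : ℂ))).sum := by
  induction hf using AddSubgroup.closure_induction with
  | mem f hf =>
    obtain ⟨E, lam, q, hq, hE, rfl⟩ := hf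
    exact ⟨[⟨E, lam, 1⟩], by simp only [List.mem_singleton]; rintro t rfl; exact ⟨q, hq, hE⟩,
      by simp⟩
  | zero => exact ⟨[], by simp, by simp⟩
  | add a b _ _ iha ihb =>
    obtain ⟨l₁, h₁, rfl⟩ := iha
    obtain ⟨l₂, h₂, rfl⟩ := ihb
    exact ⟨l₁ ++ l₂, fun t ht => (List.mem_append.mp ht).elim (h₁ t) (h₂ t), by simp⟩
  | neg a _ iha =>
    obtain ⟨l, h, rfl⟩ := iha
    refine ⟨l.map fun t => ⟨t.1, t.2.1, -t.2.2⟩, ?_, ?_⟩
    · intro t ht
      obtain ⟨s, hs, rfl⟩ := List.mem_map.mp ht
      exact h s hs
    · clear h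
      rename_i hx
      clear hx
      induction l with
      | nil => simp
      | cons t l ih => simp only [List.map_cons, List.sum_cons, neg_add, ih, Int.cast_neg, neg_smul]

end Elementary

end Cfsg.Agent.CT
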