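import Cfsg.Agent.Lib.CT.Projective
import Cfsg.Agent.Lib.CT.Kernel

/-!
# Degree of a character over a normal subgroup divides the index
-/

namespace Cfsg.Agent.CT

universe u v

variable {G : Type u} [Group G] [Fintype G] (N : Subgroup G) [hN : N.Normal] [Fintype N]

/-- `deg χ / deg φ` divides `[G : N]`. -/
theorem deg_ratio_dvd_index {χ : G → ℂ} (hχ : IsIrrCharacter G χ) {φ : N → ℂ}
    (hφ : IsIrrCharacter N φ) (hcon : classInner (fun n : N => χ n) φ ≠ 0) :
    ∃ k, deg χ = k * deg φ ∧ k ∣ N.index := by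
  classical
  refine ⟨_, clifford_mult N hχ hφ hcon, ?_⟩
  set T := inertia N φ with hT
  have hNT : N ≤ T := le_inertia N (isClassFunction_of_isIrr hφ)
  haveI := Fintype.ofFinite T
  obtain ⟨ψ, hψ, -, hin0⟩ := exists_correspondent N hφ T hT hNT hχ hcon
  let e : N.subgroupOf T ≃* N := Subgroup.subgroupOfEquivOfLe hNT
  haveI := Fintype.ofFinite (N.subgroupOf T)
  let φ' : N.subgroupOf T → ℂ := fun m => φ (e m)
  have hφ' : IsIrrCharacter (N.subgroupOf T) φ' :=
    isIrrCharacter_comp e.toMonoidHom e.surjective hφ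
  have hin : classInner (fun m : N.subgroupOf T => ψ m) φ' =
      classInner (fun n : N => χ n) φ := by
    rw [← hin0]
    simp only [classInner]
    rw [Nat.card_congr e.toEquiv]
    congr 1
    exact Fintype.sum_equiv e.toEquiv _ _ fun m => rfl
  have hinv : ∀ t : T, conjFun (N.subgroupOf T) t φ' = φ' := by
    intro t
    funext m
    exact congrFun (t.2 : (t : G) ∈ inertia N φ) (e m)
  have h := mult_dvd_index_of_invariant (N.subgroupOf T) hψ hφ' (hin ▸ hcon) hinv
  have hm : mult (fun m : N.subgroupOf T => ψ m) φ' = mult (fun n : N => χ n) φ := by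
    rw [mult_spec (isCharacter_restrict _ (isCharacter_of_isIrr hψ)) (isCharacter_of_isIrr hφ'),
      mult_spec (isCharacter_restrict _ (isCharacter_of_isIrr hχ)) (isCharacter_of_isIrr hφ)] at hin
    exact_mod_cast hin
  rw [hm] at h
  rw [← Subgroup.relIndex_mul_index hNT]
  exact mul_dvd_mul_right h _

/-- Itô: the degree of an irreducible character divides the index of a normal abelian subgroup. -/
theorem deg_dvd_index_of_comm {χ : G → ℂ} (hχ : IsIrrCharacter G χ)
    (hcomm : ∀ a b : N, a * b = b * a) : deg χ ∣ N.index := by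
  obtain ⟨φ, hφ⟩ := exists_constituent_restrict N hχ
  obtain ⟨k, hk, hd⟩ := deg_ratio_dvd_index N hχ φ.2 hφ
  have h1 : deg (φ : N → ℂ) = 1 := by
    have := deg_eq (isCharacter_of_isIrr φ.2)
    rw [irr_degree_one_of_comm hcomm φ.2] at this
    exact_mod_cast this.symm
  rw [hk, h1, mul_one]
  exact hd

end Cfsg.Agent.CT
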