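import Cfsg.Agent.Lib.OddChar.GaloisChar
import Cfsg.Agent.Lib.CT.Degree
import Cfsg.Agent.Lib.CT.Integral

/-!
# Galois action on character values, rationality, p-power degrees
-/

set_option autoImplicit false
set_option linter.unusedSectionVars false

namespace Cfsg.Agent.CT.GaloisFixed

open scoped ComplexConjugate IntermediateField

universe u

variable {G : Type u} [Group G] [Fintype G]

/-- An automorphism acting on the roots of unity as a power acts on character values by powers. -/
theorem map_char {χ : G → ℂ} (hχ : IsCharacter G χ) {j : ℕ} (f : ℂ ≃+* ℂ)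
    (hf : ∀ z : ℂ, z ^ Nat.card G = 1 → f z = z ^ j) (g : G) : f (χ g) = χ (g ^ j) := by
  obtain ⟨m, ρ, rfl⟩ := hχ
  obtain ⟨ω, hω, he⟩ := exists_eigenvalues ρ g
  have h1 := he 1
  simp only [pow_one] at h1
  rw [h1, map_sum, he j]
  exact Finset.sum_congr rfl fun i _ => hf _ (orderOf_dvd_iff_pow_eq_one.mp
    ((orderOf_dvd_of_pow_eq_one (hω i)).trans (orderOf_dvd_natCard g)))

theorem mem_adjoin {n : ℕ} [NeZero n] {ζ : ℂ} (hζ : IsPrimitiveRoot ζ n) (hn : n = Nat.card G)
    {χ : G → ℂ} (hχ : IsCharacter G χ) (g : G) : χ g ∈ (ℚ⟮ζ⟯ : IntermediateField ℚ ℂ) := by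
  obtain ⟨m, ρ, rfl⟩ := hχ
  obtain ⟨ω, hω, he⟩ := exists_eigenvalues ρ g
  have h1 := he 1
  simp only [pow_one] at h1
  rw [h1]
  refine IntermediateField.sum_mem _ fun i _ => ?_
  obtain ⟨k, -, hk⟩ := hζ.eq_pow_of_pow_eq_one (ξ := ω i) (by
    rw [hn]; exact orderOf_dvd_iff_pow_eq_one.mp
      ((orderOf_dvd_of_pow_eq_one (hω i)).trans (orderOf_dvd_natCard g)))
  rw [← hk]
  exact IntermediateField.pow_mem _ (IntermediateField.mem_adjoin_simple_self ℚ ζ) k

/-- An element of a cyclotomic field fixed by every automorphism is rational. -/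
theorem exists_rat_of_fixed {n : ℕ} [NeZero n] {ζ : ℂ} (hζ : IsPrimitiveRoot ζ n) {z : ℂ}
    (hz : z ∈ (ℚ⟮ζ⟯ : IntermediateField ℚ ℂ))
    (hfix : ∀ (j : ℕ), j.Coprime n → ∀ f : ℂ ≃+* ℂ, (∀ w : ℂ, w ^ n = 1 → f w = w ^ j) → f z = z) :
    ∃ q : ℚ, z = (q : ℂ) := by
  have hint : IsIntegral ℚ ζ := (hζ.isIntegral (NeZero.pos n)).tower_top
  haveI := IntermediateField.adjoin.finiteDimensional hint
  set a : (ℚ⟮ζ⟯ : IntermediateField ℚ ℂ) := ⟨z, hz⟩ with ha
  have haint : IsIntegral ℚ a := IsIntegral.of_finite ℚ a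
  have hroots : ∀ β ∈ (minpoly ℚ a).rootSet ℂ, β = z := by
    intro β hβ
    rw [← Algebra.IsAlgebraic.range_eval_eq_rootSet_minpoly] at hβ
    obtain ⟨φ, rfl⟩ := hβ
    set gen := IntermediateField.AdjoinSimple.gen ℚ ζ
    have hprim : IsPrimitiveRoot (φ gen) n := by
      have hg : IsPrimitiveRoot gen n :=
        IsPrimitiveRoot.of_map_of_injective (f := (ℚ⟮ζ⟯ : IntermediateField ℚ ℂ).val) (by simpa [gen] using hζ)
          Subtype.val_injective
      exact hg.map_of_injective φ.injective
    obtain ⟨j, -, hj, hje⟩ := hζ.isPrimitiveRoot_iff.mp hprim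
    obtain ⟨f, hf⟩ := OddChar.exists_ringEquiv_pow (NeZero.pos n) hj
    let F : (ℚ⟮ζ⟯ : IntermediateField ℚ ℂ) →ₐ[ℚ] ℂ :=
      f.toRingHom.toRatAlgHom.comp (ℚ⟮ζ⟯ : IntermediateField ℚ ℂ).val
    have hFφ : F = φ := by
      refine (IntermediateField.adjoin.powerBasis hint).algHom_ext ?_
      rw [IntermediateField.adjoin.powerBasis_gen]
      show f ζ = φ gen
      rw [hf ζ hζ.pow_eq_one, hje]
    show φ a = z
    rw [← hFφ]
    exact hfix j hj f hf
  have hcard := Polynomial.card_rootSet_eq_natDegree (K := ℂ) (minpoly.irreducible haint).separable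
    (IsAlgClosed.splits _)
  have hle : Fintype.card ((minpoly ℚ a).rootSet ℂ) ≤ 1 :=
    Fintype.card_le_one_iff_subsingleton.mpr
      ⟨fun x y => Subtype.ext ((hroots x x.2).trans (hroots y y.2).symm)⟩
  rw [hcard] at hle
  have hdeg : (minpoly ℚ a).natDegree = 1 := by
    have := minpoly.natDegree_pos haint
    omega
  obtain ⟨q, hq⟩ := minpoly.natDegree_eq_one_iff.mp hdeg
  exact ⟨q, by
    have := congrArg Subtype.val hq
    simpa [ha] using this.symm⟩

theorem rational_iff : (∀ χ : IrrCharacter G, ∀ g : G, ∃ q : ℚ, (χ : G → ℂ) g = (q : ℂ)) ↔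
    ∀ m : ℕ, m.Coprime (Nat.card G) → ∀ g : G, IsConj g (g ^ m) := by
  constructor
  · intro h m hm g
    refine isConj_iff_forall_irr.mpr fun χ => ?_
    obtain ⟨f, hf⟩ := OddChar.exists_ringEquiv_pow (Nat.card_pos (α := G)) hm
    obtain ⟨q, hq⟩ := h χ g
    rw [← map_char (isCharacter_of_isIrr χ.2) f hf g, hq, map_ratCast]
  · intro h χ g
    haveI : NeZero (Nat.card G) := ⟨Nat.card_pos.ne'⟩
    have hζ := Complex.isPrimitiveRoot_exp (Nat.card G) Nat.card_pos.ne'
    refine exists_rat_of_fixed hζ (mem_adjoin hζ rfl (isCharacter_of_isIrr χ.2) g) fun j hj f hf => ?_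
    rw [map_char (isCharacter_of_isIrr χ.2) f hf g]
    exact (isClassFunction_isConj (isClassFunction_of_isIrr χ.2) (h j hj g)).symm

/-- The product of the squared absolute values of the irreducible characters at an element is a
positive integer when none vanishes. -/
theorem card_le_centralizer {g : G} (hne : ∀ χ : IrrCharacter G, (χ : G → ℂ) g ≠ 0) :
    Nat.card (IrrCharacter G) ≤ Nat.card (Subgroup.centralizer ({g} : Set G)) ∧
      (Nat.card (IrrCharacter G) = Nat.card (Subgroup.centralizer ({g} : Set G)) →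
        ∀ χ : IrrCharacter G, ‖(χ : G → ℂ) g‖ = 1) := by
  classical
  haveI : NeZero (Nat.card G) := ⟨Nat.card_pos.ne'⟩
  have hζ := Complex.isPrimitiveRoot_exp (Nat.card G) Nat.card_pos.ne'
  set z : ℂ := ∏ χ : IrrCharacter G, (χ : G → ℂ) g * conj ((χ : G → ℂ) g) with hz
  have hmem : z ∈ (ℚ⟮Complex.exp (2 * Real.pi * Complex.I / (Nat.card G : ℕ))⟯ : IntermediateField ℚ ℂ) := by
    refine IntermediateField.prod_mem _ fun χ _ => IntermediateField.mul_mem _
      (mem_adjoin hζ rfl (isCharacter_of_isIrr χ.2) g) ?_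
    rw [← char_inv_eq_conj (isCharacter_of_isIrr χ.2)]
    exact mem_adjoin hζ rfl (isCharacter_of_isIrr χ.2) g⁻¹
  obtain ⟨q, hq⟩ := exists_rat_of_fixed hζ hmem fun j hj f hf => by
    let e : IrrCharacter G → IrrCharacter G := fun χ => ⟨_, OddChar.isIrr_map_pow χ.2 hj⟩
    have he : Function.Injective e := fun χ χ' h => Subtype.ext (funext fun x => by
      obtain ⟨y, rfl⟩ := (powCoprime (Nat.Coprime.symm hj) (G := G)).surjective x
      exact congrFun (congrArg Subtype.val h) y)
    rw [hz, map_prod]
    refine Fintype.prod_equiv (Equiv.ofBijective e (Finite.injective_iff_bijective.mp he)) _ _ fun χ => ?_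
    show f _ = (χ : G → ℂ) (g ^ j) * conj ((χ : G → ℂ) (g ^ j))
    rw [map_mul, ← char_inv_eq_conj (isCharacter_of_isIrr χ.2), ← char_inv_eq_conj (isCharacter_of_isIrr χ.2),
      map_char (isCharacter_of_isIrr χ.2) f hf, map_char (isCharacter_of_isIrr χ.2) f hf, inv_pow]
  have hint : IsIntegral ℤ z := IsIntegral.prod _ fun χ _ =>
    (isIntegral_isCharacter (isCharacter_of_isIrr χ.2) g).mul
      (isIntegral_conj (isIntegral_isCharacter (isCharacter_of_isIrr χ.2) g))
  set P : ℝ := ∏ χ : IrrCharacter G, Complex.normSq ((χ : G → ℂ) g) with hP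
  have hzP : z = (P : ℂ) := by
    rw [hz, hP, Complex.ofReal_prod]
    exact Finset.prod_congr rfl fun χ _ => Complex.mul_conj _
  have hPpos : 0 < P := Finset.prod_pos fun χ _ => Complex.normSq_pos.mpr (hne χ)
  have hP1 : 1 ≤ P := by
    rw [hq] at hint
    obtain ⟨k, hk⟩ := IsIntegrallyClosed.algebraMap_eq_of_integral
      ((isIntegral_algebraMap_iff (R := ℤ) (A := ℚ) (B := ℂ) (algebraMap ℚ ℂ).injective).mp hint)
    have hPk : P = (k : ℝ) := by
      have : (P : ℂ) = ((k : ℝ) : ℂ) := by
        rw [← hzP, hq, ← hk]; simp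
      exact_mod_cast this
    rw [hPk] at hPpos ⊢
    exact_mod_cast (Int.add_one_le_iff.mpr (by exact_mod_cast hPpos : (0 : ℤ) < k))
  have hcol : ∑ χ : IrrCharacter G, Complex.normSq ((χ : G → ℂ) g) =
      (Nat.card (Subgroup.centralizer ({g} : Set G)) : ℝ) := by
    have h := column_orthogonality g g
    rw [if_pos (IsConj.refl g)] at h
    simp only [Complex.mul_conj] at h
    exact_mod_cast h
  have hlog : 0 ≤ ∑ χ : IrrCharacter G, Real.log (Complex.normSq ((χ : G → ℂ) g)) := by
    rw [← Real.log_prod fun χ _ => (Complex.normSq_pos.mpr (hne χ)).ne']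
    exact Real.log_nonneg hP1
  have hterm : ∀ χ : IrrCharacter G,
      Real.log (Complex.normSq ((χ : G → ℂ) g)) ≤ Complex.normSq ((χ : G → ℂ) g) - 1 := fun χ =>
    Real.log_le_sub_one_of_pos (Complex.normSq_pos.mpr (hne χ))
  have hsum := Finset.sum_le_sum (s := Finset.univ) fun χ (_ : χ ∈ (Finset.univ : Finset (IrrCharacter G))) => hterm χ
  rw [Finset.sum_sub_distrib, hcol, Finset.sum_const, Finset.card_univ, nsmul_eq_mul, mul_one,
    ← Nat.card_eq_fintype_card] at hsum
  have hle : (Nat.card (IrrCharacter G) : ℝ) ≤ Nat.card (Subgroup.centralizer ({g} : Set G)) := by linarith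
  refine ⟨by exact_mod_cast hle, fun heq χ => ?_⟩
  have h0 : ∑ χ : IrrCharacter G, (Complex.normSq ((χ : G → ℂ) g) - 1 -
      Real.log (Complex.normSq ((χ : G → ℂ) g))) = 0 := by
    refine le_antisymm ?_ (Finset.sum_nonneg fun χ _ => sub_nonneg.mpr (hterm χ))
    rw [Finset.sum_sub_distrib, Finset.sum_sub_distrib, hcol, Finset.sum_const, Finset.card_univ,
      nsmul_eq_mul, mul_one, ← Nat.card_eq_fintype_card, heq]
    linarith
  have h1 := (Finset.sum_eq_zero_iff_of_nonneg fun χ _ => sub_nonneg.mpr (hterm χ)).mp h0 χ (Finset.mem_univ χ)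
  have h2 : Complex.normSq ((χ : G → ℂ) g) = 1 := by
    by_contra hne1
    have := Real.log_lt_sub_one_of_pos (Complex.normSq_pos.mpr (hne χ)) hne1
    linarith
  rw [Complex.norm_def, h2, Real.sqrt_one]

omit [Fintype G] in
/-- If all degrees are powers of `p`, there is a normal abelian `p`-complement. -/
theorem exists_complement_of_degrees {p : ℕ} (hp : p.Prime) (m : ℕ) :
    ∀ (G : Type u) [Group G] [Fintype G], Nat.card G ≤ m →
      (∀ χ : IrrCharacter G, ∃ k : ℕ, deg (χ : G → ℂ) = p ^ k) →
      ∃ A : Subgroup G, A.Normal ∧ (∀ a ∈ A, ∀ b ∈ A, a * b = b * a) ∧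
        Nat.Coprime (Nat.card A) p ∧ ∃ k : ℕ, A.index = p ^ k := by
  induction m with
  | zero => intro G _ _ h; have := Nat.card_pos (α := G); omega
  | succ m ih =>
    intro G _ _ hG hdeg
    classical
    by_cases hpd : p ∣ Nat.card G
    swap
    · -- every character is linear
      have hlin : ∀ χ : IrrCharacter G, (χ : G → ℂ) 1 = 1 := by
        intro χ
        obtain ⟨k, hk⟩ := hdeg χ
        obtain ⟨n, ρ, hρ, hχ⟩ := χ.2
        have hd : deg (χ : G → ℂ) ∣ Nat.card G := by
          haveI := hρ
          rw [show deg (χ : G → ℂ) = Module.finrank ℂ _ from hχ ▸ deg_eq_finrank ρ]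
          exact finrank_dvd_card ρ
        rcases Nat.eq_zero_or_pos k with h0 | hpos
        · rw [deg_eq (isCharacter_of_isIrr χ.2), hk, h0, pow_zero, Nat.cast_one]
        · exact absurd ((dvd_pow_self p hpos.ne').trans (hk ▸ hd)) hpd
      exact ⟨⊤, inferInstance, fun a _ b _ => comm_iff_all_linear.mpr hlin a b,
        by rw [Nat.card_congr Subgroup.topEquiv.toEquiv]; exact ((Nat.Prime.coprime_iff_not_dvd hp).mpr hpd).symm,
        0, by simp⟩
    · -- `p` divides the index of the derived subgroup
      have hsum : (∑ χ : IrrCharacter G, deg (χ : G → ℂ) ^ 2) = Nat.card G := by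
        have h := sum_degree_sq (G := G)
        rw [Finset.sum_congr rfl fun χ _ => by rw [deg_eq (isCharacter_of_isIrr χ.2)]] at h
        exact_mod_cast h
      have hidx : p ∣ (commutator G).index := by
        rw [← card_linear_irr, Nat.card_eq_fintype_card, Fintype.card_subtype]
        rw [← Finset.sum_filter_add_sum_filter_not _ (fun χ : IrrCharacter G => (χ : G → ℂ) 1 = 1),
          Finset.sum_congr rfl (g := fun _ => 1) fun χ hχ => by
            have h1 := (Finset.mem_filter.mp hχ).2
            rw [deg_eq (isCharacter_of_isIrr χ.2)] at h1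
            rw [show deg (χ : G → ℂ) = 1 by exact_mod_cast h1, one_pow],
          Finset.sum_const, smul_eq_mul, mul_one] at hsum
        refine (Nat.dvd_add_iff_left ?_).mpr (hsum ▸ hpd)
        refine Finset.dvd_sum fun χ hχ => ?_
        obtain ⟨k, hk⟩ := hdeg χ
        have hk0 : k ≠ 0 := fun e => (Finset.mem_filter.mp hχ).2 (by
          rw [deg_eq (isCharacter_of_isIrr χ.2), hk, e, pow_zero, Nat.cast_one])
        rw [hk, ← pow_mul]
        exact dvd_pow_self p (by omega)
      -- a maximal subgroup of index `p` above the derived subgroup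
      obtain ⟨N, hN, hNidx⟩ : ∃ N : Subgroup G, N.Normal ∧ N.index = p := by
        let A := Abelianization G
        haveI := Fintype.ofFinite A
        have hA : p ∣ Nat.card A := by rwa [Subgroup.index_eq_card] at hidx
        obtain ⟨B, hB⟩ : ∃ B : Subgroup A, B.index = p := by
          haveI : Fact p.Prime := ⟨hp⟩
          obtain ⟨t, ht⟩ := exists_prime_orderOf_dvd_card' p hA
          obtain ⟨lam, hlam⟩ : ∃ lam : A →* ℂˣ, lam t ≠ 1 := by
            by_contra hcon
            push Not at hcon
            have : IsConj t 1 := isConj_iff_forall_irr.mpr fun χ => by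
              obtain ⟨lam, hlam⟩ := exists_hom_of_comm (fun a b : A => mul_comm a b) χ.2
              rw [hlam]; simp [hcon lam]
            rw [isConj_one_left] at this
            rw [this, orderOf_one] at ht
            exact hp.one_lt.ne ht
          haveI : Finite lam.range := inferInstance
          haveI hcyc : IsCyclic lam.range := isCyclic_of_subgroup_isDomain
            ((Units.coeHom ℂ).comp lam.range.subtype) (fun a b h => Subtype.ext (Units.ext h))
          have hd : p ∣ Nat.card lam.range := by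
            have h1 : orderOf (lam.rangeRestrict t) ∣ p := ht ▸ orderOf_map_dvd _ t
            rcases hp.eq_one_or_self_of_dvd _ h1 with h | h
            · rw [orderOf_eq_one_iff] at h
              exact absurd (congrArg Subtype.val h) hlam
            · exact h ▸ orderOf_dvd_natCard _
          obtain ⟨c, hc⟩ := hcyc.exists_generator
          let S := Subgroup.zpowers (c ^ p)
          refine ⟨S.comap lam.rangeRestrict, ?_⟩
          rw [Subgroup.index_comap_of_surjective _ lam.rangeRestrict_surjective]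
          have hco : orderOf c = Nat.card lam.range := orderOf_eq_card_of_forall_mem_zpowers hc
          have hS : Nat.card S = Nat.card lam.range / p := by
            rw [Nat.card_zpowers, orderOf_pow, hco, Nat.gcd_eq_right hd]
          have h2 := S.index_mul_card
          rw [hS] at h2
          refine Nat.eq_of_mul_eq_mul_right (Nat.div_pos (Nat.le_of_dvd Nat.card_pos hd) hp.pos) (h2.trans ?_)
          rw [Nat.mul_div_cancel' hd]
        haveI : B.Normal := inferInstance
        exact ⟨B.comap Abelianization.of, inferInstance,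
          by rw [Subgroup.index_comap_of_surjective _ (show Function.Surjective (Abelianization.of : G →* Abelianization G) from QuotientGroup.mk_surjective)]; exact hB⟩
      haveI := hN
      haveI := Fintype.ofFinite N
      have hNdeg : ∀ θ : IrrCharacter N, ∃ k : ℕ, deg (θ : N → ℂ) = p ^ k := by
        intro θ
        obtain ⟨χ, hχ⟩ := exists_irr_over N θ.2
        obtain ⟨k, hk, -⟩ := deg_ratio_dvd_index N χ.2 θ.2 hχ
        obtain ⟨a, ha⟩ := hdeg χ
        obtain ⟨b, -, hb⟩ := (Nat.dvd_prime_pow hp).mp (ha ▸ Dvd.intro_left _ hk.symm)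
        exact ⟨b, hb⟩
      have hlt : Nat.card N ≤ m := by
        have h := N.index_mul_card
        rw [hNidx] at h
        have := Nat.mul_le_mul_right (Nat.card N) hp.two_le
        omega
      obtain ⟨A, hAn, hAab, hAco, k, hk⟩ := ih N hlt hNdeg
      haveI := hAn
      refine ⟨A.map N.subtype, ⟨fun u hu g => ?_⟩, ?_, ?_, k + 1, ?_⟩
      · obtain ⟨a, ha, rfl⟩ := hu
        -- elements of order prime to `p` lie in `A`
        have hord : Nat.Coprime (orderOf (a : N)) p :=
          Nat.Coprime.coprime_dvd_left (Subgroup.orderOf_dvd_natCard _ ha) hAco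
        set b : N := ⟨g * a * g⁻¹, hN.conj_mem _ a.2 g⟩
        have hb : orderOf b = orderOf a := by
          rw [← Subgroup.orderOf_coe, ← Subgroup.orderOf_coe a]
          exact orderOf_injective (MulAut.conj g).toMonoidHom (MulAut.conj g).injective (a : G)
        refine ⟨b, ?_, rfl⟩
        have h1 : orderOf (b : N ⧸ A) ∣ p ^ k := by
          rw [← hk, Subgroup.index_eq_card]; exact orderOf_dvd_natCard _
        have h2 : orderOf (b : N ⧸ A) ∣ orderOf a := hb ▸ orderOf_map_dvd (QuotientGroup.mk' A) b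
        have h3 : orderOf (b : N ⧸ A) = 1 :=
          Nat.Coprime.eq_one_of_dvd ((Nat.Coprime.pow_right k hord).coprime_dvd_left h2) h1
        rw [orderOf_eq_one_iff] at h3
        exact (QuotientGroup.eq_one_iff b).mp h3
      · rintro _ ⟨a, ha, rfl⟩ _ ⟨b, hb, rfl⟩
        exact congrArg Subtype.val (hAab a ha b hb)
      · rwa [← Nat.card_congr (Subgroup.equivMapOfInjective A _ (Subgroup.subtype_injective N)).toEquiv]
      · have h1 := (A.map N.subtype).index_mul_card
        have h2 := A.index_mul_card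
        have h3 := N.index_mul_card
        rw [← Nat.card_congr (Subgroup.equivMapOfInjective A _ (Subgroup.subtype_injective N)).toEquiv] at h1
        rw [hk] at h2
        rw [hNidx, ← h2] at h3
        exact Nat.eq_of_mul_eq_mul_right (Nat.card_pos (α := A)) (h1.trans (h3.symm.trans (by ring)))

end Cfsg.Agent.CT.GaloisFixed
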