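import Cfsg.Agent.Lib.CT.Clifford

/-!
# The Clifford correspondence for subgroups containing the inertia group
-/

set_option linter.unusedSectionVars false

namespace Cfsg.Agent.CT

open scoped ComplexConjugate

universe u

variable {G : Type u} [Group G] [Fintype G] (N : Subgroup G) [hN : N.Normal] [Fintype N]
  {φ : N → ℂ} (hφ : IsIrrCharacter N φ) (T : Subgroup G) [Fintype T] (hI : inertia N φ ≤ T)
  (hNT : N ≤ T)

include hφ in
/-- Constituents on `N` of an irreducible character of `T` are conjugate in `T`. -/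
theorem exists_conj_of_resTo {ψ : T → ℂ} (hψ : IsIrrCharacter T ψ)
    (h1 : classInner (resTo N T hNT ψ) φ ≠ 0) {η : N → ℂ} (hη : IsIrrCharacter N η)
    (h2 : classInner (resTo N T hNT ψ) η ≠ 0) : ∃ t ∈ T, conjFun N t φ = η := by
  let L : Subgroup T := N.subgroupOf T
  letI := Fintype.ofFinite L
  let e : L ≃* N := Subgroup.subgroupOfEquivOfLe hNT
  have hin : ∀ f : N → ℂ, classInner (fun m : L => ψ m) (fun m => f (e m)) =
      classInner (resTo N T hNT ψ) f := by
    intro f
    simp only [classInner]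
    rw [Nat.card_congr e.toEquiv]
    congr 1
    exact Fintype.sum_equiv e.toEquiv _ _ fun m => rfl
  obtain ⟨t, ht⟩ := exists_conj_of_constituent L hψ
    (isIrrCharacter_comp e.toMonoidHom e.surjective hφ)
    (isIrrCharacter_comp e.toMonoidHom e.surjective hη)
    ((hin φ).trans_ne h1) ((hin η).trans_ne h2)
  refine ⟨t, t.2, funext fun n => ?_⟩
  have := congrFun ht (e.symm n)
  simp only [MulEquiv.coe_toMonoidHom, MulEquiv.apply_symm_apply] at this
  rw [← this]
  rfl

/-- Multiplicities of the restriction are invariant under `T`. -/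
theorem classInner_resTo_conjFun {ψ : T → ℂ} (hψ : IsClassFunction T ψ) (f : N → ℂ) {t : G}
    (ht : t ∈ T) :
    classInner (resTo N T hNT ψ) (conjFun N t f) = classInner (resTo N T hNT ψ) f := by
  have e : conjFun N t (resTo N T hNT ψ) = resTo N T hNT ψ := by
    funext n
    exact hψ ⟨(n : G), hNT n.2⟩ ⟨t, ht⟩
  conv_lhs => rw [← e]
  exact classInner_conjFun N t _ _

include hφ hI in
theorem deg_eq_of_over_le {ψ : T → ℂ} (hψ : IsIrrCharacter T ψ)
    (h1 : classInner (resTo N T hNT ψ) φ ≠ 0) :
    deg ψ = mult (resTo N T hNT ψ) φ * (inertia N φ).relIndex T * deg φ := by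
  classical
  let L : Subgroup T := N.subgroupOf T
  letI := Fintype.ofFinite L
  let e : L ≃* N := Subgroup.subgroupOfEquivOfLe hNT
  let φ' : L → ℂ := fun m => φ (e m)
  have hφ' : IsIrrCharacter L φ' := isIrrCharacter_comp e.toMonoidHom e.surjective hφ
  have hin : classInner (fun m : L => ψ m) φ' = classInner (resTo N T hNT ψ) φ := by
    simp only [classInner]
    rw [Nat.card_congr e.toEquiv]
    congr 1
    exact Fintype.sum_equiv e.toEquiv _ _ fun m => rfl
  have h := clifford_mult L hψ hφ' (hin.trans_ne h1)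
  have hm : mult (fun m : L => ψ m) φ' = mult (resTo N T hNT ψ) φ := by
    have e1 := mult_spec (isCharacter_restrict L (isCharacter_of_isIrr hψ)) (isCharacter_of_isIrr hφ')
    rw [hin, mult_spec (isCharacter_resTo N T hNT (isCharacter_of_isIrr hψ))
      (isCharacter_of_isIrr hφ)] at e1
    exact_mod_cast e1.symm
  have hd : deg φ' = deg φ := by simp [deg, φ']
  have hine : inertia L φ' = (inertia N φ).subgroupOf T := by
    ext t
    rw [Subgroup.mem_subgroupOf, mem_inertia, mem_inertia]
    constructor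
    · intro ht
      funext n
      have := congrFun ht (e.symm n)
      simp only [φ', MulEquiv.apply_symm_apply] at this
      rw [← this]
      rfl
    · intro ht
      funext m
      exact congrFun ht (e m)
  rw [h, hm, hd, hine]
  rfl

include hφ hI in
theorem deg_indFun_of_over_le {ψ : T → ℂ} (hψ : IsIrrCharacter T ψ)
    (h1 : classInner (resTo N T hNT ψ) φ ≠ 0) :
    deg (indFun T ψ) = mult (resTo N T hNT ψ) φ * (inertia N φ).index * deg φ := by
  have hψc := isCharacter_of_isIrr hψ
  have hdi : deg (indFun T ψ) = T.index * deg ψ := by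
    have h := deg_eq (isCharacter_indFun T hψc)
    rw [indFun_one_eval, deg_eq hψc] at h
    exact_mod_cast h.symm
  rw [hdi, deg_eq_of_over_le N hφ T hI hNT hψ h1, ← Subgroup.relIndex_mul_index hI]
  ring

include hφ hI in
/-- Irreducibility of induced characters over a constituent with small inertia group. -/
theorem isIrr_indFun_of_over_le {ψ : T → ℂ} (hψ : IsIrrCharacter T ψ)
    (h1 : classInner (resTo N T hNT ψ) φ ≠ 0) :
    IsIrrCharacter G (indFun T ψ) ∧
      classInner (fun n : N => indFun T ψ n) φ = classInner (resTo N T hNT ψ) φ := by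
  have hψc := isCharacter_of_isIrr hψ
  have hind := isCharacter_indFun T hψc
  obtain ⟨χ, hχ⟩ := exists_constituent hind (fun h => by
    have := congrFun h 1
    rw [indFun_one_eval, Pi.zero_apply] at this
    exact mul_ne_zero (Nat.cast_ne_zero.mpr Subgroup.index_ne_zero_of_finite)
      (irr_one_ne_zero hψ) this)
  have hres := isCharacter_restrict T (isCharacter_of_isIrr χ.2)
  have hm1 : mult (fun t : T => (χ : G → ℂ) t) ψ ≠ 0 := by
    intro h
    apply hχ
    rw [frobenius_reciprocity T _ (isClassFunction_of_isIrr χ.2),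
      classInner_comm_of_char hψc hres, mult_spec hres hψc, h, Nat.cast_zero]
  have hm2 : mult (resTo N T hNT ψ) φ ≠ 0 := fun h => h1 (by
    rw [mult_spec (isCharacter_resTo N T hNT hψc) (isCharacter_of_isIrr hφ), h, Nat.cast_zero])
  have hle : mult (resTo N T hNT ψ) φ ≤ mult (fun n : N => (χ : G → ℂ) n) φ := by
    rw [sum_mult_over N hφ T hNT (isCharacter_of_isIrr χ.2)]
    refine le_trans ?_ (Finset.single_le_sum (f := fun c : IrrCharacter T =>
      mult (fun t : T => (χ : G → ℂ) t) c * mult (resTo N T hNT c) φ) (fun _ _ => Nat.zero_le _)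
      (Finset.mem_univ ⟨ψ, hψ⟩))
    exact Nat.le_mul_of_pos_left _ (Nat.pos_of_ne_zero hm1)
  have hcon : classInner (fun n : N => (χ : G → ℂ) n) φ ≠ 0 := by
    rw [mult_spec (isCharacter_restrict N (isCharacter_of_isIrr χ.2)) (isCharacter_of_isIrr hφ),
      Nat.cast_ne_zero]
    omega
  have hdχ := clifford_mult N χ.2 hφ hcon
  have hdi := deg_indFun_of_over_le N hφ T hI hNT hψ h1
  have heq : indFun T ψ = χ := eq_of_deg_le hind χ.2 hχ (by
    rw [hdi, hdχ]; exact Nat.mul_le_mul_right _ (Nat.mul_le_mul_right _ hle))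
  refine ⟨heq ▸ χ.2, ?_⟩
  rw [heq] at hdi ⊢
  rw [mult_spec (isCharacter_restrict N (isCharacter_of_isIrr χ.2)) (isCharacter_of_isIrr hφ),
    mult_spec (isCharacter_resTo N T hNT hψc) (isCharacter_of_isIrr hφ)]
  rw [hdχ, mul_assoc, mul_assoc] at hdi
  exact_mod_cast Nat.eq_of_mul_eq_mul_right
    (Nat.mul_pos (Nat.pos_of_ne_zero Subgroup.index_ne_zero_of_finite) (deg_pos hφ)) hdi

include hφ hI in
/-- Injectivity of induction over a constituent with small inertia group. -/
theorem indFun_injective_of_over_le {ψ ψ' : IrrCharacter T}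
    (h1 : classInner (resTo N T hNT (ψ : T → ℂ)) φ ≠ 0)
    (h2 : classInner (resTo N T hNT (ψ' : T → ℂ)) φ ≠ 0)
    (h : indFun T (ψ : T → ℂ) = indFun T (ψ' : T → ℂ)) : ψ = ψ' := by
  classical
  by_contra hne
  obtain ⟨hirr, hm⟩ := isIrr_indFun_of_over_le N hφ T hI hNT ψ.2 h1
  set χ : G → ℂ := indFun T (ψ : T → ℂ) with hχ
  have hχc := isCharacter_of_isIrr hirr
  have hone : ∀ η : IrrCharacter T, indFun T (η : T → ℂ) = χ →
      mult (fun t : T => χ t) η = 1 := by
    intro η hη
    have e := frobenius_reciprocity T (η : T → ℂ) (isClassFunction_of_isIrr hirr)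
    rw [hη, irr_inner_self hirr,
      classInner_comm_of_char (isCharacter_of_isIrr η.2) (isCharacter_restrict T hχc),
      mult_spec (isCharacter_restrict T hχc) (isCharacter_of_isIrr η.2)] at e
    exact_mod_cast e.symm
  have hle := Finset.sum_le_sum_of_subset_of_nonneg (f := fun c : IrrCharacter T =>
    mult (fun t : T => χ t) c * mult (resTo N T hNT c) φ)
    (Finset.subset_univ ({ψ, ψ'} : Finset (IrrCharacter T))) (fun _ _ _ => Nat.zero_le _)
  rw [Finset.sum_pair hne, hone ψ rfl, hone ψ' h.symm, ← sum_mult_over N hφ T hNT hχc] at hle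
  rw [mult_spec (isCharacter_restrict N hχc) (isCharacter_of_isIrr hφ),
    mult_spec (isCharacter_resTo N T hNT (isCharacter_of_isIrr ψ.2)) (isCharacter_of_isIrr hφ),
    Nat.cast_inj] at hm
  have : mult (resTo N T hNT (ψ' : T → ℂ)) φ ≠ 0 := fun h0 => h2 (by
    rw [mult_spec (isCharacter_resTo N T hNT (isCharacter_of_isIrr ψ'.2)) (isCharacter_of_isIrr hφ),
      h0, Nat.cast_zero])
  omega

include hφ hI in
/-- Surjectivity of induction over a constituent with small inertia group. -/
theorem exists_correspondent_le {χ : G → ℂ} (hχ : IsIrrCharacter G χ)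
    (hcon : classInner (fun n : N => χ n) φ ≠ 0) :
    ∃ ψ : IrrCharacter T, indFun T (ψ : T → ℂ) = χ ∧
      classInner (resTo N T hNT (ψ : T → ℂ)) φ ≠ 0 := by
  have hcn := isCharacter_restrict N (isCharacter_of_isIrr hχ)
  have hms := sum_mult_over N hφ T hNT (isCharacter_of_isIrr hχ)
  have he : mult (fun n : N => χ n) φ ≠ 0 := fun h =>
    hcon (by rw [mult_spec hcn (isCharacter_of_isIrr hφ), h, Nat.cast_zero])
  rw [hms] at he
  obtain ⟨ψ, -, hψ⟩ := Finset.exists_ne_zero_of_sum_ne_zero he
  obtain ⟨hψ1, hψ2⟩ := mul_ne_zero_iff.mp hψ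
  have hψc := isCharacter_of_isIrr ψ.2
  have hover : classInner (resTo N T hNT (ψ : T → ℂ)) φ ≠ 0 := by
    rw [mult_spec (isCharacter_resTo N T hNT hψc) (isCharacter_of_isIrr hφ)]
    exact_mod_cast hψ2
  obtain ⟨hirr, -⟩ := isIrr_indFun_of_over_le N hφ T hI hNT ψ.2 hover
  refine ⟨ψ, ?_, hover⟩
  by_contra hne
  have h0 := irr_inner_of_ne hirr hχ hne
  rw [frobenius_reciprocity T _ (isClassFunction_of_isIrr hχ),
    classInner_comm_of_char hψc (isCharacter_restrict T (isCharacter_of_isIrr hχ)),
    mult_spec (isCharacter_restrict T (isCharacter_of_isIrr hχ)) hψc] at h0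
  exact hψ1 (by exact_mod_cast h0)

end Cfsg.Agent.CT
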