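import Cfsg.Agent.Lib.CT.Projective

/-!
# Extending invariant irreducible characters: cyclic quotients and gluing over primes
-/

namespace Cfsg.Agent.CT

open Module

universe u w

variable {G : Type u} [Group G] [Finite G] (N : Subgroup G) [hN : N.Normal]
  {W : Type w} [AddCommGroup W] [Module ℂ W] [FiniteDimensional ℂ W]

/-- Pairs `(g, A)` such that `A` carries `τ` to its conjugate by `g`. -/
def intertwiners (τ : Representation ℂ N W) : Subgroup (G × (Module.End ℂ W)ˣ) where
  carrier := {p | ∀ n : N, p.2 * τ.asGroupHom n =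
    τ.asGroupHom (MulAut.conjNormal p.1 n) * p.2}
  one_mem' n := by simp
  mul_mem' := by
    intro a b ha hb n
    simp only [Prod.snd_mul, Prod.fst_mul, map_mul, MulAut.mul_apply]
    rw [mul_assoc, hb n, ← mul_assoc, ha, mul_assoc]
  inv_mem' := by
    intro a ha n
    have h := ha ((MulAut.conjNormal a.1)⁻¹ n)
    rw [MulAut.apply_inv_self] at h
    simp only [Prod.snd_inv, Prod.fst_inv, map_inv]
    rw [inv_mul_eq_iff_eq_mul, ← mul_assoc, eq_mul_inv_iff_mul_eq, ← h]

variable {N} {τ : Representation ℂ N W}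

theorem mem_intertwiners {g : G} {A : (Module.End ℂ W)ˣ} :
    (g, A) ∈ intertwiners N τ ↔ ∀ n : N,
      A * τ.asGroupHom n = τ.asGroupHom (MulAut.conjNormal g n) * A := Iff.rfl

theorem mem_intertwiners_coe (n : N) : ((n : G), τ.asGroupHom n) ∈ intertwiners N τ := fun m => by
  rw [← map_mul, ← map_mul]
  exact congrArg τ.asGroupHom (Subtype.ext (by simp [MulAut.conjNormal_apply, mul_assoc]))

theorem IsProjExt.mem {P : G → (Module.End ℂ W)ˣ} (hP : IsProjExt N τ P) (g : G) :
    (g, P g) ∈ intertwiners N τ := fun n => by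
  rw [hP.2.2 g n]
  exact congrArg (fun m => τ.asGroupHom m * P g)
    (Subtype.ext (MulAut.conjNormal_apply g n).symm)

theorem intertwiner_unique [τ.IsIrreducible] {g : G} {A B : (Module.End ℂ W)ˣ}
    (hA : (g, A) ∈ intertwiners N τ) (hB : (g, B) ∈ intertwiners N τ) :
    ∃ c : ℂˣ, A = scU c * B := by
  obtain ⟨c, hc⟩ := unit_scalar (τ := τ) (B⁻¹ * A) fun n => by
    simpa using (intertwiners N τ).mul_mem ((intertwiners N τ).inv_mem hB) hA n
  exact ⟨c, by rw [scU_comm, ← hc, mul_inv_cancel_left]⟩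

/-- A homomorphism on units extending `τ` gives an irreducible character extending that of `τ`. -/
theorem exists_irr_of_hom [τ.IsIrreducible] (Q : G →* (Module.End ℂ W)ˣ)
    (hQ : ∀ n : N, Q n = τ.asGroupHom n) :
    ∃ χ : G → ℂ, IsIrrCharacter G χ ∧ ∀ n : N, χ n = τ.character n := by
  let ρ : Representation ℂ G W := (Units.coeHom (Module.End ℂ W)).comp Q
  have hρ : ∀ n : N, ρ n = τ n := fun n => by
    show ((Q n : (Module.End ℂ W)ˣ) : Module.End ℂ W) = _
    rw [hQ, Representation.asGroupHom_apply]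
  have : ρ.IsIrreducible := by
    obtain ⟨hW, h⟩ := (isIrreducible_iff τ).mp inferInstance
    exact (isIrreducible_iff ρ).mpr ⟨hW, fun U hU => h U fun n v hv => hρ n ▸ hU n v hv⟩
  refine ⟨ρ.character, isIrrCharacter_character ρ, fun n => ?_⟩
  simp only [Representation.character, hρ n]

/-- An extension to a subgroup can be realised on the space of `τ`. -/
theorem exists_hom_of_extension (H : Subgroup G) (hNH : N ≤ H) {η : H → ℂ} (hη : IsCharacter H η)
    (h : ∀ n : N, η ⟨n, hNH n.2⟩ = τ.character n) :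
    ∃ F : H →* (Module.End ℂ W)ˣ, ∀ n : N, F ⟨n, hNH n.2⟩ = τ.asGroupHom n := by
  obtain ⟨m, σ, rfl⟩ := hη
  let σN : Representation ℂ N (Fin m → ℂ) := σ.comp (Subgroup.inclusion hNH)
  obtain ⟨e⟩ := equiv_of_character_eq τ σN (funext fun n => (h n).symm)
  let σ' : Representation ℂ H W :=
    { toFun := fun x => e.toLinearEquiv.symm.conj (σ x)
      map_one' := by rw [map_one]; exact LinearEquiv.conj_id _
      map_mul' := fun x y => by rw [map_mul]; exact LinearEquiv.conj_comp _ _ _ }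
  refine ⟨σ'.asGroupHom, fun n => Units.ext (LinearMap.ext fun v => ?_)⟩
  rw [Representation.asGroupHom_apply, Representation.asGroupHom_apply]
  show e.toLinearEquiv.symm (σN n (e.toLinearEquiv.symm.symm v)) = τ n v
  rw [LinearEquiv.symm_symm, LinearEquiv.symm_apply_eq]
  exact (e.toIntertwiningMap.isIntertwining τ σN n v).symm

/-- An invariant irreducible representation extends if the quotient is cyclic. -/
theorem exists_hom_of_cyclic [τ.IsIrreducible] {P : G → (Module.End ℂ W)ˣ}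
    (hP : IsProjExt N τ P) [hc : IsCyclic (G ⧸ N)] :
    ∃ Q : G →* (Module.End ℂ W)ˣ, ∀ n : N, Q n = τ.asGroupHom n := by
  classical
  obtain ⟨q, hq⟩ := hc.exists_generator
  obtain ⟨g0, rfl⟩ := QuotientGroup.mk_surjective q
  set k := orderOf (QuotientGroup.mk g0 : G ⧸ N) with hk
  have hkpos : 0 < k := orderOf_pos _
  have hmk : g0 ^ k ∈ N := by
    rw [← QuotientGroup.eq_one_iff, QuotientGroup.mk_pow]
    exact pow_orderOf_eq_one _
  obtain ⟨c, hc'⟩ : ∃ c : ℂˣ, P g0 ^ k = scU c * τ.asGroupHom ⟨g0 ^ k, hmk⟩ :=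
    intertwiner_unique (τ := τ) (g := g0 ^ k)
      (by simpa using (intertwiners N τ).pow_mem (hP.mem g0) k)
      (mem_intertwiners_coe (⟨g0 ^ k, hmk⟩ : N))
  obtain ⟨s, hs⟩ := IsAlgClosed.exists_pow_nat_eq ((c : ℂ)⁻¹) hkpos
  have hs0 : s ≠ 0 := fun h0 => by
    rw [h0, zero_pow hkpos.ne'] at hs
    exact inv_ne_zero c.ne_zero hs.symm
  set A : (Module.End ℂ W)ˣ := scU (Units.mk0 s hs0) * P g0 with hA
  have hAmem : (g0, A) ∈ intertwiners N τ := fun n => by
    simp only [hA]
    rw [mul_assoc, hP.mem g0 n, ← mul_assoc, scU_comm, mul_assoc]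
  have hAk : A ^ k = τ.asGroupHom ⟨g0 ^ k, hmk⟩ := by
    have hcomm : Commute (scU (W := W) (Units.mk0 s hs0)) (P g0) := scU_comm _ _
    rw [hA, hcomm.mul_pow, hc', ← mul_assoc]
    have e : scU (W := W) (Units.mk0 s hs0) ^ k * scU c = 1 := by
      have e' : Units.mk0 s hs0 ^ k * c = 1 := Units.ext (by
        rw [Units.val_mul, Units.val_pow_eq_pow_val, Units.val_mk0, hs, Units.val_one,
          inv_mul_cancel₀ c.ne_zero])
      rw [← scU_one, ← e', scU_mul]
      congr 1
      exact (map_pow _ _ _).symm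
    rw [e, one_mul]
  have key : ∀ (i j : ℤ) (n m : N), g0 ^ i * (n : G) = g0 ^ j * (m : G) →
      A ^ i * τ.asGroupHom n = A ^ j * τ.asGroupHom m := by
    intro i j n m h
    have hij : g0 ^ (i - j) * (n : G) = (m : G) := by
      rw [sub_eq_neg_add, zpow_add, zpow_neg, mul_assoc, h, inv_mul_cancel_left]
    have hd : (k : ℤ) ∣ i - j := by
      rw [hk, orderOf_dvd_iff_zpow_eq_one, ← QuotientGroup.mk_zpow, QuotientGroup.eq_one_iff]
      have : g0 ^ (i - j) = ((m * n⁻¹ : N) : G) := by simp [← hij]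
      rw [this]
      exact (m * n⁻¹).2
    obtain ⟨t, ht⟩ := hd
    have e : A ^ (i - j) * τ.asGroupHom n = τ.asGroupHom m := by
      rw [ht, zpow_mul, zpow_natCast, hAk, ← map_zpow, ← map_mul]
      congr 1
      refine Subtype.ext ?_
      show (g0 ^ k) ^ t * (n : G) = (m : G)
      rw [← zpow_natCast g0 k, ← zpow_mul, ← ht]
      exact hij
    rw [← e, ← mul_assoc, ← zpow_add, add_sub_cancel]
  have hdec : ∀ g : G, ∃ (i : ℤ) (n : N), g = g0 ^ i * (n : G) := by
    intro g
    obtain ⟨i, hi⟩ := Subgroup.mem_zpowers_iff.mp (hq (QuotientGroup.mk g))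
    rw [← QuotientGroup.mk_zpow] at hi
    exact ⟨i, ⟨_, QuotientGroup.eq.mp hi⟩, by simp⟩
  choose i n hin using hdec
  refine ⟨MonoidHom.mk' (fun g => A ^ i g * τ.asGroupHom (n g)) fun a b => ?_, fun m => ?_⟩
  · have hm : (g0 ^ i b)⁻¹ * (n a : G) * g0 ^ i b ∈ N := by
      simpa using hN.conj_mem _ (n a).2 (g0 ^ i b)⁻¹
    have hmem := (intertwiners N τ).zpow_mem hAmem (i b)
    have h1 := hmem ⟨_, hm⟩
    simp only [Prod.pow_fst, Prod.pow_snd] at h1
    have h2 : MulAut.conjNormal (g0 ^ i b) (⟨_, hm⟩ : N) = n a :=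
      Subtype.ext (by rw [MulAut.conjNormal_apply]; simp [mul_assoc])
    rw [h2] at h1
    show A ^ i (a * b) * τ.asGroupHom (n (a * b)) =
      A ^ i a * τ.asGroupHom (n a) * (A ^ i b * τ.asGroupHom (n b))
    rw [← mul_assoc, mul_assoc (A ^ i a), ← h1, ← mul_assoc, ← zpow_add, mul_assoc, ← map_mul]
    refine key _ _ _ _ ?_
    rw [← hin]
    conv_lhs => rw [hin a, hin b]
    simp [zpow_add, mul_assoc]
  · show A ^ i (m : G) * τ.asGroupHom (n (m : G)) = _
    rw [key (i (m : G)) 0 _ m (by rw [← hin, zpow_zero, one_mul]), zpow_zero, one_mul]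

variable (N) in
/-- The exponents `m` for which `α ^ m` is a coboundary trivial on `N`. -/
def cocyclePowers (α : G → G → ℂˣ) : AddSubgroup ℤ where
  carrier := {m | ∃ K : G → ℂˣ, (∀ n : N, K n = 1) ∧ ∀ g h, α g h ^ m = K g * K h * (K (g * h))⁻¹}
  zero_mem' := ⟨1, fun _ => rfl, fun g h => by simp⟩
  add_mem' := by
    rintro a b ⟨K, hK1, hK⟩ ⟨L, hL1, hL⟩
    refine ⟨K * L, fun n => by simp [hK1, hL1], fun g h => ?_⟩
    simp only [zpow_add, hK, hL, Pi.mul_apply, mul_inv]
    ac_rfl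
  neg_mem' := by
    rintro a ⟨K, hK1, hK⟩
    refine ⟨K⁻¹, fun n => by simp [hK1], fun g h => ?_⟩
    simp only [zpow_neg, hK, Pi.inv_apply, mul_inv, inv_inv]

variable {P : G → (Module.End ℂ W)ˣ} {α : G → G → ℂˣ}

/-- Transfer: the index of a subgroup to which `τ` extends kills the cocycle. -/
theorem index_mem_cocyclePowers [τ.IsIrreducible] (hP : IsProjExt N τ P)
    (hα : ∀ g h, P g * P h = scU (α g h) * P (g * h)) (H : Subgroup G) (hNH : N ≤ H)
    (F : H →* (Module.End ℂ W)ˣ) (hF : ∀ n : N, F ⟨n, hNH n.2⟩ = τ.asGroupHom n) :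
    (H.index : ℤ) ∈ cocyclePowers N α := by
  classical
  haveI := Fintype.ofFinite (G ⧸ H)
  haveI : Nontrivial W := ((isIrreducible_iff τ).mp inferInstance).1
  have hFmem : ∀ x : H, ((x : G), F x) ∈ intertwiners N τ := fun x m => by
    rw [← hF, ← hF, ← map_mul, ← map_mul]
    exact congrArg F (Subtype.ext (by simp [MulAut.conjNormal_apply, mul_assoc]))
  have hh : ∀ (g : G) (q : G ⧸ H), (g • q).out⁻¹ * (g * q.out) ∈ H := fun g q => by
    rw [← QuotientGroup.eq, QuotientGroup.out_eq', ← MulAction.Quotient.coe_smul_out, smul_eq_mul]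
  let η : G → G ⧸ H → (Module.End ℂ W)ˣ := fun g q => F ⟨_, hh g q⟩
  have hκ : ∀ (g : G) (q : G ⧸ H), ∃ c : ℂˣ,
      P g * P q.out = scU c * (P (g • q).out * η g q) := by
    intro g q
    refine intertwiner_unique (τ := τ) (g := g * q.out) ?_ ?_
    · exact (intertwiners N τ).mul_mem (hP.mem g) (hP.mem q.out)
    · have := (intertwiners N τ).mul_mem (hP.mem (g • q).out) (hFmem ⟨_, hh g q⟩)
      simpa using this
  choose κ hκ using hκ
  have hcoc : ∀ (g g' : G) (q : G ⧸ H),
      α g g' * κ (g * g') q = κ g' q * κ g (g' • q) := by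
    intro g g' q
    have hη : η g (g' • q) * η g' q = η (g * g') q := by
      simp only [η, ← map_mul]
      refine congrArg F (Subtype.ext ?_)
      simp [mul_smul, mul_assoc]
    have h1 : P g * P g' * P q.out =
        scU (κ g' q * κ g (g' • q)) * (P ((g * g') • q).out * η (g * g') q) := by
      rw [mul_assoc, hκ, ← mul_assoc (P g), ← scU_comm, mul_assoc, ← mul_assoc (P g), hκ,
        mul_assoc, mul_assoc, hη, ← mul_assoc, ← scU_mul, mul_smul]
    have h2 : P g * P g' * P q.out =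
        scU (α g g' * κ (g * g') q) * (P ((g * g') • q).out * η (g * g') q) := by
      rw [hα, mul_assoc, hκ, ← mul_assoc, ← scU_mul]
    exact scU_injective (mul_right_cancel (h2.symm.trans h1))
  refine ⟨fun g => ∏ q, κ g q, fun n => Finset.prod_eq_one fun q _ => ?_, fun g g' => ?_⟩
  · have hq : ((n : G) • q) = q := by
      refine QuotientGroup.induction_on q fun x => ?_
      rw [MulAction.Quotient.smul_mk, smul_eq_mul, QuotientGroup.eq, mul_inv_rev, mul_assoc]
      exact hNH (by simpa [mul_assoc] using hN.conj_mem _ (N.inv_mem n.2) x⁻¹)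
    have hm : q.out⁻¹ * ((n : G) * q.out) ∈ N := by
      simpa [mul_assoc] using hN.conj_mem _ n.2 q.out⁻¹
    have hηn : η n q = τ.asGroupHom ⟨_, hm⟩ := by
      rw [← hF]
      exact congrArg F (Subtype.ext (by simp [hq]))
    have h := hκ (n : G) q
    rw [hq, hηn, ← hP.2.1, mul_inv_cancel_left, hP.1, hP.left_mul] at h
    exact scU_injective (mul_right_cancel (h.symm.trans (by rw [scU_one, one_mul])))
  · have h := congrArg (fun f : G ⧸ H → ℂˣ => ∏ q, f q) (funext (hcoc g g'))
    simp only [Finset.prod_mul_distrib, Finset.prod_const, Finset.card_univ] at h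
    rw [← Nat.card_eq_fintype_card, ← Subgroup.index_eq_card,
      Fintype.prod_equiv (MulAction.toPerm g') (fun q => κ g (g' • q)) (κ g) fun q => rfl] at h
    rw [zpow_natCast, eq_mul_inv_iff_mul_eq, h, mul_comm]

/-- Scalar projective extensions: the exponent of `τ` kills the cocycle. -/
theorem exponent_mem_cocyclePowers [Nontrivial W]
    (hα : ∀ g h, P g * P h = scU (α g h) * P (g * h)) (hP : IsProjExt N τ P) (o : ℕ)
    (hsc : ∀ g, ∃ c : ℂˣ, P g = scU c) (ho : ∀ n : N, τ.asGroupHom n ^ o = 1) :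
    (o : ℤ) ∈ cocyclePowers N α := by
  choose c hc using hsc
  refine ⟨fun g => c g ^ o, fun n => scU_injective (W := W) ?_, fun g h => ?_⟩
  · rw [scU_one, ← ho n, ← hP.1, hc]
    exact map_pow _ _ _
  · have e : α g h = c g * c h * (c (g * h))⁻¹ := by
      have := hα g h
      rw [hc, hc, hc, ← scU_mul, ← scU_mul] at this
      rw [scU_injective this, mul_inv_cancel_right]
    rw [zpow_natCast, e, mul_pow, mul_pow, inv_pow]

/-- Gluing over primes. -/
theorem exists_hom_of_primes (hP : IsProjExt N τ P)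
    (hα : ∀ g h, P g * P h = scU (α g h) * P (g * h))
    (h : ∀ p : ℕ, p.Prime → ∃ m : ℤ, ¬ (p : ℤ) ∣ m ∧ m ∈ cocyclePowers N α) :
    ∃ Q : G →* (Module.End ℂ W)ˣ, ∀ n : N, Q n = τ.asGroupHom n := by
  obtain ⟨a, ha⟩ := Int.subgroup_cyclic (cocyclePowers N α)
  have h1 : (1 : ℤ) ∈ cocyclePowers N α := by
    rcases Nat.lt_or_ge a.natAbs 2 with hlt | hge
    · interval_cases hh : a.natAbs
      · obtain ⟨m, hm, hmem⟩ := h 2 Nat.prime_two
        rw [ha, AddSubgroup.mem_closure_singleton] at hmem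
        obtain ⟨z, hz⟩ := hmem
        rw [Int.natAbs_eq_zero] at hh
        exact absurd (by simp [← hz, hh]) hm
      · rw [ha, AddSubgroup.mem_closure_singleton]
        rcases Int.natAbs_eq a with e | e
        · rw [hh] at e
          exact ⟨1, by rw [e]; rfl⟩
        · rw [hh] at e
          exact ⟨-1, by rw [e]; rfl⟩
    · obtain ⟨p, hp, hpa⟩ := Nat.exists_prime_and_dvd (show a.natAbs ≠ 1 by omega)
      obtain ⟨m, hm, hmem⟩ := h p hp
      rw [ha, AddSubgroup.mem_closure_singleton] at hmem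
      obtain ⟨z, hz⟩ := hmem
      exact absurd (hz ▸ smul_eq_mul z a ▸ (Int.natCast_dvd.mpr hpa).mul_left z) hm
  obtain ⟨K, hK1, hK⟩ := h1
  refine ⟨MonoidHom.mk' (fun g => scU (K g)⁻¹ * P g) fun g g' => ?_, fun n => ?_⟩
  · show scU (K (g * g'))⁻¹ * P (g * g') = scU (K g)⁻¹ * P g * (scU (K g')⁻¹ * P g')
    rw [mul_assoc (scU (K g)⁻¹), ← mul_assoc (P g), ← scU_comm, mul_assoc, hα, ← mul_assoc,
      ← mul_assoc, ← scU_mul, ← scU_mul]
    congr 2
    have h2 := hK g g'
    rw [zpow_one] at h2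
    rw [h2]
    apply Units.ext
    simp only [Units.val_mul, Units.val_inv_eq_inv_val]
    field_simp
  · show scU (K (n : G))⁻¹ * P n = _
    rw [hK1, inv_one, scU_one, one_mul, hP.1]

end Cfsg.Agent.CT
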