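import Cfsg.Agent.Lib.CT.GaloisFixed
import Cfsg.Agent.Lib.CoprimeExt.Basic

/-!
# Galois action on determinants, twists by linear characters, cyclotomic fixed fields
-/

set_option autoImplicit false
set_option linter.all false

namespace Cfsg.Agent.CT.GaloisTwist

open scoped IntermediateField

universe u

/-- An element of a cyclotomic field fixed by the automorphisms fixing a smaller cyclotomic field
lies in the smaller field. -/
theorem mem_of_fixed {N n : ℕ} [NeZero N] (hn : n ∣ N) {ζ ξ : ℂ} (hζ : IsPrimitiveRoot ζ N)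
    (hξ : IsPrimitiveRoot ξ n) {z : ℂ} (hz : z ∈ (ℚ⟮ζ⟯ : IntermediateField ℚ ℂ))
    (hfix : ∀ j : ℕ, j.Coprime N → j ≡ 1 [MOD n] → ∀ f : ℂ ≃+* ℂ,
      (∀ w : ℂ, w ^ N = 1 → f w = w ^ j) → f z = z) :
    z ∈ (ℚ⟮ξ⟯ : IntermediateField ℚ ℂ) := by
  set F : IntermediateField ℚ ℂ := ℚ⟮ξ⟯ with hF
  have hint : IsIntegral F ζ := (hζ.isIntegral (NeZero.pos N)).tower_top
  haveI := IntermediateField.adjoin.finiteDimensional hint
  have hz' : z ∈ F⟮ζ⟯ := by
    have hle : (ℚ⟮ζ⟯ : IntermediateField ℚ ℂ) ≤ (F⟮ζ⟯).restrictScalars ℚ :=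
      IntermediateField.adjoin_simple_le_iff.mpr (IntermediateField.mem_adjoin_simple_self F ζ)
    exact hle hz
  set a : F⟮ζ⟯ := ⟨z, hz'⟩ with ha
  have haint : IsIntegral F a := IsIntegral.of_finite F a
  have hξN : ξ ^ N = 1 := by
    obtain ⟨t, rfl⟩ := hn
    rw [pow_mul, hξ.pow_eq_one, one_pow]
  have hroots : ∀ β ∈ (minpoly F a).rootSet ℂ, β = z := by
    intro β hβ
    rw [← Algebra.IsAlgebraic.range_eval_eq_rootSet_minpoly] at hβ
    obtain ⟨φ, rfl⟩ := hβ
    set gen := IntermediateField.AdjoinSimple.gen F ζ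
    have hg : IsPrimitiveRoot gen N :=
      IsPrimitiveRoot.of_map_of_injective (f := (F⟮ζ⟯).val) (by simpa [gen] using hζ)
        Subtype.val_injective
    have hprim : IsPrimitiveRoot (φ gen) N := hg.map_of_injective φ.injective
    obtain ⟨j, -, hj, hje⟩ := hζ.isPrimitiveRoot_iff.mp hprim
    obtain ⟨f, hf⟩ := OddChar.exists_ringEquiv_pow (NeZero.pos N) hj
    obtain ⟨t, -, ht⟩ := hζ.eq_pow_of_pow_eq_one hξN
    have hξj : ξ ^ j = ξ := by
      have h1 : φ (gen ^ t) = ξ := by
        have e : gen ^ t = algebraMap F F⟮ζ⟯ ⟨ξ, IntermediateField.mem_adjoin_simple_self ℚ ξ⟩ :=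
          Subtype.ext (by simpa [gen] using ht)
        rw [e, φ.commutes]
        rfl
      rw [map_pow, ← hje, ← pow_mul, mul_comm, pow_mul, ht] at h1
      exact h1
    have hj1 : j ≡ 1 [MOD n] := by
      rcases Nat.eq_zero_or_pos n with rfl | hn0
      · exact absurd hn (by simpa using NeZero.ne N)
      · haveI : NeZero n := ⟨hn0.ne'⟩
        refine hξ.pow_inj (Nat.mod_lt _ hn0) (Nat.mod_lt _ hn0) ?_
        rw [hξ.eq_orderOf, pow_mod_orderOf, pow_mod_orderOf, hξj, pow_one]
    have hfF : ∀ x : F, f (x : ℂ) = x := by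
      rintro ⟨x, hx⟩
      show f x = x
      induction hx using IntermediateField.adjoin_induction with
      | mem y hy =>
        rw [Set.mem_singleton_iff] at hy
        subst hy
        rw [hf _ hξN, hξj]
      | algebraMap q => exact map_ratCast f q
      | add x y _ _ hx hy => rw [map_add, hx, hy]
      | inv x _ hx => rw [map_inv₀, hx]
      | mul x y _ _ hx hy => rw [map_mul, hx, hy]
    let Φ : F⟮ζ⟯ →ₐ[F] ℂ :=
      { toRingHom := f.toRingHom.comp (F⟮ζ⟯).val.toRingHom
        commutes' := fun x => hfF x }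
    have hΦ : Φ = φ := by
      refine (IntermediateField.adjoin.powerBasis hint).algHom_ext ?_
      rw [IntermediateField.adjoin.powerBasis_gen]
      show f ζ = φ gen
      rw [hf ζ hζ.pow_eq_one, hje]
    show φ a = z
    rw [← hΦ]
    exact hfix j hj hj1 f hf
  have hcard := Polynomial.card_rootSet_eq_natDegree (K := ℂ) (minpoly.irreducible haint).separable
    (IsAlgClosed.splits _)
  have hle : Fintype.card ((minpoly F a).rootSet ℂ) ≤ 1 :=
    Fintype.card_le_one_iff_subsingleton.mpr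
      ⟨fun x y => Subtype.ext ((hroots x x.2).trans (hroots y y.2).symm)⟩
  rw [hcard] at hle
  have hdeg : (minpoly F a).natDegree = 1 := by
    have := minpoly.natDegree_pos haint
    omega
  obtain ⟨q, hq⟩ := minpoly.natDegree_eq_one_iff.mp hdeg
  have h1 : (q : ℂ) = z := congrArg Subtype.val hq
  rw [← h1]
  exact q.2

theorem fixed_of_mem {n : ℕ} {ξ : ℂ} (f : ℂ ≃+* ℂ) (hf : f ξ = ξ) {z : ℂ}
    (hz : z ∈ (ℚ⟮ξ⟯ : IntermediateField ℚ ℂ)) : f z = z := by
  induction hz using IntermediateField.adjoin_induction with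
  | mem y hy =>
    rw [Set.mem_singleton_iff] at hy
    subst hy
    exact hf
  | algebraMap q => exact map_ratCast f q
  | add x y _ _ hx hy => rw [map_add, hx, hy]
  | inv x _ hx => rw [map_inv₀, hx]
  | mul x y _ _ hx hy => rw [map_mul, hx, hy]

variable {G : Type u} [Group G] {d : ℕ}

/-- Applying a field automorphism to the matrices of a representation. -/
noncomputable def mapRep (f : ℂ ≃+* ℂ) (ρ : Representation ℂ G (Fin d → ℂ)) :
    Representation ℂ G (Fin d → ℂ) :=
  (Matrix.toLinAlgEquiv' (R := ℂ) (n := Fin d)).toMonoidHom.comp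
    (f.toRingHom.mapMatrix.toMonoidHom.comp
      ((LinearMap.toMatrixAlgEquiv' (R := ℂ) (n := Fin d)).toMonoidHom.comp ρ))

theorem mapRep_char (f : ℂ ≃+* ℂ) (ρ : Representation ℂ G (Fin d → ℂ)) (g : G) :
    (mapRep f ρ).character g = f (ρ.character g) := by
  show LinearMap.trace ℂ _ (Matrix.toLinAlgEquiv' ((LinearMap.toMatrixAlgEquiv' (ρ g)).map f)) = _
  rw [show Matrix.toLinAlgEquiv' ((LinearMap.toMatrixAlgEquiv' (ρ g)).map f) =
    Matrix.toLin' ((LinearMap.toMatrix' (ρ g)).map f) from rfl, Matrix.trace_toLin'_eq]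
  show _ = f (LinearMap.trace ℂ _ (ρ g))
  conv_rhs => rw [← Matrix.toLin'_toMatrix' (ρ g), Matrix.trace_toLin'_eq]
  simp only [Matrix.trace, Matrix.diag, map_sum, Matrix.map_apply]

theorem mapRep_det (f : ℂ ≃+* ℂ) (ρ : Representation ℂ G (Fin d → ℂ)) (g : G) :
    (CoprimeExt.detHom (mapRep f ρ) g : ℂ) = f (CoprimeExt.detHom ρ g : ℂ) := by
  rw [CoprimeExt.detHom_apply, CoprimeExt.detHom_apply]
  show LinearMap.det (Matrix.toLin' ((LinearMap.toMatrix' (ρ g)).map f)) = f (LinearMap.det (ρ g))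
  rw [LinearMap.det_toLin', ← LinearMap.det_toMatrix' (f := ρ g)]
  exact (f.toRingHom.map_det _).symm

variable [Finite G]

/-- A Galois automorphism fixing a character fixes its determinant. -/
theorem map_det_eq_of_fixed (f : ℂ ≃+* ℂ) (ρ : Representation ℂ G (Fin d → ℂ))
    (h : ∀ g, f (ρ.character g) = ρ.character g) (g : G) :
    f (CoprimeExt.detHom ρ g : ℂ) = (CoprimeExt.detHom ρ g : ℂ) := by
  rw [← mapRep_det]
  have e : (mapRep f ρ).character = ρ.character := funext fun x => by rw [mapRep_char, h]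
  have h1 := CoprimeExt.detChar_eq (mapRep f ρ)
  rw [e, CoprimeExt.detChar_eq] at h1
  exact (congrFun h1 g).symm

/-- A representation twisted by a linear character. -/
noncomputable def twist (μ : G →* ℂˣ) (ρ : Representation ℂ G (Fin d → ℂ)) :
    Representation ℂ G (Fin d → ℂ) where
  toFun g := (μ g : ℂ) • ρ g
  map_one' := by simp
  map_mul' g h := by rw [map_mul, map_mul, Units.val_mul, smul_mul_smul_comm]

theorem twist_char (μ : G →* ℂˣ) (ρ : Representation ℂ G (Fin d → ℂ)) (g : G) :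
    (twist μ ρ).character g = (μ g : ℂ) * ρ.character g := by
  show LinearMap.trace ℂ _ ((μ g : ℂ) • ρ g) = _
  rw [map_smul]
  rfl

theorem twist_det (μ : G →* ℂˣ) (ρ : Representation ℂ G (Fin d → ℂ)) (g : G) :
    CoprimeExt.detHom (twist μ ρ) g = μ g ^ d * CoprimeExt.detHom ρ g := by
  refine Units.ext ?_
  rw [Units.val_mul, Units.val_pow_eq_pow_val, CoprimeExt.detHom_apply, CoprimeExt.detHom_apply]
  show LinearMap.det ((μ g : ℂ) • ρ g) = _
  rw [LinearMap.det_smul, Module.finrank_fin_fun]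

theorem isIrr_twist [Fintype G] (μ : G →* ℂˣ) (ρ : Representation ℂ G (Fin d → ℂ)) [ρ.IsIrreducible] :
    Cfsg.IsIrrCharacter G (twist μ ρ).character := by
  refine CT.isIrr_of_inner_self (CT.isCharacter_character _) ?_
  rw [← CT.irr_inner_self (CT.isIrrCharacter_character ρ), Cfsg.classInner, Cfsg.classInner]
  congr 1
  refine Finset.sum_congr rfl fun g _ => ?_
  have hn : ‖(μ g : ℂ)‖ = 1 :=
    Complex.norm_eq_one_of_pow_eq_one (n := Nat.card G)
      (by rw [← Units.val_pow_eq_pow_val, ← map_pow, pow_card_eq_one', map_one, Units.val_one])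
      Nat.card_pos.ne'
  rw [twist_char, map_mul]
  have : (μ g : ℂ) * (starRingEnd ℂ) (μ g : ℂ) = 1 := by rw [Complex.mul_conj', hn]; simp
  linear_combination (ρ.character g * (starRingEnd ℂ) (ρ.character g)) * this

end Cfsg.Agent.CT.GaloisTwist
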