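import Cfsg.Agent.Lib.CT.Induced
import Cfsg.Prelude.Def_Blocks
import Cfsg.Agent.Lib.CT.Integral
import Cfsg.Agent.Lib.CT.GaloisTwist
import Cfsg.Agent.Lib.OddChar.GaloisChar
import Mathlib.Data.Nat.Multiplicity
import Mathlib.Data.Nat.ChineseRemainder
import Mathlib.Algebra.CharP.Quotient
import Mathlib.Algebra.CharP.Lemmas
import Mathlib.RingTheory.RootsOfUnity.Complex

/-!
# The order of a `p`-group with a faithful rational character

Schur's bound: the values of such a character lie in a short arithmetic progression, and the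
product over the progression is a generalized character supported at the identity.
-/

set_option linter.unusedSectionVars false

namespace Cfsg.Agent.CT.RationalP

universe u

variable {P : Type u} [Group P] [Finite P] {p : ℕ}

/-- Congruence of a rational character value at a `p`-element. -/
theorem dvd_sub_deg (hp : p.Prime) {n b : ℕ} {ω : Fin n → ℂ} (hω : ∀ i, ω i ^ p ^ b = 1) {z : ℤ}
    (hz : ∑ i, ω i = (z : ℂ)) : (p : ℤ) ∣ z - n := by
  haveI := Fact.mk hp
  have hunit : (p : AlgInt) ∈ nonunits AlgInt := by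
    intro hu
    obtain ⟨v, hv⟩ := hu.exists_left_inv
    have h1 : IsIntegral ℤ ((1 : ℂ) / (p : ℕ)) := by
      have e : (v : ℂ) * (p : ℂ) = 1 := by exact_mod_cast congrArg Subtype.val hv
      rw [show ((1 : ℂ) / (p : ℕ)) = (v : ℂ) from
        (eq_one_div_of_mul_eq_one_left e).symm]
      exact v.2
    have h2 := dvd_of_isIntegral_div hp.ne_zero (a := 1) (by simpa using h1)
    exact hp.ne_one (Nat.dvd_one.mp h2)
  let I : Ideal AlgInt := Ideal.span {(p : AlgInt)}
  haveI : CharP (AlgInt ⧸ I) p := CharP.quotient AlgInt p hunit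
  let w : Fin n → AlgInt := fun i => ⟨ω i, IsIntegral.of_pow (pow_pos hp.pos b) (by
    rw [hω i]; exact isIntegral_one)⟩
  have hw : ∀ i, w i ^ p ^ b = 1 := fun i => Subtype.ext (by simp [w, hω i])
  have hsum : ∑ i, w i = (z : AlgInt) := Subtype.ext (by
    rw [AddSubmonoidClass.coe_finsetSum]
    simpa [w] using hz)
  have hfix : ∀ c : ℕ, ((z : AlgInt ⧸ I)) ^ p ^ c = (z : AlgInt ⧸ I) := by
    intro c
    induction c with
    | zero => simp
    | succ c ih => rw [pow_succ, pow_mul, ih, ← frobenius_def, map_intCast]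
  have h : ((z : AlgInt ⧸ I)) = (n : AlgInt ⧸ I) := by
    rw [← hfix b, ← map_intCast (Ideal.Quotient.mk I), ← hsum, map_sum, sum_pow_char_pow]
    simp only [← map_pow, hw, map_one, Finset.sum_const, Finset.card_univ, Fintype.card_fin,
      nsmul_eq_mul, mul_one]
  rw [← CharP.intCast_eq_zero_iff (AlgInt ⧸ I) p, Int.cast_sub, h, Int.cast_natCast, sub_self]

/-- A rational value at a `p`-element is `n - p k` with `(p - 1) k ≤ n`. -/
theorem exists_value (hp : p.Prime) {χ : P → ℂ} (hχ : IsCharacter P χ) {g : P} {b : ℕ}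
    (hg : g ^ p ^ b = 1) (hrat : ∀ k : ℕ, k.Coprime p → χ (g ^ k) = χ g) :
    ∃ k : ℕ, (p - 1) * k ≤ deg χ ∧ χ g = (deg χ : ℂ) - (p : ℂ) * (k : ℂ) := by
  classical
  rcases b with _ | b
  · rw [pow_zero, pow_one] at hg
    exact ⟨0, by simp, by rw [hg, deg_eq hχ]; simp⟩
  obtain ⟨m, ρ, rfl⟩ := hχ
  have hn : deg ρ.character = Module.finrank ℂ (Fin m → ℂ) := deg_eq_finrank ρ
  obtain ⟨ω, hω, he⟩ := exists_eigenvalues ρ g
  generalize Module.finrank ℂ (Fin m → ℂ) = n at ω hω he hn
  have hωN : ∀ i, ω i ^ p ^ (b + 1) = 1 := fun i => orderOf_dvd_iff_pow_eq_one.mp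
    ((orderOf_dvd_of_pow_eq_one (hω i)).trans (orderOf_dvd_of_pow_eq_one hg))
  -- sums of all powers
  have hgeom : ∀ (w : ℂ) (N : ℕ), w ^ N = 1 →
      ∑ k ∈ Finset.range N, w ^ k = if w = 1 then (N : ℂ) else 0 := by
    intro w N hw
    by_cases h : w = 1
    · simp [h]
    · rw [if_neg h, geom_sum_eq h, hw, sub_self, zero_div]
  set d1 := (Finset.univ.filter fun i => ω i = 1).card with hd1
  set d0 := (Finset.univ.filter fun i => ω i ^ p = 1).card with hd0
  have hall : ∑ k ∈ Finset.range (p ^ (b + 1)), ρ.character (g ^ k) = (d1 : ℂ) * (p : ℂ) ^ (b + 1) := by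
    simp only [he]
    rw [Finset.sum_comm, Finset.sum_congr rfl fun i _ => hgeom (ω i) _ (hωN i), ← Finset.sum_filter,
      Finset.sum_const, nsmul_eq_mul, Nat.cast_pow]
  have hmul : ∑ k ∈ Finset.range (p ^ b), ρ.character (g ^ (p * k)) = (d0 : ℂ) * (p : ℂ) ^ b := by
    rw [Finset.sum_congr rfl fun k _ => he (p * k)]
    simp only [pow_mul]
    rw [Finset.sum_comm, Finset.sum_congr rfl fun i _ => hgeom (ω i ^ p) _ (by
      rw [← pow_mul, ← pow_succ']; exact hωN i), ← Finset.sum_filter, Finset.sum_const,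
      nsmul_eq_mul, Nat.cast_pow]
  have himg : (Finset.range (p ^ (b + 1))).filter (fun k => p ∣ k) =
      (Finset.range (p ^ b)).image (fun k => p * k) := by
    ext k
    simp only [Finset.mem_filter, Finset.mem_range, Finset.mem_image]
    constructor
    · rintro ⟨hk, c, rfl⟩
      exact ⟨c, Nat.lt_of_mul_lt_mul_left (pow_succ' p b ▸ hk), rfl⟩
    · rintro ⟨c, hc, rfl⟩
      exact ⟨pow_succ' p b ▸ Nat.mul_lt_mul_of_pos_left hc hp.pos, dvd_mul_right _ _⟩
  have hsplit := Finset.sum_filter_add_sum_filter_not (Finset.range (p ^ (b + 1))) (fun k => p ∣ k)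
    fun k => ρ.character (g ^ k)
  have hcard := Finset.card_filter_add_card_filter_not (s := Finset.range (p ^ (b + 1)))
    (fun k => p ∣ k)
  rw [himg, Finset.card_image_of_injective _ (mul_right_injective₀ hp.ne_zero), Finset.card_range,
    Finset.card_range] at hcard
  rw [himg, Finset.sum_image fun a _ c _ h => mul_right_injective₀ hp.ne_zero h, hmul, hall,
    Finset.sum_congr rfl fun k hk => hrat k
      ((hp.coprime_iff_not_dvd.mpr (Finset.mem_filter.mp hk).2).symm),
    Finset.sum_const, nsmul_eq_mul] at hsplit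
  have hpb : (p : ℂ) ^ b ≠ 0 := pow_ne_zero _ (Nat.cast_ne_zero.mpr hp.ne_zero)
  have heq : ((p : ℂ) - 1) * ρ.character g = (p : ℂ) * d1 - d0 := by
    apply mul_left_cancel₀ hpb
    have hc : (((Finset.range (p ^ (b + 1))).filter fun k => ¬ p ∣ k).card : ℂ) =
        (p : ℂ) ^ (b + 1) - (p : ℂ) ^ b := by
      rw [eq_sub_iff_add_eq', ← Nat.cast_pow, ← Nat.cast_pow, ← Nat.cast_add, hcard]
    rw [hc, pow_succ] at hsplit
    linear_combination hsplit
  have h01 : d1 ≤ d0 := Finset.card_le_card fun i hi => by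
    rw [Finset.mem_filter] at hi ⊢
    exact ⟨hi.1, by rw [hi.2, one_pow]⟩
  have h0n : d0 ≤ n := (Finset.card_le_univ _).trans_eq (Fintype.card_fin n)
  have hp1 : ((p : ℂ) - 1) ≠ 0 := sub_ne_zero.mpr (by exact_mod_cast hp.ne_one)
  -- the value is an integer
  obtain ⟨z, hz⟩ : ∃ z : ℤ, (z : ℂ) = ρ.character g := by
    have hint : IsIntegral ℤ (ρ.character g) := isIntegral_char ρ g
    have hq : ρ.character g = ((((p : ℚ) * d1 - d0) / ((p : ℚ) - 1) : ℚ) : ℂ) := by
      push_cast
      rw [eq_div_iff hp1, mul_comm]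
      exact heq
    rw [hq] at hint ⊢
    obtain ⟨z, hz⟩ := IsIntegrallyClosed.isIntegral_iff.mp
      ((isIntegral_algebraMap_iff (RingHom.injective (algebraMap ℚ ℂ))).mp hint)
    exact ⟨z, by rw [← hz]; simp⟩
  rw [← hz] at heq
  have heqZ : ((p : ℤ) - 1) * z = (p : ℤ) * d1 - d0 := by exact_mod_cast heq
  have hdvd := dvd_sub_deg hp (n := n) (b := b + 1) hωN (z := z) (by
    rw [hz, ← pow_one g, he 1]; simp)
  have hp2 : (2 : ℤ) ≤ p := by exact_mod_cast hp.two_le
  have hzn : z ≤ n := by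
    have h1 : (d1 : ℤ) ≤ d0 := by exact_mod_cast h01
    have h2 : (d0 : ℤ) ≤ n := by exact_mod_cast h0n
    nlinarith
  obtain ⟨k, hk⟩ := hdvd
  obtain ⟨k', rfl⟩ : ∃ k' : ℕ, k = -(k' : ℤ) :=
    ⟨(-k).toNat, by rw [Int.toNat_of_nonneg (by nlinarith)]; ring⟩
  rw [hn]
  refine ⟨k', ?_, ?_⟩
  · have h : ((p : ℤ) - 1) * ((p : ℤ) * k') ≤ (p : ℤ) * n := by
      have h1 : (p : ℤ) * k' = n - z := by linarith
      rw [h1, mul_sub, heqZ]
      have h2 : (d0 : ℤ) ≤ n := by exact_mod_cast h0n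
      have h3 : (0 : ℤ) ≤ (p : ℤ) * d1 := by positivity
      linarith
    have h4 : ((p : ℤ) - 1) * k' ≤ n := by nlinarith
    have : (((p - 1) * k' : ℕ) : ℤ) ≤ ((n : ℕ) : ℤ) := by
      push_cast [Nat.cast_sub hp.one_le]; exact h4
    exact_mod_cast this
  · rw [← hz]
    have h1 : z = (n : ℤ) - (p : ℤ) * k' := by linarith
    rw [h1]
    push_cast
    rfl

/-- Schur's bound for a `p`-group. -/
theorem card_dvd [Fintype P] (hp : p.Prime) (hP : IsPGroup p P) {χ : P → ℂ} (hχ : IsCharacter P χ)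
    (hfaith : ∀ g : P, χ g = χ 1 → g = 1)
    (hrat : ∀ g : P, ∀ k : ℕ, k.Coprime p → χ (g ^ k) = χ g) :
    Nat.card P ∣ p ^ (deg χ / (p - 1)) * (deg χ / (p - 1)).factorial := by
  classical
  set K := deg χ / (p - 1) with hK
  let ψ : ℕ → P → ℂ := fun k =>
    χ - ((deg χ : ℤ) - (p : ℤ) * ((k : ℤ) + 1) : ℤ) • (1 : P → ℂ)
  have hone : IsGeneralizedCharacter P (1 : P → ℂ) :=
    isGen_of_isCharacter (isCharacter_one (G := P))
  have hψ : ∀ k g, ψ k g = χ g - ((deg χ : ℂ) - (p : ℂ) * ((k : ℂ) + 1)) := fun k g => by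
    simp [ψ, zsmul_eq_mul]
  have hgenψ : ∀ k, IsGeneralizedCharacter P (ψ k) := fun k => isGen_sub
    (isGen_of_isCharacter hχ) (by
      rw [← Int.cast_smul_eq_zsmul ℂ]
      exact isGen_zsmul _ hone)
  let f : P → ℂ := ∏ k ∈ Finset.range K, ψ k
  have hgen : IsGeneralizedCharacter P f :=
    Finset.prod_induction ψ (IsGeneralizedCharacter P) (fun _ _ => isGen_mul) hone fun k _ => hgenψ k
  have hzero : ∀ g : P, g ≠ 1 → f g = 0 := by
    intro g hg
    obtain ⟨b, hb⟩ := hP g
    obtain ⟨k, hk, hval⟩ := exists_value hp hχ hb (hrat g)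
    rcases k with _ | k
    · exact absurd (hfaith g (by rw [hval, deg_eq hχ]; simp)) hg
    · simp only [f, Finset.prod_apply]
      refine Finset.prod_eq_zero (i := k) (Finset.mem_range.mpr ?_) ?_
      · have h1 : (k + 1) ≤ K := (Nat.le_div_iff_mul_le (Nat.sub_pos_of_lt hp.one_lt)).mpr
          (by rwa [mul_comm])
        omega
      · rw [hψ, hval]; push_cast; ring
  have hf1 : f 1 = ((p ^ K * K.factorial : ℕ) : ℂ) := by
    simp only [f, Finset.prod_apply]
    rw [Finset.prod_congr rfl fun k _ => show ψ k 1 = (p : ℂ) * ((k + 1 : ℕ) : ℂ) by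
      rw [hψ, deg_eq hχ]; push_cast; ring, Finset.prod_mul_distrib, Finset.prod_const,
      Finset.card_range, ← Nat.cast_prod, Finset.prod_range_add_one_eq_factorial]
    push_cast
    ring
  obtain ⟨a, c, ha, hc, hac⟩ := hgen
  obtain ⟨na, hna⟩ := classInner_character_nat ha (isCharacter_one (G := P))
  obtain ⟨nc, hnc⟩ := classInner_character_nat hc (isCharacter_one (G := P))
  have hi : classInner f (1 : P → ℂ) = (((na : ℤ) - nc : ℤ) : ℂ) := by
    rw [hac, classInner_sub_left, show (1 : P → ℂ) = fun _ => 1 from rfl, hna, hnc]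
    push_cast; ring
  have hsum : ∑ g, f g = f 1 := Finset.sum_eq_single 1 (fun g _ hg => hzero g hg) (by simp)
  simp only [classInner, finsum_eq_sum_of_fintype, Pi.one_apply, map_one, mul_one, hsum, hf1] at hi
  have hP0 : (Nat.card P : ℂ) ≠ 0 := CT.card_ne_zero
  field_simp at hi
  rw [← Int.natCast_dvd_natCast]
  exact ⟨(na : ℤ) - nc, by exact_mod_cast hi⟩

/-- The bound on the exponent. -/
theorem factorization_le (hp : p.Prime) {N n a : ℕ} (hn : N ∣ p ^ n * n.factorial)
    (ha : p ^ a ∣ N) : a ≤ ∑ i ∈ Finset.range (n + 1), n / p ^ i := by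
  have h := ha.trans hn
  have hlog : Nat.log p n < n + 1 := by
    have := Nat.log_le_self p n
    omega
  rw [Finset.range_eq_Ico, Finset.sum_eq_sum_Ico_succ_bot n.succ_pos, pow_zero, Nat.div_one,
    ← Nat.succ_eq_add_one]
  rcases le_or_gt a n with h' | h'
  · omega
  · obtain ⟨r, rfl⟩ : ∃ r, a = n + r := ⟨a - n, by omega⟩
    rw [pow_add, Nat.mul_dvd_mul_iff_left (pow_pos hp.pos n)] at h
    have := (hp.pow_dvd_factorial_iff hlog).mp h
    simp only [Nat.succ_eq_add_one, Nat.zero_add] at this ⊢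
    omega

/-- Schur's bound for a group with a faithful character with rational values on `p`-elements. -/
theorem schur_bound {G : Type u} [Group G] [Finite G] (hp : p.Prime) {χ : G → ℂ}
    (hχ : IsCharacter G χ) (hfaith : ∀ g : G, χ g = χ 1 → g = 1)
    (hrat : ∀ g : G, (∃ b : ℕ, g ^ p ^ b = 1) → ∀ k : ℕ, k.Coprime p → χ (g ^ k) = χ g) :
    (Nat.card G).factorization p ≤
      ∑ i ∈ Finset.range (deg χ + 1), deg χ / ((p - 1) * p ^ i) := by
  haveI := Fact.mk hp
  obtain ⟨P⟩ : Nonempty (Sylow p G) := inferInstance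
  haveI := Fintype.ofFinite (P : Subgroup G)
  set n := deg χ with hn
  have hdeg : deg (fun x : (P : Subgroup G) => χ x) = n := by simp [deg, hn]
  have h := card_dvd hp P.isPGroup' (isCharacter_restrict _ hχ)
    (fun x hx => Subtype.ext (hfaith x (by simpa using hx)))
    (fun x k hk => by
      obtain ⟨b, hb⟩ := P.isPGroup' x
      simpa using hrat (x : G) ⟨b, by simpa using congrArg Subtype.val hb⟩ k hk)
  rw [hdeg, P.card_eq_multiplicity] at h
  refine (factorization_le hp h dvd_rfl).trans ((Finset.sum_le_sum_of_subset ?_).trans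
    (Finset.sum_le_sum fun i _ => (Nat.div_div_eq_div_mul _ _ _).le))
  exact Finset.range_mono (Nat.succ_le_succ (Nat.div_le_self _ _))

end Cfsg.Agent.CT.RationalP
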