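import Mathlib.RepresentationTheory.Character
import Mathlib.RepresentationTheory.Semisimple
import Mathlib.RepresentationTheory.Maschke
import Mathlib.LinearAlgebra.Eigenspace.Semisimple
import Mathlib.LinearAlgebra.Eigenspace.Triangularizable
import Mathlib.FieldTheory.IsAlgClosed.Basic
import Mathlib.Analysis.Complex.Polynomial.Basic
import Mathlib.RingTheory.RootsOfUnity.Complex
import Cfsg.Prelude.Def_Characters

/-!
# Ordinary character theory: basic facts

Eigenvalues, conjugates, closure properties of characters.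
-/

namespace Cfsg.Agent.CT

open scoped ComplexConjugate
open Representation Module

universe u v w

section EndFinite

variable {V : Type v} [AddCommGroup V] [Module ℂ V] [FiniteDimensional ℂ V]

/-- An endomorphism of finite order has an eigenbasis, eigenvalues being roots of unity. -/
theorem exists_eigenbasis (f : Module.End ℂ V) {m : ℕ} (hm : 0 < m) (hf : f ^ m = 1) :
    ∃ (b : Basis (Fin (finrank ℂ V)) ℂ V) (ω : Fin (finrank ℂ V) → ℂ),
      (∀ i, f (b i) = ω i • b i) ∧ ∀ i, ω i ^ m = 1 := by
  classical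
  have hss : f.IsSemisimple := by
    have hsep : (Polynomial.X ^ m - Polynomial.C (1 : ℂ)).Separable :=
      Polynomial.separable_X_pow_sub_C (1 : ℂ) (by exact_mod_cast hm.ne') one_ne_zero
    refine Module.End.isSemisimple_of_squarefree_aeval_eq_zero hsep.squarefree ?_
    simp [hf]
  have htop : ⨆ μ : ℂ, f.eigenspace μ = ⊤ := by
    have h := Module.End.iSup_maxGenEigenspace_eq_top f
    simpa only [(Module.End.isFinitelySemisimple_iff_isSemisimple.mpr hss).maxGenEigenspace_eq_eigenspace]
      using h
  have hint : DirectSum.IsInternal fun μ : ℂ => f.eigenspace μ :=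
    (DirectSum.isInternal_submodule_iff_iSupIndep_and_iSup_eq_top _).mpr
      ⟨Module.End.eigenspaces_iSupIndep f, htop⟩
  let c := hint.collectedBasis fun μ => Module.finBasis ℂ (f.eigenspace μ)
  let b : Basis (Fin (finrank ℂ V)) ℂ V := c.reindex ((Module.finBasis ℂ V).indexEquiv c).symm
  let e := (Module.finBasis ℂ V).indexEquiv c
  refine ⟨b, fun i => (e i).1, fun i => ?_, fun i => ?_⟩
  · have := hint.collectedBasis_mem (fun μ => Module.finBasis ℂ (f.eigenspace μ)) (e i)
    rw [Module.End.mem_eigenspace_iff] at this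
    simpa [b, e, c] using this
  · have h1 : f (b i) = (e i).1 • b i := by
      have := hint.collectedBasis_mem (fun μ => Module.finBasis ℂ (f.eigenspace μ)) (e i)
      rw [Module.End.mem_eigenspace_iff] at this
      simpa [b, e, c] using this
    have h2 : ∀ k : ℕ, (f ^ k) (b i) = (e i).1 ^ k • b i := by
      intro k
      induction k with
      | zero => simp
      | succ k ih =>
        rw [pow_succ', Module.End.mul_apply, ih, map_smul, h1, smul_smul, pow_succ]
    have h3 := h2 m
    rw [hf, Module.End.one_apply] at h3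
    have h4 : ((e i).1 ^ m - 1) • b i = 0 := by rw [sub_smul, one_smul, ← h3, sub_self]
    exact sub_eq_zero.mp ((smul_eq_zero.mp h4).resolve_right (b.ne_zero i))

theorem trace_eq_sum_of_eigenbasis {ι : Type w} [Fintype ι] (f : Module.End ℂ V)
    (b : Basis ι ℂ V) (ω : ι → ℂ) (h : ∀ i, f (b i) = ω i • b i) :
    LinearMap.trace ℂ V f = ∑ i, ω i := by
  classical
  rw [LinearMap.trace_eq_matrix_trace ℂ b, Matrix.trace]
  refine Finset.sum_congr rfl fun i _ => ?_
  simp [LinearMap.toMatrix_apply, h]

end EndFinite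

theorem conj_of_pow_eq_one {z : ℂ} {m : ℕ} (hm : m ≠ 0) (h : z ^ m = 1) :
    conj z = z ^ (m - 1) := by
  have hn : ‖z‖ = 1 := Complex.norm_eq_one_of_pow_eq_one h hm
  have hz : z ≠ 0 := by
    intro h0
    simp [h0] at hn
  have h1 : z * z ^ (m - 1) = 1 := by
    rw [← pow_succ', Nat.sub_add_cancel (Nat.one_le_iff_ne_zero.mpr hm)]
    exact h
  have h2 : z * conj z = 1 := by rw [Complex.mul_conj', hn]; simp
  exact mul_left_cancel₀ hz (h2.trans h1.symm)

section Rep

variable {G : Type u} [Group G] {V : Type v} [AddCommGroup V] [Module ℂ V] [FiniteDimensional ℂ V]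

theorem rep_pow_card (ρ : Representation ℂ G V) [Finite G] (g : G) : ρ g ^ Nat.card G = 1 := by
  rw [← map_pow, pow_card_eq_one', map_one]

/-- Simultaneous eigenvalues of all powers of an element. -/
theorem exists_eigenvalues [Finite G] (ρ : Representation ℂ G V) (g : G) :
    ∃ ω : Fin (finrank ℂ V) → ℂ, (∀ i, ω i ^ orderOf g = 1) ∧
      ∀ k : ℕ, ρ.character (g ^ k) = ∑ i, ω i ^ k := by
  have hf : ρ g ^ orderOf g = 1 := by rw [← map_pow, pow_orderOf_eq_one, map_one]
  obtain ⟨b, ω, hb, hω⟩ := exists_eigenbasis (ρ g) (orderOf_pos g) hf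
  refine ⟨ω, hω, fun k => ?_⟩
  refine trace_eq_sum_of_eigenbasis (ρ (g ^ k)) b _ fun i => ?_
  induction k with
  | zero => simp
  | succ k ih =>
    rw [pow_succ', map_mul, Module.End.mul_apply, ih, map_smul, hb, smul_smul, pow_succ]

theorem exists_eigenvalues_one [Finite G] (ρ : Representation ℂ G V) (g : G) :
    ∃ ω : Fin (finrank ℂ V) → ℂ, (∀ i, ω i ^ orderOf g = 1) ∧ ρ.character g = ∑ i, ω i := by
  obtain ⟨ω, hω, h⟩ := exists_eigenvalues ρ g
  exact ⟨ω, hω, by simpa using h 1⟩

theorem char_inv [Finite G] (ρ : Representation ℂ G V) (g : G) :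
    ρ.character g⁻¹ = conj (ρ.character g) := by
  obtain ⟨ω, hω, h⟩ := exists_eigenvalues ρ g
  have hinv : g⁻¹ = g ^ (orderOf g - 1) := by
    apply inv_eq_of_mul_eq_one_right
    rw [← pow_succ', Nat.sub_add_cancel (orderOf_pos g), pow_orderOf_eq_one]
  have h1 : ρ.character g = ∑ i, ω i := by simpa using h 1
  rw [hinv, h, h1, map_sum]
  exact Finset.sum_congr rfl fun i _ => (conj_of_pow_eq_one (orderOf_pos g).ne' (hω i)).symm

theorem norm_char_le [Finite G] (ρ : Representation ℂ G V) (g : G) :
    ‖ρ.character g‖ ≤ (finrank ℂ V : ℝ) := by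
  obtain ⟨ω, hω, h⟩ := exists_eigenvalues_one ρ g
  rw [h]
  refine (norm_sum_le _ _).trans (le_of_eq ?_)
  rw [Finset.sum_congr rfl fun i _ =>
    Complex.norm_eq_one_of_pow_eq_one (hω i) (orderOf_pos g).ne']
  simp

theorem isIntegral_char [Finite G] (ρ : Representation ℂ G V) (g : G) :
    IsIntegral ℤ (ρ.character g) := by
  obtain ⟨ω, hω, h⟩ := exists_eigenvalues_one ρ g
  rw [h]
  refine IsIntegral.sum _ fun i _ => IsIntegral.of_pow (orderOf_pos g) ?_
  rw [hω i]
  exact isIntegral_one

/-- The representation on coordinates with respect to a chosen basis. -/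
noncomputable def coordRep (ρ : Representation ℂ G V) :
    Representation ℂ G (Fin (finrank ℂ V) → ℂ) where
  toFun g := (Module.finBasis ℂ V).equivFun.conj (ρ g)
  map_one' := by rw [map_one]; exact LinearEquiv.conj_id _
  map_mul' g h := by rw [map_mul]; exact (LinearEquiv.conj_comp _ _ _)

theorem coordRep_apply (ρ : Representation ℂ G V) (g : G) :
    coordRep ρ g = (Module.finBasis ℂ V).equivFun.conj (ρ g) := rfl

@[simp] theorem coordRep_character (ρ : Representation ℂ G V) :
    (coordRep ρ).character = ρ.character := by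
  funext g
  exact LinearMap.trace_conj' (ρ g) _

/-- `coordRep ρ` is equivalent to `ρ`. -/
noncomputable def coordEquiv (ρ : Representation ℂ G V) : ρ.Equiv (coordRep ρ) :=
  Representation.Equiv.mk (Module.finBasis ℂ V).equivFun fun g => by
    ext v; simp [coordRep_apply, LinearEquiv.conj_apply_apply]

omit [FiniteDimensional ℂ V] in
theorem isIrreducible_iff (ρ : Representation ℂ G V) :
    ρ.IsIrreducible ↔ Nontrivial V ∧ ∀ W : Submodule ℂ V,
      (∀ g, ∀ v ∈ W, ρ g v ∈ W) → W = ⊥ ∨ W = ⊤ := by
  constructor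
  · intro h
    refine ⟨?_, fun W hW => ?_⟩
    · by_contra hV
      rw [not_nontrivial_iff_subsingleton] at hV
      obtain ⟨a, b, hab⟩ := h.toNontrivial
      exact hab (Subrepresentation.toSubmodule_injective (Subsingleton.elim _ _))
    · rcases h.eq_bot_or_eq_top (Subrepresentation.mk W hW) with h1 | h1
      · exact Or.inl (congrArg Subrepresentation.toSubmodule h1)
      · exact Or.inr (congrArg Subrepresentation.toSubmodule h1)
  · rintro ⟨hV, h⟩
    have : Nontrivial (Subrepresentation ρ) := by
      refine ⟨⊥, ⊤, fun e => ?_⟩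
      exact bot_ne_top (α := Submodule ℂ V) (congrArg Subrepresentation.toSubmodule e)
    refine ⟨fun a => ?_⟩
    rcases h a.toSubmodule (fun g v hv => a.apply_mem_toSubmodule g hv) with h1 | h1
    · exact Or.inl (Subrepresentation.toSubmodule_injective h1)
    · exact Or.inr (Subrepresentation.toSubmodule_injective h1)

theorem finrank_pos_of_irreducible (ρ : Representation ℂ G V) [ρ.IsIrreducible] :
    0 < finrank ℂ V :=
  have := ((isIrreducible_iff ρ).mp ‹_›).1
  Module.finrank_pos

omit [FiniteDimensional ℂ V] in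
theorem isIrreducible_of_equiv {W : Type w} [AddCommGroup W] [Module ℂ W]
    (ρ : Representation ℂ G V) (σ : Representation ℂ G W) (e : ρ.Equiv σ) [hρ : ρ.IsIrreducible] :
    σ.IsIrreducible := by
  obtain ⟨hV, h⟩ := (isIrreducible_iff ρ).mp hρ
  refine (isIrreducible_iff σ).mpr ⟨?_, fun U hU => ?_⟩
  · exact e.toLinearEquiv.toEquiv.symm.nontrivial
  · have := h (U.comap e.toLinearEquiv.toLinearMap) fun g v hv => by
      simp only [Submodule.mem_comap] at hv ⊢
      have h2 := e.toIntertwiningMap.isIntertwining ρ σ g v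
      exact h2 ▸ hU g _ hv
    have hs : Function.Surjective e.toLinearEquiv.toLinearMap := e.toLinearEquiv.surjective
    rcases this with h1 | h1
    · refine Or.inl (Submodule.comap_injective_of_surjective hs (h1.trans ?_))
      rw [Submodule.comap_bot]
      exact (LinearMap.ker_eq_bot.mpr e.toLinearEquiv.injective).symm
    · exact Or.inr (Submodule.comap_injective_of_surjective hs (h1.trans (Submodule.comap_top _).symm))

theorem isCharacter_character (ρ : Representation ℂ G V) : IsCharacter G ρ.character :=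
  ⟨_, coordRep ρ, coordRep_character ρ⟩

theorem isIrrCharacter_character (ρ : Representation ℂ G V) [ρ.IsIrreducible] :
    IsIrrCharacter G ρ.character :=
  ⟨_, coordRep ρ, isIrreducible_of_equiv ρ _ (coordEquiv ρ), coordRep_character ρ⟩

theorem char_prod {W : Type w} [AddCommGroup W] [Module ℂ W] [FiniteDimensional ℂ W]
    (ρ : Representation ℂ G V) (σ : Representation ℂ G W) :
    (ρ.prod σ).character = ρ.character + σ.character := by
  funext g
  exact LinearMap.trace_prodMap' (ρ g) (σ g)

/-- Maschke: invariant submodules have invariant complements. -/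
theorem exists_isCompl_invariant [Finite G] (ρ : Representation ℂ G V) (W : Submodule ℂ V)
    (hW : ∀ g, ∀ v ∈ W, ρ g v ∈ W) :
    ∃ W' : Submodule ℂ V, IsCompl W W' ∧ ∀ g, ∀ v ∈ W', ρ g v ∈ W' := by
  obtain ⟨q, hq⟩ := ComplementedLattice.exists_isCompl (Subrepresentation.mk W hW : Subrepresentation ρ)
  refine ⟨q.toSubmodule, ⟨?_, ?_⟩, fun g v hv => q.apply_mem_toSubmodule g hv⟩
  · rw [disjoint_iff]
    exact congrArg Subrepresentation.toSubmodule hq.inf_eq_bot
  · rw [codisjoint_iff]
    exact congrArg Subrepresentation.toSubmodule hq.sup_eq_top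

/-- The restriction of a representation to an invariant submodule. -/
abbrev restrictSub (ρ : Representation ℂ G V) (W : Submodule ℂ V)
    (hW : ∀ g, ∀ v ∈ W, ρ g v ∈ W) : Representation ℂ G W :=
  Subrepresentation.toRepresentation (Subrepresentation.mk W hW : Subrepresentation ρ)

theorem char_isCompl (ρ : Representation ℂ G V) {W W' : Submodule ℂ V} (h : IsCompl W W')
    (hW : ∀ g, ∀ v ∈ W, ρ g v ∈ W) (hW' : ∀ g, ∀ v ∈ W', ρ g v ∈ W') :
    ρ.character = (restrictSub ρ W hW).character + (restrictSub ρ W' hW').character := by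
  funext g
  have e : (Submodule.prodEquivOfIsCompl W W' h).conj
      (LinearMap.prodMap (restrictSub ρ W hW g) (restrictSub ρ W' hW' g)) = ρ g := by
    refine LinearMap.ext fun v => ?_
    obtain ⟨⟨a, b⟩, rfl⟩ := (Submodule.prodEquivOfIsCompl W W' h).surjective v
    rw [LinearEquiv.conj_apply_apply, LinearEquiv.symm_apply_apply]
    simp [Subrepresentation.toRepresentation, map_add]
  show LinearMap.trace ℂ V (ρ g) = _
  rw [← e, LinearMap.trace_conj', LinearMap.trace_prodMap']
  rfl

end Rep

section Fun

variable {G : Type u} [Group G] {χ ψ : G → ℂ}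

theorem isCharacter_of_isIrr (h : IsIrrCharacter G χ) : IsCharacter G χ :=
  let ⟨n, ρ, _, e⟩ := h
  ⟨n, ρ, e⟩

theorem isClassFunction_of_isCharacter (h : IsCharacter G χ) : IsClassFunction G χ := by
  obtain ⟨n, ρ, rfl⟩ := h
  intro g x
  exact ρ.char_conj g x

theorem isClassFunction_of_isIrr (h : IsIrrCharacter G χ) : IsClassFunction G χ :=
  isClassFunction_of_isCharacter (isCharacter_of_isIrr h)

theorem isClassFunction_mul_comm (h : IsClassFunction G χ) (a b : G) : χ (a * b) = χ (b * a) := by
  have := h (a * b) b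
  simpa [mul_assoc] using this.symm

theorem isClassFunction_isConj (h : IsClassFunction G χ) {a b : G} (hab : IsConj a b) :
    χ a = χ b := by
  obtain ⟨c, rfl⟩ := isConj_iff.mp hab
  exact (h a c).symm

theorem isClassFunction_iff : IsClassFunction G χ ↔ ∀ a b : G, IsConj a b → χ a = χ b :=
  ⟨fun h _ _ => isClassFunction_isConj h,
    fun h g x => (h g (x * g * x⁻¹) (isConj_iff.mpr ⟨x, rfl⟩)).symm⟩

theorem exists_degree (h : IsCharacter G χ) : ∃ n : ℕ, χ 1 = n := by
  obtain ⟨n, ρ, rfl⟩ := h
  exact ⟨n, by simp [Representation.char_one]⟩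

/-- The degree of a character, as a natural number. -/
noncomputable def deg (χ : G → ℂ) : ℕ := ⌊(χ 1).re⌋₊

theorem deg_eq (h : IsCharacter G χ) : χ 1 = (deg χ : ℂ) := by
  obtain ⟨n, hn⟩ := exists_degree h
  simp [deg, hn]

theorem deg_eq_finrank {V : Type v} [AddCommGroup V] [Module ℂ V] [FiniteDimensional ℂ V]
    (ρ : Representation ℂ G V) : deg ρ.character = finrank ℂ V := by
  simp [deg, Representation.char_one]

theorem deg_pos (h : IsIrrCharacter G χ) : 0 < deg χ := by
  obtain ⟨n, ρ, hρ, rfl⟩ := h
  rw [deg_eq_finrank]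
  exact finrank_pos_of_irreducible ρ

theorem irr_one_ne_zero (h : IsIrrCharacter G χ) : χ 1 ≠ 0 := by
  rw [deg_eq (isCharacter_of_isIrr h)]
  exact_mod_cast (deg_pos h).ne'

theorem isCharacter_zero : IsCharacter G (0 : G → ℂ) := by
  refine ⟨0, Representation.trivial ℂ G (Fin 0 → ℂ), ?_⟩
  funext g
  simp [Representation.character, Representation.trivial]

theorem isCharacter_add (h1 : IsCharacter G χ) (h2 : IsCharacter G ψ) : IsCharacter G (χ + ψ) := by
  obtain ⟨n, ρ, rfl⟩ := h1
  obtain ⟨m, σ, rfl⟩ := h2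
  exact char_prod ρ σ ▸ isCharacter_character (ρ.prod σ)

theorem isCharacter_nsmul (k : ℕ) (h : IsCharacter G χ) : IsCharacter G ((k : ℂ) • χ) := by
  induction k with
  | zero => simpa using isCharacter_zero
  | succ k ih => simpa [add_smul] using isCharacter_add ih h

theorem isCharacter_sum {ι : Type w} (s : Finset ι) {f : ι → G → ℂ}
    (h : ∀ i ∈ s, IsCharacter G (f i)) : IsCharacter G (∑ i ∈ s, f i) :=
  Finset.sum_induction f (IsCharacter G) (fun _ _ => isCharacter_add) isCharacter_zero h

theorem isCharacter_mul (h1 : IsCharacter G χ) (h2 : IsCharacter G ψ) : IsCharacter G (χ * ψ) := by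
  obtain ⟨n, ρ, rfl⟩ := h1
  obtain ⟨m, σ, rfl⟩ := h2
  exact Representation.char_tensor ρ σ ▸ isCharacter_character (ρ.tprod σ)

theorem isCharacter_inv_arg (h : IsCharacter G χ) : IsCharacter G (fun g => χ g⁻¹) := by
  obtain ⟨n, ρ, rfl⟩ := h
  convert isCharacter_character ρ.dual using 1
  funext g
  rw [Representation.char_dual]

theorem char_inv_eq_conj [Finite G] (h : IsCharacter G χ) (g : G) : χ g⁻¹ = conj (χ g) := by
  obtain ⟨n, ρ, rfl⟩ := h
  exact char_inv ρ g

theorem isCharacter_conj [Finite G] (h : IsCharacter G χ) :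
    IsCharacter G (fun g => conj (χ g)) := by
  simpa [char_inv_eq_conj h] using isCharacter_inv_arg h

theorem norm_isCharacter_le [Finite G] (h : IsCharacter G χ) (g : G) : ‖χ g‖ ≤ (χ 1).re := by
  obtain ⟨n, ρ, rfl⟩ := h
  simpa [Representation.char_one] using norm_char_le ρ g

theorem isIntegral_isCharacter [Finite G] (h : IsCharacter G χ) (g : G) :
    IsIntegral ℤ (χ g) := by
  obtain ⟨n, ρ, rfl⟩ := h
  exact isIntegral_char ρ g

theorem isCharacter_comp {H : Type v} [Group H] (φ : H →* G) (h : IsCharacter G χ) :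
    IsCharacter H (fun x => χ (φ x)) := by
  obtain ⟨n, ρ, rfl⟩ := h
  exact ⟨n, ρ.comp φ, rfl⟩

theorem isCharacter_restrict (H : Subgroup G) (h : IsCharacter G χ) :
    IsCharacter H (fun x : H => χ x) :=
  isCharacter_comp H.subtype h

theorem isIrrCharacter_comp {H : Type v} [Group H] (φ : H →* G) (hφ : Function.Surjective φ)
    (h : IsIrrCharacter G χ) : IsIrrCharacter H (fun x => χ (φ x)) := by
  obtain ⟨n, ρ, hρ, rfl⟩ := h
  refine ⟨n, ρ.comp φ, ?_, rfl⟩
  obtain ⟨hV, h⟩ := (isIrreducible_iff ρ).mp hρ
  refine (isIrreducible_iff _).mpr ⟨hV, fun W hW => h W fun g v hv => ?_⟩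
  obtain ⟨x, rfl⟩ := hφ g
  exact hW x v hv

/-- The one-dimensional representation of a linear character. -/
noncomputable def linRep (lam : G →* ℂˣ) : Representation ℂ G (Fin 1 → ℂ) where
  toFun g := (lam g : ℂ) • LinearMap.id
  map_one' := by ext; simp
  map_mul' g h := by ext; simp; ring

theorem linRep_character (lam : G →* ℂˣ) : (linRep lam).character = fun g => (lam g : ℂ) := by
  funext g
  simp [Representation.character, linRep]

theorem isIrrCharacter_lin (lam : G →* ℂˣ) : IsIrrCharacter G (fun g => (lam g : ℂ)) := by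
  rw [← linRep_character]
  have : (linRep lam).IsIrreducible := by
    refine (isIrreducible_iff _).mpr ⟨inferInstance, fun W _ => ?_⟩
    rcases eq_or_ne W ⊥ with h | h
    · exact Or.inl h
    · refine Or.inr (Submodule.eq_top_of_finrank_eq ?_)
      have h1 := Submodule.finrank_le W
      have h2 : finrank ℂ W ≠ 0 := fun e => h (Submodule.finrank_eq_zero.mp e)
      simp only [Module.finrank_fin_fun] at h1 ⊢
      omega
  exact isIrrCharacter_character (linRep lam)

theorem isCharacter_lin (lam : G →* ℂˣ) : IsCharacter G (fun g => (lam g : ℂ)) :=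
  isCharacter_of_isIrr (isIrrCharacter_lin lam)

theorem isIrrCharacter_one : IsIrrCharacter G (fun _ : G => (1 : ℂ)) := by
  simpa using isIrrCharacter_lin (1 : G →* ℂˣ)

theorem isCharacter_one : IsCharacter G (fun _ : G => (1 : ℂ)) :=
  isCharacter_of_isIrr isIrrCharacter_one

/-- A character of degree one is a homomorphism to the unit group. -/
theorem exists_hom_of_degree_one (h : IsCharacter G χ) (h1 : χ 1 = 1) :
    ∃ lam : G →* ℂˣ, χ = fun g => (lam g : ℂ) := by
  obtain ⟨n, ρ, rfl⟩ := h
  have hn : n = 1 := by simpa [Representation.char_one] using h1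
  subst hn
  have hs : ∀ g, ρ g = ρ.character g • LinearMap.id := by
    intro g
    refine LinearMap.ext fun v => funext fun i => ?_
    have e : ρ.character g = ρ g (Pi.single 0 1) 0 := by
      simp [Representation.character, LinearMap.trace_eq_matrix_trace ℂ (Pi.basisFun ℂ (Fin 1)),
        Matrix.trace, LinearMap.toMatrix_apply]
    have hv : v = v 0 • Pi.single 0 1 := by
      funext j
      simp [Subsingleton.elim j 0]
    rw [hv, map_smul]
    simp [Subsingleton.elim i 0, e, mul_comm]
  have hmul : ∀ a b, ρ.character (a * b) = ρ.character a * ρ.character b := by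
    intro a b
    show LinearMap.trace ℂ _ (ρ (a * b)) = _
    rw [map_mul, hs a, hs b]
    simp [Module.End.mul_eq_comp]
    ring
  let f : G →* ℂ := { toFun := ρ.character, map_one' := h1, map_mul' := hmul }
  exact ⟨f.toHomUnits, funext fun g => rfl⟩

end Fun

end Cfsg.Agent.CT
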