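import Cfsg.Agent.Lib.CT.Degree
import Cfsg.Agent.Lib.CT.Clifford
import Cfsg.Agent.Lib.CT.Integral
import Cfsg.Agent.Lib.Transfer.Tate
import Cfsg.Agent.Lib.Basics.Frattini
import Cfsg.Agent.Lib.Blocks.GroupAlg

/-!
# Characters of degree prime to `p` of a Sylow normalizer

`p`-prime degree characters of `N = N_G(P)` are those trivial on `P'`; each lies under one of
`G`; if all of them extend to `G` then `N` has a normal complement, and conversely.
-/

set_option autoImplicit false
set_option linter.all false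

namespace Cfsg.Agent.NormExt

open Cfsg Cfsg.Agent.CT Module
open scoped BigOperators commutatorElement

universe u

variable {G : Type u} [Group G] [Finite G]

/-- An irreducible character of a group of order prime to `p` fixed by a fixed point free action
of a `p`-group is trivial. -/
theorem eq_triv_of_invariant {K : Type u} [Group K] [Finite K] {A : Type u} [Group A]
    {p : ℕ} [Fact p.Prime] (hA : IsPGroup p A) (φ : A →* MulAut K) (hK : ¬ p ∣ Nat.card K)
    (hfix : ∀ k : K, (∀ a, φ a k = k) → k = 1) {η : K → ℂ} (hη : IsIrrCharacter K η)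
    (hinv : ∀ a k, η (φ a k) = η k) : η = fun _ => 1 := by
  classical
  haveI := Fintype.ofFinite K
  by_contra hne
  letI : MulAction A K := MulAction.compHom K φ
  have hint : ∀ k, IsIntegral ℤ (η k) := isIntegral_isCharacter (isCharacter_of_isIrr hη)
  have h0 : ∑ k, η k = 0 := by
    have h := irr_inner_of_ne hη (isIrrCharacter_one (G := K)) hne
    simp only [classInner, map_one, mul_one] at h
    rcases mul_eq_zero.mp h with h | h
    · exact absurd h (inv_ne_zero CT.card_ne_zero)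
    · exact h
  let F : K → AlgInt := fun k => if k = 1 then 0 else ⟨η k, hint k⟩
  have hdvd : ((p : ℕ) : AlgInt) ∣ ∑ k, F k := by
    refine Blocks.dvd_sum_of_orbits (H := A) F (fun a k => ?_) p fun k => ?_
    · by_cases hk : k = 1
      · subst hk
        show F (φ a 1) = F 1
        rw [map_one]
      · have hk' : φ a k ≠ 1 := fun e => hk ((φ a).injective (e.trans (map_one (φ a)).symm))
        show F (φ a k) = F k
        simp only [F, if_neg hk, if_neg hk']
        exact Subtype.ext (hinv a k)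
    · by_cases hk : k = 1
      · left; simp [F, hk]
      · right
        obtain ⟨n, hn⟩ := hA.card_orbit (a := k)
        rcases Nat.eq_zero_or_pos n with rfl | hpos
        · refine absurd (hfix k fun a => ?_) hk
          rw [pow_zero] at hn
          haveI := (Nat.card_eq_one_iff_unique.mp hn).1
          exact congrArg Subtype.val (Subsingleton.elim (⟨a • k, ⟨a, rfl⟩⟩ : MulAction.orbit A k)
            ⟨k, MulAction.mem_orbit_self k⟩)
        · rw [hn]; exact dvd_pow_self p hpos.ne'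
  obtain ⟨c, hc⟩ := hdvd
  have hd : (deg η : ℂ) = (p : ℂ) * -(c : ℂ) := by
    have h1 : ((∑ k, F k : AlgInt) : ℂ) = ∑ k, (if k = 1 then (0 : ℂ) else η k) := by
      rw [AddSubmonoidClass.coe_finsetSum]
      refine Finset.sum_congr rfl fun k _ => ?_
      simp only [F]
      split <;> rfl
    have h2 : ∑ k, (if k = 1 then (0 : ℂ) else η k) = -η 1 := by
      have : ∀ k, (if k = 1 then (0 : ℂ) else η k) = η k - (if k = 1 then η 1 else 0) := by
        intro k; split
        · next h => rw [h, sub_self]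
        · rw [sub_zero]
      rw [Finset.sum_congr rfl fun k _ => this k, Finset.sum_sub_distrib, h0,
        Finset.sum_ite_eq' Finset.univ (1 : K) fun _ => η 1]
      simp
    rw [h2, hc] at h1
    rw [← deg_eq (isCharacter_of_isIrr hη)]
    push_cast at h1 ⊢
    linear_combination h1
  apply hK
  have hp : p ∣ deg η := by
    refine dvd_of_isIntegral_div (Nat.Prime.ne_zero Fact.out) ?_
    rw [hd, mul_div_cancel_left₀ _ (Nat.cast_ne_zero.mpr (Nat.Prime.ne_zero Fact.out))]
    exact c.2.neg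
  refine hp.trans ?_
  obtain ⟨n, ρ, hρ, rfl⟩ := hη
  rw [deg_eq_finrank]
  exact finrank_dvd_card ρ

/-- A character's degree as the sum over constituents of a restriction. -/
theorem deg_restrict_eq [Fintype G] (H : Subgroup G) [Fintype H] {χ : G → ℂ}
    (hχ : IsCharacter G χ) :
    deg χ = ∑ θ : IrrCharacter H, mult (fun h : H => χ h) θ * deg (θ : H → ℂ) := by
  have hr := isCharacter_restrict H hχ
  have h := congrFun (character_eq_sum hr) 1
  simp only [Finset.sum_apply, Pi.smul_apply, smul_eq_mul, Subgroup.coe_one] at h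
  rw [deg_eq hχ, Finset.sum_congr rfl fun c _ => by rw [deg_eq (isCharacter_of_isIrr c.2)]] at h
  exact_mod_cast h

variable {p : ℕ} [Fact p.Prime] (P : Sylow p G)

/-- The normalizer of the Sylow subgroup. -/
abbrev nP : Subgroup G := Subgroup.normalizer ((P : Subgroup G) : Set G)

/-- The derived subgroup of the Sylow subgroup, in `G`. -/
abbrev derP : Subgroup G := (commutator ↥(P : Subgroup G)).map (P : Subgroup G).subtype

omit [Finite G] [Fact p.Prime] in
theorem derP_le : derP P ≤ (P : Subgroup G) := Subgroup.map_subtype_le _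

omit [Finite G] [Fact p.Prime] in
theorem derP_le_nP : derP P ≤ nP P := (derP_le P).trans Subgroup.le_normalizer

/-- The derived subgroup of `P` inside `N`. -/
abbrev derN : Subgroup (nP P) := (derP P).subgroupOf (nP P)

instance derN_normal : (derN P).Normal := by
  constructor
  intro x hx n
  rw [Subgroup.mem_subgroupOf] at hx ⊢
  obtain ⟨y, hy, hyx⟩ := hx
  have hconj : ∀ z ∈ (P : Subgroup G), (n : G) * z * (n : G)⁻¹ ∈ (P : Subgroup G) :=
    fun z hz => (Subgroup.mem_normalizer_iff.mp n.2 z).mp hz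
  let f : ↥(P : Subgroup G) →* ↥(P : Subgroup G) :=
    { toFun := fun z => ⟨_, hconj z z.2⟩
      map_one' := Subtype.ext (by simp)
      map_mul' := fun a b => Subtype.ext (by simp) }
  refine ⟨f y, ?_, ?_⟩
  · have h1 : (commutator ↥(P : Subgroup G)).map f ≤ commutator ↥(P : Subgroup G) := by
      rw [commutator_def, Subgroup.map_commutator]
      exact Subgroup.commutator_mono le_top le_top
    exact h1 ⟨y, hy, rfl⟩
  · simp only [f, Subgroup.coe_mul, InvMemClass.coe_inv, Subgroup.coe_subtype] at hyx ⊢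
    simp [hyx]

theorem deg_trivial_of_not_dvd {θ : nP P → ℂ} (hθ : IsIrrCharacter (nP P) θ)
    (hp : ¬ p ∣ deg θ) : ∀ x : nP P, (x : G) ∈ derP P → θ x = θ 1 := by
  classical
  haveI := Fintype.ofFinite G
  haveI := Fintype.ofFinite (nP P)
  let Q : Subgroup (nP P) := (P : Subgroup G).subgroupOf (nP P)
  haveI : Q.Normal := Subgroup.normal_in_normalizer
  haveI := Fintype.ofFinite Q
  have hlin : ∀ η : IrrCharacter Q, mult (fun q : Q => θ q) η ≠ 0 → deg (η : Q → ℂ) = 1 := by
    intro η hη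
    have hi : classInner (fun q : Q => θ q) η ≠ 0 := by
      rw [mult_spec (isCharacter_restrict Q (isCharacter_of_isIrr hθ)) (isCharacter_of_isIrr η.2)]
      exact_mod_cast hη
    obtain ⟨k, hk, -⟩ := deg_ratio_dvd_index Q hθ η.2 hi
    have h1 : deg (η : Q → ℂ) ∣ Nat.card Q := by
      obtain ⟨n, ρ, hρ, h⟩ := η.2
      rw [← h, deg_eq_finrank]
      exact finrank_dvd_card ρ
    have hQ : IsPGroup p Q :=
      P.2.of_equiv (Subgroup.subgroupOfEquivOfLe Subgroup.le_normalizer).symm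
    obtain ⟨m, hm⟩ := IsPGroup.iff_card.mp hQ
    rw [hm] at h1
    obtain ⟨i, -, hi'⟩ := (Nat.dvd_prime_pow Fact.out).mp h1
    rcases Nat.eq_zero_or_pos i with rfl | hpos
    · simpa using hi'
    · exact absurd ((dvd_pow_self p hpos.ne').trans (hi' ▸ Dvd.intro_left k hk.symm)) hp
  intro x hx
  obtain ⟨y, hy, hyx⟩ := hx
  let e : ↥(P : Subgroup G) →* Q :=
    (Subgroup.subgroupOfEquivOfLe (Subgroup.le_normalizer)).symm.toMonoidHom
  have hey : (e y : nP P) = x := Subtype.ext hyx
  have hmem : e y ∈ commutator Q := by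
    have h1 : (commutator ↥(P : Subgroup G)).map e ≤ commutator Q := by
      rw [commutator_def, Subgroup.map_commutator]
      exact Subgroup.commutator_mono le_top le_top
    exact h1 ⟨y, hy, rfl⟩
  have h := character_eq_sum (isCharacter_restrict Q (isCharacter_of_isIrr hθ))
  have hx1 := congrFun h (e y)
  have h11 := congrFun h 1
  simp only [Finset.sum_apply, Pi.smul_apply, smul_eq_mul] at hx1 h11
  rw [hey] at hx1
  rw [hx1, show θ 1 = θ ((1 : Q) : nP P) from rfl, h11]
  refine Finset.sum_congr rfl fun η _ => ?_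
  by_cases hη : mult (fun q : Q => θ q) η = 0
  · simp [hη]
  · have hd : (η : Q → ℂ) 1 = 1 := by
      rw [deg_eq (isCharacter_of_isIrr η.2), hlin η hη, Nat.cast_one]
    rw [linear_trivial_on_commutator (isCharacter_of_isIrr η.2) hd _ hmem]

theorem not_dvd_deg_of_trivial {θ : nP P → ℂ} (hθ : IsIrrCharacter (nP P) θ)
    (h : ∀ x : nP P, (x : G) ∈ derP P → θ x = θ 1) : ¬ p ∣ deg θ := by
  classical
  obtain ⟨ψ, hψ, hval⟩ := exists_quotient_irr hθ (derN P) fun x hx =>
    h x (Subgroup.mem_subgroupOf.mp hx)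
  haveI := Fintype.ofFinite (nP P ⧸ derN P)
  let Q : Subgroup (nP P) := (P : Subgroup G).subgroupOf (nP P)
  haveI : Q.Normal := Subgroup.normal_in_normalizer
  let mk := QuotientGroup.mk' (derN P)
  haveI : (Q.map mk).Normal := Subgroup.Normal.map inferInstance mk (QuotientGroup.mk'_surjective _)
  haveI := Fintype.ofFinite (Q.map mk)
  have hcomm : ∀ a b : Q.map mk, a * b = b * a := by
    rintro ⟨_, a, ha, rfl⟩ ⟨_, b, hb, rfl⟩
    apply Subtype.ext
    show mk a * mk b = mk b * mk a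
    rw [← map_mul, ← map_mul]
    refine QuotientGroup.eq.mpr (Subgroup.mem_subgroupOf.mpr ?_)
    refine ⟨⁅(⟨(b : G), hb⟩ : ↥(P : Subgroup G))⁻¹, ⟨(a : G), ha⟩⁻¹⁆,
      Subgroup.commutator_mem_commutator (Subgroup.mem_top _) (Subgroup.mem_top _), ?_⟩
    simp [commutatorElement_def, mul_assoc]
  have hd : deg θ = deg ψ := by
    unfold CT.deg
    rw [← hval 1]
    rfl
  intro hp
  rw [hd] at hp
  have h1 := (hp.trans (deg_dvd_index_of_comm (Q.map mk) hψ hcomm)).trans
    (Subgroup.index_map_dvd Q (QuotientGroup.mk'_surjective _))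
  exact P.not_dvd_index (h1.trans (Subgroup.relIndex_dvd_index_of_le Subgroup.le_normalizer))

theorem exists_not_trivial {x : nP P} (hx : (x : G) ∉ derP P) :
    ∃ θ : IrrCharacter (nP P), (∀ y : nP P, (y : G) ∈ derP P → (θ : nP P → ℂ) y = (θ : nP P → ℂ) 1) ∧
      (θ : nP P → ℂ) x ≠ (θ : nP P → ℂ) 1 := by
  classical
  haveI := Fintype.ofFinite (nP P ⧸ derN P)
  have hx1 : ¬ IsConj (QuotientGroup.mk x : nP P ⧸ derN P) 1 := by
    rw [isConj_one_left, QuotientGroup.eq_one_iff]
    exact hx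
  rw [isConj_iff_forall_irr] at hx1
  push Not at hx1
  obtain ⟨ψ, hψ⟩ := hx1
  refine ⟨⟨fun y => (ψ : nP P ⧸ derN P → ℂ) (QuotientGroup.mk y),
    isIrr_inflate (derN P) ψ.2 fun g => rfl⟩, fun y hy => ?_, hψ⟩
  show (ψ : nP P ⧸ derN P → ℂ) _ = (ψ : nP P ⧸ derN P → ℂ) _
  rw [(QuotientGroup.eq_one_iff y).mpr (Subgroup.mem_subgroupOf.mpr hy)]
  rfl

theorem sum_sq_deg [Fintype (nP P)] :
    Nat.card (nP P) = Nat.card (commutator ↥(P : Subgroup G)) *
      ∑ θ ∈ Finset.univ.filter (fun θ : IrrCharacter (nP P) => ¬ p ∣ deg (θ : nP P → ℂ)),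
        deg (θ : nP P → ℂ) ^ 2 := by
  classical
  haveI := Fintype.ofFinite (nP P ⧸ derN P)
  have hc : Nat.card (derN P) = Nat.card (commutator ↥(P : Subgroup G)) := by
    rw [Nat.card_congr (Subgroup.subgroupOfEquivOfLe (derP_le_nP P)).toEquiv,
      Subgroup.card_map_of_injective (P : Subgroup G).subtype_injective]
  have hsum : Nat.card (nP P ⧸ derN P) =
      ∑ ψ : IrrCharacter (nP P ⧸ derN P), deg (ψ : nP P ⧸ derN P → ℂ) ^ 2 := by
    have h := sum_degree_sq (G := nP P ⧸ derN P)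
    rw [Finset.sum_congr rfl fun ψ _ => by rw [deg_eq (isCharacter_of_isIrr ψ.2)]] at h
    exact_mod_cast h.symm
  rw [(derN P).card_eq_card_quotient_mul_card_subgroup, hc, mul_comm, hsum]
  congr 1
  refine Finset.sum_bij (fun ψ _ => ⟨fun y => (ψ : nP P ⧸ derN P → ℂ) (QuotientGroup.mk y),
    isIrr_inflate (derN P) ψ.2 fun g => rfl⟩) (fun ψ _ => ?_) (fun a _ b _ e => ?_)
    (fun θ hθ => ?_) (fun ψ _ => rfl)
  · refine Finset.mem_filter.mpr ⟨Finset.mem_univ _, not_dvd_deg_of_trivial P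
      (isIrr_inflate (derN P) ψ.2 fun g => rfl) fun y hy => ?_⟩
    show (ψ : nP P ⧸ derN P → ℂ) _ = (ψ : nP P ⧸ derN P → ℂ) _
    rw [(QuotientGroup.eq_one_iff y).mpr (Subgroup.mem_subgroupOf.mpr hy)]
    rfl
  · apply Subtype.ext
    funext z
    obtain ⟨y, rfl⟩ := QuotientGroup.mk_surjective z
    exact congrFun (congrArg Subtype.val e) y
  · obtain ⟨ψ, hψ, hval⟩ := exists_quotient_irr θ.2 (derN P) fun x hx =>
      deg_trivial_of_not_dvd P θ.2 (Finset.mem_filter.mp hθ).2 x (Subgroup.mem_subgroupOf.mp hx)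
    exact ⟨⟨ψ, hψ⟩, Finset.mem_univ _, Subtype.ext (funext hval)⟩

theorem exists_pPrime_over [Fintype G] [Fintype (nP P)] {θ : nP P → ℂ}
    (hθ : IsIrrCharacter (nP P) θ) (hp : ¬ p ∣ deg θ) :
    ∃ χ : IrrCharacter G, ¬ p ∣ deg (χ : G → ℂ) ∧ mult (fun x : nP P => (χ : G → ℂ) x) θ ≠ 0 := by
  classical
  have hi := isCharacter_indFun (nP P) (isCharacter_of_isIrr hθ)
  have h := congrFun (character_eq_sum hi) 1
  rw [indFun_one_eval, deg_eq (isCharacter_of_isIrr hθ), Finset.sum_apply] at h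
  simp only [Pi.smul_apply, smul_eq_mul] at h
  rw [Finset.sum_congr rfl fun c _ => by rw [deg_eq (isCharacter_of_isIrr c.2)]] at h
  have h' : (nP P).index * deg θ =
      ∑ χ : IrrCharacter G, mult (indFun (nP P) θ) χ * deg (χ : G → ℂ) := by exact_mod_cast h
  have hnd : ¬ p ∣ (nP P).index * deg θ := fun hd => by
    rcases (Nat.Prime.dvd_mul Fact.out).mp hd with h1 | h1
    · exact P.not_dvd_index (h1.trans (Subgroup.index_dvd_of_le Subgroup.le_normalizer))
    · exact hp h1
  obtain ⟨χ, hχ⟩ : ∃ χ : IrrCharacter G,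
      ¬ p ∣ mult (indFun (nP P) θ) χ * deg (χ : G → ℂ) := by
    by_contra hh
    push Not at hh
    exact hnd (h' ▸ Finset.dvd_sum fun χ _ => hh χ)
  refine ⟨χ, fun hd => hχ (hd.mul_left _), fun h0 => hχ ?_⟩
  have e : mult (indFun (nP P) θ) χ = 0 := by
    have h1 := mult_spec hi (isCharacter_of_isIrr χ.2)
    rw [frobenius_reciprocity _ θ (isClassFunction_of_isIrr χ.2),
      classInner_comm_of_char (isCharacter_of_isIrr hθ)
        (isCharacter_restrict _ (isCharacter_of_isIrr χ.2)),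
      mult_spec (isCharacter_restrict _ (isCharacter_of_isIrr χ.2)) (isCharacter_of_isIrr hθ),
      h0] at h1
    exact_mod_cast h1.symm
  simp [e]

/-- All characters of degree prime to `p` of the normalizer extend. -/
def AllExtend : Prop :=
  ∀ θ : IrrCharacter (nP P), ¬ p ∣ deg (θ : nP P → ℂ) →
    ∃ χ : IrrCharacter G, ∀ x : nP P, (χ : G → ℂ) x = (θ : nP P → ℂ) x

theorem kerChar_normal {χ : G → ℂ} (hχ : IsCharacter G χ) : (kerChar χ).Normal := by
  constructor
  intro x hx g
  rw [mem_kerChar_iff hχ] at hx ⊢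
  rw [isClassFunction_of_isCharacter hχ |> fun h => CT.isClassFunction_isConj h
    (isConj_iff.mpr ⟨g⁻¹, by group⟩ : IsConj (g * x * g⁻¹) x), hx]

theorem exists_complement_of_allExtend (h : AllExtend P) :
    ∃ K : Subgroup G, K.Normal ∧ K ⊔ nP P = ⊤ ∧ K ⊓ nP P = ⊥ := by
  classical
  have hf : ∀ θ : IrrCharacter (nP P),
      (∀ y : nP P, (y : G) ∈ derP P → (θ : nP P → ℂ) y = (θ : nP P → ℂ) 1) →
      ∃ χ : IrrCharacter G, ∀ x : nP P, (χ : G → ℂ) x = (θ : nP P → ℂ) x :=
    fun θ hθ => h θ (not_dvd_deg_of_trivial P θ.2 hθ)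
  choose f hf' using hf
  -- the intersection of the kernels of the extensions
  let K : Subgroup G := ⨅ θ : {θ : IrrCharacter (nP P) //
    ∀ y : nP P, (y : G) ∈ derP P → (θ : nP P → ℂ) y = (θ : nP P → ℂ) 1},
      kerChar (f θ.1 θ.2 : G → ℂ)
  haveI hK : K.Normal :=
    Subgroup.normal_iInf_normal fun θ => kerChar_normal (isCharacter_of_isIrr (f θ.1 θ.2).2)
  have hKN : ∀ x : nP P, (x : G) ∈ K ↔ (x : G) ∈ derP P := by
    intro x
    constructor
    · intro hx
      by_contra hd
      obtain ⟨θ, hθ, hne⟩ := exists_not_trivial P hd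
      have h1 := Subgroup.mem_iInf.mp hx ⟨θ, hθ⟩
      rw [mem_kerChar_iff (isCharacter_of_isIrr (f θ hθ).2), hf' θ hθ x,
        show (1 : G) = ((1 : nP P) : G) from rfl, hf' θ hθ 1] at h1
      exact hne h1
    · intro hx
      refine Subgroup.mem_iInf.mpr fun θ => ?_
      rw [mem_kerChar_iff (isCharacter_of_isIrr (f θ.1 θ.2).2), hf' θ.1 θ.2 x,
        show (1 : G) = ((1 : nP P) : G) from rfl, hf' θ.1 θ.2 1]
      exact θ.2 x hx
  -- the subgroup generated by the conjugates of `P`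
  let S : Subgroup G := Subgroup.normalClosure ((P : Subgroup G) : Set G)
  haveI : S.Normal := Subgroup.normalClosure_normal
  have hPS : (P : Subgroup G) ≤ S := Subgroup.le_normalClosure
  have hSN : ∀ x : nP P, (x : G) ∈ S → (x : G) ∈ (P : Subgroup G) := by
    intro x hx
    by_contra hxP
    let Q : Subgroup (nP P) := (P : Subgroup G).subgroupOf (nP P)
    haveI : Q.Normal := Subgroup.normal_in_normalizer
    haveI := Fintype.ofFinite (nP P ⧸ Q)
    have hx1 : ¬ IsConj (QuotientGroup.mk x : nP P ⧸ Q) 1 := by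
      rw [isConj_one_left, QuotientGroup.eq_one_iff]
      exact hxP
    rw [isConj_iff_forall_irr] at hx1
    push Not at hx1
    obtain ⟨ψ, hψ⟩ := hx1
    let θ : IrrCharacter (nP P) := ⟨fun y => (ψ : nP P ⧸ Q → ℂ) (QuotientGroup.mk y),
      isIrr_inflate Q ψ.2 fun g => rfl⟩
    have hθP : ∀ y : nP P, (y : G) ∈ (P : Subgroup G) → (θ : nP P → ℂ) y = (θ : nP P → ℂ) 1 := by
      intro y hy
      show (ψ : nP P ⧸ Q → ℂ) _ = (ψ : nP P ⧸ Q → ℂ) _
      rw [(QuotientGroup.eq_one_iff y).mpr (Subgroup.mem_subgroupOf.mpr hy)]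
      rfl
    have hθ : ∀ y : nP P, (y : G) ∈ derP P → (θ : nP P → ℂ) y = (θ : nP P → ℂ) 1 :=
      fun y hy => hθP y (derP_le P hy)
    haveI := kerChar_normal (isCharacter_of_isIrr (f θ hθ).2)
    have hle : S ≤ kerChar (f θ hθ : G → ℂ) := by
      refine Subgroup.normalClosure_le_normal fun y hy => ?_
      rw [SetLike.mem_coe, mem_kerChar_iff (isCharacter_of_isIrr (f θ hθ).2)]
      rw [show (1 : G) = ((1 : nP P) : G) from rfl, hf' θ hθ 1,
        show y = ((⟨y, Subgroup.le_normalizer hy⟩ : nP P) : G) from rfl, hf' θ hθ]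
      exact hθP _ hy
    have := hle hx
    rw [mem_kerChar_iff (isCharacter_of_isIrr (f θ hθ).2), hf' θ hθ x,
      show (1 : G) = ((1 : nP P) : G) from rfl, hf' θ hθ 1] at this
    exact hψ this
  -- Burnside's transfer in the image of `S` modulo `K`
  let mk := QuotientGroup.mk' K
  have hmk : Function.Surjective mk := QuotientGroup.mk'_surjective K
  let Pb : Sylow p (G ⧸ K) := P.mapSurjective hmk
  let H : Subgroup (G ⧸ K) := S.map mk
  haveI : H.Normal := Subgroup.Normal.map inferInstance mk hmk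
  have hPbH : (Pb : Subgroup (G ⧸ K)) ≤ H := Subgroup.map_mono hPS
  let PH : Sylow p H := Pb.subtype hPbH
  have hself : ∀ h ∈ H, h ∈ Subgroup.normalizer ((Pb : Subgroup (G ⧸ K)) : Set (G ⧸ K)) →
      h ∈ (Pb : Subgroup (G ⧸ K)) := by
    rintro _ ⟨s, hs, rfl⟩ hn
    let T : Subgroup G := S ⊓ ((Pb : Subgroup (G ⧸ K)).comap mk)
    have hPT : (P : Subgroup G) ≤ T := le_inf hPS fun y hy => ⟨y, hy, rfl⟩
    have hconjT : ∀ y ∈ T, s * y * s⁻¹ ∈ T := by
      intro y hy
      refine ⟨(inferInstance : S.Normal).conj_mem y hy.1 s, ?_⟩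
      show mk (s * y * s⁻¹) ∈ (Pb : Subgroup (G ⧸ K))
      rw [map_mul, map_mul, map_inv]
      exact (Subgroup.mem_normalizer_iff.mp hn (mk y)).mp hy.2
    let PT : Sylow p T := P.subtype hPT
    have hle' : ((s • P : Sylow p G) : Subgroup G) ≤ T := by
      intro y hy
      rw [Sylow.coe_subgroup_smul, Subgroup.mem_pointwise_smul_iff_inv_smul_mem] at hy
      have := hconjT _ (hPT hy)
      simpa [MulAut.smul_def, MulAut.conj_inv_apply, mul_assoc] using this
    obtain ⟨t, ht⟩ := MulAction.exists_smul_eq T ((s • P).subtype hle') PT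
    have hts : ((t : G) * s) • P = P := by
      rw [mul_smul]
      refine Sylow.subtype_injective (hP := ?_) (hQ := hPT) ?_
      · intro y hy
        rw [Sylow.coe_subgroup_smul, Subgroup.mem_pointwise_smul_iff_inv_smul_mem] at hy
        have := T.mul_mem (T.mul_mem t.2 (hle' hy)) (T.inv_mem t.2)
        simpa [MulAut.smul_def, MulAut.conj_inv_apply, mul_assoc] using this
      · exact (Sylow.smul_subtype hle' t).symm.trans ht
    have htsN : (t : G) * s ∈ nP P := Sylow.smul_eq_iff_mem_normalizer.mp hts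
    have h1 : (t : G) * s ∈ (P : Subgroup G) := hSN ⟨_, htsN⟩ (S.mul_mem t.2.1 hs)
    have h2 : mk s = (mk (t : G))⁻¹ * mk ((t : G) * s) := by
      rw [map_mul, inv_mul_cancel_left]
    rw [h2]
    exact mul_mem (inv_mem t.2.2) ⟨_, h1, rfl⟩
  have hcommPb : ∀ a ∈ (Pb : Subgroup (G ⧸ K)), ∀ b ∈ (Pb : Subgroup (G ⧸ K)), a * b = b * a := by
    rintro _ ⟨a, ha, rfl⟩ _ ⟨b, hb, rfl⟩
    rw [← map_mul, ← map_mul]
    refine QuotientGroup.eq.mpr ?_
    have : (a * b)⁻¹ * (b * a) ∈ derP P := by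
      refine ⟨⁅(⟨b, hb⟩ : ↥(P : Subgroup G))⁻¹, ⟨a, ha⟩⁻¹⁆,
        Subgroup.commutator_mem_commutator (Subgroup.mem_top _) (Subgroup.mem_top _), ?_⟩
      simp [commutatorElement_def, mul_assoc]
    exact (hKN ⟨_, derP_le_nP P this⟩).mpr this
  have hPH : Subgroup.normalizer ((PH : Subgroup H) : Set H) ≤
      Subgroup.centralizer ((PH : Subgroup H) : Set H) := by
    intro h hh
    have hh' : (h : G ⧸ K) ∈ Subgroup.normalizer ((Pb : Subgroup (G ⧸ K)) : Set (G ⧸ K)) := by
      rw [Subgroup.mem_normalizer_iff] at hh ⊢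
      intro y
      constructor
      · intro hy
        exact (hh ⟨y, hPbH hy⟩).mp hy
      · intro hy
        have hyH : y ∈ H := by
          have := (inferInstance : H.Normal).conj_mem _ (hPbH hy) (h : G ⧸ K)⁻¹
          simpa [mul_assoc] using this
        exact (hh ⟨y, hyH⟩).mpr hy
    have hmem := hself _ h.2 hh'
    rw [Subgroup.mem_centralizer_iff]
    intro y hy
    exact Subtype.ext (hcommPb _ hy _ hmem)
  let L0 : Subgroup H := (MonoidHom.transferSylow PH hPH).ker
  have hcompl : Subgroup.IsComplement' L0 (PH : Subgroup H) :=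
    MonoidHom.ker_transferSylow_isComplement' PH hPH
  have hL0 : ¬ p ∣ Nat.card L0 := MonoidHom.not_dvd_card_ker_transferSylow PH hPH
  have hL0mem : ∀ h : H, ¬ p ∣ orderOf h → h ∈ L0 := by
    intro h hh
    rw [MonoidHom.mem_ker, ← orderOf_eq_one_iff]
    have h1 : orderOf (MonoidHom.transferSylow PH hPH h) ∣ orderOf h := orderOf_map_dvd _ h
    obtain ⟨n, hn⟩ := IsPGroup.iff_orderOf.mp PH.2 (MonoidHom.transferSylow PH hPH h)
    rw [hn] at h1 ⊢
    rcases Nat.eq_zero_or_pos n with rfl | hpos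
    · simp
    · exact absurd ((dvd_pow_self p hpos.ne').trans h1) hh
  haveI hL0n : (L0.map H.subtype).Normal := by
    constructor
    rintro _ ⟨x, hx, rfl⟩ g
    refine ⟨⟨g * x * g⁻¹, (inferInstance : H.Normal).conj_mem _ x.2 g⟩, hL0mem _ ?_, rfl⟩
    rw [← Subgroup.orderOf_coe]
    show ¬ p ∣ orderOf (g * (x : G ⧸ K) * g⁻¹)
    rw [← MulAut.conj_apply, MulEquiv.orderOf_eq, Subgroup.orderOf_coe]
    intro hd
    exact hL0 (hd.trans (Subgroup.orderOf_dvd_natCard L0 hx))
  let K1 : Subgroup G := (L0.map H.subtype).comap mk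
  haveI : K1.Normal := Subgroup.Normal.comap hL0n mk
  have hinj : ∀ z ∈ L0.map H.subtype, z ∈ (Pb : Subgroup (G ⧸ K)) → z = 1 := by
    rintro _ ⟨x, hx, rfl⟩ hz
    have : x ∈ (⊥ : Subgroup H) := by
      rw [← hcompl.disjoint.eq_bot]
      exact ⟨hx, hz⟩
    simp [Subgroup.mem_bot.mp this]
  have hK1P : K1 ⊓ (P : Subgroup G) ≤ derP P := by
    rintro x ⟨hx, hxP⟩
    have h1 : mk x = 1 := hinj _ hx ⟨x, hxP, rfl⟩
    exact (hKN ⟨x, Subgroup.le_normalizer hxP⟩).mp ((QuotientGroup.eq_one_iff x).mp h1)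
  have hfr : derP P ≤ (frattini ↥(P : Subgroup G)).map (P : Subgroup G).subtype := by
    haveI : Group.IsNilpotent ↥(P : Subgroup G) := P.2.isNilpotent
    exact Subgroup.map_mono Basics.commutator_le_frattini
  obtain ⟨P1, L1, hL1n, hL1c⟩ :=
    Transfer.hasNormalPComplement_of_le_frattini P K1 (hK1P.trans hfr)
  have hL1p : ¬ p ∣ Nat.card L1 := by
    rw [← hL1c.index_eq_card]
    exact P1.not_dvd_index
  have hL1mem : ∀ h : K1, ¬ p ∣ orderOf h → h ∈ L1 := by
    intro h hh
    haveI := hL1n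
    rw [← QuotientGroup.eq_one_iff (N := L1), ← orderOf_eq_one_iff]
    have h1 : orderOf (QuotientGroup.mk' L1 h) ∣ orderOf h := orderOf_map_dvd _ h
    have hq : IsPGroup p (K1 ⧸ L1) := by
      obtain ⟨m, hm⟩ := IsPGroup.iff_card.mp P1.2
      refine IsPGroup.of_card (n := m) ?_
      rw [← hm, ← Subgroup.index_eq_card, hL1c.symm.index_eq_card]
    obtain ⟨n, hn⟩ := IsPGroup.iff_orderOf.mp hq (QuotientGroup.mk' L1 h)
    rw [hn] at h1
    rcases Nat.eq_zero_or_pos n with rfl | hpos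
    · simpa using hn
    · exact absurd ((dvd_pow_self p hpos.ne').trans h1) hh
  let L : Subgroup G := L1.map K1.subtype
  haveI hLn : L.Normal := by
    constructor
    rintro _ ⟨x, hx, rfl⟩ g
    refine ⟨⟨g * x * g⁻¹, (inferInstance : K1.Normal).conj_mem _ x.2 g⟩, hL1mem _ ?_, rfl⟩
    rw [← Subgroup.orderOf_coe]
    show ¬ p ∣ orderOf (g * (x : G) * g⁻¹)
    rw [← MulAut.conj_apply, MulEquiv.orderOf_eq, Subgroup.orderOf_coe]
    intro hd
    exact hL1p (hd.trans (Subgroup.orderOf_dvd_natCard L1 hx))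
  have hLK1 : L ≤ K1 := Subgroup.map_subtype_le L1
  have hK1le : K1 ≤ L ⊔ (P : Subgroup G) := by
    let mkL := QuotientGroup.mk' L
    have hmkL : Function.Surjective mkL := QuotientGroup.mk'_surjective L
    haveI hn : (K1.map mkL).Normal := Subgroup.Normal.map inferInstance mkL hmkL
    have hp1 : IsPGroup p (K1.map mkL) := by
      rw [IsPGroup.iff_orderOf]
      rintro ⟨_, k, hk, rfl⟩
      rw [← Subgroup.orderOf_coe]
      show ∃ n, orderOf (mkL k) = p ^ n
      haveI := hL1n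
      obtain ⟨m, hm⟩ := IsPGroup.iff_card.mp P1.2
      have h1 : (⟨k, hk⟩ : K1) ^ (p ^ m) ∈ L1 := by
        rw [← hm, ← hL1c.symm.index_eq_card]
        exact L1.pow_index_mem _
      have h2 : mkL k ^ (p ^ m) = 1 := by
        rw [← map_pow]
        exact (QuotientGroup.eq_one_iff _).mpr ⟨_, h1, rfl⟩
      obtain ⟨n, -, hn'⟩ := (Nat.dvd_prime_pow Fact.out).mp (orderOf_dvd_of_pow_eq_one h2)
      exact ⟨n, hn'⟩
    let PL : Sylow p (G ⧸ L) := P.mapSurjective hmkL
    have hsup : IsPGroup p ↥(K1.map mkL ⊔ (PL : Subgroup (G ⧸ L))) :=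
      hp1.to_sup_of_normal_left PL.2
    have heq := PL.is_maximal' hsup le_sup_right
    intro k hk
    have : mkL k ∈ (PL : Subgroup (G ⧸ L)) := heq ▸ Subgroup.mem_sup_left ⟨k, hk, rfl⟩
    obtain ⟨a, ha, hak⟩ := this
    have h1 : k * a⁻¹ ∈ L := by
      rw [← QuotientGroup.eq_one_iff]
      show mkL (k * a⁻¹) = 1
      rw [map_mul, map_inv, ← hak, mul_inv_cancel]
    rw [show k = k * a⁻¹ * a by group]
    exact Subgroup.mul_mem_sup h1 ha
  refine ⟨L, hLn, ?_, ?_⟩
  · rw [eq_top_iff, ← Sylow.normalizer_sup_eq_top' P hPS, sup_le_iff]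
    refine ⟨le_sup_right, ?_⟩
    intro s hs
    have hsH : mk s ∈ H := ⟨s, hs, rfl⟩
    have htop : (⟨mk s, hsH⟩ : H) ∈ L0 ⊔ (PH : Subgroup H) := by
      rw [hcompl.sup_eq_top]; trivial
    obtain ⟨l, hl, a, ha, hla⟩ := Subgroup.mem_sup_of_normal_left.mp htop
    obtain ⟨a', ha', haa⟩ := (show (a : G ⧸ K) ∈ (Pb : Subgroup (G ⧸ K)) from ha)
    have h1 : s * a'⁻¹ ∈ K1 := by
      refine ⟨l, hl, ?_⟩
      show (l : G ⧸ K) = mk (s * a'⁻¹)
      rw [map_mul, map_inv, haa, eq_mul_inv_iff_mul_eq]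
      exact congrArg Subtype.val hla
    rw [show s = s * a'⁻¹ * a' by group]
    refine mul_mem (sup_le le_sup_left (Subgroup.le_normalizer.trans le_sup_right) (hK1le h1)) ?_
    exact Subgroup.mem_sup_right (Subgroup.le_normalizer ha')
  · rw [eq_bot_iff]
    rintro x ⟨⟨x1, hx1, rfl⟩, hxN⟩
    have hx0 : (x1 : G) ∈ K1 := x1.2
    have hH : mk (x1 : G) ∈ H := Subgroup.map_subtype_le L0 hx0
    have hnorm : mk (x1 : G) ∈ Subgroup.normalizer ((Pb : Subgroup (G ⧸ K)) : Set (G ⧸ K)) :=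
      Subgroup.le_normalizer_map mk ⟨_, hxN, rfl⟩
    have h1 : mk (x1 : G) = 1 := hinj _ hx0 (hself _ hH hnorm)
    have h2 := (hKN ⟨_, hxN⟩).mp ((QuotientGroup.eq_one_iff _).mp h1)
    obtain ⟨n, hn⟩ := IsPGroup.iff_orderOf.mp P.2 ⟨_, derP_le P h2⟩
    rw [← Subgroup.orderOf_coe] at hn
    simp only [Subgroup.coe_subtype] at hn
    rcases Nat.eq_zero_or_pos n with rfl | hpos
    · exact Subgroup.mem_bot.mpr (orderOf_eq_one_iff.mp (by simpa using hn))
    · refine absurd ?_ hL1p
      refine ((dvd_pow_self p hpos.ne').trans (dvd_of_eq hn.symm)).trans ?_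
      rw [Subgroup.orderOf_coe]
      exact Subgroup.orderOf_dvd_natCard L1 hx1

theorem exists_proj {K : Subgroup G} (hK : K.Normal) (hsup : K ⊔ nP P = ⊤)
    (hinf : K ⊓ nP P = ⊥) :
    ∃ π : G →* nP P, (∀ x : nP P, π (x : G) = x) ∧ (∀ k ∈ K, π k = 1) := by
  haveI := hK
  let r : nP P →* G ⧸ K := (QuotientGroup.mk' K).comp (nP P).subtype
  have hinj : Function.Injective r := by
    rw [injective_iff_map_eq_one]
    intro x hx
    have : (x : G) ∈ K ⊓ nP P := ⟨(QuotientGroup.eq_one_iff _).mp hx, x.2⟩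
    rw [hinf] at this
    exact Subtype.ext (Subgroup.mem_bot.mp this)
  have hsurj : Function.Surjective r := by
    intro z
    obtain ⟨g, rfl⟩ := QuotientGroup.mk_surjective z
    obtain ⟨k, hk, x, hx, rfl⟩ := Subgroup.mem_sup_of_normal_left.mp (hsup.symm ▸ Subgroup.mem_top g)
    exact ⟨⟨x, hx⟩, by
      simp only [r, MonoidHom.comp_apply, Subgroup.coe_subtype, QuotientGroup.mk'_apply,
        QuotientGroup.mk_mul, (QuotientGroup.eq_one_iff k).mpr hk, one_mul]⟩
  let e := MulEquiv.ofBijective r ⟨hinj, hsurj⟩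
  refine ⟨e.symm.toMonoidHom.comp (QuotientGroup.mk' K), fun x => ?_, fun k hk => ?_⟩
  · exact e.symm_apply_apply x
  · simp [(QuotientGroup.eq_one_iff k).mpr hk]

theorem allExtend_of_complement {K : Subgroup G} (hK : K.Normal) (hsup : K ⊔ nP P = ⊤)
    (hinf : K ⊓ nP P = ⊥) : AllExtend P := by
  intro θ _
  obtain ⟨π, hπ, -⟩ := exists_proj P hK hsup hinf
  exact ⟨⟨_, isIrrCharacter_comp π (fun y => ⟨y, hπ y⟩) θ.2⟩, fun x => by
    show (θ : nP P → ℂ) (π x) = _
    rw [hπ x]⟩

theorem trivial_on_complement {K : Subgroup G} (hK : K.Normal) (hinf : K ⊓ nP P = ⊥)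
    {χ : G → ℂ} (hχ : IsIrrCharacter G χ) (hp : ¬ p ∣ deg χ) : ∀ k ∈ K, χ k = χ 1 := by
  classical
  haveI := hK
  haveI := Fintype.ofFinite G
  have hKP : K ⊓ (P : Subgroup G) = ⊥ :=
    le_bot_iff.mp ((inf_le_inf_left K Subgroup.le_normalizer).trans hinf.le)
  have hKcard : ¬ p ∣ Nat.card K := by
    intro hd
    apply Transfer.not_dvd_relIndex_normal P K
    rw [show (P : Subgroup G) ⊓ K = ⊥ from (inf_comm _ _).trans hKP, Subgroup.relIndex_bot_left]
    exact hd
  -- restrict to `KP`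
  let T : Subgroup G := K ⊔ (P : Subgroup G)
  haveI := Fintype.ofFinite T
  obtain ⟨ψ, hψ, hψp⟩ : ∃ ψ : IrrCharacter T,
      mult (fun t : T => χ t) ψ ≠ 0 ∧ ¬ p ∣ deg (ψ : T → ℂ) := by
    by_contra hh
    push Not at hh
    apply hp
    rw [deg_restrict_eq T (isCharacter_of_isIrr hχ)]
    refine Finset.dvd_sum fun ψ _ => ?_
    by_cases h0 : mult (fun t : T => χ t) ψ = 0
    · simp [h0]
    · exact (hh ψ h0).mul_left _
  let K' : Subgroup T := K.subgroupOf T
  haveI : K'.Normal := Subgroup.normal_subgroupOf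
  haveI := Fintype.ofFinite K'
  obtain ⟨η, hη⟩ := exists_constituent_restrict K' ψ.2
  obtain ⟨e, he, hei⟩ := deg_ratio_dvd_index K' ψ.2 η.2 hη
  have hidx : K'.index ∣ Nat.card (P : Subgroup G) := by
    show K.relIndex (K ⊔ (P : Subgroup G)) ∣ _
    rw [sup_comm, Subgroup.relIndex_sup_right]
    exact Subgroup.relIndex_dvd_card K _
  have he1 : e = 1 := by
    obtain ⟨m, hm⟩ := IsPGroup.iff_card.mp P.2
    rw [hm] at hidx
    obtain ⟨i, -, hi⟩ := (Nat.dvd_prime_pow Fact.out).mp (hei.trans hidx)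
    rcases Nat.eq_zero_or_pos i with rfl | hpos
    · simpa using hi
    · exact absurd ((dvd_pow_self p hpos.ne').trans (hi ▸ Dvd.intro (deg (η : K' → ℂ)) he.symm)) hψp
  rw [he1, one_mul] at he
  have hres : (fun k : K' => (ψ : T → ℂ) k) = η :=
    eq_of_deg_le (isCharacter_restrict K' (isCharacter_of_isIrr ψ.2)) η.2 hη (le_of_eq he)
  -- `η` is invariant under `P`
  have hmem : ∀ (a : ↥(P : Subgroup G)) (k : K), (a : G) * k * (a : G)⁻¹ ∈ K :=
    fun a k => hK.conj_mem _ k.2 _
  let φ : ↥(P : Subgroup G) →* MulAut K := MulAut.conjNormal.comp (P : Subgroup G).subtype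
  let i : K →* K' := (Subgroup.subgroupOfEquivOfLe (le_sup_left : K ≤ T)).symm.toMonoidHom
  have hi : Function.Surjective i :=
    (Subgroup.subgroupOfEquivOfLe (le_sup_left : K ≤ T)).symm.surjective
  have hinv : ∀ a k, (η : K' → ℂ) (i (φ a k)) = (η : K' → ℂ) (i k) := by
    intro a k
    rw [← hres]
    refine CT.isClassFunction_isConj (isClassFunction_of_isIrr ψ.2) ?_
    refine isConj_iff.mpr ⟨(⟨(a : G), Subgroup.mem_sup_right a.2⟩ : T)⁻¹, Subtype.ext ?_⟩
    simp [i, φ, MulAut.conjNormal_apply, mul_assoc]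
  have htriv := eq_triv_of_invariant P.2 φ hKcard (fun k hk => ?_)
    (isIrrCharacter_comp i hi η.2) hinv
  swap
  · have hc : (k : G) ∈ nP P := by
      rw [Subgroup.mem_normalizer_iff]
      intro y
      constructor
      · intro hy
        have h1 := congrArg Subtype.val (hk ⟨y, hy⟩)
        simp only [φ, MonoidHom.comp_apply, Subgroup.coe_subtype, MulAut.conjNormal_apply] at h1
        have h2 : (k : G) * y * (k : G)⁻¹ = y := by
          rw [← (mul_inv_eq_iff_eq_mul.mp h1), mul_inv_cancel_right]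
        rw [h2]; exact hy
      · intro hy
        have h1 := congrArg Subtype.val (hk ⟨_, hy⟩)
        simp only [φ, MonoidHom.comp_apply, Subgroup.coe_subtype, MulAut.conjNormal_apply] at h1
        have h2 : y = (k : G) * y * (k : G)⁻¹ := by
          refine mul_left_cancel (a := (k : G)) ?_
          rw [← (mul_inv_eq_iff_eq_mul.mp h1)]
          group
        rw [h2]; exact hy
    have : (k : G) ∈ K ⊓ nP P := ⟨k.2, hc⟩
    rw [hinf] at this
    exact Subtype.ext (Subgroup.mem_bot.mp this)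
  -- hence the trivial character of `K` occurs in `χ`, so `χ` is trivial on `K`
  haveI := Fintype.ofFinite K
  obtain ⟨θ, hθ⟩ := exists_constituent_restrict K hχ
  have hψK : ∀ k : K, (ψ : T → ℂ) ⟨(k : G), Subgroup.mem_sup_left k.2⟩ = 1 := by
    intro k
    have := congrFun htriv k
    rw [← hres] at this
    exact this
  have hin : classInner (fun k : K => χ k) (fun _ => 1) ≠ 0 := by
    -- `ψ` is linear, trivial on `K`, and a constituent of `χ`
    have hle : mult (fun t : T => χ t) ψ ≤ mult (fun k : K => χ k) (trivIrr K : K → ℂ) := by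
      have hr := isCharacter_restrict T (isCharacter_of_isIrr hχ)
      have hc : (fun k : K => χ k) = ∑ c : IrrCharacter T,
          (mult (fun t : T => χ t) c : ℂ) •
            (fun k : K => (c : T → ℂ) ⟨(k : G), Subgroup.mem_sup_left k.2⟩) := by
        funext k
        have := congrFun (character_eq_sum hr) ⟨(k : G), Subgroup.mem_sup_left k.2⟩
        simpa [Finset.sum_apply] using this
      have hch : ∀ c : IrrCharacter T, IsCharacter K
          (fun k : K => (c : T → ℂ) ⟨(k : G), Subgroup.mem_sup_left k.2⟩) :=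
        fun c => isCharacter_comp (Subgroup.inclusion (le_sup_left : K ≤ T))
          (isCharacter_of_isIrr c.2)
      have h1 : classInner (fun k : K => χ k) (trivIrr K : K → ℂ) =
          ((∑ c : IrrCharacter T, mult (fun t : T => χ t) c *
            mult (fun k : K => (c : T → ℂ) ⟨(k : G), Subgroup.mem_sup_left k.2⟩)
              (trivIrr K : K → ℂ) : ℕ) : ℂ) := by
        rw [hc, classInner_sum_left, Nat.cast_sum]
        refine Finset.sum_congr rfl fun c _ => ?_
        rw [classInner_smul_left, mult_spec (hch c) (isCharacter_of_isIrr (trivIrr K).2),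
          Nat.cast_mul]
      rw [mult_spec (isCharacter_restrict K (isCharacter_of_isIrr hχ))
        (isCharacter_of_isIrr (trivIrr K).2)] at h1
      rw [Nat.cast_inj] at h1
      rw [h1]
      refine le_trans ?_ (Finset.single_le_sum (fun c _ => Nat.zero_le _) (Finset.mem_univ ψ))
      have : mult (fun k : K => (ψ : T → ℂ) ⟨(k : G), Subgroup.mem_sup_left k.2⟩)
          (trivIrr K : K → ℂ) = 1 := by
        have h2 := mult_spec (hch ψ) (isCharacter_of_isIrr (trivIrr K).2)
        rw [show (fun k : K => (ψ : T → ℂ) ⟨(k : G), Subgroup.mem_sup_left k.2⟩) =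
          (trivIrr K : K → ℂ) from funext hψK, irr_inner_self (trivIrr K).2] at h2
        rw [show (fun k : K => (ψ : T → ℂ) ⟨(k : G), Subgroup.mem_sup_left k.2⟩) =
          (trivIrr K : K → ℂ) from funext hψK]
        exact_mod_cast h2.symm
      rw [this, mul_one]
    intro h0
    rw [show (fun _ : K => (1 : ℂ)) = (trivIrr K : K → ℂ) from rfl,
      mult_spec (isCharacter_restrict K (isCharacter_of_isIrr hχ))
        (isCharacter_of_isIrr (trivIrr K).2), Nat.cast_eq_zero] at h0
    omega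
  intro k hk
  have h := restrict_eq_smul_of_invariant K hχ (isIrrCharacter_one) hin (fun g => rfl)
  have h1 := congrFun h ⟨k, hk⟩
  have h2 := congrFun h 1
  simp only [Pi.smul_apply, smul_eq_mul] at h1 h2
  rw [h1, ← h2]
  rfl

/-- The sum of squares of degrees prime to `p` is at least `|N : P'|`, with equality iff `N` has a
normal complement. -/
theorem main [Fintype G] [Fintype (nP P)] :
    Nat.card (nP P) ≤ Nat.card (commutator ↥(P : Subgroup G)) *
        ∑ χ ∈ Finset.univ.filter (fun χ : IrrCharacter G => ¬ p ∣ deg (χ : G → ℂ)),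
          deg (χ : G → ℂ) ^ 2 ∧
    (Nat.card (nP P) = Nat.card (commutator ↥(P : Subgroup G)) *
        ∑ χ ∈ Finset.univ.filter (fun χ : IrrCharacter G => ¬ p ∣ deg (χ : G → ℂ)),
          deg (χ : G → ℂ) ^ 2 ↔
      ∃ K : Subgroup G, K.Normal ∧ K ⊓ nP P = ⊥ ∧ K ⊔ nP P = ⊤) := by
  classical
  let A := Finset.univ.filter (fun χ : IrrCharacter G => ¬ p ∣ deg (χ : G → ℂ))
  let B := Finset.univ.filter (fun θ : IrrCharacter (nP P) => ¬ p ∣ deg (θ : nP P → ℂ))
  have hex : ∀ θ : IrrCharacter (nP P), ∃ χ : IrrCharacter G, ¬ p ∣ deg (θ : nP P → ℂ) →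
      ¬ p ∣ deg (χ : G → ℂ) ∧ mult (fun x : nP P => (χ : G → ℂ) x) θ ≠ 0 := by
    intro θ
    by_cases h : p ∣ deg (θ : nP P → ℂ)
    · exact ⟨trivIrr G, fun h' => absurd h h'⟩
    · obtain ⟨χ, hχ⟩ := exists_pPrime_over P θ.2 h
      exact ⟨χ, fun _ => hχ⟩
  choose f hf using hex
  have hmaps : ∀ θ ∈ B, f θ ∈ A := fun θ hθ =>
    Finset.mem_filter.mpr ⟨Finset.mem_univ _, (hf θ (Finset.mem_filter.mp hθ).2).1⟩
  let F : IrrCharacter G → Finset (IrrCharacter (nP P)) := fun χ => B.filter fun θ => f θ = χ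
  have hfib : ∀ χ, ∑ θ ∈ F χ, deg (θ : nP P → ℂ) ≤ deg (χ : G → ℂ) := by
    intro χ
    rw [deg_restrict_eq (nP P) (isCharacter_of_isIrr χ.2)]
    refine le_trans (Finset.sum_le_sum fun θ hθ => ?_)
      (Finset.sum_le_sum_of_subset (Finset.subset_univ _))
    obtain ⟨hθB, hθf⟩ := Finset.mem_filter.mp hθ
    refine Nat.le_mul_of_pos_left _ (Nat.pos_of_ne_zero ?_)
    rw [← hθf]
    exact (hf θ (Finset.mem_filter.mp hθB).2).2
  have hsq : ∀ χ, ∑ θ ∈ F χ, deg (θ : nP P → ℂ) ^ 2 ≤ deg (χ : G → ℂ) ^ 2 := fun χ =>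
    (Finset.sum_sq_le_sq_sum_of_nonneg fun θ _ => Nat.zero_le _).trans
      (Nat.pow_le_pow_left (hfib χ) 2)
  have hB : ∑ θ ∈ B, deg (θ : nP P → ℂ) ^ 2 = ∑ χ ∈ A, ∑ θ ∈ F χ, deg (θ : nP P → ℂ) ^ 2 :=
    (Finset.sum_fiberwise_of_maps_to hmaps _).symm
  have hN := sum_sq_deg P
  have hle : ∑ θ ∈ B, deg (θ : nP P → ℂ) ^ 2 ≤ ∑ χ ∈ A, deg (χ : G → ℂ) ^ 2 :=
    hB ▸ Finset.sum_le_sum fun χ _ => hsq χ
  refine ⟨hN ▸ Nat.mul_le_mul_left _ hle, fun heq => ?_, ?_⟩
  · rw [hN] at heq
    have heq' := Nat.eq_of_mul_eq_mul_left Nat.card_pos heq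
    rw [hB] at heq'
    have hpt := (Finset.sum_eq_sum_iff_of_le fun χ _ => hsq χ).mp heq'
    have hext : AllExtend P := by
      intro θ hθ
      have hθB : θ ∈ B := Finset.mem_filter.mpr ⟨Finset.mem_univ _, hθ⟩
      refine ⟨f θ, congrFun (eq_of_deg_le
        (isCharacter_restrict _ (isCharacter_of_isIrr (f θ).2)) θ.2 ?_ ?_)⟩
      · rw [mult_spec (isCharacter_restrict _ (isCharacter_of_isIrr (f θ).2))
          (isCharacter_of_isIrr θ.2)]
        exact_mod_cast (hf θ hθ).2
      · have h1 := hpt (f θ) (hmaps θ hθB)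
        have h2 := hfib (f θ)
        have hmem : θ ∈ F (f θ) := Finset.mem_filter.mpr ⟨hθB, rfl⟩
        rw [← Finset.add_sum_erase _ _ hmem] at h1 h2
        have h3 := Finset.sum_sq_le_sq_sum_of_nonneg (s := (F (f θ)).erase θ)
          (f := fun c : IrrCharacter (nP P) => deg (c : nP P → ℂ)) fun c _ => Nat.zero_le _
        have hpos : 0 < deg (θ : nP P → ℂ) := by
          refine Nat.pos_of_ne_zero fun h0 => hθ ?_
          rw [h0]; exact dvd_zero p
        show deg (f θ : G → ℂ) ≤ deg (θ : nP P → ℂ)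
        obtain ⟨R, hR⟩ : ∃ R, R = ∑ c ∈ (F (f θ)).erase θ, deg (c : nP P → ℂ) := ⟨_, rfl⟩
        rw [← hR] at h2 h3
        have hR0 : R = 0 := by
          rcases Nat.eq_zero_or_pos R with h | h
          · exact h
          · have h4 : (deg (θ : nP P → ℂ) + R) ^ 2 ≤ deg (θ : nP P → ℂ) ^ 2 + R ^ 2 :=
              (Nat.pow_le_pow_left h2 2).trans (h1 ▸ Nat.add_le_add_left h3 _)
            nlinarith
        subst hR0
        have h5 : deg (f θ : G → ℂ) ^ 2 ≤ deg (θ : nP P → ℂ) ^ 2 := by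
          simp only [← h1]
          simp only [Nat.zero_pow (by norm_num : 0 < 2)] at h3
          omega
        exact (Nat.pow_le_pow_iff_left (by norm_num : 2 ≠ 0)).mp h5
    obtain ⟨K, h1, h2, h3⟩ := exists_complement_of_allExtend P hext
    exact ⟨K, h1, h3, h2⟩
  · rintro ⟨K, hK, hinf, hsup⟩
    rw [hN]
    refine congrArg _ (le_antisymm hle ?_)
    obtain ⟨π, hπ, hπK⟩ := exists_proj P hK hsup hinf
    -- restriction is injective on the characters in question
    have hres : ∀ χ ∈ A, ∃ θ ∈ B, (fun g => (θ : nP P → ℂ) (π g)) = (χ : G → ℂ) := by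
      intro χ hχ
      have hp' := (Finset.mem_filter.mp hχ).2
      have htr := trivial_on_complement P hK hinf χ.2 hp'
      haveI := hK
      obtain ⟨ψ, hψ, hval⟩ := exists_quotient_irr χ.2 K htr
      let r : nP P →* G ⧸ K := (QuotientGroup.mk' K).comp (nP P).subtype
      have hfac : ∀ g : G, r (π g) = QuotientGroup.mk g := by
        intro g
        obtain ⟨k, hk, x, hx, rfl⟩ :=
          Subgroup.mem_sup_of_normal_left.mp (hsup.symm ▸ Subgroup.mem_top g)
        have : π x = ⟨x, hx⟩ := hπ ⟨x, hx⟩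
        simp [r, map_mul, hπK k hk, this, QuotientGroup.mk_mul,
          (QuotientGroup.eq_one_iff k).mpr hk]
      have hsurj : Function.Surjective r := fun z => by
        obtain ⟨g, rfl⟩ := QuotientGroup.mk_surjective z
        exact ⟨π g, hfac g⟩
      refine ⟨⟨_, isIrrCharacter_comp r hsurj hψ⟩, Finset.mem_filter.mpr ⟨Finset.mem_univ _, ?_⟩,
        funext fun g => by show ψ (r (π g)) = _; rw [hfac, hval]⟩
      intro hd
      apply hp'
      have : deg (χ : G → ℂ) = deg (fun y : nP P => ψ (r y)) := by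
        unfold CT.deg
        show _ = ⌊(ψ (r 1)).re⌋₊
        rw [← hval 1, map_one]
        rfl
      rwa [this]
    choose g hg hgv using hres
    calc ∑ χ ∈ A, deg (χ : G → ℂ) ^ 2
        = ∑ χ ∈ A.attach, deg (g χ.1 χ.2 : nP P → ℂ) ^ 2 := by
          rw [← Finset.sum_attach]
          refine Finset.sum_congr rfl fun χ _ => ?_
          congr 1
          unfold CT.deg
          rw [← hgv χ.1 χ.2]
          simp
      _ = ∑ θ ∈ A.attach.image (fun χ => g χ.1 χ.2), deg (θ : nP P → ℂ) ^ 2 := by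
          rw [Finset.sum_image]
          intro a _ b _ e
          apply Subtype.ext
          apply Subtype.ext
          rw [← hgv a.1 a.2, ← hgv b.1 b.2, show g a.1 a.2 = g b.1 b.2 from e]
      _ ≤ _ := Finset.sum_le_sum_of_subset fun θ hθ => by
          obtain ⟨χ, -, rfl⟩ := Finset.mem_image.mp hθ
          exact hg χ.1 χ.2

end Cfsg.Agent.NormExt
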