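import Cfsg.Agent.Lib.CT.Kernel
import Cfsg.Agent.Lib.CT.Clifford
import Cfsg.Agent.Lib.Transfer.Tate
import Cfsg.Prelude.Def_Blocks
import Mathlib.GroupTheory.FiniteAbelian.Duality
import Mathlib.Analysis.Complex.Polynomial.Basic
import Mathlib.RingTheory.RootsOfUnity.AlgebraicallyClosed

/-!
# Faithful characters of small degree and a Sylow subgroup with uniform centralizers
-/

set_option autoImplicit false
set_option linter.unusedSectionVars false
set_option linter.style.haveILetI false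

open scoped ComplexConjugate
open scoped Classical

namespace Cfsg.Agent.CT.SmallDeg

universe u

variable {G : Type u} [Group G] (P : Subgroup G)

/-- The centralizer of `P`. -/
abbrev cen : Subgroup G := Subgroup.centralizer (P : Set G)

/-- The normalizer of `P`. -/
abbrev nor : Subgroup G := Subgroup.normalizer (P : Set G)

/-- The linear characters of `P`. -/
abbrev Dual : Type u := P →* ℂˣ

theorem nor_conj_mem (n : nor P) {u : G} (hu : u ∈ P) : (n : G) * u * (n : G)⁻¹ ∈ P :=
  (n.2 u).mp hu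

theorem nor_conj_cen (n : nor P) (c : cen P) : (n : G) * c * (n : G)⁻¹ ∈ cen P := by
  intro u hu
  have h := c.2 _ (nor_conj_mem P n⁻¹ hu)
  have h' := congrArg (fun z => (n : G) * z * (n : G)⁻¹) h
  simpa [mul_assoc] using h'

/-- Conjugation by an element of the normalizer on the centralizer. -/
def cc (n : nor P) : cen P →* cen P where
  toFun c := ⟨(n : G) * c * (n : G)⁻¹, nor_conj_cen P n c⟩
  map_one' := Subtype.ext (by simp)
  map_mul' a b := Subtype.ext (by simp [mul_assoc])

/-- Conjugation by an element of the normalizer on `P`. -/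
def pc (n : nor P) : P →* P where
  toFun c := ⟨(n : G) * c * (n : G)⁻¹, nor_conj_mem P n c.2⟩
  map_one' := Subtype.ext (by simp)
  map_mul' a b := Subtype.ext (by simp [mul_assoc])

@[simp] theorem cc_coe (n : nor P) (c : cen P) : (cc P n c : G) = (n : G) * c * (n : G)⁻¹ := rfl

@[simp] theorem pc_coe (n : nor P) (c : P) : (pc P n c : G) = (n : G) * c * (n : G)⁻¹ := rfl

theorem cc_mul (n m : nor P) (c : cen P) : cc P (n * m) c = cc P n (cc P m c) :=
  Subtype.ext (by simp [mul_assoc])

theorem pc_mul (n m : nor P) (c : P) : pc P (n * m) c = pc P n (pc P m c) :=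
  Subtype.ext (by simp [mul_assoc])

theorem cc_surjective (n : nor P) : Function.Surjective (cc P n) := fun c =>
  ⟨cc P n⁻¹ c, Subtype.ext (by simp [mul_assoc])⟩

/-- A `P`-centralizer with a projection onto `P`, a trivial intersection property and a fixed point
free action of the normalizer. -/
structure Data where
  le : P ≤ cen P
  pi : cen P →* P
  pi_coe : ∀ u : P, pi ⟨u, le u.2⟩ = u
  pi_cc : ∀ (n : nor P) (c : cen P), pi (cc P n c) = pc P n (pi c)
  ti : ∀ (g : G) (c : cen P), pi c ≠ 1 → g * c * g⁻¹ ∈ cen P → g ∈ nor P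
  fpf : ∀ (n : nor P) (u : P), u ≠ 1 → pc P n u = u → (n : G) ∈ cen P

/-- Irreducible characters of the centralizer trivial on `P`. -/
abbrev Del : Type u := {δ : IrrCharacter (cen P) // ∀ c : cen P, (c : G) ∈ P → δ.1 c = δ.1 1}

/-- Labels for the irreducible characters of the centralizer. -/
abbrev Idx : Type u := Dual P × Del P

theorem act_mem (n : nor P) (δ : Del P) (c : cen P) (hc : (c : G) ∈ P) :
    δ.1.1 (cc P n c) = δ.1.1 (cc P n 1) := by
  rw [map_one]
  exact δ.2 _ (nor_conj_mem P n hc)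

/-- The action of the normalizer on labels. -/
noncomputable def act (n : nor P) (i : Idx P) : Idx P :=
  (i.1.comp (pc P n),
    ⟨⟨fun c => i.2.1.1 (cc P n c), isIrrCharacter_comp (cc P n) (cc_surjective P n) i.2.1.2⟩,
      fun c hc => act_mem P n i.2 c hc⟩)

@[simp] theorem act_fst (n : nor P) (i : Idx P) : (act P n i).1 = i.1.comp (pc P n) := rfl

theorem act_act (m n : nor P) (i : Idx P) : act P m (act P n i) = act P (n * m) i := by
  refine Prod.ext ?_ ?_
  · ext u; simp [pc_mul]
  · refine Subtype.ext (Subtype.ext (funext fun c => ?_))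
    show i.2.1.1 (cc P n (cc P m c)) = i.2.1.1 (cc P (n * m) c)
    rw [cc_mul]

theorem act_one (i : Idx P) : act P 1 i = i := by
  refine Prod.ext ?_ ?_
  · refine MonoidHom.ext fun u => ?_
    show i.1 (pc P 1 u) = i.1 u
    congr 1
    exact Subtype.ext (by simp)
  · refine Subtype.ext (Subtype.ext (funext fun c => ?_))
    show i.2.1.1 (cc P 1 c) = i.2.1.1 c
    rw [show cc P 1 c = c from Subtype.ext (by simp)]

theorem act_fst_eq_one {n : nor P} {i : Idx P} : (act P n i).1 = 1 ↔ i.1 = 1 := by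
  constructor
  · intro h
    have h' := congrArg (fun j : Idx P => j.1) (act_act P n⁻¹ n i)
    simp only [mul_inv_cancel, act_one] at h'
    rw [← h', act_fst, h, MonoidHom.one_comp]
  · intro h
    rw [act_fst, h, MonoidHom.one_comp]

/-- The trivial label. -/
def del1 : Del P := ⟨trivIrr (cen P), fun _ _ => rfl⟩

theorem act_del1 (n : nor P) (l : Dual P) : act P n (l, del1 P) = (l.comp (pc P n), del1 P) := rfl

/-- The degree of a label. -/
noncomputable def dd (δ : Del P) : ℕ := deg δ.1.1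

theorem dd_act (n : nor P) (i : Idx P) : dd P (act P n i).2 = dd P i.2 := by
  simp only [dd, deg, act, map_one]

variable [Fintype G]

theorem dd_pos (δ : Del P) : 0 < dd P δ := deg_pos δ.1.2

theorem dd_eq (δ : Del P) : δ.1.1 1 = (dd P δ : ℂ) := deg_eq (isCharacter_of_isIrr δ.1.2)

theorem finite_dual : Finite (Dual P) := by
  refine Finite.of_injective (fun l : Dual P => linIrr l) fun a b h => ?_
  refine MonoidHom.ext fun u => Units.ext ?_
  exact congrFun (congrArg Subtype.val h) u

noncomputable instance dualFintype : Fintype (Dual P) :=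
  haveI := finite_dual P
  Fintype.ofFinite _

theorem card_dual (D : Data P) : Fintype.card (Dual P) = Nat.card P := by
  letI : CommGroup P :=
    { (inferInstance : Group P) with
      mul_comm := fun a b => Subtype.ext (D.le b.2 a a.2) }
  rw [← Nat.card_eq_fintype_card]
  haveI : NeZero (Monoid.exponent P) := ⟨Monoid.exponent_ne_zero_of_finite⟩
  exact CommGroup.card_monoidHom_of_hasEnoughRootsOfUnity P ℂ

/-! ### The character table of the centralizer -/

variable {P} (D : Data P)

theorem Data.pi_surj (u : P) : ∃ c, D.pi c = u := ⟨_, D.pi_coe u⟩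

theorem Data.pi_uC (c : cen P) (hc : (c : G) ∈ P) : (D.pi c : G) = c :=
  congrArg Subtype.val (D.pi_coe ⟨c, hc⟩)

theorem Data.split (c : cen P) (l : Dual P) (δ : Del P) (u : P) :
    (l (D.pi (⟨u, D.le u.2⟩ * c)) : ℂ) * δ.1.1 (⟨u, D.le u.2⟩ * c) =
      l u * ((l (D.pi c) : ℂ) * δ.1.1 c) := by
  have h : δ.1.1 (⟨u, D.le u.2⟩ * c) = δ.1.1 c := by
    rw [isClassFunction_mul_comm (isClassFunction_of_isIrr δ.1.2)]
    exact (mem_kerChar_iff (isCharacter_of_isIrr δ.1.2)).mpr (δ.2 _ u.2) c
  rw [h, map_mul, D.pi_coe, map_mul, Units.val_mul]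
  ring

/-- The irreducible character with a given label. -/
noncomputable def Data.lam (i : Idx P) : cen P → ℂ :=
  fun c => (i.1 (D.pi c) : ℂ) * i.2.1.1 c

theorem isIrr_lin_mul {H : Type u} [Group H] [Fintype H] (l : H →* ℂˣ) {χ : H → ℂ}
    (hχ : IsIrrCharacter H χ) : IsIrrCharacter H (fun c => (l c : ℂ) * χ c) := by
  refine isIrr_of_inner_self (isCharacter_mul (isCharacter_lin l) (isCharacter_of_isIrr hχ)) ?_
  rw [← irr_inner_self hχ]
  simp only [classInner]
  congr 1
  refine Finset.sum_congr rfl fun c _ => ?_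
  have h : (l c : ℂ) * conj (l c : ℂ) = 1 := by
    rw [← char_inv_eq_conj (isCharacter_lin l), map_inv, Units.mul_inv]
  rw [map_mul]
  linear_combination χ c * conj (χ c) * h

theorem Data.lam_isIrr (i : Idx P) : IsIrrCharacter (cen P) (D.lam i) :=
  isIrr_lin_mul (i.1.comp D.pi) i.2.1.2

theorem Data.lam_one (i : Idx P) : D.lam i 1 = (dd P i.2 : ℂ) := by
  simp [Data.lam, dd_eq]

theorem Data.lam_uC (i : Idx P) (u : P) :
    D.lam i ⟨u, D.le u.2⟩ = (dd P i.2 : ℂ) * i.1 u := by
  have h := D.split 1 i.1 i.2 u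
  simp only [mul_one, map_one, Units.val_one, one_mul] at h
  rw [Data.lam, h, dd_eq]
  ring

theorem Data.lam_injective : Function.Injective D.lam := by
  intro i j h
  have h1 : (dd P i.2 : ℂ) = dd P j.2 := by rw [← D.lam_one, ← D.lam_one, h]
  have hd : (dd P j.2 : ℂ) ≠ 0 := Nat.cast_ne_zero.mpr (dd_pos P j.2).ne'
  have hl : i.1 = j.1 := by
    refine MonoidHom.ext fun u => Units.ext ?_
    have h2 := congrFun h ⟨u, D.le u.2⟩
    rw [D.lam_uC, D.lam_uC, h1] at h2
    exact mul_left_cancel₀ hd h2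
  refine Prod.ext hl (Subtype.ext (Subtype.ext (funext fun c => ?_)))
  have h3 := congrFun h c
  simp only [Data.lam, hl] at h3
  exact mul_left_cancel₀ (Units.ne_zero _) h3

theorem Data.lam_surjective {χ : cen P → ℂ} (hχ : IsIrrCharacter (cen P) χ) :
    ∃ i, D.lam i = χ := by
  obtain ⟨n, ρ, hρ, rfl⟩ := hχ
  have hz : ∀ u : P, ∃ s : ℂ, ∀ c, ρ.character (⟨u, D.le u.2⟩ * c) = s * ρ.character c := by
    intro u
    refine ⟨LinearMap.trace ℂ _ (ρ ⟨u, D.le u.2⟩) / (Module.finrank ℂ (Fin n → ℂ) : ℂ), fun c => ?_⟩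
    have hT : ∀ g, ρ ⟨u, D.le u.2⟩ * ρ g = ρ g * ρ ⟨u, D.le u.2⟩ := fun g => by
      rw [← map_mul, ← map_mul]
      congr 1
      exact Subtype.ext (g.2 u u.2)
    show LinearMap.trace ℂ _ (ρ (_ * c)) = _ * LinearMap.trace ℂ _ (ρ c)
    rw [map_mul]
    conv_lhs => rw [eq_scalar_of_commute ρ _ hT]
    rw [smul_mul_assoc, map_smul, smul_eq_mul]
    congr 2
  choose s hs using hz
  have hne : ρ.character 1 ≠ 0 := irr_one_ne_zero ⟨n, ρ, hρ, rfl⟩
  have h1 : s 1 = 1 := by
    have := hs 1 1
    rw [show (⟨((1 : P) : G), D.le (1 : P).2⟩ : cen P) * 1 = 1 from Subtype.ext (by simp)] at this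
    exact mul_right_cancel₀ hne (by rw [one_mul]; exact this.symm)
  have hmul : ∀ u v, s (u * v) = s u * s v := fun u v => by
    refine mul_right_cancel₀ hne ?_
    have e := hs (u * v) 1
    rw [show (⟨((u * v : P) : G), D.le (u * v).2⟩ : cen P) * 1 =
      ⟨u, D.le u.2⟩ * (⟨v, D.le v.2⟩ * 1) from Subtype.ext (by simp), hs, hs] at e
    rw [← e, mul_assoc]
  let l : Dual P := MonoidHom.toHomUnits ⟨⟨s, h1⟩, hmul⟩
  have hδ : IsIrrCharacter (cen P) (fun c => ((l⁻¹).comp D.pi c : ℂ) * ρ.character c) :=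
    isIrr_lin_mul _ ⟨n, ρ, hρ, rfl⟩
  refine ⟨(l, ⟨⟨_, hδ⟩, fun c hc => ?_⟩), funext fun c => ?_⟩
  · have e := hs ⟨c, hc⟩ 1
    rw [mul_one] at e
    show ((l⁻¹).comp D.pi c : ℂ) * ρ.character c = ((l⁻¹).comp D.pi 1 : ℂ) * ρ.character 1
    rw [map_one, Units.val_one, one_mul, MonoidHom.comp_apply,
      show D.pi c = ⟨c, hc⟩ from D.pi_coe ⟨c, hc⟩]
    conv_lhs => rw [e]
    rw [show s ⟨c, hc⟩ = (l ⟨c, hc⟩ : ℂ) from rfl, MonoidHom.inv_apply, ← mul_assoc,
      Units.inv_mul, one_mul]
  · show (l (D.pi c) : ℂ) * (((l⁻¹).comp D.pi c : ℂ) * ρ.character c) = ρ.character c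
    rw [← mul_assoc, MonoidHom.comp_apply, MonoidHom.inv_apply, Units.mul_inv, one_mul]

theorem Data.lam_inner (i j : Idx P) :
    classInner (D.lam i) (D.lam j) = if i = j then 1 else 0 := by
  rw [irr_inner (D.lam_isIrr i) (D.lam_isIrr j)]
  simp [D.lam_injective.eq_iff]

theorem Data.lam_bijective :
    Function.Bijective (fun i => (⟨D.lam i, D.lam_isIrr i⟩ : IrrCharacter (cen P))) := by
  refine ⟨fun i j h => D.lam_injective (congrArg Subtype.val h), fun χ => ?_⟩
  obtain ⟨i, hi⟩ := D.lam_surjective χ.2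
  exact ⟨i, Subtype.ext hi⟩

theorem Data.lam_act (n : nor P) (i : Idx P) :
    D.lam (act P n i) = fun c => D.lam i (cc P n c) := by
  funext c
  simp [Data.lam, act, D.pi_cc]

/-- An integral combination of the irreducible characters of the centralizer. -/
noncomputable def Data.ofC (a : Idx P → ℤ) : cen P → ℂ := ∑ i, (a i : ℂ) • D.lam i

theorem Data.ofC_inner (a b : Idx P → ℤ) (n : nor P) :
    classInner (D.ofC a) (fun c => D.ofC b (cc P n c)) =
      ((∑ i, a (act P n i) * b i : ℤ) : ℂ) := by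
  have e : (fun c => D.ofC b (cc P n c)) = ∑ i, (b i : ℂ) • D.lam (act P n i) := by
    funext c
    simp [Data.ofC, Finset.sum_apply, D.lam_act]
  rw [e, classInner_sum_right]
  push_cast
  refine Finset.sum_congr rfl fun i _ => ?_
  rw [classInner_smul_right, Data.ofC, classInner_sum_left]
  simp [classInner_smul_left, D.lam_inner, mul_comm]

theorem Data.ofC_zero (a : Idx P → ℤ) (ha : ∀ δ, ∑ l, a (l, δ) = 0) (c : cen P)
    (hc : D.pi c = 1) : D.ofC a c = 0 := by
  simp only [Data.ofC, Finset.sum_apply, Pi.smul_apply, smul_eq_mul, Data.lam, hc, map_one,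
    Units.val_one, one_mul]
  rw [Fintype.sum_prod_type_right]
  refine Finset.sum_eq_zero fun δ _ => ?_
  show ∑ l, (a (l, δ) : ℂ) * δ.1.1 c = 0
  rw [← Finset.sum_mul]
  have h : ∑ l, (a (l, δ) : ℂ) = 0 := by exact_mod_cast ha δ
  simp [h]

theorem Data.ind_ofC_apply_one (a : Idx P → ℤ) (ha : ∀ δ, ∑ l, a (l, δ) = 0) :
    indFun (cen P) (D.ofC a) 1 = 0 := by
  rw [indFun_one_eval, D.ofC_zero a ha 1 (map_one _), mul_zero]

/-- The inner product of two induced combinations. -/
theorem Data.inner_ind (a b : Idx P → ℤ) (ha : ∀ δ, ∑ l, a (l, δ) = 0) :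
    classInner (indFun (cen P) (D.ofC a)) (indFun (cen P) (D.ofC b)) =
      (Nat.card (cen P) : ℂ)⁻¹ * ((∑ n : nor P, ∑ i, a (act P n i) * b i : ℤ) : ℂ) := by
  rw [frobenius_reciprocity _ _ (isClassFunction_indFun _ _)]
  have key : ∀ c : cen P, D.ofC a c * conj (indFun (cen P) (D.ofC b) c) =
      D.ofC a c *
        conj ((Nat.card (cen P) : ℂ)⁻¹ * ∑ n : nor P, D.ofC b (cc P n c)) := by
    intro c
    by_cases hc : D.pi c = 1
    · simp [D.ofC_zero a ha c hc]
    rw [show indFun (cen P) (D.ofC b) c = (Nat.card (cen P) : ℂ)⁻¹ *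
      ∑ x : G, extendByZero (cen P) (D.ofC b) (x⁻¹ * c * x) from rfl]
    congr 3
    have hz : ∀ x : G, x ∉ nor P → extendByZero (cen P) (D.ofC b) (x⁻¹ * c * x) = 0 := by
      intro x hx
      refine extendByZero_not_mem _ _ fun hm => hx ?_
      have := D.ti x⁻¹ c hc (by simpa using hm)
      simpa using this
    calc ∑ x : G, extendByZero (cen P) (D.ofC b) (x⁻¹ * c * x)
        = ∑ x ∈ Finset.univ.filter (· ∈ nor P),
            extendByZero (cen P) (D.ofC b) (x⁻¹ * c * x) :=
          (Finset.sum_filter_of_ne fun x _ h => by_contra fun hx => h (hz x hx)).symm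
      _ = ∑ n : nor P, extendByZero (cen P) (D.ofC b) ((n : G)⁻¹ * c * n) :=
          Finset.sum_subtype _ (by simp) _
      _ = ∑ n : nor P, D.ofC b (cc P n c) :=
          Fintype.sum_equiv (Equiv.inv _) _ _ fun n => by
            rw [show ((n : G)⁻¹ * c * n) = ((cc P n⁻¹ c : cen P) : G) by simp,
              extendByZero_coe]
            rfl
  have e : classInner (D.ofC a) (fun c : cen P => indFun (cen P) (D.ofC b) c) =
      classInner (D.ofC a)
        ((Nat.card (cen P) : ℂ)⁻¹ • ∑ n : nor P, fun c => D.ofC b (cc P n c)) := by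
    simp only [classInner]
    congr 1
    refine Finset.sum_congr rfl fun c _ => ?_
    simp only [key c, Pi.smul_apply, Finset.sum_apply, smul_eq_mul]
  rw [e, classInner_smul_right, classInner_sum_right, map_inv₀, Complex.conj_natCast]
  simp [D.ofC_inner]

/-- Multiplicities of the restriction to the centralizer. -/
noncomputable def Data.m (η : G → ℂ) (i : Idx P) : ℕ := mult (fun c : cen P => η c) (D.lam i)

variable {η : G → ℂ} (hη : IsCharacter G η)

include hη

theorem Data.res_eq : (fun c : cen P => η c) = ∑ i, (D.m η i : ℂ) • D.lam i := by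
  conv_lhs => rw [character_eq_sum (isCharacter_restrict (cen P) hη)]
  exact (D.lam_bijective.sum_comp
    (fun χ : IrrCharacter (cen P) => (mult (fun c : cen P => η c) χ.1 : ℂ) • χ.1)).symm

theorem Data.m_act (n : nor P) (i : Idx P) : D.m η (act P n i) = D.m η i := by
  simp only [Data.m, mult]
  congr 2
  rw [D.lam_act]
  simp only [classInner]
  congr 1
  let f : cen P ≃ cen P := Equiv.ofBijective (cc P n) ⟨fun a b h =>
    Subtype.ext (mul_left_cancel (mul_right_cancel (congrArg Subtype.val h))), cc_surjective P n⟩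
  refine Fintype.sum_equiv f _ _ fun c => ?_
  show η c * _ = η ((n : G) * c * (n : G)⁻¹) * _
  rw [isClassFunction_of_isCharacter hη]
  rfl

theorem Data.inner_res (a : Idx P → ℤ) :
    classInner (indFun (cen P) (D.ofC a)) η = ((∑ i, a i * D.m η i : ℤ) : ℂ) := by
  rw [frobenius_reciprocity _ _ (isClassFunction_of_isCharacter hη), D.res_eq hη,
    classInner_sum_right]
  push_cast
  refine Finset.sum_congr rfl fun i _ => ?_
  rw [classInner_smul_right, Data.ofC, classInner_sum_left]
  simp [classInner_smul_left, D.lam_inner, mul_comm]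

theorem Data.deg_eq_sum : deg η = ∑ i, D.m η i * dd P i.2 := by
  have h := congrFun (D.res_eq hη) 1
  simp only [Finset.sum_apply, Pi.smul_apply, smul_eq_mul, D.lam_one, OneMemClass.coe_one] at h
  rw [deg_eq hη] at h
  exact_mod_cast h

theorem Data.res_P (u : P) :
    η u = ∑ i, ((D.m η i * dd P i.2 : ℕ) : ℂ) * (i.1 u : ℂ) := by
  have h := congrFun (D.res_eq hη) ⟨u, D.le u.2⟩
  simp only [Finset.sum_apply, Pi.smul_apply, smul_eq_mul, D.lam_uC] at h
  rw [h]
  exact Finset.sum_congr rfl fun i _ => by push_cast; ring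

theorem Data.exists_m_ne_zero (hP : ¬ ∀ u ∈ P, η u = η 1) :
    ∃ i : Idx P, i.1 ≠ 1 ∧ D.m η i ≠ 0 := by
  by_contra h
  push Not at h
  refine hP fun u hu => ?_
  have hu' := D.res_P hη ⟨u, hu⟩
  have h1 := D.res_P hη 1
  simp only [OneMemClass.coe_one] at h1
  rw [show η u = η ((⟨u, hu⟩ : P) : G) from rfl, hu', h1]
  refine Finset.sum_congr rfl fun i _ => ?_
  by_cases hi : i.1 = 1
  · simp [hi]
  · simp [h i hi]

omit hη

/-! ### Orbits -/

/-- The orbit of a label. -/
noncomputable def orb (i : Idx P) : Finset (Idx P) := Finset.univ.image fun n => act P n i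

theorem mem_orb {i j : Idx P} : j ∈ orb i ↔ ∃ n, act P n i = j := by simp [orb]

theorem self_mem_orb (i : Idx P) : i ∈ orb i := mem_orb.mpr ⟨1, act_one P i⟩

theorem mem_orb_symm {i j : Idx P} (h : j ∈ orb i) : i ∈ orb j := by
  obtain ⟨n, rfl⟩ := mem_orb.mp h
  exact mem_orb.mpr ⟨n⁻¹, by rw [act_act, mul_inv_cancel, act_one]⟩

theorem mem_orb_trans {i j k : Idx P} (h : j ∈ orb i) (h' : k ∈ orb j) : k ∈ orb i := by
  obtain ⟨n, rfl⟩ := mem_orb.mp h
  obtain ⟨m, rfl⟩ := mem_orb.mp h'
  exact mem_orb.mpr ⟨n * m, (act_act P m n i).symm⟩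

theorem act_ne_of_not_mem {i j : Idx P} (h : j ∉ orb i) (n : nor P) : act P n i ≠ j :=
  fun he => h (mem_orb.mpr ⟨n, he⟩)

theorem dd_orb {i j : Idx P} (h : j ∈ orb i) : dd P j.2 = dd P i.2 := by
  obtain ⟨n, rfl⟩ := mem_orb.mp h
  exact dd_act P n i

theorem fst_orb {i j : Idx P} (h : j ∈ orb i) (hi : i.1 ≠ 1) : j.1 ≠ 1 := by
  obtain ⟨n, rfl⟩ := mem_orb.mp h
  exact fun he => hi ((act_fst_eq_one P).mp he)

include D in
/-- The stabilizer of a nontrivial label is the centralizer. -/
theorem act_fix {i : Idx P} (hi : i.1 ≠ 1) (n : nor P) : act P n i = i ↔ (n : G) ∈ cen P := by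
  constructor
  · intro h
    by_contra hn
    refine hi (MonoidHom.ext fun v => ?_)
    have hl : ∀ u, i.1 (pc P n u) = i.1 u := fun u =>
      DFunLike.congr_fun (congrArg Prod.fst h) u
    let f : P → P := fun u => pc P n u * u⁻¹
    have hinj : Function.Injective f := by
      intro a b hab
      by_contra hne
      refine hn (D.fpf n (b⁻¹ * a) (fun h1 => hne (inv_mul_eq_one.mp h1).symm) ?_)
      simp only [f] at hab
      have hc : ∀ x y : P, x * y = y * x := fun x y => Subtype.ext (D.le y.2 x x.2)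
      rw [map_mul, map_inv]
      calc (pc P n b)⁻¹ * pc P n a = (pc P n b)⁻¹ * (pc P n a * a⁻¹ * a) := by group
        _ = (pc P n b)⁻¹ * (pc P n b * b⁻¹ * a) := by rw [hab]
        _ = b⁻¹ * a := by group
    obtain ⟨u, rfl⟩ := (Finite.injective_iff_surjective.mp hinj) v
    simp [f, hl]
  · intro hn
    refine Prod.ext (MonoidHom.ext fun u => ?_) (Subtype.ext (Subtype.ext (funext fun c => ?_)))
    · show i.1 (pc P n u) = i.1 u
      congr 1
      refine Subtype.ext ?_
      rw [pc_coe, ← hn u u.2, mul_inv_cancel_right]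
    · exact isClassFunction_of_isIrr i.2.1.2 c ⟨n, hn⟩

/-- The index of the centralizer in the normalizer. -/
noncomputable def ee (P : Subgroup G) : ℕ := ((cen P).subgroupOf (nor P)).index

theorem card_cen_subgroupOf :
    Nat.card ((cen P).subgroupOf (nor P)) = Nat.card (cen P) := by
  refine Nat.card_congr (Subgroup.subgroupOfEquivOfLe ?_).toEquiv
  intro c hc n
  constructor
  · intro hn
    rwa [← hc n hn, mul_inv_cancel_right]
  · intro hn
    have := hc _ hn
    rw [show n = c⁻¹ * (c * n * c⁻¹) * c by group, mul_assoc, this]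
    simpa using hn

theorem ee_mul : ee P * Nat.card (cen P) = Nat.card (nor P) := by
  rw [ee, ← card_cen_subgroupOf, Subgroup.index_mul_card]

theorem ee_pos : 0 < ee P := Nat.pos_of_ne_zero Subgroup.index_ne_zero_of_finite

include D in
theorem card_fiber {i : Idx P} (hi : i.1 ≠ 1) {j : Idx P} (hj : j ∈ orb i) :
    (Finset.univ.filter fun n => act P n i = j).card = Nat.card (cen P) := by
  obtain ⟨n₀, rfl⟩ := mem_orb.mp hj
  rw [← card_cen_subgroupOf, ← Fintype.card_subtype, ← Nat.card_eq_fintype_card]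
  refine Nat.card_congr ((Equiv.mulRight n₀⁻¹).subtypeEquiv fun n => ?_)
  rw [Equiv.coe_mulRight, Subgroup.mem_subgroupOf, ← act_fix D hi]
  constructor
  · intro h
    rw [← act_act, h, act_act, mul_inv_cancel, act_one]
  · intro h
    conv_rhs => rw [← h, act_act, inv_mul_cancel_right]

include D in
theorem card_orb {i : Idx P} (hi : i.1 ≠ 1) : (orb i).card = ee P := by
  have h : (Finset.univ : Finset (nor P)).card =
      ∑ j ∈ orb i, (Finset.univ.filter fun n => act P n i = j).card :=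
    Finset.card_eq_sum_card_fiberwise fun n _ => mem_orb.mpr ⟨n, rfl⟩
  rw [Finset.sum_const_nat (m := Nat.card (cen P)) fun j hj => card_fiber D hi hj,
    Finset.card_univ, ← Nat.card_eq_fintype_card, ← ee_mul] at h
  exact (Nat.eq_of_mul_eq_mul_right Nat.card_pos h).symm

include D in
theorem orb_fst_injOn {i : Idx P} (hi : i.1 ≠ 1) {j k : Idx P} (hj : j ∈ orb i) (hk : k ∈ orb i)
    (h : j.1 = k.1) : j = k := by
  obtain ⟨n, rfl⟩ := mem_orb.mp (mem_orb_trans (mem_orb_symm hj) hk)
  have hfix : act P n (j.1, del1 P) = (j.1, del1 P) := by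
    rw [act_del1]
    exact Prod.ext h.symm rfl
  have hj1 : j.1 ≠ 1 := fst_orb hj hi
  exact ((act_fix D hj1 n).mpr ((act_fix D (i := (j.1, del1 P)) hj1 n).mp hfix)).symm

include D in
theorem card_filter_fix {i : Idx P} (hi : i.1 ≠ 1) :
    (∑ n : nor P, if act P n i = i then (1 : ℤ) else 0) = Nat.card (cen P) := by
  rw [Finset.sum_boole]
  exact congrArg Nat.cast (card_fiber D hi (self_mem_orb i))

include D in
theorem ee_dvd : ee P ∣ Nat.card P - 1 := by
  let S : Finset (Idx P) := Finset.univ.filter fun i => i.1 ≠ 1 ∧ i.2 = del1 P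
  have hS : S.card = Nat.card P - 1 := by
    rw [← card_dual P D, ← Finset.card_univ, ← Finset.card_erase_of_mem (Finset.mem_univ (1 : Dual P))]
    refine Finset.card_bij (fun i _ => i.1) (fun i hi => ?_) (fun i hi j hj h => ?_) fun l hl => ?_
    · simp only [S, Finset.mem_filter] at hi
      simp [hi.2.1]
    · simp only [S, Finset.mem_filter] at hi hj
      exact Prod.ext h (hi.2.2.trans hj.2.2.symm)
    · simp only [Finset.mem_erase] at hl
      exact ⟨(l, del1 P), by simp [S, hl.1], rfl⟩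
  rw [← hS, Finset.card_eq_sum_card_image (fun i => orb i) S]
  refine Finset.dvd_sum fun O hO => ?_
  obtain ⟨i, hi, rfl⟩ := Finset.mem_image.mp hO
  simp only [S, Finset.mem_filter] at hi
  suffices (S.filter fun j => orb j = orb i) = orb i by rw [this, card_orb D hi.2.1]
  ext j
  simp only [Finset.mem_filter, S, Finset.mem_univ, true_and]
  constructor
  · rintro ⟨-, h⟩
    rw [← h]
    exact self_mem_orb j
  · intro hj
    refine ⟨⟨fst_orb hj hi.2.1, ?_⟩, ?_⟩
    · obtain ⟨n, rfl⟩ := mem_orb.mp hj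
      rw [show i = (i.1, del1 P) from Prod.ext rfl hi.2.2, act_del1]
    · ext k
      exact ⟨fun h => mem_orb_trans hj h, fun h => mem_orb_trans (mem_orb_symm hj) h⟩

/-! ### Differences of two labels -/

/-- The indicator of a label. -/
noncomputable def eI (i : Idx P) : Idx P → ℤ := fun j => if j = i then 1 else 0

theorem sum_pair {i j : Idx P} (h : i.2 = j.2) (δ : Del P) :
    ∑ l, (eI i - eI j) (l, δ) = 0 := by
  by_cases hd : δ = j.2
  · simp [eI, Prod.ext_iff, Finset.sum_sub_distrib, h, hd]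
  · simp [eI, Prod.ext_iff, h, hd]

theorem inner_pairs (i j k l : Idx P) (h : i.2 = j.2) :
    classInner (indFun (cen P) (D.ofC (eI i - eI j))) (indFun (cen P) (D.ofC (eI k - eI l))) =
      (Nat.card (cen P) : ℂ)⁻¹ * ((∑ n : nor P,
        (((if act P n k = i then 1 else 0) - (if act P n k = j then 1 else 0)) -
        ((if act P n l = i then 1 else 0) - (if act P n l = j then 1 else 0))) : ℤ) : ℂ) := by
  rw [D.inner_ind _ _ (sum_pair h)]
  congr 2
  refine Finset.sum_congr rfl fun n _ => ?_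
  simp [eI, mul_sub, Finset.sum_sub_distrib]

theorem inner_pair_res (hη : IsCharacter G η) (i j : Idx P) :
    classInner (indFun (cen P) (D.ofC (eI i - eI j))) η = ((D.m η i : ℤ) - D.m η j : ℤ) := by
  rw [D.inner_res hη]
  simp [eI, sub_mul, Finset.sum_sub_distrib]

theorem inner_flip {f g : G → ℂ} {z : ℤ} (h : classInner f g = z) : classInner g f = z := by
  rw [← classInner_conj_symm, h, map_intCast]

theorem self_int_nonneg {f : G → ℂ} {z : ℤ} (h : classInner f f = z) : 0 ≤ z := by
  rw [classInner_self] at h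
  have h' : (Nat.card G : ℝ)⁻¹ * ∑ g : G, ‖f g‖ ^ 2 = z := by exact_mod_cast h
  have : (0 : ℝ) ≤ z := h' ▸ by positivity
  exact_mod_cast this

/-! ### Multiplicities of a character of small degree -/

include D in
/-- A character of small degree has one orbit of multiplicity one constituents nontrivial on `P`. -/
theorem shape (hη : IsIrrCharacter G η) (hP : ¬ ∀ u ∈ P, η u = η 1)
    (hdeg : deg η + 1 + ee P < Nat.card P) :
    ∃ i₀ : Idx P, i₀.1 ≠ 1 ∧
      ∀ i : Idx P, i.1 ≠ 1 → D.m η i = if i ∈ orb i₀ then 1 else 0 := by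
  have hc := isCharacter_of_isIrr hη
  have hC0 : (Nat.card (cen P) : ℂ) ≠ 0 := Nat.cast_ne_zero.mpr Nat.card_pos.ne'
  -- zeros
  have hzero : ∀ (δ : Del P) (i : Idx P), i.1 ≠ 1 →
      ∃ z : Idx P, z.2 = δ ∧ z.1 ≠ 1 ∧ D.m η z = 0 ∧ ∀ n, (act P n i).1 ≠ z.1 := by
    intro δ i hi
    by_contra hne
    push Not at hne
    have hsub : (Finset.univ.erase (1 : Dual P)) ⊆
        (Finset.univ.filter fun l => D.m η (l, δ) ≠ 0) ∪ (orb i).image Prod.fst := by
      intro l hl
      simp only [Finset.mem_union, Finset.mem_filter, Finset.mem_univ, true_and, Finset.mem_image]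
      by_cases hm : D.m η (l, δ) = 0
      · obtain ⟨n, hn⟩ := hne (l, δ) rfl (Finset.ne_of_mem_erase hl) hm
        exact Or.inr ⟨_, mem_orb.mpr ⟨n, rfl⟩, hn⟩
      · exact Or.inl hm
    have h1 := (Finset.card_le_card hsub).trans (Finset.card_union_le _ _)
    have h2 : ((orb i).image Prod.fst).card ≤ ee P :=
      Finset.card_image_le.trans (card_orb D hi).le
    have h3 : (Finset.univ.filter fun l => D.m η (l, δ) ≠ 0).card ≤ deg η := by
      rw [D.deg_eq_sum hc, Fintype.sum_prod_type_right]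
      refine le_trans ?_ (Finset.single_le_sum (f := fun δ => ∑ l, D.m η (l, δ) * dd P δ)
        (fun _ _ => Nat.zero_le _) (Finset.mem_univ δ))
      rw [Finset.card_eq_sum_ones]
      refine le_trans (Finset.sum_le_sum fun l hl => ?_) (Finset.sum_le_sum_of_subset
        (Finset.subset_univ _))
      simp only [Finset.mem_filter] at hl
      exact Nat.one_le_iff_ne_zero.mpr (mul_ne_zero hl.2 (dd_pos P δ).ne')
    rw [Finset.card_erase_of_mem (Finset.mem_univ _), Finset.card_univ, card_dual P D] at h1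
    omega
  -- a pair of a constituent and a zero
  have hnorm : ∀ (i z : Idx P), i.1 ≠ 1 → z.1 ≠ 1 → i.2 = z.2 → z ∉ orb i →
      classInner (indFun (cen P) (D.ofC (eI i - eI z)))
        (indFun (cen P) (D.ofC (eI i - eI z))) = 2 := by
    intro i z hi hz h2 hno
    have a1 : ∀ n, act P n i ≠ z := act_ne_of_not_mem hno
    have a2 : ∀ n, act P n z ≠ i := act_ne_of_not_mem fun h => hno (mem_orb_symm h)
    rw [inner_pairs D i z i z h2]
    simp only [a1, a2, if_false, sub_zero, zero_sub, sub_neg_eq_add, Finset.sum_add_distrib,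
      card_filter_fix D hi, card_filter_fix D hz]
    push_cast
    field_simp
    ring
  obtain ⟨i₀, hi₀, hm₀⟩ := D.exists_m_ne_zero hc hP
  have hne : ∀ {i z : Idx P}, D.m η i ≠ 0 → D.m η z = 0 → z ∉ orb i := by
    intro i z hi hz h
    obtain ⟨n, rfl⟩ := mem_orb.mp h
    exact hi ((D.m_act hc n i).symm.trans hz)
  have hone : ∀ i : Idx P, i.1 ≠ 1 → D.m η i ≠ 0 → D.m η i = 1 := by
    intro i hi hm
    obtain ⟨z, hz2, hz1, hz0, -⟩ := hzero i.2 i hi
    have hΦη : classInner (indFun (cen P) (D.ofC (eI i - eI z))) η = ((D.m η i : ℤ) : ℂ) := by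
      rw [inner_pair_res D hc, hz0]
      simp
    have hn := self_int_nonneg (z := 2 - (D.m η i : ℤ) ^ 2)
      (f := indFun (cen P) (D.ofC (eI i - eI z)) - ((D.m η i : ℤ) : ℂ) • η) (by
        simp only [classInner_sub_left, classInner_sub_right, classInner_smul_left,
          classInner_smul_right, hnorm i z hi hz1 hz2.symm (hne hm hz0), hΦη, inner_flip hΦη,
          irr_inner_self hη, map_intCast]
        push_cast
        ring)
    have : (1 : ℤ) ≤ D.m η i := by omega
    have : (D.m η i : ℤ) ≤ 1 := by nlinarith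
    omega
  refine ⟨i₀, hi₀, fun i hi => ?_⟩
  split_ifs with h
  · obtain ⟨n, rfl⟩ := mem_orb.mp h
    rw [D.m_act hc n]
    exact hone i₀ hi₀ hm₀
  by_contra hm
  obtain ⟨z₁, hz2, hz1, hz0, -⟩ := hzero i₀.2 i₀ hi₀
  obtain ⟨z₂, hw2, hw1, hw0, hw⟩ := hzero i.2 z₁ hz1
  have hΦ₁ : classInner (indFun (cen P) (D.ofC (eI i₀ - eI z₁))) η = ((1 : ℤ) : ℂ) := by
    rw [inner_pair_res D hc, hz0, hone i₀ hi₀ hm₀]
    simp
  have hΦ₂ : classInner (indFun (cen P) (D.ofC (eI i - eI z₂))) η = ((1 : ℤ) : ℂ) := by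
    rw [inner_pair_res D hc, hw0, hone i hi hm]
    simp
  have h12 : classInner (indFun (cen P) (D.ofC (eI i₀ - eI z₁)))
      (indFun (cen P) (D.ofC (eI i - eI z₂))) = ((0 : ℤ) : ℂ) := by
    have a1 : ∀ n, act P n i ≠ i₀ := act_ne_of_not_mem fun hh => h (mem_orb_symm hh)
    have a2 : ∀ n, act P n i ≠ z₁ := act_ne_of_not_mem (hne hm hz0)
    have a3 : ∀ n, act P n z₂ ≠ i₀ :=
      act_ne_of_not_mem fun hh => hne hm₀ hw0 (mem_orb_symm hh)
    have a4 : ∀ n, act P n z₂ ≠ z₁ := fun n he => hw n⁻¹ (by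
      rw [← he, act_act, mul_inv_cancel, act_one])
    rw [inner_pairs D i₀ z₁ i z₂ hz2.symm]
    simp [a1, a2, a3, a4]
  have h21 := inner_flip h12
  have e : (indFun (cen P) (D.ofC (eI i₀ - eI z₁)) + indFun (cen P) (D.ofC (eI i - eI z₂))) -
      (2 : ℂ) • η = 0 := by
    refine classInner_self_eq_zero ?_
    simp only [classInner_sub_left, classInner_sub_right, classInner_add_left, classInner_add_right,
      classInner_smul_left, classInner_smul_right, hnorm i₀ z₁ hi₀ hz1 hz2.symm (hne hm₀ hz0),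
      hnorm i z₂ hi hw1 hw2.symm (hne hm hw0), h12, h21, hΦ₁, hΦ₂, inner_flip hΦ₁, inner_flip hΦ₂,
      irr_inner_self hη, map_ofNat]
    push_cast
    ring
  have e1 := congrFun e 1
  simp [D.ind_ofC_apply_one _ (sum_pair hz2.symm), D.ind_ofC_apply_one _ (sum_pair hw2.symm),
    irr_one_ne_zero hη] at e1

include D in
/-- The fundamental inequality for the multiplicities. -/
theorem ineq (hη : IsIrrCharacter G η) :
    Nat.card P * ∑ i, D.m η i ^ 2 <
      ee P * Nat.card P + ∑ δ : Del P, (∑ l, D.m η (l, δ)) ^ 2 := by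
  have hc := isCharacter_of_isIrr hη
  let a : Idx P → ℤ := fun i => (Nat.card P : ℤ) * D.m η i - ∑ l, (D.m η (l, i.2) : ℤ)
  have ha : ∀ δ, ∑ l, a (l, δ) = 0 := fun δ => by
    simp [a, Finset.sum_sub_distrib, ← Finset.mul_sum, card_dual P D]
  have hinv : ∀ n i, a (act P n i) = a i := by
    intro n i
    simp only [a, D.m_act hc]
    congr 1
    let f : Dual P → Dual P := fun l => l.comp (pc P n)
    have hinj : Function.Injective f := fun x y hxy => MonoidHom.ext fun u => by
      have hu : u = pc P n (pc P n⁻¹ u) := Subtype.ext (by simp [mul_assoc])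
      rw [hu]
      exact DFunLike.congr_fun hxy (pc P n⁻¹ u)
    rw [← (Equiv.ofBijective f (Finite.injective_iff_bijective.mp hinj)).sum_comp]
    refine Finset.sum_congr rfl fun l _ => congrArg Nat.cast ?_
    exact D.m_act hc n (l, i.2)
  have hB : ∑ i, a i * D.m η i =
      (Nat.card P : ℤ) * ∑ i, (D.m η i : ℤ) ^ 2 - ∑ δ : Del P, (∑ l, (D.m η (l, δ) : ℤ)) ^ 2 := by
    simp only [a, sub_mul, Finset.sum_sub_distrib, Finset.mul_sum, mul_assoc, ← pow_two]
    congr 1
    rw [Fintype.sum_prod_type_right]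
    exact Finset.sum_congr rfl fun δ _ => by
      show ∑ l, (∑ k, (D.m η (k, δ) : ℤ)) * D.m η (l, δ) = _
      rw [← Finset.mul_sum, pow_two]
  have hA : ∑ i, a i * a i = (Nat.card P : ℤ) * ∑ i, a i * D.m η i := by
    rw [Finset.mul_sum, ← sub_eq_zero, ← Finset.sum_sub_distrib, Fintype.sum_prod_type_right]
    refine Finset.sum_eq_zero fun δ _ => ?_
    rw [← mul_zero (-∑ l, (D.m η (l, δ) : ℤ)), ← ha δ, Finset.mul_sum]
    exact Finset.sum_congr rfl fun l _ => by simp only [a]; ring
  set B : ℤ := ∑ i, a i * D.m η i with hBdef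
  have hΦΦ : classInner (indFun (cen P) (D.ofC a)) (indFun (cen P) (D.ofC a)) =
      (((ee P * Nat.card P : ℕ) : ℤ) * B : ℤ) := by
    rw [D.inner_ind a a ha]
    simp only [hinv, hA, Finset.sum_const, Finset.card_univ, ← Nat.card_eq_fintype_card, ← ee_mul,
      nsmul_eq_mul]
    have : (Nat.card (cen P) : ℂ) ≠ 0 := Nat.cast_ne_zero.mpr Nat.card_pos.ne'
    push_cast
    field_simp
  have hΦη : classInner (indFun (cen P) (D.ofC a)) η = (B : ℂ) := D.inner_res hc a
  set c : ℤ := ((ee P * Nat.card P : ℕ) : ℤ) with hcdef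
  have hself : classInner (indFun (cen P) (D.ofC a) - (c : ℂ) • η)
      (indFun (cen P) (D.ofC a) - (c : ℂ) • η) = ((c * (c - B) : ℤ) : ℂ) := by
    simp only [classInner_sub_left, classInner_sub_right, classInner_smul_left,
      classInner_smul_right, hΦΦ, hΦη, inner_flip hΦη, irr_inner_self hη, map_intCast]
    push_cast
    ring
  have hcpos : 0 < c := by
    rw [hcdef]
    exact_mod_cast Nat.mul_pos ee_pos Nat.card_pos
  have hlt : B < c := by
    have h0 := self_int_nonneg hself
    by_contra hle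
    have hz : c * (c - B) = 0 := le_antisymm
      (mul_nonpos_iff.mpr (Or.inl ⟨hcpos.le, by omega⟩)) h0
    rw [hz, Int.cast_zero] at hself
    have e1 := congrFun (classInner_self_eq_zero hself) 1
    simp [D.ind_ofC_apply_one a ha, irr_one_ne_zero hη, hcpos.ne'] at e1
  rw [hB] at hlt
  zify
  rw [hcdef] at hlt
  push_cast at hlt
  linarith

/-- The nontrivial part of the restriction of `η` to the centralizer is one orbit, without multiplicity. -/
def Data.Shape (D : Data P) (η : G → ℂ) (i₀ : Idx P) : Prop :=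
  i₀.1 ≠ 1 ∧ ∀ i : Idx P, i.1 ≠ 1 → D.m η i = if i ∈ orb i₀ then 1 else 0

variable {i₀ : Idx P}

theorem sum_m_mul (hs : D.Shape η i₀) (f : Idx P → ℕ) :
    ∑ i, D.m η i * f i = (∑ i ∈ orb i₀, f i) + ∑ δ : Del P, D.m η (1, δ) * f (1, δ) := by
  have key : ∀ i : Idx P, D.m η i * f i =
      (if i ∈ orb i₀ then f i else 0) + (if i.1 = 1 then D.m η (1, i.2) * f (1, i.2) else 0) := by
    intro i
    by_cases hi : i.1 = 1
    · obtain ⟨l, δ⟩ := i
      subst hi
      have : ((1 : Dual P), δ) ∉ orb i₀ := fun h => fst_orb h hs.1 rfl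
      simp [this]
    · rw [hs.2 i hi]
      simp [hi]
  rw [Finset.sum_congr rfl fun i _ => key i, Finset.sum_add_distrib]
  congr 1
  · simp [Finset.sum_ite_mem]
  · rw [Fintype.sum_prod_type_right]
    exact Finset.sum_congr rfl fun δ _ => by simp

/-- The number of orbit elements over a given label. -/
noncomputable def nn (i₀ : Idx P) (δ : Del P) : ℕ := ((orb i₀).filter fun i => i.2 = δ).card

include D in
theorem sum_nn (h : i₀.1 ≠ 1) : ∑ δ, nn i₀ δ = ee P := by
  rw [← card_orb D h]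
  exact (Finset.card_eq_sum_card_fiberwise fun i _ => Finset.mem_univ i.2).symm

theorem deg_eq_of_shape (hη : IsCharacter G η) (hs : D.Shape η i₀) :
    deg η = ee P * dd P i₀.2 + ∑ δ : Del P, D.m η (1, δ) * dd P δ := by
  rw [D.deg_eq_sum hη, sum_m_mul D hs (fun i => dd P i.2),
    Finset.sum_congr rfl fun i hi => dd_orb hi, Finset.sum_const, smul_eq_mul, card_orb D hs.1]

theorem sum_sq_le_sq_sum {ι : Type*} [Fintype ι] (f : ι → ℕ) : ∑ i, f i ^ 2 ≤ (∑ i, f i) ^ 2 := by
  rw [pow_two (∑ i, f i), Finset.sum_mul]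
  refine Finset.sum_le_sum fun i hi => ?_
  rw [pow_two]
  exact Nat.mul_le_mul_left _ (Finset.single_le_sum (fun _ _ => Nat.zero_le _) hi)

theorem ineq_shape (hη : IsIrrCharacter G η) (hs : D.Shape η i₀) :
    Nat.card P * ∑ δ : Del P, D.m η (1, δ) ^ 2 <
      ∑ δ : Del P, (nn i₀ δ + D.m η (1, δ)) ^ 2 := by
  have h := ineq D hη
  have h2 : ∑ i, D.m η i ^ 2 = ee P + ∑ δ : Del P, D.m η (1, δ) ^ 2 := by
    simp only [pow_two]
    rw [sum_m_mul D hs (fun i => D.m η i)]
    congr 1
    rw [Finset.sum_congr rfl fun i hi => (hs.2 i (fst_orb hi hs.1)).trans (if_pos hi),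
      Finset.sum_const, smul_eq_mul, mul_one, card_orb D hs.1]
  have h3 : ∀ δ : Del P, ∑ l, D.m η (l, δ) = nn i₀ δ + D.m η (1, δ) := by
    intro δ
    have e := sum_m_mul D hs (fun i => if i.2 = δ then 1 else 0)
    rw [Fintype.sum_prod_type_right] at e
    simp only [mul_ite, mul_one, mul_zero, Finset.sum_boole, Finset.sum_ite_eq', Finset.mem_univ,
      if_true] at e
    rw [Finset.sum_eq_single δ (fun x _ hx => Finset.sum_eq_zero fun l _ => if_neg hx) (by simp)]
      at e
    simpa [nn] using e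
  simp only [h2, h3, mul_add] at h
  rw [mul_comm (ee P)] at h
  omega

/-- Below the square root of the order of `P` no constituent is trivial on `P`. -/
theorem tau_eq_zero (hη : IsIrrCharacter G η) (hs : D.Shape η i₀)
    (hy : deg η ^ 2 < Nat.card P) (δ : Del P) : D.m η (1, δ) = 0 := by
  by_contra h
  have h1 := ineq_shape D hη hs
  have h2 := sum_sq_le_sq_sum fun δ : Del P => nn i₀ δ + D.m η (1, δ)
  have h3 : ∑ δ : Del P, (nn i₀ δ + D.m η (1, δ)) ≤ deg η := by
    rw [deg_eq_of_shape D (isCharacter_of_isIrr hη) hs, Finset.sum_add_distrib, sum_nn D hs.1]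
    refine Nat.add_le_add (Nat.le_mul_of_pos_right _ (dd_pos P _))
      (Finset.sum_le_sum fun δ _ => Nat.le_mul_of_pos_right _ (dd_pos P _))
  have h4 : Nat.card P ≤ Nat.card P * ∑ δ : Del P, D.m η (1, δ) ^ 2 :=
    Nat.le_mul_of_pos_right _ (lt_of_lt_of_le (pow_pos (Nat.pos_of_ne_zero h) 2)
      (Finset.single_le_sum (f := fun δ : Del P => D.m η (1, δ) ^ 2) (fun _ _ => Nat.zero_le _)
        (Finset.mem_univ δ)))
  have h5 := Nat.pow_le_pow_left h3 2
  omega

/-- At most one constituent trivial on `P`, and then the orbit lies above it. -/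
theorem tau_cases (he : 2 ≤ ee P) (hP : ee P * ee P + ee P + 1 ≤ Nat.card P)
    (hη : IsIrrCharacter G η) (hs : D.Shape η i₀) :
    (∀ δ, D.m η (1, δ) = 0) ∨
      (∀ δ, D.m η (1, δ) = if δ = i₀.2 then 1 else 0) ∧ ∀ i ∈ orb i₀, i.2 = i₀.2 := by
  by_cases h0 : ∀ δ, D.m η (1, δ) = 0
  · exact Or.inl h0
  refine Or.inr ?_
  push Not at h0
  obtain ⟨δs, hδs⟩ := h0
  have hsum := sum_nn D hs.1
  have hI := ineq_shape D hη hs
  simp only [add_sq, Finset.sum_add_distrib, mul_assoc, ← Finset.mul_sum] at hI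
  set T := ∑ δ : Del P, D.m η (1, δ) ^ 2 with hT
  set A := ∑ δ : Del P, nn i₀ δ ^ 2 with hA
  set B := ∑ δ : Del P, nn i₀ δ * D.m η (1, δ) with hBdef
  have hA1 : A ≤ ee P ^ 2 := by rw [hA, ← hsum]; exact sum_sq_le_sq_sum _
  have hB1 : B ≤ ee P * T := by
    rw [hBdef, ← hsum, Finset.sum_mul]
    refine Finset.sum_le_sum fun δ _ => Nat.mul_le_mul_left _ ?_
    exact (Nat.le_self_pow (by norm_num) _).trans (Finset.single_le_sum
      (f := fun δ : Del P => D.m η (1, δ) ^ 2) (fun _ _ => Nat.zero_le _) (Finset.mem_univ δ))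
  have hmul : (ee P * ee P + ee P + 1) * T ≤ Nat.card P * T := Nat.mul_le_mul_right _ hP
  have hT2 : T < 2 := by nlinarith
  have hone : D.m η (1, δs) ^ 2 + ∑ δ ∈ Finset.univ.erase δs, D.m η (1, δ) ^ 2 = T :=
    Finset.add_sum_erase Finset.univ (fun δ => D.m η (1, δ) ^ 2) (Finset.mem_univ δs)
  have hpos : 0 < D.m η (1, δs) ^ 2 := pow_pos (Nat.pos_of_ne_zero hδs) 2
  have h1 : D.m η (1, δs) ^ 2 = 1 := by omega
  have hrest : ∑ δ ∈ Finset.univ.erase δs, D.m η (1, δ) ^ 2 = 0 := by omega
  have hval : ∀ δ, D.m η (1, δ) = if δ = δs then 1 else 0 := by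
    intro δ
    split_ifs with h
    · subst h
      simpa using h1
    · have := Finset.sum_eq_zero_iff.mp hrest δ (Finset.mem_erase.mpr ⟨h, Finset.mem_univ δ⟩)
      simpa using this
  have hB2 : B = nn i₀ δs := by rw [hBdef]; simp [hval]
  have hT1 : T = 1 := by omega
  have hsplit : nn i₀ δs + ∑ δ ∈ Finset.univ.erase δs, nn i₀ δ = ee P := by
    rw [← hsum]
    exact Finset.add_sum_erase _ _ (Finset.mem_univ δs)
  have hA2 : A ≤ nn i₀ δs ^ 2 + (∑ δ ∈ Finset.univ.erase δs, nn i₀ δ) ^ 2 := by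
    rw [hA, ← Finset.add_sum_erase Finset.univ (fun δ => nn i₀ δ ^ 2) (Finset.mem_univ δs)]
    refine Nat.add_le_add_left ?_ _
    rw [← Finset.sum_coe_sort, ← Finset.sum_coe_sort (Finset.univ.erase δs)]
    exact sum_sq_le_sq_sum _
  have hfull : nn i₀ δs = ee P := by
    set r := ∑ δ ∈ Finset.univ.erase δs, nn i₀ δ
    by_contra hne
    have hr : 1 ≤ r := by omega
    rw [hT1] at hI hmul
    nlinarith [Nat.mul_le_mul_left (nn i₀ δs) hr]
  have hall : (orb i₀).filter (fun i => i.2 = δs) = orb i₀ :=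
    Finset.eq_of_subset_of_card_le (Finset.filter_subset _ _)
      (by rw [card_orb D hs.1]; exact hfull.ge)
  have hmem : ∀ i ∈ orb i₀, i.2 = δs := fun i hi => by
    rw [← hall] at hi
    exact (Finset.mem_filter.mp hi).2
  obtain rfl := (hmem i₀ (self_mem_orb i₀)).symm
  exact ⟨hval, hmem⟩

/-! ### Restrictions to `P` -/

theorem lin_inner_P (l l' : Dual P) :
    classInner (fun u : P => (l u : ℂ)) (fun u : P => (l' u : ℂ)) = if l = l' then 1 else 0 := by
  rw [irr_inner (isIrrCharacter_lin l) (isIrrCharacter_lin l')]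
  congr 1
  refine propext ⟨fun h => MonoidHom.ext fun u => Units.ext (congrFun h u), fun h => by rw [h]⟩

theorem res_P_inner (hη : IsCharacter G η) (l : Dual P) :
    classInner (fun u : P => η u) (fun u : P => (l u : ℂ)) =
      ((∑ δ : Del P, D.m η (l, δ) * dd P δ : ℕ) : ℂ) := by
  rw [show (fun u : P => η u) =
    ∑ i : Idx P, ((D.m η i * dd P i.2 : ℕ) : ℂ) • fun u : P => (i.1 u : ℂ) from funext fun u => by
      rw [D.res_P hη u, Finset.sum_apply]; rfl]
  rw [classInner_sum_left, Fintype.sum_prod_type_right]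
  push_cast
  refine Finset.sum_congr rfl fun δ _ => ?_
  simp [classInner_smul_left, lin_inner_P]

theorem res_P_norm (hη : IsCharacter G η) :
    classInner (fun u : P => η u) (fun u : P => η u) =
      ((∑ l : Dual P, (∑ δ : Del P, D.m η (l, δ) * dd P δ) ^ 2 : ℕ) : ℂ) := by
  conv_lhs =>
    arg 2
    rw [show (fun u : P => η u) =
      ∑ i : Idx P, ((D.m η i * dd P i.2 : ℕ) : ℂ) • fun u : P => (i.1 u : ℂ) from funext fun u => by
        rw [D.res_P hη u, Finset.sum_apply]; rfl]
  rw [classInner_sum_right, Fintype.sum_prod_type]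
  push_cast
  refine Finset.sum_congr rfl fun l _ => ?_
  simp only [classInner_smul_right, res_P_inner D hη, pow_two]
  push_cast
  simp only [map_mul, Complex.conj_natCast]
  rw [← Finset.sum_mul]

theorem res_cen_one (hη : IsCharacter G η) :
    classInner (fun c : cen P => η c) (fun _ : cen P => (1 : ℂ)) =
      (D.m η ((1 : Dual P), del1 P) : ℂ) := by
  rw [show (fun _ : cen P => (1 : ℂ)) = D.lam ((1 : Dual P), del1 P) from funext fun c => by
    simp [Data.lam, del1]]
  exact mult_spec (isCharacter_restrict (cen P) hη) (isCharacter_of_isIrr (D.lam_isIrr _))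

theorem res_cen_norm (hη : IsCharacter G η) :
    classInner (fun c : cen P => η c) (fun c : cen P => η c) =
      ((∑ i : Idx P, D.m η i ^ 2 : ℕ) : ℂ) := by
  rw [D.res_eq hη, classInner_sum_left]
  push_cast
  refine Finset.sum_congr rfl fun i _ => ?_
  rw [classInner_smul_left, classInner_sum_right]
  simp [classInner_smul_right, D.lam_inner, pow_two]

/-- An irreducible character with `P` in its kernel is trivial if `P` generates `G` normally. -/
theorem eq_one_of_kerP (hgen : Subgroup.normalClosure (P : Set G) = ⊤)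
    (hη : IsIrrCharacter G η) (hP : ∀ u ∈ P, η u = η 1) : η = fun _ => 1 := by
  have hc := isCharacter_of_isIrr hη
  have hcf := isClassFunction_of_isIrr hη
  haveI : (kerChar η).Normal := ⟨fun a ha g => by
    rw [mem_kerChar_iff hc] at ha ⊢
    rw [hcf a g, ha]⟩
  have hall : ∀ g, η g = η 1 := fun g => by
    have hle : Subgroup.normalClosure (P : Set G) ≤ kerChar η :=
      Subgroup.normalClosure_le_normal fun u hu => (mem_kerChar_iff hc).mpr (hP u hu)
    rw [hgen] at hle
    exact (mem_kerChar_iff hc).mp (hle trivial)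
  refine eq_of_inner_ne_zero hη isIrrCharacter_one ?_
  simp [classInner, hall, irr_one_ne_zero hη]

include D in
/-- If the centralizer is self-normalizing in `G` relative to `P`, then `P` acts by scalars. -/
theorem scalar_of_ee_one (he : ee P = 1) (hη : IsIrrCharacter G η) (hs : D.Shape η i₀)
    (hy : deg η ^ 2 < Nat.card P) (u : P) (g : G) :
    η ((u : G) * g * (u : G)⁻¹ * g⁻¹) = η 1 := by
  have hc := isCharacter_of_isIrr hη
  have horb : orb i₀ = {i₀} :=
    Finset.eq_singleton_iff_unique_mem.mpr ⟨self_mem_orb i₀, fun j hj =>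
      Finset.card_le_one.mp ((card_orb D hs.1).trans he).le j hj i₀ (self_mem_orb i₀)⟩
  have hres : (fun c : cen P => η c) = D.lam i₀ := by
    rw [D.res_eq hc, Finset.sum_eq_single i₀ (fun i _ hi => ?_) (by simp)]
    · rw [hs.2 i₀ hs.1, if_pos (self_mem_orb i₀)]
      simp
    · obtain ⟨l, δ⟩ := i
      by_cases hl : l = 1
      · subst hl
        simp [tau_eq_zero D hη hs hy δ]
      · rw [hs.2 (l, δ) hl, horb, if_neg (by simpa using hi)]
        simp
  obtain ⟨n, ρ, hρ, rfl⟩ := hη
  have hirr : IsIrrCharacter (cen P) (Representation.character (ρ.comp (cen P).subtype)) := by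
    have : Representation.character (ρ.comp (cen P).subtype) = D.lam i₀ := hres
    rw [this]
    exact D.lam_isIrr i₀
  haveI := isIrreducible_of_isIrrCharacter (ρ.comp (cen P).subtype) hirr
  have hT := eq_scalar_of_commute (ρ.comp (cen P).subtype) (ρ (u : G)) fun c => by
    show ρ (u : G) * ρ (c : G) = ρ (c : G) * ρ (u : G)
    rw [← map_mul, ← map_mul, c.2 u u.2]
  have hcomm : ρ ((u : G) * g) = ρ (g * (u : G)) := by
    rw [map_mul, map_mul, hT]
    refine LinearMap.ext fun v => ?_
    simp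
  refine (rep_eq_one_iff ρ _).mp ?_
  rw [show (u : G) * g * (u : G)⁻¹ * g⁻¹ = (u : G) * g * ((u : G)⁻¹ * g⁻¹) by group, map_mul, hcomm,
    ← map_mul, show g * (u : G) * ((u : G)⁻¹ * g⁻¹) = 1 by group, map_one]

end Cfsg.Agent.CT.SmallDeg
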