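import Cfsg.Agent.Lib.CT.Extend
import Cfsg.Agent.Lib.CT.Clifford
import Cfsg.Agent.Lib.CT.Kernel
import Cfsg.Agent.Lib.CoprimeExt.Gallagher
import Cfsg.Agent.Lib.Glauberman.Solvable

/-!
# Counting characters over an invariant character through good classes
-/

set_option autoImplicit false
set_option linter.all false

open scoped ComplexConjugate Pointwise

namespace Cfsg.Agent.GoodCount

open Cfsg.Agent.CT Module

universe u

section Schur

variable {N : Type u} [Group N] [Fintype N] {d : ℕ}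

theorem sum_conj_eq (τ : Representation ℂ N (Fin d → ℂ)) [τ.IsIrreducible]
    (X : Module.End ℂ (Fin d → ℂ)) :
    ∑ n : N, τ n⁻¹ * X * τ n =
      ((Nat.card N : ℂ) * LinearMap.trace ℂ (Fin d → ℂ) X / (d : ℂ)) • LinearMap.id := by
  have hcomm : ∀ m : N, (∑ n : N, τ n⁻¹ * X * τ n) * τ m = τ m * ∑ n : N, τ n⁻¹ * X * τ n := by
    intro m
    rw [Finset.sum_mul, Finset.mul_sum]
    refine Fintype.sum_equiv (Equiv.mulRight m) _ _ fun n => ?_
    simp only [Equiv.coe_mulRight, mul_inv_rev, map_mul, ← mul_assoc]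
    rw [← map_mul τ m m⁻¹, mul_inv_cancel, map_one, one_mul]
  have h := eq_scalar_of_commute τ _ hcomm
  rw [h]
  congr 2
  · rw [map_sum]
    rw [Finset.sum_congr rfl fun n _ => by
      rw [LinearMap.trace_mul_comm, ← mul_assoc, ← map_mul, mul_inv_cancel, map_one, one_mul]]
    simp
  · simp

theorem sum_trace_smul (τ : Representation ℂ N (Fin d → ℂ)) [τ.IsIrreducible]
    (A : Module.End ℂ (Fin d → ℂ)) :
    ∑ n : N, LinearMap.trace ℂ (Fin d → ℂ) (A * τ n) • τ n⁻¹ =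
      ((Nat.card N : ℂ) / (d : ℂ)) • A := by
  classical
  refine LinearMap.ext fun v => ?_
  have key : ∀ i : Fin d, ∑ n : N, (A (τ n (Pi.single i 1)) i) • τ n⁻¹ v =
      ((Nat.card N : ℂ) / (d : ℂ) * (A v i)) • Pi.single i 1 := by
    intro i
    -- apply Schur to a rank one map
    let f : (Fin d → ℂ) →ₗ[ℂ] ℂ := (LinearMap.proj i).comp A
    let X : Module.End ℂ (Fin d → ℂ) := f.smulRight v
    have h := congrArg (fun T : Module.End ℂ (Fin d → ℂ) => T (Pi.single i 1)) (sum_conj_eq τ X)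
    have htr : LinearMap.trace ℂ (Fin d → ℂ) X = A v i := by
      rw [LinearMap.trace_smulRight]
      rfl
    simp only [LinearMap.sum_apply, Module.End.mul_apply, LinearMap.smul_apply, LinearMap.id_apply, htr] at h
    have e : ∀ n : N, τ n⁻¹ (X (τ n (Pi.single i 1))) = (A (τ n (Pi.single i 1)) i) • τ n⁻¹ v := by
      intro n
      show τ n⁻¹ (f (τ n (Pi.single i 1)) • v) = _
      rw [map_smul]
      rfl
    rw [Finset.sum_congr rfl fun n _ => e n] at h
    rw [h]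
    congr 1
    ring
  have htrace : ∀ n : N, LinearMap.trace ℂ (Fin d → ℂ) (A * τ n) =
      ∑ i, A (τ n (Pi.single i 1)) i := by
    intro n
    rw [LinearMap.trace_eq_matrix_trace ℂ (Pi.basisFun ℂ (Fin d))]
    simp [Matrix.trace, LinearMap.toMatrix_apply]
  simp only [LinearMap.sum_apply, LinearMap.smul_apply, htrace, Finset.sum_smul]
  rw [Finset.sum_comm, Finset.sum_congr rfl fun i _ => key i]
  funext j
  simp [Finset.sum_apply, Pi.single_apply]

end Schur

variable {T : Type u} [Group T] [Fintype T] (N : Subgroup T) [N.Normal] [Fintype N]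
  (φ : IrrCharacter N)

/-- The character of the normal subgroup extends to the given subgroup. -/
def ExtTo (B : Subgroup T) : Prop :=
  ∃ E : B → ℂ, IsIrrCharacter B E ∧ ∀ (n : N) (h : (n : T) ∈ B), E ⟨(n : T), h⟩ = (φ : N → ℂ) n

theorem ExtTo.mono {B B' : Subgroup T} (h : ExtTo N φ B') (hle : B ≤ B') (hN : N ≤ B) :
    ExtTo N φ B := by
  classical
  obtain ⟨E, ⟨d, ρ, hρ, rfl⟩, hres⟩ := h
  let ρB : Representation ℂ B (Fin d → ℂ) := ρ.comp (Subgroup.inclusion hle)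
  refine ⟨ρB.character, ⟨d, ρB, ?_, rfl⟩, fun n hn => hres n (hle hn)⟩
  let ρN : Representation ℂ N (Fin d → ℂ) := ρB.comp (Subgroup.inclusion hN)
  have hchar : ρN.character = (φ : N → ℂ) := funext fun n => hres n (hle (hN n.2))
  have hirr : ρN.IsIrreducible := isIrreducible_of_isIrrCharacter ρN (hchar ▸ φ.2)
  obtain ⟨hV, hW⟩ := (isIrreducible_iff ρN).mp hirr
  exact (isIrreducible_iff ρB).mpr ⟨hV, fun U hU => hW U fun n v hv => hU _ v hv⟩

/-- The zero extension of `φ`. -/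
noncomputable def phi0 : T → ℂ := extendByZero N (φ : N → ℂ)

theorem phi0_of_mem (n : T) (h : n ∈ N) : phi0 N φ n = (φ : N → ℂ) ⟨n, h⟩ :=
  extendByZero_mem N _ h

theorem phi0_of_not_mem {n : T} (h : n ∉ N) : phi0 N φ n = 0 := extendByZero_not_mem N _ h

/-- The commutator scalar of two cosets. -/
noncomputable def omega (x g : T) : ℂ :=
  (φ : N → ℂ) 1 / ((Nat.card N : ℂ) * (Nat.card N : ℂ)) *
    ∑ n : N, ∑ m : N, phi0 N φ ((g * (m : T)) * (x * (n : T))⁻¹ * (g * (m : T))⁻¹ * (x * (n : T)))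

theorem comm_mem_iff (x g : T) (n m : N) :
    (g * (m : T)) * (x * (n : T))⁻¹ * (g * (m : T))⁻¹ * (x * (n : T)) ∈ N ↔
      (g : T ⧸ N) * (x : T ⧸ N) = (x : T ⧸ N) * (g : T ⧸ N) := by
  rw [← QuotientGroup.eq_one_iff]
  simp only [QuotientGroup.mk_mul, QuotientGroup.mk_inv, (QuotientGroup.eq_one_iff (n : T)).mpr n.2,
    (QuotientGroup.eq_one_iff (m : T)).mpr m.2, mul_one]
  constructor
  · intro h
    rw [mul_assoc, mul_assoc, mul_eq_one_iff_eq_inv, mul_inv_rev, mul_inv_rev, inv_inv, inv_inv] at h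
    calc (g : T ⧸ N) * x = (x : T ⧸ N) * ((x : T ⧸ N)⁻¹ * g * x) := by group
      _ = _ := by rw [← h]
  · intro h
    rw [show (g : T ⧸ N) * (x : T ⧸ N)⁻¹ = (x : T ⧸ N)⁻¹ * g by
      rw [eq_inv_mul_iff_mul_eq, ← mul_assoc, ← h, mul_inv_cancel_right]]
    group

theorem omega_zero {x g : T} (h : (g : T ⧸ N) * (x : T ⧸ N) ≠ (x : T ⧸ N) * (g : T ⧸ N)) :
    omega N φ x g = 0 := by
  rw [omega, Finset.sum_eq_zero, mul_zero]
  intro n _
  refine Finset.sum_eq_zero fun m _ => phi0_of_not_mem N φ fun hm => h ((comm_mem_iff N x g n m).mp hm)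

theorem omega_congr (x g : T) (a b : N) :
    omega N φ (x * (a : T)) (g * (b : T)) = omega N φ x g := by
  simp only [omega]
  congr 1
  refine Fintype.sum_equiv (Equiv.mulLeft a) _ _ fun n => ?_
  refine Fintype.sum_equiv (Equiv.mulLeft b) _ _ fun m => ?_
  simp [mul_assoc]

theorem char_sum (hinv : ∀ t : T, conjFun N t (φ : N → ℂ) = φ) (χ : IrrCharacter T) (a : T) :
    ∑ n : N, (χ : T → ℂ) (a * (n : T)) * (φ : N → ℂ) n⁻¹ =
      ((Nat.card N : ℂ) * (mult (fun n : N => (χ : T → ℂ) n) (φ : N → ℂ)) / (χ : T → ℂ) 1) *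
        (χ : T → ℂ) a := by
  obtain ⟨χ0, d, ρ, hρ, rfl⟩ := χ
  haveI := hρ
  set Pi0 : Module.End ℂ (Fin d → ℂ) := ∑ n : N, (φ : N → ℂ) n⁻¹ • ρ (n : T) with hPi
  have hcomm : ∀ t, Pi0 * ρ t = ρ t * Pi0 := by
    intro t
    rw [hPi, Finset.sum_mul, Finset.mul_sum]
    refine Fintype.sum_equiv (MulAut.conjNormal t⁻¹).toEquiv _ _ fun n => ?_
    simp only [smul_mul_assoc, mul_smul_comm, ← map_mul]
    have e1 : ((MulAut.conjNormal t⁻¹ n : N) : T) = t⁻¹ * (n : T) * t := by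
      rw [MulAut.conjNormal_apply, inv_inv]
    have e2 : (φ : N → ℂ) (MulAut.conjNormal t⁻¹ n)⁻¹ = (φ : N → ℂ) n⁻¹ := by
      rw [← map_inv]
      have := congrFun (hinv t⁻¹) n⁻¹
      rwa [conjFun_eq_comp] at this
    show (φ : N → ℂ) n⁻¹ • ρ ((n : T) * t) = (φ : N → ℂ) (MulAut.conjNormal t⁻¹ n)⁻¹ •
      ρ (t * ((MulAut.conjNormal t⁻¹ n : N) : T))
    rw [e1, e2]
    congr 2
    group
  have h1 := eq_scalar_of_commute ρ Pi0 hcomm
  have h2 : LinearMap.trace ℂ (Fin d → ℂ) Pi0 =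
      (Nat.card N : ℂ) * (mult (fun n : N => ρ.character n) (φ : N → ℂ)) := by
    rw [← mult_spec (isCharacter_restrict N (isCharacter_character ρ)) (isCharacter_of_isIrr φ.2),
      hPi, map_sum, classInner, ← mul_assoc, mul_inv_cancel₀ (card_ne_zero (G := N)), one_mul]
    refine Finset.sum_congr rfl fun n _ => ?_
    rw [map_smul, smul_eq_mul, char_inv_eq_conj (isCharacter_of_isIrr φ.2), mul_comm]
    rfl
  have h3 := congrArg (fun X : Module.End ℂ (Fin d → ℂ) => LinearMap.trace ℂ (Fin d → ℂ) (ρ a * X)) h1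
  rw [h2] at h3
  simp only [hPi, Finset.mul_sum, map_sum, mul_smul_comm, map_smul, smul_eq_mul, ← map_mul] at h3
  refine Eq.trans (Finset.sum_congr rfl fun n _ => mul_comm _ _) (Eq.trans h3 ?_)
  show _ * LinearMap.trace ℂ (Fin d → ℂ) (ρ a * LinearMap.id) = _ / ρ.character 1 * ρ.character a
  rw [show (LinearMap.id : Module.End ℂ (Fin d → ℂ)) = 1 from rfl, mul_one,
    Representation.char_one]
  rfl

/-- The counting formula. -/
theorem card_over_mul [Fintype (T ⧸ N)] (hinv : ∀ t : T, conjFun N t (φ : N → ℂ) = φ) :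
    (Nat.card {χ : IrrCharacter T // classInner (fun n : N => (χ : T → ℂ) n) (φ : N → ℂ) ≠ 0} : ℂ) *
        (N.index : ℂ) = ∑ q : T ⧸ N, ∑ r : T ⧸ N, omega N φ q.out r.out := by
  classical
  have hφ1 : (φ : N → ℂ) 1 ≠ 0 := irr_one_ne_zero φ.2
  have hN0 : (Nat.card N : ℂ) ≠ 0 := card_ne_zero
  -- indicator of lying over
  have hind : ∀ χ : IrrCharacter T, ((mult (fun n : N => (χ : T → ℂ) n) (φ : N → ℂ) : ℂ)) *
      (φ : N → ℂ) 1 / (χ : T → ℂ) 1 =
      if classInner (fun n : N => (χ : T → ℂ) n) (φ : N → ℂ) ≠ 0 then 1 else 0 := by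
    intro χ
    split_ifs with h
    · have h1 := congrFun (restrict_eq_smul_of_invariant N χ.2 φ.2 h hinv) 1
      simp only [Pi.smul_apply, OneMemClass.coe_one, smul_eq_mul] at h1
      rw [mult_spec (isCharacter_restrict N (isCharacter_of_isIrr χ.2)) (isCharacter_of_isIrr φ.2)] at h1
      rw [← h1, div_self (irr_one_ne_zero χ.2)]
    · rw [not_not, mult_spec (isCharacter_restrict N (isCharacter_of_isIrr χ.2))
        (isCharacter_of_isIrr φ.2)] at h
      rw [h, zero_mul, zero_div]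
  have hcount : (Nat.card {χ : IrrCharacter T // classInner (fun n : N => (χ : T → ℂ) n) (φ : N → ℂ) ≠ 0} : ℂ) *
      ((Nat.card T : ℂ)) = (φ : N → ℂ) 1 / (Nat.card N : ℂ) *
        ∑ a : T, ∑ n : N, (φ : N → ℂ) n⁻¹ * ∑ χ : IrrCharacter T, (χ : T → ℂ) (a * (n : T)) * conj ((χ : T → ℂ) a) := by
    have hnorm : ∀ χ : IrrCharacter T, ∑ a : T, (χ : T → ℂ) a * conj ((χ : T → ℂ) a) = (Nat.card T : ℂ) := by
      intro χ
      have := irr_inner_self χ.2
      rw [classInner, inv_mul_eq_iff_eq_mul₀ (card_ne_zero (G := T)), mul_one] at this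
      exact this
    calc (Nat.card {χ : IrrCharacter T // classInner (fun n : N => (χ : T → ℂ) n) (φ : N → ℂ) ≠ 0} : ℂ) *
          (Nat.card T : ℂ)
        = ∑ χ : IrrCharacter T, ((mult (fun n : N => (χ : T → ℂ) n) (φ : N → ℂ) : ℂ)) *
            (φ : N → ℂ) 1 / (χ : T → ℂ) 1 * ∑ a : T, (χ : T → ℂ) a * conj ((χ : T → ℂ) a) := by
          simp only [hind, hnorm, ← Finset.sum_mul, Finset.sum_boole]
          rw [Nat.card_eq_fintype_card, Fintype.card_subtype]
      _ = ∑ χ : IrrCharacter T, (φ : N → ℂ) 1 / (Nat.card N : ℂ) *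
            ∑ a : T, (∑ n : N, (χ : T → ℂ) (a * (n : T)) * (φ : N → ℂ) n⁻¹) * conj ((χ : T → ℂ) a) := by
          refine Finset.sum_congr rfl fun χ _ => ?_
          rw [Finset.mul_sum, Finset.mul_sum]
          refine Finset.sum_congr rfl fun a _ => ?_
          rw [char_sum N φ hinv χ a]
          have := irr_one_ne_zero χ.2
          field_simp
      _ = _ := by
          rw [← Finset.mul_sum]
          congr 1
          rw [Finset.sum_comm]
          refine Finset.sum_congr rfl fun a _ => ?_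
          simp only [Finset.sum_mul, Finset.mul_sum]
          rw [Finset.sum_comm]
          exact Finset.sum_congr rfl fun n _ => Finset.sum_congr rfl fun χ _ => by ring
  have hcol : ∀ (a : T) (n : N), ∑ χ : IrrCharacter T, (χ : T → ℂ) (a * (n : T)) * conj ((χ : T → ℂ) a) =
      ((Finset.univ.filter fun g : T => g * (a * (n : T)) * g⁻¹ = a).card : ℂ) := by
    intro a n
    rw [column_orthogonality]
    split_ifs with h
    · obtain ⟨g0, hg0⟩ := isConj_iff.mp h
      rw [Nat.cast_inj, Nat.card_eq_fintype_card, ← Finset.card_univ]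
      refine Finset.card_bij (fun c _ => g0 * (c : T)) (fun c _ => ?_) (fun c _ c' _ e => ?_) (fun g hg => ?_)
      · rw [Finset.mem_filter]
        refine ⟨Finset.mem_univ _, ?_⟩
        have := Subgroup.mem_centralizer_singleton_iff.mp c.2
        calc g0 * (c : T) * (a * (n : T)) * (g0 * (c : T))⁻¹
            = g0 * ((c : T) * (a * (n : T))) * (c : T)⁻¹ * g0⁻¹ := by group
          _ = g0 * ((a * (n : T)) * (c : T)) * (c : T)⁻¹ * g0⁻¹ := by rw [this]
          _ = g0 * (a * (n : T)) * g0⁻¹ := by group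
          _ = a := hg0
      · exact Subtype.ext (mul_left_cancel e)
      · have hg' := (Finset.mem_filter.mp hg).2
        refine ⟨⟨g0⁻¹ * g, Subgroup.mem_centralizer_singleton_iff.mpr ?_⟩, Finset.mem_univ _, by simp⟩
        calc g0⁻¹ * g * (a * (n : T)) = g0⁻¹ * (g * (a * (n : T)) * g⁻¹) * g := by group
          _ = g0⁻¹ * a * g := by rw [hg']
          _ = g0⁻¹ * (g0 * (a * (n : T)) * g0⁻¹) * g := by rw [hg0]
          _ = a * (n : T) * (g0⁻¹ * g) := by group
    · rw [Finset.filter_eq_empty_iff.mpr fun g _ e => h (isConj_iff.mpr ⟨g, e⟩), Finset.card_empty,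
        Nat.cast_zero]
  have hpair : ∀ a : T, ∑ n : N, (φ : N → ℂ) n⁻¹ *
      ((Finset.univ.filter fun g : T => g * (a * (n : T)) * g⁻¹ = a).card : ℂ) =
      ∑ g : T, phi0 N φ (g * a⁻¹ * g⁻¹ * a) := by
    intro a
    rw [← Equiv.sum_comp (Equiv.inv T) (fun g : T => phi0 N φ (g * a⁻¹ * g⁻¹ * a))]
    simp only [Finset.card_filter, Nat.cast_sum, Nat.cast_ite, Nat.cast_one, Nat.cast_zero, mul_ite,
      mul_one, mul_zero, Finset.mul_sum]
    rw [Finset.sum_comm]
    refine Finset.sum_congr rfl fun g _ => ?_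
    simp only [Equiv.inv_apply, inv_inv]
    by_cases hg : a⁻¹ * (g⁻¹ * a * g) ∈ N
    · rw [Finset.sum_eq_single (⟨a⁻¹ * (g⁻¹ * a * g), hg⟩ : N)]
      · rw [if_pos (by simp [mul_assoc]), phi0_of_mem N φ _ (by
          have := N.inv_mem hg; simpa [mul_assoc] using this)]
        exact congrArg _ (Subtype.ext (by simp [mul_assoc]))
      · intro n _ hne
        rw [if_neg]
        intro e
        refine hne (Subtype.ext ?_)
        show (n : T) = a⁻¹ * (g⁻¹ * a * g)
        calc (n : T) = a⁻¹ * (g⁻¹ * (g * (a * (n : T)) * g⁻¹) * g) := by group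
          _ = _ := by rw [e]
      · exact fun h => absurd (Finset.mem_univ _) h
    · rw [phi0_of_not_mem N φ, Finset.sum_eq_zero]
      · intro n _
        rw [if_neg]
        intro e
        refine hg ?_
        have : a⁻¹ * (g⁻¹ * (g * (a * (n : T)) * g⁻¹) * g) = (n : T) := by group
        rw [e] at this
        rw [this]
        exact n.2
      · intro h
        refine hg ?_
        have := N.inv_mem h
        simpa [mul_assoc] using this
  simp only [hcol, hpair] at hcount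
  -- split into cosets
  have hsplit : ∀ F : T → ℂ, ∑ t : T, F t = ∑ q : T ⧸ N, ∑ n : N, F (q.out * (n : T)) := by
    intro F
    rw [← Fintype.sum_prod_type']
    let e : T ≃ (T ⧸ N) × N :=
      { toFun := fun t => ((t : T ⧸ N), ⟨(t : T ⧸ N).out⁻¹ * t, QuotientGroup.eq.mp (QuotientGroup.out_eq' _)⟩)
        invFun := fun qn => qn.1.out * (qn.2 : T)
        left_inv := fun t => by simp
        right_inv := fun qn => by
          have h : ((qn.1.out * (qn.2 : T) : T) : T ⧸ N) = qn.1 := by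
            rw [QuotientGroup.mk_mul_of_mem _ qn.2.2, QuotientGroup.out_eq']
          refine Prod.ext h (Subtype.ext ?_)
          show ((qn.1.out * (qn.2 : T) : T) : T ⧸ N).out⁻¹ * (qn.1.out * (qn.2 : T)) = qn.2
          rw [h, inv_mul_cancel_left] }
    exact Fintype.sum_equiv e _ _ fun t => congrArg F (by simp [e])
  rw [hsplit, Finset.sum_congr rfl fun q _ => Finset.sum_congr rfl fun n _ => hsplit _,
    Finset.sum_congr rfl fun q _ => Finset.sum_comm, Finset.mul_sum] at hcount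
  have hω : ∀ q r : T ⧸ N, omega N φ q.out r.out * (Nat.card N : ℂ) = (φ : N → ℂ) 1 / (Nat.card N : ℂ) *
      ∑ n : N, ∑ m : N, phi0 N φ ((r.out * (m : T)) * (q.out * (n : T))⁻¹ * (r.out * (m : T))⁻¹ *
        (q.out * (n : T))) := by
    intro q r
    simp only [omega]
    field_simp
  simp only [Finset.mul_sum (s := (Finset.univ : Finset (T ⧸ N)))] at hcount
  rw [Finset.sum_congr rfl fun q _ => Finset.sum_congr rfl fun r _ => (hω q r).symm] at hcount
  rw [← N.card_mul_index] at hcount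
  push_cast at hcount
  simp only [← Finset.sum_mul] at hcount
  refine mul_right_cancel₀ hN0 ?_
  linear_combination hcount


theorem exists_lin_of_deg_one {G : Type u} [Group G] {E : G → ℂ} (hE : IsIrrCharacter G E)
    (h1 : E 1 = 1) : ∃ L : G →* ℂˣ, ∀ g, (L g : ℂ) = E g := by
  obtain ⟨d, ρ, -, rfl⟩ := hE
  have hd : d = 1 := by
    rw [Representation.char_one] at h1
    simpa using h1
  subst hd
  refine ⟨CoprimeExt.detHom ρ, fun g => ?_⟩
  rw [CoprimeExt.detHom_apply, ← LinearMap.det_toMatrix (Pi.basisFun ℂ (Fin 1))]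
  show _ = LinearMap.trace ℂ _ (ρ g)
  rw [LinearMap.trace_eq_matrix_trace ℂ (Pi.basisFun ℂ (Fin 1)), Matrix.det_fin_one,
    Matrix.trace_fin_one]

theorem mem_normalizer_of_forall_conj {G : Type u} [Group G] [Finite G] {H : Subgroup G} {g : G}
    (h : ∀ x ∈ H, g * x * g⁻¹ ∈ H) : g ∈ Subgroup.normalizer (H : Set G) := by
  rw [Subgroup.mem_normalizer_iff]
  intro x
  refine ⟨h x, fun hx => ?_⟩
  let c : H → H := fun y => ⟨g * y * g⁻¹, h y y.2⟩
  have hc : Function.Injective c := fun a b e => Subtype.ext (by simpa [c] using congrArg Subtype.val e)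
  obtain ⟨y, hy⟩ := Finite.surjective_of_injective hc ⟨_, hx⟩
  have : (y : G) = x := by simpa [c] using congrArg Subtype.val hy
  exact this ▸ y.2

/-- An invariant irreducible character extends over a cyclic quotient. -/
theorem exists_ext_cyclic {G : Type u} [Group G] [Finite G] (K : Subgroup G) [K.Normal]
    [IsCyclic (G ⧸ K)] {θ : K → ℂ} (hθ : IsIrrCharacter K θ) (hinv : ∀ g : G, conjFun K g θ = θ) :
    ∃ E : G → ℂ, IsIrrCharacter G E ∧ ∀ n : K, E n = θ n := by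
  obtain ⟨d, τ, hτ, rfl⟩ := hθ
  haveI := hτ
  obtain ⟨P, hP⟩ := exists_projExt τ hinv
  obtain ⟨Q, hQ⟩ := exists_hom_of_cyclic hP
  exact exists_irr_of_hom Q hQ

theorem conj_coset_mem {x g : T} (hc : (g : T ⧸ N) * x = (x : T ⧸ N) * g) :
    x⁻¹ * (g⁻¹ * x * g) ∈ N := by
  rw [← QuotientGroup.eq_one_iff]
  simp only [QuotientGroup.mk_mul, QuotientGroup.mk_inv]
  rw [mul_assoc (g : T ⧸ N)⁻¹, ← hc]
  group

theorem conj_mem_sup {x g : T} (hc : (g : T ⧸ N) * x = (x : T ⧸ N) * g) {y : T}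
    (hy : y ∈ N ⊔ Subgroup.zpowers x) : g⁻¹ * y * g ∈ N ⊔ Subgroup.zpowers x := by
  have hxg : g⁻¹ * x * g ∈ N ⊔ Subgroup.zpowers x := by
    have h := (N ⊔ Subgroup.zpowers x).mul_mem
      (Subgroup.mem_sup_right (Subgroup.mem_zpowers x)) (Subgroup.mem_sup_left (conj_coset_mem N hc))
    rwa [mul_inv_cancel_left] at h
  obtain ⟨n, hn, z, hz, rfl⟩ := Subgroup.mem_sup_of_normal_left.mp hy
  obtain ⟨i, rfl⟩ := Subgroup.mem_zpowers_iff.mp hz
  rw [show g⁻¹ * (n * x ^ i) * g = (g⁻¹ * n * g) * (g⁻¹ * x ^ i * g) by group]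
  refine Subgroup.mul_mem _ (Subgroup.mem_sup_left ?_) ?_
  · simpa using (inferInstance : N.Normal).conj_mem n hn g⁻¹
  · rw [show g⁻¹ * x ^ i * g = (g⁻¹ * x * g) ^ i by
      simpa using (conj_zpow (i := i) (a := g⁻¹) (b := x)).symm]
    exact Subgroup.zpow_mem _ hxg i

theorem cyclic_step (K : Subgroup T) (g : T) (hnorm : ∀ y ∈ K, g⁻¹ * y * g ∈ K) :
    (K.subgroupOf (K ⊔ Subgroup.zpowers g)).Normal ∧
      ∃ q : ↥(K ⊔ Subgroup.zpowers g), (q : T) = g ∧
        ∀ z : ↥(K ⊔ Subgroup.zpowers g), ∃ i : ℤ, (q ^ i)⁻¹ * z ∈ K.subgroupOf (K ⊔ Subgroup.zpowers g) := by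
  have hg : g ∈ Subgroup.normalizer (K : Set T) := by
    have h := mem_normalizer_of_forall_conj (H := K) (g := g⁻¹) (fun y hy => by simpa using hnorm y hy)
    simpa using Subgroup.inv_mem _ h
  have hle : Subgroup.zpowers g ≤ Subgroup.normalizer (K : Set T) := Subgroup.zpowers_le.mpr hg
  refine ⟨Subgroup.normal_subgroupOf_iff_le_normalizer le_sup_left |>.mpr (sup_le Subgroup.le_normalizer hle),
    ⟨g, Subgroup.mem_sup_right (Subgroup.mem_zpowers g)⟩, rfl, fun z => ?_⟩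
  have hz : (z : T) ∈ (Subgroup.zpowers g : Set T) * (K : Set T) := by
    rw [← Subgroup.coe_mul_of_left_le_normalizer_right _ _ hle, sup_comm]
    exact z.2
  obtain ⟨a, ha, b, hb, hab⟩ := hz
  obtain ⟨i, rfl⟩ := Subgroup.mem_zpowers_iff.mp ha
  refine ⟨i, ?_⟩
  rw [Subgroup.mem_subgroupOf, Subgroup.coe_mul, Subgroup.coe_inv, SubgroupClass.coe_zpow, ← hab,
    inv_mul_cancel_left]
  exact hb

theorem exists_ext_step (K : Subgroup T) (g : T) (hnorm : ∀ y ∈ K, g⁻¹ * y * g ∈ K)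
    {θ : K → ℂ} (hθ : IsIrrCharacter K θ)
    (hfix : ∀ (y : K), θ ⟨g⁻¹ * y * g, hnorm y y.2⟩ = θ y) :
    ∃ E : ↥(K ⊔ Subgroup.zpowers g) → ℂ, IsIrrCharacter _ E ∧
      ∀ y : K, E ⟨y, Subgroup.mem_sup_left y.2⟩ = θ y := by
  classical
  obtain ⟨hN', q, hq, hgen⟩ := cyclic_step K g hnorm
  haveI := hN'
  haveI : IsCyclic (↥(K ⊔ Subgroup.zpowers g) ⧸ K.subgroupOf (K ⊔ Subgroup.zpowers g)) := ⟨⟨(q : ↥(K ⊔ Subgroup.zpowers g) ⧸ K.subgroupOf (K ⊔ Subgroup.zpowers g)), fun c => by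
    obtain ⟨z, rfl⟩ := QuotientGroup.mk_surjective c
    obtain ⟨i, hi⟩ := hgen z
    refine Subgroup.mem_zpowers_iff.mpr ⟨i, ?_⟩
    rw [← QuotientGroup.mk_zpow, QuotientGroup.eq]
    exact hi⟩⟩
  let e := Subgroup.subgroupOfEquivOfLe (le_sup_left : K ≤ (K ⊔ Subgroup.zpowers g))
  let θ' : K.subgroupOf (K ⊔ Subgroup.zpowers g) → ℂ := fun y => θ (e y)
  have hθ' : IsIrrCharacter (K.subgroupOf (K ⊔ Subgroup.zpowers g)) θ' :=
    isIrrCharacter_comp e.toMonoidHom e.surjective hθ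
  let S : Subgroup ↥(K ⊔ Subgroup.zpowers g) :=
    { carrier := {h | conjFun (K.subgroupOf (K ⊔ Subgroup.zpowers g)) h θ' = θ'}
      one_mem' := conjFun_one _ _
      mul_mem' := fun {a b} ha hb => by
        show conjFun _ (a * b) θ' = θ'
        rw [conjFun_mul, ha, hb]
      inv_mem' := fun {a} ha => by
        show conjFun _ a⁻¹ θ' = θ'
        conv_lhs => rw [← show conjFun _ a θ' = θ' from ha]
        rw [← conjFun_mul, mul_inv_cancel, conjFun_one] }
  have hS : ∀ h : ↥(K ⊔ Subgroup.zpowers g), h ∈ S := by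
    intro h
    obtain ⟨i, hi⟩ := hgen h
    rw [show h = q ^ i * ((q ^ i)⁻¹ * h) by group]
    refine S.mul_mem (S.zpow_mem ?_ i) ?_
    · rw [← inv_inv q]
      refine S.inv_mem (funext fun y => ?_)
      rw [conjFun_eq_comp]
      show θ (e (MulAut.conjNormal q⁻¹ y)) = θ (e y)
      rw [← hfix (e y)]
      exact congrArg θ (Subtype.ext (by
        show ((MulAut.conjNormal q⁻¹ y : K.subgroupOf (K ⊔ Subgroup.zpowers g)) : T) = g⁻¹ * _ * g
        rw [MulAut.conjNormal_apply]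
        simp [hq, e]))
    · exact conjFun_of_mem (K.subgroupOf (K ⊔ Subgroup.zpowers g)) (isClassFunction_of_isIrr hθ') hi
  obtain ⟨E, hE, hEres⟩ := exists_ext_cyclic (K.subgroupOf (K ⊔ Subgroup.zpowers g)) hθ' hS
  exact ⟨E, hE, fun y => hEres ⟨⟨y, Subgroup.mem_sup_left y.2⟩, y.2⟩⟩

/-- The commutator scalar through an extension over a cyclic quotient. -/
theorem omega_eq (hinv : ∀ t : T, conjFun N t (φ : N → ℂ) = φ) {x g : T}
    (hc : (g : T ⧸ N) * x = (x : T ⧸ N) * g) {E : ↥(N ⊔ Subgroup.zpowers x) → ℂ}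
    (hE : IsIrrCharacter _ E) (hres : ∀ n : N, E ⟨n, Subgroup.mem_sup_left n.2⟩ = (φ : N → ℂ) n)
    {μ : ℂ} (hμ : ∀ a : ↥(N ⊔ Subgroup.zpowers x), (a : T)⁻¹ * x ∈ N →
      E ⟨g⁻¹ * a * g, conj_mem_sup N hc a.2⟩ = μ * E a) :
    omega N φ x g = μ := by
  classical
  obtain ⟨d, τ, hτ, rfl⟩ := hE
  haveI := hτ
  let ι : N →* ↥(N ⊔ Subgroup.zpowers x) := Subgroup.inclusion le_sup_left
  let τN : Representation ℂ N (Fin d → ℂ) := τ.comp ι
  haveI : τN.IsIrreducible := isIrreducible_of_isIrrCharacter τN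
    ((funext hres : τN.character = (φ : N → ℂ)) ▸ φ.2)
  have hd : (φ : N → ℂ) 1 = (d : ℂ) := by
    rw [← hres, show (⟨((1 : N) : T), Subgroup.mem_sup_left (1 : N).2⟩ : ↥(N ⊔ Subgroup.zpowers x)) = 1 from rfl,
      Representation.char_one]
    simp
  have hd0 : (d : ℂ) ≠ 0 := hd ▸ irr_one_ne_zero φ.2
  have hN0 : (Nat.card N : ℂ) ≠ 0 := card_ne_zero
  have hxH : x ∈ N ⊔ Subgroup.zpowers x := Subgroup.mem_sup_right (Subgroup.mem_zpowers x)
  -- the norm of the extension on the coset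
  have hnorm : ∑ n : N, τ.character (⟨x, hxH⟩ * ι n) * τ.character (⟨x, hxH⟩ * ι n)⁻¹ =
      (Nat.card N : ℂ) := by
    have h := congrArg (fun A : Module.End ℂ (Fin d → ℂ) =>
      LinearMap.trace ℂ (Fin d → ℂ) (A * τ (⟨x, hxH⟩ : ↥(N ⊔ Subgroup.zpowers x))⁻¹)) (sum_trace_smul τN (τ ⟨x, hxH⟩))
    simp only [Finset.sum_mul, smul_mul_assoc, map_sum, map_smul, smul_eq_mul] at h
    rw [← map_mul τ, mul_inv_cancel, map_one, LinearMap.trace_one] at h
    simp only [Module.finrank_fin_fun] at h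
    rw [div_mul_cancel₀ _ hd0] at h
    rw [← h]
    refine Finset.sum_congr rfl fun n _ => ?_
    show LinearMap.trace ℂ _ (τ (_ * ι n)) * LinearMap.trace ℂ _ (τ (_ * ι n)⁻¹) =
      LinearMap.trace ℂ _ (τ _ * τ (ι n)) * LinearMap.trace ℂ _ (τ (ι n⁻¹) * τ _)
    rw [← map_mul τ, ← map_mul τ, mul_inv_rev, map_inv ι]
  have key : ∀ n : N, ∑ m : N, phi0 N φ ((g * (m : T)) * (x * (n : T))⁻¹ * (g * (m : T))⁻¹ * (x * (n : T))) =
      (Nat.card N : ℂ) / (d : ℂ) * μ * (τ.character (⟨x, hxH⟩ * ι n) * τ.character (⟨x, hxH⟩ * ι n)⁻¹) := by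
    intro n
    set a : ↥(N ⊔ Subgroup.zpowers x) := ⟨x, hxH⟩ * ι n with ha
    have haT : (a : T) = x * (n : T) := rfl
    set b : ↥(N ⊔ Subgroup.zpowers x) := ⟨g⁻¹ * a * g, conj_mem_sup N hc a.2⟩ with hb
    have h0 := congrArg (fun A : Module.End ℂ (Fin d → ℂ) =>
      LinearMap.trace ℂ (Fin d → ℂ) (A * τ b)) (sum_conj_eq τN (τ a⁻¹))
    simp only [Finset.sum_mul, map_sum, smul_mul_assoc, map_smul, smul_eq_mul] at h0
    rw [show (LinearMap.id : Module.End ℂ (Fin d → ℂ)) = 1 from rfl, one_mul] at h0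
    have hEb : τ.character b = μ * τ.character a := hμ a (by
      rw [haT, mul_inv_rev, mul_assoc, inv_mul_cancel, mul_one]; exact N.inv_mem n.2)
    rw [show LinearMap.trace ℂ (Fin d → ℂ) (τ b) = μ * τ.character a from hEb] at h0
    rw [show (Nat.card N : ℂ) / (d : ℂ) * μ * (τ.character a * τ.character a⁻¹) =
      (Nat.card N : ℂ) * LinearMap.trace ℂ (Fin d → ℂ) (τ a⁻¹) / (d : ℂ) * (μ * τ.character a) by
        show _ = (Nat.card N : ℂ) * τ.character a⁻¹ / (d : ℂ) * (μ * τ.character a); ring, ← h0]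
    refine Fintype.sum_equiv (Equiv.inv N) _ _ fun m => ?_
    simp only [Equiv.inv_apply]
    have hyN : (m : T) * (a : T)⁻¹ * (m : T)⁻¹ * (g⁻¹ * a * g) ∈ N := by
      rw [haT, ← QuotientGroup.eq_one_iff]
      simp only [QuotientGroup.mk_mul, QuotientGroup.mk_inv, (QuotientGroup.eq_one_iff (n : T)).mpr n.2,
        (QuotientGroup.eq_one_iff (m : T)).mpr m.2, mul_one, one_mul, inv_one]
      rw [mul_assoc (g : T ⧸ N)⁻¹, ← hc]
      group
    set y : N := ⟨_, hyN⟩ with hy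
    rw [show (g * (m : T)) * (x * (n : T))⁻¹ * (g * (m : T))⁻¹ * (x * (n : T)) = g * (y : T) * g⁻¹ by
      rw [hy]; show _ = g * ((m : T) * (a : T)⁻¹ * (m : T)⁻¹ * (g⁻¹ * a * g)) * g⁻¹
      rw [haT]; group]
    rw [phi0_of_mem N φ _ ((inferInstance : N.Normal).conj_mem _ y.2 g)]
    have hi := congrFun (hinv g) y
    rw [conjFun_eq_comp] at hi
    rw [show (⟨g * (y : T) * g⁻¹, (inferInstance : N.Normal).conj_mem _ y.2 g⟩ : N) = MulAut.conjNormal g y from
      Subtype.ext (MulAut.conjNormal_apply g y).symm]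
    refine hi.trans ?_
    rw [← hres y]
    show LinearMap.trace ℂ _ (τ _) = LinearMap.trace ℂ _ (τ (ι m⁻¹⁻¹) * τ a⁻¹ * τ (ι m⁻¹) * τ b)
    rw [inv_inv, ← map_mul, ← map_mul, ← map_mul]
    exact congrArg (fun z => LinearMap.trace ℂ (Fin d → ℂ) (τ z)) (Subtype.ext rfl)
  rw [omega, Finset.sum_congr rfl fun n _ => key n, ← Finset.mul_sum, hnorm, hd]
  field_simp

theorem inv_apply (hinv : ∀ t : T, conjFun N t (φ : N → ℂ) = φ) (g : T) (n : N)
    (h : g⁻¹ * (n : T) * g ∈ N) : (φ : N → ℂ) ⟨g⁻¹ * n * g, h⟩ = (φ : N → ℂ) n := by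
  have hi := congrFun (hinv g⁻¹) n
  rw [conjFun_eq_comp] at hi
  refine Eq.trans (congrArg _ (Subtype.ext ?_)) hi
  rw [MulAut.conjNormal_apply, inv_inv]

/-- The character by which conjugation moves an extension over a cyclic quotient. -/
theorem exists_mu (hinv : ∀ t : T, conjFun N t (φ : N → ℂ) = φ) {x g : T}
    (hc : (g : T ⧸ N) * x = (x : T ⧸ N) * g) {E : ↥(N ⊔ Subgroup.zpowers x) → ℂ}
    (hE : IsIrrCharacter _ E) (hres : ∀ n : N, E ⟨n, Subgroup.mem_sup_left n.2⟩ = (φ : N → ℂ) n) :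
    ∃ L : ↥(N ⊔ Subgroup.zpowers x) →* ℂˣ, (∀ a : ↥(N ⊔ Subgroup.zpowers x), (a : T) ∈ N → L a = 1) ∧
      ∀ a : ↥(N ⊔ Subgroup.zpowers x), E ⟨g⁻¹ * a * g, conj_mem_sup N hc a.2⟩ = (L a : ℂ) * E a := by
  classical
  haveI := Fintype.ofFinite ↥(N ⊔ Subgroup.zpowers x)
  let c : ↥(N ⊔ Subgroup.zpowers x) →* ↥(N ⊔ Subgroup.zpowers x) :=
    { toFun := fun a => ⟨g⁻¹ * a * g, conj_mem_sup N hc a.2⟩
      map_one' := Subtype.ext (by simp)
      map_mul' := fun a b => Subtype.ext (by simp [mul_assoc]) }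
  have hinj : Function.Injective c := fun a b h => Subtype.ext (by
    have := congrArg Subtype.val h
    simpa [c] using this)
  have hsurj : Function.Surjective c := Finite.surjective_of_injective hinj
  let E' : IrrCharacter ↥(N ⊔ Subgroup.zpowers x) := ⟨_, isIrrCharacter_comp c hsurj hE⟩
  haveI : (N.subgroupOf (N ⊔ Subgroup.zpowers x)).Normal := inferInstance
  haveI := Fintype.ofFinite (N.subgroupOf (N ⊔ Subgroup.zpowers x))
  let e := Subgroup.subgroupOfEquivOfLe (le_sup_left : N ≤ N ⊔ Subgroup.zpowers x)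
  let φ' : IrrCharacter (N.subgroupOf (N ⊔ Subgroup.zpowers x)) :=
    ⟨fun y => (φ : N → ℂ) (e y), isIrrCharacter_comp e.toMonoidHom e.surjective φ.2⟩
  have h1 : ∀ y : N.subgroupOf (N ⊔ Subgroup.zpowers x), E y = (φ' : N.subgroupOf (N ⊔ Subgroup.zpowers x) → ℂ) y := fun y => hres (e y)
  have hc' : ∀ y : N.subgroupOf (N ⊔ Subgroup.zpowers x), (E' : ↥(N ⊔ Subgroup.zpowers x) → ℂ) y = (φ' : N.subgroupOf (N ⊔ Subgroup.zpowers x) → ℂ) y := fun y => by
    have hm : g⁻¹ * ((e y : N) : T) * g ∈ N := by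
      simpa using (inferInstance : N.Normal).conj_mem _ (e y).2 g⁻¹
    exact (hres ⟨_, hm⟩).trans (inv_apply N φ hinv g (e y) hm)
  obtain ⟨η, hηN, hη⟩ := CoprimeExt.exists_eq_mul_of_over (N.subgroupOf (N ⊔ Subgroup.zpowers x)) ⟨E, hE⟩ φ' h1 E' (by
    rw [funext hc', irr_inner_self φ'.2]; exact one_ne_zero)
  have hη1 : (η : ↥(N ⊔ Subgroup.zpowers x) → ℂ) 1 = 1 := by
    have h := congrFun hη 1
    rw [Pi.mul_apply] at h
    have e1 : (E' : ↥(N ⊔ Subgroup.zpowers x) → ℂ) 1 = E 1 := congrArg E (map_one c)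
    rw [e1] at h
    exact (mul_eq_right₀ (irr_one_ne_zero hE)).mp h.symm
  obtain ⟨L, hL⟩ := exists_lin_of_deg_one η.2 hη1
  refine ⟨L, fun a ha => Units.ext ?_, fun a => ?_⟩
  · rw [hL, hηN a (Subgroup.mem_subgroupOf.mpr ha), hη1]; rfl
  · rw [hL]; exact congrFun hη a

theorem exists_cyclic_ext (hinv : ∀ t : T, conjFun N t (φ : N → ℂ) = φ) (x : T) :
    ∃ E : ↥(N ⊔ Subgroup.zpowers x) → ℂ, IsIrrCharacter _ E ∧
      ∀ n : N, E ⟨n, Subgroup.mem_sup_left n.2⟩ = (φ : N → ℂ) n :=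
  exists_ext_step N x (fun y hy => by simpa using (inferInstance : N.Normal).conj_mem y hy x⁻¹) φ.2
    fun y => inv_apply N φ hinv x y _

theorem omega_one_iff (hinv : ∀ t : T, conjFun N t (φ : N → ℂ) = φ) {x g : T}
    (hc : (g : T ⧸ N) * x = (x : T ⧸ N) * g) :
    omega N φ x g = 1 ↔ ExtTo N φ (N ⊔ Subgroup.zpowers x ⊔ Subgroup.zpowers g) := by
  constructor
  · intro h
    obtain ⟨E, hE, hres⟩ := exists_cyclic_ext N φ hinv x
    obtain ⟨L, hLN, hL⟩ := exists_mu N φ hinv hc hE hres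
    have hxH : x ∈ N ⊔ Subgroup.zpowers x := Subgroup.mem_sup_right (Subgroup.mem_zpowers x)
    have hLx : L ⟨x, hxH⟩ = 1 := by
      refine Units.ext ((omega_eq N φ hinv hc hE hres (μ := (L ⟨x, hxH⟩ : ℂ)) fun a ha => ?_).symm.trans h)
      have e : L a = L ⟨x, hxH⟩ := by
        have h1 := hLN (a⁻¹ * ⟨x, hxH⟩) ha
        rw [map_mul, map_inv, inv_mul_eq_one] at h1
        exact h1
      rw [hL a, e]
    have hL1 : ∀ a, L a = 1 := by
      intro a
      obtain ⟨n, hn, z, hz, hz'⟩ := Subgroup.mem_sup_of_normal_left.mp a.2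
      obtain ⟨i, rfl⟩ := Subgroup.mem_zpowers_iff.mp hz
      rw [show a = ⟨n, Subgroup.mem_sup_left hn⟩ * (⟨x, hxH⟩ : ↥(N ⊔ Subgroup.zpowers x)) ^ i from
        Subtype.ext (by simp [hz']), map_mul, map_zpow, hLN _ hn, hLx, one_mul, one_zpow]
    obtain ⟨E', hE', hres'⟩ := exists_ext_step (N ⊔ Subgroup.zpowers x) g (fun y hy => conj_mem_sup N hc hy)
      hE fun a => by rw [hL, hL1, Units.val_one, one_mul]
    exact ⟨E', hE', fun n hn => (hres' ⟨n, Subgroup.mem_sup_left n.2⟩).trans (hres n)⟩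
  · intro h
    obtain ⟨EB, ⟨d, ρ, hρ, hρE⟩, hres⟩ := h
    haveI := hρ
    have hle : N ⊔ Subgroup.zpowers x ≤ (N ⊔ Subgroup.zpowers x ⊔ Subgroup.zpowers g) := le_sup_left
    have hg : g ∈ (N ⊔ Subgroup.zpowers x ⊔ Subgroup.zpowers g) := Subgroup.mem_sup_right (Subgroup.mem_zpowers g)
    let E : ↥(N ⊔ Subgroup.zpowers x) → ℂ := fun a => EB ⟨a, hle a.2⟩
    have hE : IsIrrCharacter _ E := by
      let ρA : Representation ℂ ↥(N ⊔ Subgroup.zpowers x) (Fin d → ℂ) := ρ.comp (Subgroup.inclusion hle)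
      let ρN : Representation ℂ N (Fin d → ℂ) := ρA.comp (Subgroup.inclusion le_sup_left)
      have hchar : ρN.character = (φ : N → ℂ) := funext fun n => by
        rw [← hres n (hle (Subgroup.mem_sup_left n.2))]
        subst hρE
        rfl
      have hirr : ρN.IsIrreducible := isIrreducible_of_isIrrCharacter ρN (hchar ▸ φ.2)
      obtain ⟨hV, hW⟩ := (isIrreducible_iff ρN).mp hirr
      refine ⟨d, ρA, (isIrreducible_iff ρA).mpr ⟨hV, fun U hU => hW U fun n v hv => hU _ v hv⟩, ?_⟩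
      subst hρE
      rfl
    refine omega_eq N φ hinv hc hE (fun n => hres n _) fun a _ => ?_
    rw [one_mul]
    have hcl := isClassFunction_of_isIrr (⟨d, ρ, hρ, hρE⟩ : IsIrrCharacter ↥(N ⊔ Subgroup.zpowers x ⊔ Subgroup.zpowers g) EB)
    show EB _ = EB _
    rw [← hcl ⟨a, hle a.2⟩ ⟨g, hg⟩⁻¹]
    exact congrArg EB (Subtype.ext (by simp [mul_assoc]))

theorem exists_omega_hom (hinv : ∀ t : T, conjFun N t (φ : N → ℂ) = φ) (x : T) :
    ∃ f : Subgroup.centralizer ({(x : T ⧸ N)} : Set (T ⧸ N)) →* ℂ,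
      ∀ c, f c = omega N φ x ((c : T ⧸ N).out) := by
  classical
  obtain ⟨E, hE, hres⟩ := exists_cyclic_ext N φ hinv x
  have hxH : x ∈ N ⊔ Subgroup.zpowers x := Subgroup.mem_sup_right (Subgroup.mem_zpowers x)
  have hcomm : ∀ c : Subgroup.centralizer ({(x : T ⧸ N)} : Set (T ⧸ N)),
      (((c : T ⧸ N).out : T) : T ⧸ N) * x = (x : T ⧸ N) * ((c : T ⧸ N).out : T) := fun c => by
    rw [QuotientGroup.out_eq']; exact Subgroup.mem_centralizer_singleton_iff.mp c.2
  have hconst : ∀ {g : T} (hc : (g : T ⧸ N) * x = (x : T ⧸ N) * g) (L : ↥(N ⊔ Subgroup.zpowers x) →* ℂˣ),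
      (∀ a : ↥(N ⊔ Subgroup.zpowers x), (a : T) ∈ N → L a = 1) →
      (∀ a : ↥(N ⊔ Subgroup.zpowers x), E ⟨g⁻¹ * a * g, conj_mem_sup N hc a.2⟩ = (L a : ℂ) * E a) →
      omega N φ x g = (L ⟨x, hxH⟩ : ℂ) := by
    intro g hc L hLN hL
    refine omega_eq N φ hinv hc hE hres fun a ha => ?_
    have h1 := hLN (a⁻¹ * ⟨x, hxH⟩) ha
    rw [map_mul, map_inv, inv_mul_eq_one] at h1
    rw [hL a, h1]
  have hmul : ∀ g₁ g₂ : T, (g₁ : T ⧸ N) * x = (x : T ⧸ N) * g₁ → (g₂ : T ⧸ N) * x = (x : T ⧸ N) * g₂ →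
      omega N φ x (g₁ * g₂) = omega N φ x g₁ * omega N φ x g₂ := by
    intro g₁ g₂ h₁ h₂
    have h₁₂ : ((g₁ * g₂ : T) : T ⧸ N) * x = (x : T ⧸ N) * ((g₁ * g₂ : T) : T ⧸ N) := by
      rw [QuotientGroup.mk_mul, mul_assoc, h₂, ← mul_assoc, h₁, mul_assoc]
    obtain ⟨L₁, hL₁N, hL₁⟩ := exists_mu N φ hinv h₁ hE hres
    obtain ⟨L₂, hL₂N, hL₂⟩ := exists_mu N φ hinv h₂ hE hres
    rw [hconst h₁ L₁ hL₁N hL₁, hconst h₂ L₂ hL₂N hL₂,
      hconst h₁₂ (L₁ * L₂) (fun a ha => by rw [MonoidHom.mul_apply, hL₁N a ha, hL₂N a ha, one_mul]) fun a => ?_]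
    · rfl
    · set b : ↥(N ⊔ Subgroup.zpowers x) := ⟨g₁⁻¹ * a * g₁, conj_mem_sup N h₁ a.2⟩ with hb
      rw [show (⟨(g₁ * g₂)⁻¹ * a * (g₁ * g₂), conj_mem_sup N h₁₂ a.2⟩ : ↥(N ⊔ Subgroup.zpowers x)) =
        ⟨g₂⁻¹ * b * g₂, conj_mem_sup N h₂ b.2⟩ from Subtype.ext (by simp [hb, mul_assoc]), hL₂ b, hL₁ a]
      have hLb : L₂ b = L₂ a := by
        have hm : ((a⁻¹ * b : ↥(N ⊔ Subgroup.zpowers x)) : T) ∈ N := by
          obtain ⟨n, hn, z, hz, hz'⟩ := Subgroup.mem_sup_of_normal_left.mp a.2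
          obtain ⟨i, rfl⟩ := Subgroup.mem_zpowers_iff.mp hz
          rw [← QuotientGroup.eq_one_iff, Subgroup.coe_mul, Subgroup.coe_inv, hb,
            QuotientGroup.mk_mul, QuotientGroup.mk_inv, QuotientGroup.mk_mul, QuotientGroup.mk_mul,
            QuotientGroup.mk_inv, ← hz', QuotientGroup.mk_mul, (QuotientGroup.eq_one_iff n).mpr hn,
            one_mul, QuotientGroup.mk_zpow, (Commute.zpow_right (h₁ : Commute (g₁ : T ⧸ N) (x : T ⧸ N)) i).inv_left.eq]
          group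
        have h1 := hL₂N _ hm
        rw [map_mul, map_inv, inv_mul_eq_one] at h1
        exact h1.symm
      rw [hLb, MonoidHom.mul_apply, Units.val_mul]
      ring
  have hrep : ∀ g : T, omega N φ x ((g : T ⧸ N).out) = omega N φ x g := fun g => by
    obtain ⟨n, hn⟩ : ∃ n : N, (g : T ⧸ N).out = g * n :=
      ⟨⟨g⁻¹ * (g : T ⧸ N).out, QuotientGroup.eq.mp (QuotientGroup.out_eq' _).symm⟩, by simp⟩
    have := omega_congr N φ x g 1 n
    rwa [OneMemClass.coe_one, mul_one, ← hn] at this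
  refine ⟨{ toFun := fun c => omega N φ x ((c : T ⧸ N).out)
            map_one' := ?_
            map_mul' := fun c c' => ?_ }, fun c => rfl⟩
  · show omega N φ x (((1 : T) : T ⧸ N).out) = 1
    rw [hrep]
    refine omega_eq N φ hinv (by simp) hE hres fun a _ => ?_
    rw [one_mul]
    exact congrArg E (Subtype.ext (by simp))
  · show omega N φ x (((c : T ⧸ N) * c').out) = _
    rw [← hmul _ _ (hcomm c) (hcomm c'), ← hrep ((c : T ⧸ N).out * (c' : T ⧸ N).out), QuotientGroup.mk_mul,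
      QuotientGroup.out_eq', QuotientGroup.out_eq']

/-- A class of the quotient is good if the character extends along its centralizer. -/
def Good (q : T ⧸ N) : Prop :=
  ∀ r : T ⧸ N, r * q = q * r → ExtTo N φ (N ⊔ Subgroup.zpowers q.out ⊔ Subgroup.zpowers r.out)

open Classical in
/-- The count in terms of good classes. -/
theorem card_over_good [Fintype (T ⧸ N)] (hinv : ∀ t : T, conjFun N t (φ : N → ℂ) = φ) :
    Nat.card {χ : IrrCharacter T // classInner (fun n : N => (χ : T → ℂ) n) (φ : N → ℂ) ≠ 0} * N.index =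
      ∑ q : T ⧸ N, if Good N φ q then Nat.card (Subgroup.centralizer ({q} : Set (T ⧸ N))) else 0 := by
  apply Nat.cast_injective (R := ℂ)
  push_cast
  rw [card_over_mul N φ hinv]
  refine Finset.sum_congr rfl fun q _ => ?_
  have hf0 := exists_omega_hom N φ hinv q.out
  rw [QuotientGroup.out_eq'] at hf0
  obtain ⟨f, hf⟩ := hf0
  haveI := Fintype.ofFinite (Subgroup.centralizer ({q} : Set (T ⧸ N)))
  have hsum : ∑ r : T ⧸ N, omega N φ q.out r.out = ∑ c : Subgroup.centralizer ({q} : Set (T ⧸ N)), f c := by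
    simp only [hf]
    rw [← Finset.sum_subtype ((Finset.univ : Finset (T ⧸ N)).filter fun r => r * q = q * r)
      (fun r => by simp [Subgroup.mem_centralizer_singleton_iff]) (fun r => omega N φ q.out r.out),
      Finset.sum_filter]
    refine Finset.sum_congr rfl fun r _ => ?_
    split_ifs with h
    · rfl
    · exact omega_zero N φ (by simpa using h)
  have hgood : f = 1 ↔ Good N φ q := by
    constructor
    · intro h r hr
      have hc : ((r.out : T) : T ⧸ N) * (q.out : T) = ((q.out : T) : T ⧸ N) * (r.out : T) := by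
        simpa using hr
      rw [← omega_one_iff N φ hinv hc]
      have := hf ⟨r, Subgroup.mem_centralizer_singleton_iff.mpr hr⟩
      rw [h] at this
      exact this.symm
    · intro h
      refine MonoidHom.ext fun c => ?_
      have hr := Subgroup.mem_centralizer_singleton_iff.mp c.2
      rw [hf, MonoidHom.one_apply, omega_one_iff N φ hinv (by simpa using hr)]
      exact h c hr
  rw [hsum, sum_hom_units f]
  simp only [Nat.card_eq_fintype_card]
  by_cases h : f = 1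
  · rw [if_pos h, if_pos (hgood.mp h)]
  · rw [if_neg h, if_neg fun h' => h (hgood.mpr h')]
    simp

open Classical in
/-- Two triples with the same extension pattern have the same count. -/
theorem card_over_eq {T' : Type u} [Group T'] [Fintype T'] (N' : Subgroup T') [N'.Normal] [Fintype N']
    (φ' : IrrCharacter N') (hinv : ∀ t : T, conjFun N t (φ : N → ℂ) = φ)
    (hinv' : ∀ t : T', conjFun N' t (φ' : N' → ℂ) = φ') (e : T' ⧸ N' ≃* T ⧸ N)
    (h : ∀ a b : T' ⧸ N', b * a = a * b →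
      (ExtTo N' φ' (N' ⊔ Subgroup.zpowers a.out ⊔ Subgroup.zpowers b.out) ↔
        ExtTo N φ (N ⊔ Subgroup.zpowers (e a).out ⊔ Subgroup.zpowers (e b).out))) :
    Nat.card {χ : IrrCharacter T' // classInner (fun n : N' => (χ : T' → ℂ) n) (φ' : N' → ℂ) ≠ 0} =
      Nat.card {χ : IrrCharacter T // classInner (fun n : N => (χ : T → ℂ) n) (φ : N → ℂ) ≠ 0} := by
  haveI := Fintype.ofFinite (T ⧸ N)
  haveI := Fintype.ofFinite (T' ⧸ N')
  have hidx : N'.index = N.index := by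
    rw [Subgroup.index_eq_card, Subgroup.index_eq_card]; exact Nat.card_congr e.toEquiv
  refine Nat.eq_of_mul_eq_mul_right (Nat.pos_of_ne_zero (Subgroup.index_ne_zero_of_finite (H := N))) ?_
  rw [card_over_good N φ hinv, ← hidx, card_over_good N' φ' hinv']
  refine Fintype.sum_equiv e.toEquiv _ _ fun a => ?_
  have hg : Good N' φ' a ↔ Good N φ (e a) := by
    constructor
    · intro hh r hr
      obtain ⟨b, rfl⟩ := e.surjective r
      have hb : b * a = a * b := e.injective (by simpa using hr)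
      exact (h a b hb).mp (hh b hb)
    · intro hh b hb
      exact (h a b hb).mpr (hh (e b) (by rw [← map_mul, hb, map_mul]))
  have hc : Nat.card (Subgroup.centralizer ({a} : Set (T' ⧸ N'))) =
      Nat.card (Subgroup.centralizer ({e a} : Set (T ⧸ N))) := by
    refine Nat.card_congr (e.toEquiv.subtypeEquiv fun r => ?_)
    rw [Subgroup.mem_centralizer_singleton_iff, Subgroup.mem_centralizer_singleton_iff]
    show _ ↔ e r * e a = e a * e r
    rw [← map_mul, ← map_mul, e.injective.eq_iff]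
  show _ = if Good N φ (e.toEquiv a) then _ else _
  simp only [MulEquiv.toEquiv_eq_coe, MulEquiv.coe_toEquiv, hc]
  exact if_congr hg rfl rfl

end Cfsg.Agent.GoodCount
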