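import Cfsg.Agent.Lib.CharFS.Basic
import Mathlib.LinearAlgebra.Matrix.NonsingularInverse
import Mathlib.LinearAlgebra.Matrix.ToLinearEquiv

/-!
# Real characters of odd degree have indicator one
-/

namespace Cfsg.Agent.CT

open scoped ComplexConjugate
open CharFS

universe u

variable {G : Type u} [Group G] [Fintype G]

/-- A real irreducible character of odd degree is afforded by an orthogonal representation. -/
theorem ind_eq_one_of_odd {χ : G → ℂ} (hχ : IsIrrCharacter G χ)
    (hreal : ∀ g, conj (χ g) = χ g) (hodd : Odd (deg χ)) : CharFS.ind χ = 1 := by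
  classical
  rcases ind_cases hχ with h | ⟨h | h, -⟩
  · exact absurd (funext hreal) h.2
  · exact h
  exfalso
  have hself : classInner χ χ = 1 := irr_inner_self hχ
  obtain ⟨n, ρ, hρ, rfl⟩ := hχ
  have hn : deg ρ.character = n := by simp [deg, Representation.char_one]
  rw [hn] at hodd
  let A : G → Matrix (Fin n) (Fin n) ℂ := fun g => LinearMap.toMatrix' (ρ g)
  have hA : ∀ g h, A (g * h) = A g * A h := fun g h => by
    simp [A, map_mul, Module.End.mul_eq_comp, LinearMap.toMatrix'_comp]
  have hA1 : A 1 = 1 := by simp [A, Module.End.one_eq_id]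
  have htr : ∀ g, (A g).trace = ρ.character g := fun g => by
    simp [A, Representation.character, LinearMap.trace_eq_matrix_trace ℂ (Pi.basisFun ℂ (Fin n)),
      LinearMap.toMatrix_eq_toMatrix']
  let S : Module.End ℂ (Matrix (Fin n) (Fin n) ℂ) := ∑ g : G, conjT (A g)
  -- the averaged operator does not kill all alternating matrices
  have htrace : LinearMap.trace ℂ _ (S * (1 - transp n)) ≠ 0 := by
    rw [mul_sub, mul_one, map_sub, Finset.sum_mul, map_sum, map_sum]
    simp only [trace_conjT, trace_conjT_transp, ← hA, htr]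
    have h1 : ∑ g : G, ρ.character g * ρ.character g = Nat.card G := by
      have e := hself
      rw [classInner, inv_mul_eq_iff_eq_mul₀ (card_ne_zero (G := G)), mul_one] at e
      simpa [hreal] using e
    have h2 : ∑ g : G, ρ.character (g * g) = -(Nat.card G : ℂ) := by
      have e := h
      rw [CharFS.ind, inv_mul_eq_iff_eq_mul₀ (card_ne_zero (G := G))] at e
      simpa using e
    rw [h1, h2, sub_neg_eq_add, ← two_mul]
    exact mul_ne_zero two_ne_zero (card_ne_zero (G := G))
  obtain ⟨Y, hY⟩ : ∃ Y, (S * (1 - transp n)) Y ≠ 0 := by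
    by_contra hc
    push Not at hc
    rw [show S * (1 - transp n) = 0 from LinearMap.ext hc, map_zero] at htrace
    exact htrace rfl
  set Z : Matrix (Fin n) (Fin n) ℂ := Y - Y.transpose with hZ
  set X : Matrix (Fin n) (Fin n) ℂ := ∑ g : G, A g * Z * (A g).transpose with hX
  have hX0 : X ≠ 0 := by
    have : (S * (1 - transp n)) Y = X := by
      simp [S, hX, hZ, conjT, transp, LinearMap.sum_apply]
    rwa [this] at hY
  have hXt : X.transpose = -X := by
    rw [hX, Matrix.transpose_sum, ← Finset.sum_neg_distrib]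
    refine Finset.sum_congr rfl fun g _ => ?_
    rw [Matrix.transpose_mul, Matrix.transpose_mul, Matrix.transpose_transpose,
      show Z.transpose = -Z by simp [hZ], Matrix.neg_mul, Matrix.mul_neg, Matrix.mul_assoc]
  have hinv : ∀ g, A g * X = X * (A g⁻¹).transpose := by
    intro g
    rw [hX, Finset.mul_sum, Finset.sum_mul]
    refine Fintype.sum_equiv (Equiv.mulLeft g) _ _ fun h => ?_
    rw [Equiv.coe_mulLeft, hA, Matrix.transpose_mul, Matrix.mul_assoc _ _ (A g⁻¹).transpose,
      Matrix.mul_assoc (A h).transpose, ← Matrix.transpose_mul (A g⁻¹), ← hA g⁻¹ g, inv_mul_cancel, hA1,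
      Matrix.transpose_one, Matrix.mul_one]
    simp only [Matrix.mul_assoc]
  have hW : LinearMap.range (Matrix.toLin' X) = ⊤ := by
    refine (((isIrreducible_iff ρ).mp hρ).2 _ ?_).resolve_left fun hb => hX0 ?_
    · rintro g _ ⟨v, rfl⟩
      refine ⟨(A g⁻¹).transpose.mulVec v, ?_⟩
      rw [Matrix.toLin'_apply, Matrix.mulVec_mulVec, ← hinv, ← Matrix.mulVec_mulVec]
      have : ∀ w, (A g).mulVec w = ρ g w := fun w => LinearMap.toMatrix'_mulVec (ρ g) w
      rw [this, Matrix.toLin'_apply]
    · exact Matrix.toLin'.map_eq_zero_iff.mp (LinearMap.range_eq_bot.mp hb)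
  have hdet : X.det ≠ 0 := by
    intro h0
    obtain ⟨v, hv0, hv⟩ := Matrix.exists_mulVec_eq_zero_iff.mpr h0
    have hsurj : Function.Surjective (Matrix.toLin' X) := LinearMap.range_eq_top.mp hW
    have hinj := LinearMap.injective_iff_surjective.mpr hsurj
    exact hv0 (hinj (by rw [Matrix.toLin'_apply, hv, map_zero]))
  have hd := congrArg Matrix.det hXt
  rw [Matrix.det_transpose, Matrix.det_neg, Fintype.card_fin, hodd.neg_one_pow, neg_one_mul] at hd
  exact hdet (by linear_combination hd / 2)

end Cfsg.Agent.CT
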