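import Cfsg.Agent.Lib.CT.CliffordLe
import Cfsg.Agent.Lib.CT.Kernel
import Cfsg.Agent.Lib.CoprimeExt.Gallagher
import Cfsg.Agent.Lib.Glauberman.Relative

/-!
# Characters over an invariant character of a normal Sylow subgroup, with operators
-/

set_option autoImplicit false
set_option linter.all false

namespace Cfsg.Agent.RelCorr

open Cfsg.Agent.CT Cfsg.Agent.Glauberman

universe u v

theorem detOrder_dvd_card {G : Type u} [Group G] [Finite G] {f : G → ℂ} (hf : IsCharacter G f) :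
    Cfsg.detOrder f ∣ Nat.card G := by
  obtain ⟨d, ρ, rfl⟩ := hf
  rw [CoprimeExt.detOrder_eq]
  refine orderOf_dvd_of_pow_eq_one (MonoidHom.ext fun g => ?_)
  rw [MonoidHom.pow_apply, ← map_pow, pow_card_eq_one', map_one]
  rfl

theorem detOrder_comp_dvd {G : Type u} {H : Type u} [Group G] [Finite G] [Group H] [Finite H]
    (j : H →* G) {f : G → ℂ} (hf : IsCharacter G f) :
    Cfsg.detOrder (fun h => f (j h)) ∣ Cfsg.detOrder f := by
  obtain ⟨d, ρ, rfl⟩ := hf
  rw [CoprimeExt.detOrder_eq, show (fun h => ρ.character (j h)) = (CoprimeExt.pullRep ρ j).character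
    from rfl, CoprimeExt.detOrder_eq]
  refine orderOf_dvd_of_pow_eq_one ?_
  refine MonoidHom.ext fun h => ?_
  have := congrArg (fun l : G →* ℂˣ => l (j h)) (pow_orderOf_eq_one (CoprimeExt.detHom ρ))
  rw [MonoidHom.pow_apply, MonoidHom.one_apply] at this ⊢
  refine Eq.trans (congrArg (· ^ _) (Units.ext ?_)) this
  rw [CoprimeExt.detHom_apply, CoprimeExt.detHom_apply]
  rfl

/-- The action on a quotient by a stable normal subgroup. -/
def quotAct {G : Type u} [Group G] {A : Type v} [Group A] (φ : A →* MulAut G) (N : Subgroup G)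
    [N.Normal] (hN : ∀ a, ∀ n ∈ N, φ a n ∈ N) : A →* MulAut (G ⧸ N) where
  toFun a := QuotientGroup.congr N N (φ a) (by
    ext x
    constructor
    · rintro ⟨n, hn, rfl⟩
      exact hN a n hn
    · intro hx
      exact ⟨φ a⁻¹ x, hN a⁻¹ x hx, by simp⟩)
  map_one' := MulEquiv.ext fun x => by
    induction x using QuotientGroup.induction_on with | _ y => simp
  map_mul' a b := MulEquiv.ext fun x => by
    induction x using QuotientGroup.induction_on with | _ y => simp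

theorem quotAct_mk {G : Type u} [Group G] {A : Type v} [Group A] (φ : A →* MulAut G) (N : Subgroup G)
    [N.Normal] (hN : ∀ a, ∀ n ∈ N, φ a n ∈ N) (a : A) (g : G) :
    quotAct φ N hN a (g : G ⧸ N) = ((φ a g : G) : G ⧸ N) := rfl

theorem indFun_comp_aut {G : Type u} [Group G] [Fintype G] (e : G ≃* G) (H : Subgroup G)
    (hH : ∀ h : G, h ∈ H ↔ e h ∈ H) (f : H → ℂ) (g : G) :
    indFun H f (e g) = indFun H (fun h => f ⟨e h, (hH h).mp h.2⟩) g := by
  simp only [indFun]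
  congr 1
  refine (Fintype.sum_equiv e.toEquiv _ _ fun x => ?_).symm
  show extendByZero H (fun h : H => f ⟨e h, (hH h).mp h.2⟩) (x⁻¹ * g * x) =
    extendByZero H f ((e x)⁻¹ * e g * e x)
  rw [← map_inv, ← map_mul, ← map_mul]
  by_cases hy : x⁻¹ * g * x ∈ H
  · rw [extendByZero_mem H _ hy, extendByZero_mem H _ ((hH _).mp hy)]
  · rw [extendByZero_not_mem H _ hy, extendByZero_not_mem H _ (fun h => hy ((hH _).mpr h))]

theorem coprime_of_dvd_pow {p n d j : ℕ} (hp : p.Prime) (hn : ¬ p ∣ n) (hd : d ∣ p ^ j) :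
    Nat.Coprime n d :=
  Nat.Coprime.coprime_dvd_right hd ((hp.coprime_iff_not_dvd.mpr hn).symm.pow_right j)

section One

variable {G : Type u} [Group G] [Fintype G] (Q : Subgroup G) [Q.Normal] [Fintype Q]
  {p : ℕ} [Fact p.Prime] (hQp : IsPGroup p Q) (hidx : ¬ p ∣ Q.index) (θ : IrrCharacter Q)

/-- The inertia subgroup. -/
abbrev stab : Subgroup G := inertia Q (θ : Q → ℂ)

/-- The normal subgroup inside the inertia subgroup. -/
abbrev base : Subgroup (stab Q θ) := Q.subgroupOf (stab Q θ)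

theorem le_stab : Q ≤ stab Q θ := le_inertia Q (isClassFunction_of_isIrr θ.2)

include hidx in
theorem not_dvd_base_index : ¬ p ∣ (base Q θ).index := fun h =>
  hidx (h.trans (Subgroup.relIndex_dvd_index_of_normal Q (stab Q θ)))

/-- `θ` as a character of the copy of the normal subgroup. -/
noncomputable def thetaT : IrrCharacter (base Q θ) :=
  compIrr (Subgroup.subgroupOfEquivOfLe (le_stab Q θ)) θ

theorem thetaT_apply (n : base Q θ) :
    (thetaT Q θ : base Q θ → ℂ) n = (θ : Q → ℂ) ⟨((n : stab Q θ) : G), n.2⟩ := rfl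

include hQp hidx in
theorem exists_ext : ∃ E : IrrCharacter (stab Q θ),
    ((∀ q : Q, (E : stab Q θ → ℂ) ⟨q, le_stab Q θ q.2⟩ = (θ : Q → ℂ) q) ∧
      ∃ j, Cfsg.detOrder (E : stab Q θ → ℂ) ∣ p ^ j) ∧
    ∀ F : stab Q θ → ℂ, IsCharacter (stab Q θ) F →
      (∀ q : Q, F ⟨q, le_stab Q θ q.2⟩ = (θ : Q → ℂ) q) →
      (∃ j, Cfsg.detOrder F ∣ p ^ j) → F = E := by
  have hp := (Fact.out : p.Prime)
  letI := Fintype.ofFinite (base Q θ)
  obtain ⟨j, hj⟩ := IsPGroup.iff_card.mp hQp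
  have hcard : Nat.card (base Q θ) = p ^ j :=
    (Nat.card_congr (Subgroup.subgroupOfEquivOfLe (le_stab Q θ)).toEquiv).trans hj
  have hn := not_dvd_base_index Q hidx θ
  have hdd : Cfsg.detOrder (thetaT Q θ : base Q θ → ℂ) ∣ p ^ j :=
    hcard ▸ detOrder_dvd_card (isCharacter_of_isIrr (thetaT Q θ).2)
  obtain ⟨E, ⟨hE, hdet⟩, huniq⟩ := CoprimeExt.exists_coprime_ext (base Q θ) (thetaT Q θ)
    (fun g n => (mem_inertia_iff Q).mp g.2 ⟨((n : stab Q θ) : G), n.2⟩)
    (coprime_of_dvd_pow hp hn (hcard ▸ Glauberman.deg_dvd_card (thetaT Q θ)))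
    (coprime_of_dvd_pow hp hn hdd)
  refine ⟨E, ⟨fun q => hE ⟨⟨q, le_stab Q θ q.2⟩, q.2⟩, j, hdet ▸ hdd⟩, fun F hF hres ⟨k, hk⟩ => ?_⟩
  exact huniq F hF (fun n => hres ⟨((n : stab Q θ) : G), n.2⟩) (coprime_of_dvd_pow hp hn hk)

/-- The canonical extension. -/
noncomputable def ext : IrrCharacter (stab Q θ) := (exists_ext Q hQp hidx θ).choose

theorem ext_apply (q : Q) :
    (ext Q hQp hidx θ : stab Q θ → ℂ) ⟨q, le_stab Q θ q.2⟩ = (θ : Q → ℂ) q :=
  (exists_ext Q hQp hidx θ).choose_spec.1.1 q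

theorem ext_detOrder : ∃ j, Cfsg.detOrder (ext Q hQp hidx θ : stab Q θ → ℂ) ∣ p ^ j :=
  (exists_ext Q hQp hidx θ).choose_spec.1.2

theorem ext_unique {F : stab Q θ → ℂ} (hF : IsCharacter (stab Q θ) F)
    (hres : ∀ q : Q, F ⟨q, le_stab Q θ q.2⟩ = (θ : Q → ℂ) q)
    (hdet : ∃ j, Cfsg.detOrder F ∣ p ^ j) : F = ext Q hQp hidx θ :=
  (exists_ext Q hQp hidx θ).choose_spec.2 F hF hres hdet

/-- Inflation times the canonical extension. -/
noncomputable def lift (β : stab Q θ ⧸ base Q θ → ℂ) : stab Q θ → ℂ :=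
  fun t => β (t : stab Q θ ⧸ base Q θ) * (ext Q hQp hidx θ : stab Q θ → ℂ) t

/-- The induced character. -/
noncomputable def ind (β : stab Q θ ⧸ base Q θ → ℂ) : G → ℂ :=
  indFun (stab Q θ) (lift Q hQp hidx θ β)

theorem inflate_isIrr (β : IrrCharacter (stab Q θ ⧸ base Q θ)) :
    IsIrrCharacter (stab Q θ) (fun t => (β : stab Q θ ⧸ base Q θ → ℂ) t) :=
  isIrr_inflate (base Q θ) β.2 fun g => rfl

theorem resTo_lift (β : stab Q θ ⧸ base Q θ → ℂ) :
    resTo Q (stab Q θ) (le_stab Q θ) (lift Q hQp hidx θ β) = (β 1) • (θ : Q → ℂ) := by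
  funext q
  show β _ * (ext Q hQp hidx θ : stab Q θ → ℂ) _ = β 1 * (θ : Q → ℂ) q
  rw [ext_apply]
  congr 2
  exact (QuotientGroup.eq_one_iff _).mpr q.2

theorem lift_over (β : IrrCharacter (stab Q θ ⧸ base Q θ)) :
    classInner (resTo Q (stab Q θ) (le_stab Q θ) (lift Q hQp hidx θ β)) (θ : Q → ℂ) ≠ 0 := by
  rw [resTo_lift, classInner_smul_left, irr_inner_self θ.2, mul_one]
  exact irr_one_ne_zero β.2

theorem inflate_over [Fintype (base Q θ)] (β : IrrCharacter (stab Q θ ⧸ base Q θ)) :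
    classInner (fun n : base Q θ => (β : stab Q θ ⧸ base Q θ → ℂ) (n : stab Q θ))
      (fun _ => (1 : ℂ)) ≠ 0 := by
  rw [show (fun n : base Q θ => (β : stab Q θ ⧸ base Q θ → ℂ) (n : stab Q θ)) =
    (β : stab Q θ ⧸ base Q θ → ℂ) 1 • fun _ => (1 : ℂ) from funext fun n => by
      simp [(QuotientGroup.eq_one_iff (n : stab Q θ)).mpr n.2], classInner_smul_left,
    irr_inner_self isIrrCharacter_one, mul_one]
  exact irr_one_ne_zero β.2

variable [Fintype (stab Q θ)]

theorem lift_inner (β β' : IrrCharacter (stab Q θ ⧸ base Q θ)) [Decidable (β = β')] :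
    classInner (lift Q hQp hidx θ β) (lift Q hQp hidx θ β') = if β = β' then 1 else 0 := by
  classical
  letI := Fintype.ofFinite (base Q θ)
  set η : IrrCharacter (stab Q θ) := ⟨_, inflate_isIrr Q θ β⟩ with hη
  set η' : IrrCharacter (stab Q θ) := ⟨_, inflate_isIrr Q θ β'⟩ with hη'
  have e := CoprimeExt.inner_mul_ext (base Q θ) (ext Q hQp hidx θ) (thetaT Q θ)
    (fun n => ext_apply Q hQp hidx θ ⟨((n : stab Q θ) : G), n.2⟩) η η'
    (inflate_over Q θ β) (inflate_over Q θ β')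
  refine Eq.trans e ?_
  by_cases h : β = β'
  · rw [if_pos h, if_pos (by rw [hη, hη']; subst h; rfl)]
  · rw [if_neg h, if_neg]
    intro e
    refine h (Subtype.ext (funext fun x => ?_))
    induction x using QuotientGroup.induction_on with
    | _ y => exact congrFun (congrArg Subtype.val e) y

theorem lift_irr (β : IrrCharacter (stab Q θ ⧸ base Q θ)) :
    IsIrrCharacter (stab Q θ) (lift Q hQp hidx θ β) := by
  classical
  exact isIrr_of_inner_self
    (isCharacter_mul (isCharacter_of_isIrr (inflate_isIrr Q θ β))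
      (isCharacter_of_isIrr (ext Q hQp hidx θ).2))
    ((lift_inner Q hQp hidx θ β β).trans (if_pos rfl))

theorem ind_irr (β : IrrCharacter (stab Q θ ⧸ base Q θ)) :
    IsIrrCharacter G (ind Q hQp hidx θ β) :=
  (isIrr_indFun_of_over_le Q θ.2 _ le_rfl (le_stab Q θ) (lift_irr Q hQp hidx θ β)
    (lift_over Q hQp hidx θ β)).1

theorem ind_over (β : IrrCharacter (stab Q θ ⧸ base Q θ)) :
    classInner (fun q : Q => ind Q hQp hidx θ β q) (θ : Q → ℂ) ≠ 0 := by
  rw [ind, (isIrr_indFun_of_over_le Q θ.2 _ le_rfl (le_stab Q θ) (lift_irr Q hQp hidx θ β)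
    (lift_over Q hQp hidx θ β)).2]
  exact lift_over Q hQp hidx θ β

theorem ind_injective {β β' : IrrCharacter (stab Q θ ⧸ base Q θ)}
    (h : ind Q hQp hidx θ β = ind Q hQp hidx θ β') : β = β' := by
  classical
  have h1 := indFun_injective_of_over_le Q θ.2 _ le_rfl (le_stab Q θ)
    (ψ := ⟨_, lift_irr Q hQp hidx θ β⟩) (ψ' := ⟨_, lift_irr Q hQp hidx θ β'⟩)
    (lift_over Q hQp hidx θ β) (lift_over Q hQp hidx θ β') h
  have h2 := lift_inner Q hQp hidx θ β β'
  rw [show lift Q hQp hidx θ β' = lift Q hQp hidx θ β from (congrArg Subtype.val h1).symm,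
    irr_inner_self (lift_irr Q hQp hidx θ β)] at h2
  by_contra hne
  rw [if_neg hne] at h2
  exact one_ne_zero h2

theorem exists_ind (χ : IrrCharacter G) (h : classInner (fun q : Q => (χ : G → ℂ) q) (θ : Q → ℂ) ≠ 0) :
    ∃ β : IrrCharacter (stab Q θ ⧸ base Q θ), ind Q hQp hidx θ β = (χ : G → ℂ) := by
  classical
  letI := Fintype.ofFinite (base Q θ)
  obtain ⟨ψ, hψ, hψθ⟩ := exists_correspondent_le Q θ.2 (stab Q θ) le_rfl (le_stab Q θ) χ.2 h
  have hin : classInner (fun n : base Q θ => (ψ : stab Q θ → ℂ) n) (thetaT Q θ : base Q θ → ℂ) ≠ 0 := by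
    rw [← classInner_comp_equiv (Subgroup.subgroupOfEquivOfLe (le_stab Q θ))] at hψθ
    exact hψθ
  obtain ⟨η, hη, hψη⟩ := CoprimeExt.exists_eq_mul_of_over (base Q θ) (ext Q hQp hidx θ) (thetaT Q θ)
    (fun n => ext_apply Q hQp hidx θ ⟨_, n.2⟩) ψ hin
  obtain ⟨β, hβ, hβη⟩ := exists_quotient_irr η.2 (base Q θ) hη
  refine ⟨⟨β, hβ⟩, ?_⟩
  rw [← hψ, hψη]
  exact congrArg (indFun (stab Q θ)) (funext fun t => by simp [lift, hβη])

include hQp hidx in
theorem deg_ind (β : IrrCharacter (stab Q θ ⧸ base Q θ)) :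
    deg (ind Q hQp hidx θ β) = (stab Q θ).index * (deg (β : stab Q θ ⧸ base Q θ → ℂ) * deg (θ : Q → ℂ)) := by
  have h1 := indFun_one_eval (stab Q θ) (lift Q hQp hidx θ β)
  have h2 : lift Q hQp hidx θ β 1 = (β : stab Q θ ⧸ base Q θ → ℂ) 1 * (θ : Q → ℂ) 1 := by
    show _ * _ = _
    rw [QuotientGroup.mk_one, show (1 : stab Q θ) = ⟨((1 : Q) : G), le_stab Q θ (1 : Q).2⟩ from rfl,
      ext_apply]
  rw [h2, deg_eq (isCharacter_of_isIrr β.2), deg_eq (isCharacter_of_isIrr θ.2)] at h1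
  change ind Q hQp hidx θ β 1 = _ at h1
  rw [deg_eq (isCharacter_of_isIrr (ind_irr Q hQp hidx θ β))] at h1
  exact_mod_cast h1

section Equivariant

variable {A : Type v} [Group A] (φ : A →* MulAut G) (hQ : ∀ a, ∀ x ∈ Q, φ a x ∈ Q)
  (hθ : Inv (resN φ Q hQ) (θ : Q → ℂ))

include hθ in
theorem stab_stable : ∀ a, ∀ t ∈ stab Q θ, φ a t ∈ stab Q θ := by
  intro a t ht
  rw [stab, mem_inertia_iff] at ht ⊢
  intro n
  have h1 := hθ a⁻¹ n
  refine ((hθ a⁻¹ _).symm.trans ?_).trans ((ht (resN φ Q hQ a⁻¹ n)).trans h1)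
  refine congrArg _ (Subtype.ext ?_)
  show φ a⁻¹ (φ a t * (n : G) * (φ a t)⁻¹) = t * φ a⁻¹ (n : G) * t⁻¹
  rw [_root_.map_mul, _root_.map_mul, _root_.map_inv (φ a⁻¹), ← MulAut.mul_apply, ← _root_.map_mul,
    inv_mul_cancel, _root_.map_one, MulAut.one_apply]

include hQ in
theorem base_stable (hT : ∀ a, ∀ t ∈ stab Q θ, φ a t ∈ stab Q θ) :
    ∀ a, ∀ n ∈ base Q θ, resN φ (stab Q θ) hT a n ∈ base Q θ :=
  fun a n hn => hQ a _ hn

/-- The action on the inertia quotient. -/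
def actBar : A →* MulAut (stab Q θ ⧸ base Q θ) :=
  quotAct (resN φ (stab Q θ) (stab_stable Q θ φ hQ hθ)) (base Q θ)
    (base_stable Q θ φ hQ (stab_stable Q θ φ hQ hθ))

theorem ext_inv : Inv (resN φ (stab Q θ) (stab_stable Q θ φ hQ hθ)) (ext Q hQp hidx θ : stab Q θ → ℂ) := by
  intro a t
  have h := ext_unique Q hQp hidx θ
    (F := fun t => (ext Q hQp hidx θ : stab Q θ → ℂ) (resN φ (stab Q θ) (stab_stable Q θ φ hQ hθ) a t))
    (isCharacter_comp (resN φ (stab Q θ) (stab_stable Q θ φ hQ hθ) a).toMonoidHom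
      (isCharacter_of_isIrr (ext Q hQp hidx θ).2))
    (fun q => ?_) ?_
  · exact congrFun h t
  · refine Eq.trans ?_ (hθ a q)
    exact ext_apply Q hQp hidx θ (resN φ Q hQ a q)
  · obtain ⟨j, hj⟩ := ext_detOrder Q hQp hidx θ
    exact ⟨j, (detOrder_comp_dvd (resN φ (stab Q θ) (stab_stable Q θ φ hQ hθ) a).toMonoidHom
      (isCharacter_of_isIrr (ext Q hQp hidx θ).2)).trans hj⟩

theorem ind_inv_iff (β : IrrCharacter (stab Q θ ⧸ base Q θ)) :
    Inv φ (ind Q hQp hidx θ β) ↔ Inv (actBar Q θ φ hQ hθ) (β : stab Q θ ⧸ base Q θ → ℂ) := by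
  have hT := stab_stable Q θ φ hQ hθ
  have key : ∀ a g, ind Q hQp hidx θ β (φ a g) =
      ind Q hQp hidx θ (fun x => (β : stab Q θ ⧸ base Q θ → ℂ) (actBar Q θ φ hQ hθ a x)) g := by
    intro a g
    rw [ind, indFun_comp_aut (φ a) (stab Q θ) (fun h => ⟨hT a h, fun h' => by simpa using hT a⁻¹ _ h'⟩)]
    congr 1
    funext t
    show _ * _ = _ * _
    congr 1
    exact ext_inv Q hQp hidx θ φ hQ hθ a t
  constructor
  · intro h a x
    have e := ind_injective Q hQp hidx θ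
      (β := ⟨_, isIrrCharacter_comp (actBar Q θ φ hQ hθ a).toMonoidHom
        (actBar Q θ φ hQ hθ a).surjective β.2⟩) (β' := β)
      (funext fun g => (key a g).symm.trans (h a g))
    exact congrFun (congrArg Subtype.val e) x
  · intro h a g
    rw [key a g, show (fun x => (β : stab Q θ ⧸ base Q θ → ℂ) (actBar Q θ φ hQ hθ a x)) =
      (β : stab Q θ ⧸ base Q θ → ℂ) from funext (h a)]

end Equivariant

end One

end Cfsg.Agent.RelCorr
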