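import Cfsg.Agent.Lib.CT.Brauer

/-!
# Artin induction
-/

namespace Cfsg.Agent.CT

open scoped ComplexConjugate

universe u

variable {G : Type u} [Group G]

open Classical in
/-- The order of `H` at generators of `H`, zero elsewhere. -/
noncomputable def artinFun (H : Subgroup G) : H → ℂ :=
  fun x => if Subgroup.zpowers (x : G) = H then (Nat.card H : ℂ) else 0

theorem artinFun_eq_zero (H : Subgroup G) (hH : ¬IsCyclic H) : artinFun H = 0 := by
  funext x
  rw [artinFun, if_neg fun h => hH ?_]
  · rfl
  · exact h ▸ inferInstance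

variable [Fintype G]

theorem sum_artinFun : ∑ H : Subgroup G, indFun H (artinFun H) = fun _ => (Nat.card G : ℂ) := by
  classical
  funext g
  have h : ∀ (H : Subgroup G) (x : G), (Nat.card H : ℂ)⁻¹ * extendByZero H (artinFun H) x =
      if Subgroup.zpowers x = H then 1 else 0 := by
    intro H x
    by_cases hx : x ∈ H
    · rw [extendByZero_mem H _ hx, artinFun]
      split_ifs
      · exact inv_mul_cancel₀ (Nat.cast_ne_zero.mpr Nat.card_pos.ne')
      · exact mul_zero _
    · rw [extendByZero_not_mem H _ hx, mul_zero, if_neg]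
      exact fun e => hx (e ▸ Subgroup.mem_zpowers x)
  simp only [Finset.sum_apply, indFun, Finset.mul_sum, h]
  rw [Finset.sum_comm]
  simp

theorem isGen_artinFun_aux (n : ℕ) : ∀ (G : Type u) [Group G] [Fintype G] (H : Subgroup G),
    Nat.card H = n → IsGeneralizedCharacter H (artinFun H) := by
  induction n using Nat.strong_induction_on with
  | _ n ih =>
    intro G _ _ H hn
    classical
    have hsum := sum_artinFun (G := H)
    rw [← Finset.add_sum_erase _ _ (Finset.mem_univ (⊤ : Subgroup H))] at hsum
    have htop : indFun (⊤ : Subgroup H) (artinFun (⊤ : Subgroup H)) = artinFun H := by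
      have hiff : ∀ x : H, Subgroup.zpowers x = ⊤ ↔ Subgroup.zpowers (x : G) = H := fun x => by
        rw [← (Subgroup.map_injective H.subtype_injective).eq_iff, MonoidHom.map_zpowers,
          ← MonoidHom.range_eq_map, H.range_subtype]
        rfl
      have hcl : IsClassFunction H (artinFun H) := fun x y => by
        have hz : ∀ a b : H, Subgroup.zpowers a = ⊤ →
            Subgroup.zpowers (b * a * b⁻¹) = ⊤ := fun a b h => by
          have := congrArg (Subgroup.map (MulAut.conj b).toMonoidHom) h
          rw [MonoidHom.map_zpowers] at this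
          simpa [Subgroup.map_top_of_surjective (MulAut.conj b).toMonoidHom (MulAut.conj b).surjective] using this
        have hiff2 : Subgroup.zpowers ((y * x * y⁻¹ : H) : G) = H ↔
            Subgroup.zpowers (x : G) = H := by
          rw [← hiff, ← hiff]
          refine ⟨fun h => ?_, fun h => hz x y h⟩
          have := hz _ y⁻¹ h
          rwa [show y⁻¹ * (y * x * y⁻¹) * y⁻¹⁻¹ = x by group] at this
        exact if_congr hiff2 rfl rfl
      conv_rhs => rw [← indFun_top hcl]
      congr 1
      funext x
      simp only [artinFun, Nat.card_congr (Subgroup.topEquiv (G := H)).toEquiv]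
      exact if_congr (hiff x) rfl rfl
    have hgen : IsGeneralizedCharacter H ((fun _ => (Nat.card H : ℂ)) -
        ∑ D ∈ Finset.univ.erase (⊤ : Subgroup H), indFun D (artinFun D)) := by
      refine isGen_sub ?_ (isGen_sum _ fun D hD => isGen_indFun D (ih _ ?_ H D rfl))
      · convert isGen_of_isCharacter (isCharacter_nsmul (Nat.card H) (isCharacter_one (G := H)))
          using 1
        funext x
        simp
      · rw [← hn]
        exact lt_of_le_of_ne (Nat.le_of_dvd Nat.card_pos D.card_subgroup_dvd_card)
          fun e => (Finset.mem_erase.mp hD).1 (Subgroup.eq_top_of_card_eq D e)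
    rw [← htop]
    convert hgen using 1
    exact eq_sub_of_add_eq hsum

theorem isGen_artinFun (H : Subgroup G) : IsGeneralizedCharacter H (artinFun H) :=
  isGen_artinFun_aux _ G H rfl

/-- Combinations of characters induced from linear characters of cyclic subgroups. -/
def cyclicGen (G : Type u) [Group G] [Fintype G] : AddSubgroup (G → ℂ) :=
  AddSubgroup.closure
    {f | ∃ (A : Subgroup G) (lam : A →* ℂˣ), IsCyclic A ∧ f = indFun A (fun a => (lam a : ℂ))}

/-- Artin's induction theorem. -/
theorem artin_induction {χ : G → ℂ} (hχ : IsCharacter G χ) :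
    (Nat.card G : ℂ) • χ ∈ cyclicGen G := by
  classical
  have h : (Nat.card G : ℂ) • χ =
      ∑ H : Subgroup G, indFun H (artinFun H * fun x : H => χ x) := by
    simp only [fun H : Subgroup G =>
      indFun_mul_restrict H (artinFun H) (isClassFunction_of_isCharacter hχ)]
    rw [← Finset.sum_mul, sum_artinFun]
    rfl
  rw [h]
  refine sum_mem fun H _ => ?_
  by_cases hH : IsCyclic H
  · obtain ⟨hc, hm⟩ := isGen_iff.mp
      (isGen_mul (isGen_artinFun H) (isGen_of_isCharacter (isCharacter_restrict H hχ)))
    choose m hm using hm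
    rw [classFunction_eq_sum hc, indFun_sum]
    refine sum_mem fun η _ => ?_
    rw [indFun_smul, hm, Int.cast_smul_eq_zsmul]
    refine AddSubgroup.zsmul_mem _ ?_ _
    obtain ⟨lam, hlam⟩ := exists_hom_of_comm
      (fun a b => (IsCyclic.isMulCommutative (α := H)).is_comm.comm a b) η.2
    exact AddSubgroup.subset_closure ⟨H, lam, hH, by rw [hlam]⟩
  · rw [artinFun_eq_zero H hH, zero_mul, indFun_zero]
    exact zero_mem _

theorem cyclicGen_exists_list {f : G → ℂ} (hf : f ∈ cyclicGen G) :
    ∃ l : List ((A : Subgroup G) × ((A →* ℂˣ) × ℤ)), (∀ t ∈ l, IsCyclic t.1) ∧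
      f = (l.map fun t => (t.2.2 : ℂ) • indFun t.1 (fun a => (t.2.1 a : ℂ))).sum := by
  induction hf using AddSubgroup.closure_induction with
  | mem f hf =>
    obtain ⟨A, lam, hA, rfl⟩ := hf
    exact ⟨[⟨A, lam, 1⟩], by simp only [List.mem_singleton]; rintro t rfl; exact hA, by simp⟩
  | zero => exact ⟨[], by simp, by simp⟩
  | add a b _ _ iha ihb =>
    obtain ⟨l₁, h₁, rfl⟩ := iha
    obtain ⟨l₂, h₂, rfl⟩ := ihb
    exact ⟨l₁ ++ l₂, fun t ht => (List.mem_append.mp ht).elim (h₁ t) (h₂ t), by simp⟩
  | neg a _ iha =>
    obtain ⟨l, h, rfl⟩ := iha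
    refine ⟨l.map fun t => ⟨t.1, t.2.1, -t.2.2⟩, ?_, ?_⟩
    · intro t ht
      obtain ⟨s, hs, rfl⟩ := List.mem_map.mp ht
      exact h s hs
    · clear h
      rename_i hx
      clear hx
      induction l with
      | nil => simp
      | cons t l ih => simp only [List.map_cons, List.sum_cons, neg_add, ih, Int.cast_neg, neg_smul]

end Cfsg.Agent.CT
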