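import Mathlib.FieldTheory.Finite.Basic
import Mathlib.Algebra.Group.Subgroup.ZPowers.Basic
import Mathlib.GroupTheory.Archimedean

/-!
# Rings of integer-valued functions on a finite set (Banaschewski)
-/

namespace Cfsg.Agent.CT

universe u

variable {S : Type u} [Finite S] (R : AddSubgroup (S → ℤ))
  (hmul : ∀ f ∈ R, ∀ g ∈ R, f * g ∈ R)

include hmul in
theorem exists_congr_one {p : ℕ} (hp : p.Prime) (hx : ∀ x, ∃ f ∈ R, ¬ (p : ℤ) ∣ f x)
    (s : Finset S) : ∃ h ∈ R, ∀ x ∈ s, (p : ℤ) ∣ h x - 1 := by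
  classical
  induction s using Finset.induction with
  | empty => exact ⟨0, R.zero_mem, by simp⟩
  | insert a s _ ih =>
    obtain ⟨h, hR, hh⟩ := ih
    obtain ⟨f, hf, hfa⟩ := hx a
    have hpow : ∀ n : ℕ, f ^ (n + 1) ∈ R := by
      intro n
      induction n with
      | zero => simpa using hf
      | succ n ihn => rw [pow_succ]; exact hmul _ ihn _ hf
    set g := f ^ (p - 1) with hg
    have hgR : g ∈ R := by
      rw [hg, show p - 1 = (p - 2) + 1 by have := hp.two_le; omega]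
      exact hpow _
    have hga : (p : ℤ) ∣ g a - 1 := by
      have hco : IsCoprime (f a) (p : ℤ) :=
        ((Nat.prime_iff_prime_int.mp hp).coprime_iff_not_dvd.mpr hfa).symm
      exact (Int.modEq_iff_dvd.mp (Int.ModEq.pow_card_sub_one_eq_one hp hco).symm)
    refine ⟨h + g - h * g, R.sub_mem (R.add_mem hR hgR) (hmul _ hR _ hgR), fun x hx' => ?_⟩
    have e : (h + g - h * g) x - 1 = -((h x - 1) * (g x - 1)) := by
      simp only [Pi.sub_apply, Pi.add_apply, Pi.mul_apply]; ring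
    rw [e, dvd_neg]
    rcases Finset.mem_insert.mp hx' with rfl | hxs
    · exact Dvd.dvd.mul_left hga _
    · exact Dvd.dvd.mul_right (hh x hxs) _

include hmul in
theorem exists_const_mem {p : ℕ} (hp : p.Prime) (hx : ∀ x, ∃ f ∈ R, ¬ (p : ℤ) ∣ f x) :
    ∃ m : ℤ, ¬ (p : ℤ) ∣ m ∧ (fun _ => m) ∈ R := by
  classical
  haveI := Fintype.ofFinite S
  obtain ⟨h, hR, hh⟩ := exists_congr_one R hmul hp hx Finset.univ
  have hnd : ∀ x, ¬ (p : ℤ) ∣ h x := fun x hd =>
    (Nat.prime_iff_prime_int.mp hp).not_dvd_one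
      (by simpa using dvd_sub hd (hh x (Finset.mem_univ x)))
  suffices ∀ s : Finset S, ∃ (c : ℤ) (k : S → ℤ), k ∈ R ∧ ¬ (p : ℤ) ∣ c ∧ ∀ x ∈ s, k x = c by
    obtain ⟨c, k, hk, hc, he⟩ := this Finset.univ
    exact ⟨c, hc, (funext fun x => he x (Finset.mem_univ x) : k = fun _ => c) ▸ hk⟩
  intro s
  induction s using Finset.induction with
  | empty => exact ⟨1, 0, R.zero_mem, (Nat.prime_iff_prime_int.mp hp).not_dvd_one, by simp⟩
  | insert a s _ ih =>
    obtain ⟨c, k, hk, hc, he⟩ := ih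
    refine ⟨c * h a, (h a • k + c • h) - k * h,
      R.sub_mem (R.add_mem (R.zsmul_mem hk _) (R.zsmul_mem hR _)) (hmul _ hk _ hR),
      fun hd => ((Nat.prime_iff_prime_int.mp hp).dvd_or_dvd hd).elim hc (hnd a), fun x hx' => ?_⟩
    simp only [Pi.sub_apply, Pi.add_apply, Pi.mul_apply, Pi.smul_apply, smul_eq_mul]
    rcases Finset.mem_insert.mp hx' with rfl | hxs
    · ring
    · rw [he x hxs]; ring

include hmul in
theorem one_mem_of_forall [Nonempty S]
    (hx : ∀ p : ℕ, p.Prime → ∀ x, ∃ f ∈ R, ¬ (p : ℤ) ∣ f x) : (1 : S → ℤ) ∈ R := by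
  let φ : ℤ →+ (S → ℤ) :=
    { toFun := fun m _ => m, map_zero' := rfl, map_add' := fun _ _ => rfl }
  obtain ⟨d, hd⟩ := Int.subgroup_cyclic (R.comap φ)
  have hm : ∀ p : ℕ, p.Prime → ¬ (p : ℤ) ∣ d := by
    intro p hp hpd
    obtain ⟨m, hm, hmR⟩ := exists_const_mem R hmul hp (hx p hp)
    have hmem : m ∈ R.comap φ := hmR
    rw [hd, AddSubgroup.mem_closure_singleton] at hmem
    obtain ⟨k, rfl⟩ := hmem
    exact hm (by rw [smul_eq_mul]; exact hpd.mul_left k)
  have h1 : d.natAbs = 1 := by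
    by_contra hne
    obtain ⟨p, hp, hpd⟩ := Nat.exists_prime_and_dvd hne
    exact hm p hp (Int.natCast_dvd.mpr hpd)
  have : (1 : ℤ) ∈ R.comap φ := by
    rw [hd, AddSubgroup.mem_closure_singleton]
    rcases Int.natAbs_eq d with e | e <;> rw [h1] at e
    · exact ⟨1, by simp [e]⟩
    · exact ⟨-1, by simp [e]⟩
  exact this

end Cfsg.Agent.CT
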