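import Mathlib.LinearAlgebra.Eigenspace.Pi
import Mathlib.LinearAlgebra.Eigenspace.Triangularizable
import Mathlib.NumberTheory.Padics.PadicVal.Basic
import Mathlib.GroupTheory.Index
import Mathlib.GroupTheory.Subgroup.Centralizer
import Mathlib.GroupTheory.Perm.Basic
import Mathlib.RingTheory.Nilpotent.Basic
import Mathlib.RingTheory.Finiteness.Nilpotent
import Mathlib.Data.Finite.Perm
import Mathlib.Algebra.CharP.Algebra

/-!
# Weights of an abelian normal subgroup: a bound on the `p`-part of a linear group
-/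

namespace Cfsg.Agent.CT

open Module

universe u v w

variable {K : Type u} [Field K] [IsAlgClosed K] {V : Type v} [AddCommGroup V] [Module K V]
  [FiniteDimensional K V] {S : Type w} [Group S] [Finite S]

/-- A faithful linear group in characteristic `p` with an abelian self-centralizing normal
`p'`-subgroup has order not divisible by `p ^ dim`. -/
theorem not_pow_finrank_dvd_card (p : ℕ) [Fact p.Prime] [CharP K p] [Nontrivial V]
    (ρ : S →* Module.End K V) (hρ : Function.Injective ρ) (A : Subgroup S) [hA : A.Normal]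
    (hab : ∀ a ∈ A, ∀ b ∈ A, a * b = b * a)
    (hC : ∀ s : S, (∀ a ∈ A, s * a = a * s) → s ∈ A) (hp : ¬ p ∣ Nat.card A) :
    ¬ p ^ finrank K V ∣ Nat.card S := by
  classical
  let f : A → Module.End K V := fun a => ρ a
  let E : (A → K) → Submodule K V := fun χ => ⨅ a, (f a).maxGenEigenspace (χ a)
  have hcomm : ∀ a b : A, Commute (f a) (f b) := fun a b =>
    show ρ a * ρ b = ρ b * ρ a by rw [← map_mul, ← map_mul, hab _ a.2 _ b.2]
  have hmt : ∀ i j φ, Set.MapsTo (f i) ((f j).maxGenEigenspace φ) ((f j).maxGenEigenspace φ) :=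
    fun i j φ => Module.End.mapsTo_maxGenEigenspace_of_comm (hcomm j i) φ
  have hind : iSupIndep E := Module.End.independent_iInf_maxGenEigenspace_of_forall_mapsTo f hmt
  have htop : ⨆ χ, E χ = ⊤ := Module.End.iSup_iInf_maxGenEigenspace_eq_top_of_forall_mapsTo f hmt
    fun i => Module.End.iSup_maxGenEigenspace_eq_top _
  let Λ := {χ : A → K // E χ ≠ ⊥}
  haveI : Finite Λ := (WellFoundedGT.finite_ne_bot_of_iSupIndep hind).to_subtype
  haveI : Fintype Λ := Fintype.ofFinite Λ
  -- conjugating a weight
  let act : S → (A → K) → (A → K) := fun s χ a =>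
    χ ⟨s⁻¹ * a * s, by simpa using hA.conj_mem a a.2 s⁻¹⟩
  have hmap : ∀ (s : S) (χ : A → K), ∀ v ∈ E χ, ρ s v ∈ E (act s χ) := by
    intro s χ v hv
    simp only [E, Submodule.mem_iInf, Module.End.mem_maxGenEigenspace] at hv ⊢
    intro a
    obtain ⟨k, hk⟩ := hv ⟨s⁻¹ * a * s, by simpa using hA.conj_mem a a.2 s⁻¹⟩
    refine ⟨k, ?_⟩
    have h1 : SemiconjBy (ρ s) (f ⟨s⁻¹ * a * s, by simpa using hA.conj_mem a a.2 s⁻¹⟩ -
        act s χ a • (1 : Module.End K V)) (f a - act s χ a • (1 : Module.End K V)) := by
      show ρ s * _ = _ * ρ s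
      rw [mul_sub, sub_mul, ← map_mul, ← map_mul, smul_one_mul, mul_smul_one]
      simp [mul_assoc]
    have h2 := LinearMap.congr_fun (h1.pow_right k).eq v
    simp only [Module.End.mul_apply] at h2
    rw [← h2, hk, map_zero]
  have hactΛ : ∀ (s : S) (χ : Λ), E (act s χ.1) ≠ ⊥ := by
    intro s χ h
    obtain ⟨v, hv, hv0⟩ := Submodule.exists_mem_ne_zero_of_ne_bot χ.2
    have := hmap s χ.1 v hv
    rw [h, Submodule.mem_bot] at this
    apply hv0
    have h' := congrArg (ρ s⁻¹) this
    rwa [← Module.End.mul_apply, ← map_mul, inv_mul_cancel, map_one, map_zero] at h'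
  have hact1 : ∀ χ, act 1 χ = χ := fun χ => funext fun a => congrArg χ (Subtype.ext (by simp))
  have hactmul : ∀ s t χ, act (s * t) χ = act s (act t χ) := fun s t χ => funext fun a =>
    congrArg χ (Subtype.ext (by simp [mul_assoc]))
  letI : MulAction S Λ :=
    { smul := fun s χ => ⟨act s χ.1, hactΛ s χ⟩
      one_smul := fun χ => Subtype.ext (hact1 χ.1)
      mul_smul := fun s t χ => Subtype.ext (hactmul s t χ.1) }
  set Φ := MulAction.toPermHom S Λ
  have hker : Φ.ker ≤ A := by
    intro s hs
    refine hC s fun a ha => ?_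
    set b : A := ⟨s⁻¹ * a * s, by simpa using hA.conj_mem a ha s⁻¹⟩ with hb
    set D : Module.End K V := f b - f ⟨a, ha⟩ with hD
    have hnil : ∀ χ, E χ ≤ D.maxGenEigenspace 0 := by
      intro χ
      rcases eq_or_ne (E χ) ⊥ with h | h
      · rw [h]; exact bot_le
      · have hfix : act s χ = χ :=
          congrArg Subtype.val (Equiv.ext_iff.mp (MonoidHom.mem_ker.mp hs) ⟨χ, h⟩)
        have hχ : χ b = χ ⟨a, ha⟩ := congrFun hfix ⟨a, ha⟩
        intro v hv
        simp only [E, Submodule.mem_iInf, Module.End.mem_maxGenEigenspace] at hv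
        obtain ⟨k, hk⟩ := hv b
        obtain ⟨l, hl⟩ := hv ⟨a, ha⟩
        rw [Module.End.mem_maxGenEigenspace]
        refine ⟨k + l, ?_⟩
        set c := χ ⟨a, ha⟩
        rw [hχ] at hk
        set X := f b - c • (1 : Module.End K V) with hX
        set Y := f ⟨a, ha⟩ - c • (1 : Module.End K V) with hY
        have hXY : Commute X Y :=
          ((hcomm b ⟨a, ha⟩).sub_left ((Commute.one_left _).smul_left c)).sub_right
            (((Commute.one_right _).smul_right c).sub_left
              ((Commute.refl (1 : Module.End K V)).smul_left c |>.smul_right c))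
        have hDXY : D - (0 : K) • (1 : Module.End K V) = X - Y := by
          rw [zero_smul, sub_zero, hD, hX, hY, sub_sub_sub_cancel_right]
        rw [hDXY, sub_eq_add_neg, (Commute.neg_right hXY).add_pow, LinearMap.sum_apply]
        refine Finset.sum_eq_zero fun m _ => ?_
        have hz : ∀ i j, (k ≤ i ∨ l ≤ j) → (X ^ i * (-Y) ^ j) v = 0 := by
          intro i j hij
          rcases hij with h' | h'
          · rw [((Commute.neg_right hXY).pow_pow i j).eq, Module.End.mul_apply,
              show i = (i - k) + k by omega, pow_add, Module.End.mul_apply, hk, map_zero, map_zero]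
          · rw [Module.End.mul_apply, neg_pow, Module.End.mul_apply,
              show j = (j - l) + l by omega, pow_add Y, Module.End.mul_apply, hl, map_zero, map_zero,
              map_zero]
        rw [← (Nat.cast_commute _ _).eq, Module.End.mul_apply, hz m _ (by omega), map_zero]
    have hDtop : D.maxGenEigenspace 0 = ⊤ := eq_top_iff.mpr (htop ▸ iSup_le hnil)
    have hDnil : IsNilpotent D := by
      refine Module.End.isNilpotent_iff_of_finite.mpr fun v => ?_
      have : v ∈ D.maxGenEigenspace 0 := hDtop ▸ Submodule.mem_top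
      simpa [Module.End.mem_maxGenEigenspace] using this
    -- `b * a⁻¹` is unipotent
    set c : A := b * (⟨a, ha⟩ : A)⁻¹ with hc
    have hcN : IsNilpotent (f c - 1) := by
      have e : f c - 1 = D * f (⟨a, ha⟩ : A)⁻¹ := by
        simp only [hD, f, hc, Subgroup.coe_mul, Subgroup.coe_inv, map_mul, sub_mul, ← map_mul,
          mul_inv_cancel, map_one]
      rw [e]
      exact Commute.isNilpotent_mul_right
        ((hcomm b _).sub_left (hcomm ⟨a, ha⟩ _)) hDnil
    obtain ⟨k, hk⟩ := hcN
    haveI := charP_of_injective_algebraMap (FaithfulSMul.algebraMap_injective K (Module.End K V)) p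
    have hpow : f c ^ p ^ k = 1 := by
      have h1 : (f c - 1) ^ p ^ k = 0 :=
        pow_eq_zero_of_le (Nat.lt_pow_self (Fact.out : p.Prime).one_lt).le hk
      rwa [sub_pow_char_pow_of_commute _ _ (Commute.one_right _), one_pow, sub_eq_zero] at h1
    have hc1 : c ^ p ^ k = 1 := Subtype.ext (hρ (by
      rw [Subgroup.coe_pow, map_pow, OneMemClass.coe_one, map_one]; exact hpow))
    have hcop : (orderOf c).Coprime (p ^ k) := by
      refine Nat.Coprime.pow_right k (Nat.Coprime.symm ((Fact.out : p.Prime).coprime_iff_not_dvd.mpr ?_))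
      exact fun h => hp (h.trans (orderOf_dvd_natCard c))
    have hc' : c = 1 :=
      orderOf_eq_one_iff.mp (hcop.eq_one_of_dvd (orderOf_dvd_of_pow_eq_one hc1))
    rw [hc, mul_inv_eq_one] at hc'
    have h := congrArg Subtype.val hc'
    simp only [hb] at h
    calc s * a = s * (s⁻¹ * a * s) := by rw [h]
      _ = a * s := by simp [mul_assoc]
  intro hdvd
  have hcard : Nat.card S = Nat.card Φ.ker * Nat.card Φ.range := by
    rw [← Φ.ker.card_mul_index, Subgroup.index_ker]
  have hrange : Nat.card Φ.range ∣ (Fintype.card Λ).factorial := by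
    have := Subgroup.card_subgroup_dvd_card Φ.range
    rwa [Nat.card_perm, Nat.card_eq_fintype_card (α := Λ)] at this
  have hcop : Nat.Coprime (p ^ finrank K V) (Nat.card Φ.ker) := by
    refine Nat.Coprime.pow_left _ ((Fact.out : p.Prime).coprime_iff_not_dvd.mpr fun h => hp ?_)
    exact h.trans (Subgroup.card_dvd_of_le hker)
  rw [hcard] at hdvd
  have h1 : p ^ finrank K V ∣ (Fintype.card Λ).factorial :=
    (hcop.dvd_of_dvd_mul_left hdvd).trans hrange
  have h2 := (padicValNat_dvd_iff_le (Nat.factorial_ne_zero _)).mp h1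
  have hle : Fintype.card Λ ≤ finrank K V := hind.subtype_ne_bot_le_finrank
  have hpos : Fintype.card Λ ≠ 0 := fun h0 => by
    have h0' := Fintype.card_eq_zero_iff.mp h0
    have : (⊤ : Submodule K V) = ⊥ := by
      rw [← htop, iSup_eq_bot]
      exact fun χ => by_contra fun h => h0'.false ⟨χ, h⟩
    exact top_ne_bot this
  have h3 := sub_one_mul_padicValNat_factorial_lt_of_ne_zero (p := p) hpos
  have h4 : padicValNat p (Fintype.card Λ).factorial ≤
      (p - 1) * padicValNat p (Fintype.card Λ).factorial :=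
    Nat.le_mul_of_pos_left _ (Nat.sub_pos_of_lt (Fact.out : p.Prime).one_lt)
  omega

end Cfsg.Agent.CT
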