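import Cfsg.Agent.Lib.CT.Pairing
import Cfsg.Agent.Lib.CT.Weights
import Mathlib.FieldTheory.IsAlgClosed.AlgebraicClosure
import Mathlib.Algebra.Module.ZMod
import Mathlib.LinearAlgebra.TensorProduct.Tower
import Mathlib.RingTheory.Flat.Basic

/-!
# Berger's theorem: quasi-primitive characters of solvable groups are primitive
-/

set_option linter.style.haveILetI false

namespace Cfsg.Agent.CT

open scoped ComplexConjugate

universe u

section Norm

variable {K L : Type u} [Group K] [Group L] [Fintype K] [Fintype L] (ι : L →* K)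
  {φ : L → ℂ}

/-- A constituent restricts to a multiple of `φ` when the whole character does. -/
theorem res_eq_smul_of_constituent {θ : K → ℂ} (hθ : IsCharacter K θ) (μ : IrrCharacter K)
    (hμ : mult θ (μ : K → ℂ) ≠ 0) (hφ : IsIrrCharacter L φ) {k : ℕ}
    (hk : (fun l => θ (ι l)) = (k : ℂ) • φ) :
    ∃ r : ℕ, 0 < r ∧ (fun l => (μ : K → ℂ) (ι l)) = (r : ℂ) • φ := by
  classical
  have hμc : IsCharacter L (fun l => (μ : K → ℂ) (ι l)) := isCharacter_comp ι (isCharacter_of_isIrr μ.2)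
  have h0 : ∀ η : IrrCharacter L, (η : L → ℂ) ≠ φ → mult (fun l => (μ : K → ℂ) (ι l)) η = 0 := by
    intro η hη
    have e : (fun l => θ (ι l)) =
        ∑ ν : IrrCharacter K, (mult θ (ν : K → ℂ) : ℂ) • fun l => (ν : K → ℂ) (ι l) := by
      funext l
      have := congrFun (character_eq_sum hθ) (ι l)
      simpa [Finset.sum_apply] using this
    have h := congrArg (fun f => classInner f (η : L → ℂ)) (e.symm.trans hk)
    simp only [classInner_sum_left, classInner_smul_left, irr_inner_of_ne hφ η.2 (Ne.symm hη),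
      mul_zero, mult_spec (isCharacter_comp ι (isCharacter_of_isIrr (Subtype.prop _)))
        (isCharacter_of_isIrr η.2)] at h
    norm_cast at h
    rw [Finset.sum_eq_zero_iff] at h
    exact (mul_eq_zero.mp (h μ (Finset.mem_univ _))).resolve_left hμ
  have h := character_eq_sum hμc
  rw [Finset.sum_eq_single (⟨φ, hφ⟩ : IrrCharacter L)
    (fun η _ hη => by rw [h0 η fun e => hη (Subtype.ext e), Nat.cast_zero, zero_smul])
    (fun h => absurd (Finset.mem_univ _) h)] at h
  refine ⟨_, Nat.pos_of_ne_zero fun e => ?_, h⟩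
  have h1 := congrFun h 1
  rw [e, Nat.cast_zero, zero_smul, Pi.zero_apply] at h1
  exact irr_one_ne_zero μ.2 (by simpa using h1)

theorem sum_sq_mult_le {θ : K → ℂ} (hθ : IsCharacter K θ) (hφ : IsIrrCharacter L φ) {k : ℕ}
    (hk : (fun l => θ (ι l)) = (k : ℂ) • φ) :
    ∑ ν : IrrCharacter K, mult θ (ν : K → ℂ) ^ 2 ≤ k ^ 2 := by
  classical
  have hex : ∀ ν : IrrCharacter K, ∃ r : ℕ, mult θ (ν : K → ℂ) ≤ r ∧
      (mult θ (ν : K → ℂ) : ℂ) • (fun l => (ν : K → ℂ) (ι l)) = (r : ℂ) • φ := by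
    intro ν
    rcases eq_or_ne (mult θ (ν : K → ℂ)) 0 with h | h
    · exact ⟨0, h.le, by simp [h]⟩
    · obtain ⟨r, hr, e⟩ := res_eq_smul_of_constituent ι hθ ν h hφ hk
      exact ⟨mult θ (ν : K → ℂ) * r, Nat.le_mul_of_pos_right _ hr,
        by rw [e, smul_smul, Nat.cast_mul]⟩
  choose r hr hre using hex
  have e : (k : ℂ) • φ = (∑ ν : IrrCharacter K, (r ν : ℂ)) • φ := by
    rw [Finset.sum_smul, ← Finset.sum_congr rfl fun ν _ => hre ν, ← hk]
    funext l
    have := congrFun (character_eq_sum hθ) (ι l)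
    simpa [Finset.sum_apply] using this
  have hsum : k = ∑ ν : IrrCharacter K, r ν := by
    have := congrFun e 1
    simp only [Pi.smul_apply, smul_eq_mul] at this
    exact_mod_cast mul_right_cancel₀ (irr_one_ne_zero hφ) this
  have hle : ∀ ν : IrrCharacter K, mult θ (ν : K → ℂ) ≤ k := fun ν => (hr ν).trans
    (hsum ▸ Finset.single_le_sum (fun _ _ => Nat.zero_le _) (Finset.mem_univ ν))
  calc ∑ ν : IrrCharacter K, mult θ (ν : K → ℂ) ^ 2
      ≤ ∑ ν : IrrCharacter K, r ν * k :=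
        Finset.sum_le_sum fun ν _ => by rw [sq]; exact Nat.mul_le_mul (hr ν) (hle ν)
    _ = k ^ 2 := by rw [← Finset.sum_mul, ← hsum, sq]

/-- Equality in Cauchy-Schwarz. -/
theorem inner_self_eq_of_inner_eq {a b : K → ℂ} (ha : IsCharacter K a) (hb : IsCharacter K b)
    (hφ : IsIrrCharacter L φ) {f c : ℕ} (hf : f ≠ 0) (hfa : (fun l => a (ι l)) = (f : ℂ) • φ)
    (hcb : (fun l => b (ι l)) = (c : ℂ) • φ) (hab : classInner a b = (f : ℂ) * c) :
    classInner b b = (c : ℂ) ^ 2 := by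
  classical
  have hA := sum_sq_mult_le ι ha hφ hfa
  have hB := sum_sq_mult_le ι hb hφ hcb
  have hinner : ∀ x y : K → ℂ, IsCharacter K x → IsCharacter K y →
      classInner x y = ((∑ ν : IrrCharacter K, mult x (ν : K → ℂ) * mult y (ν : K → ℂ) : ℕ) : ℂ) := by
    intro x y hx hy
    rw [classInner_eq_sum (isClassFunction_of_isCharacter hy), Nat.cast_sum]
    refine Finset.sum_congr rfl fun ν _ => ?_
    rw [mult_spec hx (isCharacter_of_isIrr ν.2), mult_spec hy (isCharacter_of_isIrr ν.2),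
      map_natCast, Nat.cast_mul]
  rw [hinner _ _ ha hb] at hab
  have hab' : ∑ ν : IrrCharacter K, mult a (ν : K → ℂ) * mult b (ν : K → ℂ) = f * c := by
    exact_mod_cast hab
  have key : 2 * (c * f) * (f * c) ≤ c ^ 2 * ∑ ν : IrrCharacter K, mult a (ν : K → ℂ) ^ 2 +
      f ^ 2 * ∑ ν : IrrCharacter K, mult b (ν : K → ℂ) ^ 2 := by
    rw [← hab', Finset.mul_sum, Finset.mul_sum, Finset.mul_sum, ← Finset.sum_add_distrib]
    refine Finset.sum_le_sum fun ν _ => ?_
    have := two_mul_le_add_sq (c * mult a (ν : K → ℂ)) (f * mult b (ν : K → ℂ))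
    nlinarith [this]
  have hge : c ^ 2 ≤ ∑ ν : IrrCharacter K, mult b (ν : K → ℂ) ^ 2 := by
    refine Nat.le_of_mul_le_mul_left ?_ (Nat.pos_of_ne_zero (pow_ne_zero 2 hf))
    nlinarith [Nat.mul_le_mul_left (c ^ 2) hA]
  rw [hinner _ _ hb hb]
  have hBB : ∑ ν : IrrCharacter K, mult b (ν : K → ℂ) * mult b (ν : K → ℂ) = c ^ 2 := by
    refine le_antisymm ?_ ?_
    · simpa [sq] using hB
    · simpa [sq] using hge
  rw [hBB, Nat.cast_pow]

end Norm

variable {G : Type u} [Group G] [Fintype G]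

theorem vanish_of_norm_eq {K : Type u} [Group K] [Fintype K] (D : Subgroup K) [Fintype D]
    {ζ : K → ℂ} (hζ : IsIrrCharacter K ζ) (h : ∑ x : D, ζ x * conj (ζ x) = (Nat.card K : ℂ))
    (z : K) (hz : z ∉ D) : ζ z = 0 := by
  classical
  have hall := classInner_self_eq_sum ζ
  rw [irr_inner_self hζ, mul_one] at hall
  have hsplit := Finset.sum_filter_add_sum_filter_not (s := (Finset.univ : Finset K))
    (p := fun x => x ∈ D) (f := fun x => ζ x * conj (ζ x))
  have hD : ∑ x ∈ Finset.univ.filter (fun x => x ∈ D), ζ x * conj (ζ x) =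
      ∑ x : D, ζ x * conj (ζ x) :=
    Finset.sum_subtype _ (fun x => by simp) _
  rw [hD, h, ← hall, add_eq_left] at hsplit
  simp only [Complex.mul_conj] at hsplit
  norm_cast at hsplit
  rw [Finset.sum_eq_zero_iff_of_nonneg fun x _ => Complex.normSq_nonneg _] at hsplit
  exact Complex.normSq_eq_zero.mp (hsplit z (Finset.mem_filter.mpr ⟨Finset.mem_univ _, hz⟩))

/-- The subgroup of elements centralising `A` modulo the normal subgroup `N`. -/
def centMod (N A : Subgroup G) [hN : N.Normal] : Subgroup G where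
  carrier := {g | ∀ a ∈ A, g * a * g⁻¹ * a⁻¹ ∈ N}
  one_mem' a _ := by simp
  mul_mem' {g h} hg hh a ha := by
    have e : g * h * a * (g * h)⁻¹ * a⁻¹ = g * (h * a * h⁻¹ * a⁻¹) * g⁻¹ * (g * a * g⁻¹ * a⁻¹) := by
      group
    rw [e]
    exact N.mul_mem (hN.conj_mem _ (hh a ha) g) (hg a ha)
  inv_mem' {g} hg a ha := by
    have e : g⁻¹ * a * g⁻¹⁻¹ * a⁻¹ = g⁻¹ * (g * a * g⁻¹ * a⁻¹)⁻¹ * g⁻¹⁻¹ := by group
    rw [e]
    exact hN.conj_mem _ (N.inv_mem (hg a ha)) g⁻¹

theorem mem_centMod {N A : Subgroup G} [N.Normal] {g : G} :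
    g ∈ centMod N A ↔ ∀ a ∈ A, g * a * g⁻¹ * a⁻¹ ∈ N := Iff.rfl

instance centMod_normal (N A : Subgroup G) [hN : N.Normal] [hA : A.Normal] :
    (centMod N A).Normal := by
  refine ⟨fun c hc g a ha => ?_⟩
  have h := hN.conj_mem _ (hc (g⁻¹ * a * g) (by simpa using hA.conj_mem a ha g⁻¹)) g
  have e : g * c * g⁻¹ * a * (g * c * g⁻¹)⁻¹ * a⁻¹ =
      g * (c * (g⁻¹ * a * g) * c⁻¹ * (g⁻¹ * a * g)⁻¹) * g⁻¹ := by group
  rw [e]
  exact h

section Main

variable {L M H : Subgroup G} [hL : L.Normal] [hM : M.Normal] {p : ℕ} [hp : Fact p.Prime]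

/-- In a complemented chief factor a normal subgroup abelian of `p'`-index over `M` controls
the `p`-part of the order. -/
theorem not_pow_dvd_relIndex (hLM : L < M) (hLH : L ≤ H) (hMH : ∀ x : G, ∃ m ∈ M, ∃ h ∈ H, x = m * h)
    (hcap : M ⊓ H = L) (hab : ∀ a ∈ M, ∀ b ∈ M, a * b * a⁻¹ * b⁻¹ ∈ L)
    (hexp : ∀ a ∈ M, a ^ p ∈ L) (hfaith : ∀ h ∈ H, h ∈ centMod L M → h ∈ L)
    (A : Subgroup G) [A.Normal] (hMA : M ≤ A) (hA : ∀ a ∈ A, ∀ b ∈ A, a * b * a⁻¹ * b⁻¹ ∈ M)
    (hC : centMod M A ≤ A) (hp' : ∀ a ∈ A, a ∈ H → a ^ p ∈ L → a ∈ L) :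
    ¬ L.relIndex M ∣ L.relIndex H := by
  classical
  let π := QuotientGroup.mk' L
  have hπ : ∀ x, π x = 1 ↔ x ∈ L := fun x => QuotientGroup.eq_one_iff x
  haveI hMn : (M.map π).Normal := Subgroup.Normal.map hM _ (QuotientGroup.mk'_surjective L)
  set U := M.map π with hU
  have hUc : ∀ x y : U, x * y = y * x := by
    rintro ⟨_, a, ha, rfl⟩ ⟨_, b, hb, rfl⟩
    refine Subtype.ext ?_
    show π a * π b = π b * π a
    have := (hπ _).mpr (hab a ha b hb)
    rw [map_mul, map_mul, map_mul, map_inv, map_inv, mul_inv_eq_one, mul_inv_eq_iff_eq_mul] at this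
    exact this
  letI : CommGroup U := { (inferInstance : Group U) with mul_comm := hUc }
  have hpU : ∀ x : Additive U, p • x = 0 := fun x => Additive.toMul.injective (Subtype.ext (by
    obtain ⟨a', ha', e⟩ := (Additive.toMul x).2
    show (Additive.toMul (p • x) : U).1 = 1
    rw [toMul_nsmul, Subgroup.coe_pow, ← e, ← map_pow]
    exact (hπ _).mpr (hexp a' ha')))
  obtain ⟨instM⟩ : Nonempty (Module (ZMod p) (Additive U)) := ⟨AddCommGroup.zmodModule hpU⟩
  haveI : Module.Finite (ZMod p) (Additive U) := Module.Finite.of_finite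
  let conjF : H → Module.End (ZMod p) (Additive U) := fun h => (MonoidHom.toAdditive
    (MulAut.conjNormal (H := U) (π (h : G))).toMonoidHom).toZModLinearMap p
  have conjF_one : conjF 1 = 1 := LinearMap.ext fun x => by
    simp only [conjF, OneMemClass.coe_one, map_one, AddMonoidHom.coe_toZModLinearMap,
      Module.End.one_apply]
    rfl
  have conjF_mul : ∀ a b : H, conjF (a * b) = conjF a * conjF b := fun a b => LinearMap.ext fun x => by
    simp only [conjF, Subgroup.coe_mul, map_mul, AddMonoidHom.coe_toZModLinearMap,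
      Module.End.mul_apply]
    rfl
  let conjU : H →* Module.End (ZMod p) (Additive U) := ⟨⟨conjF, conjF_one⟩, conjF_mul⟩
  let K := AlgebraicClosure (ZMod p)
  let V := TensorProduct (ZMod p) K (Additive U)
  let ρ₀ : H →* Module.End K V :=
    ((Module.End.baseChangeHom (ZMod p) K (Additive U)).toMonoidHom).comp conjU
  have hker : ∀ h : H, ρ₀ h = 1 → (h : G) ∈ L := by
    intro h hh
    have h1 : conjU h = 1 := by
      refine LinearMap.ext fun x => ?_
      have hx := LinearMap.congr_fun hh ((1 : K) ⊗ₜ[ZMod p] x)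
      simp only [ρ₀, MonoidHom.comp_apply] at hx
      let bb := Module.finBasis (ZMod p) (Additive U)
      refine bb.repr.injective (Finsupp.ext fun i => ?_)
      have hx' : (1 : K) ⊗ₜ[ZMod p] (conjU h x) = (1 : K) ⊗ₜ[ZMod p] x := hx
      have := congrArg (fun y => (bb.baseChange K).repr y i) hx'
      simpa using this
    refine hfaith h h.2 fun m hm => ?_
    have hm' := LinearMap.congr_fun h1 (Additive.ofMul (⟨π m, m, hm, rfl⟩ : U))
    have hm'' := congrArg (fun x : Additive U => ((Additive.toMul x : U) : G ⧸ L)) hm'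
    change ((MulAut.conjNormal (π (h : G)) (⟨π m, m, hm, rfl⟩ : U) : U) : G ⧸ L) = π m at hm''
    rw [MulAut.conjNormal_apply] at hm''
    rw [← hπ, map_mul, map_mul, map_mul, map_inv, map_inv, hm'', mul_inv_cancel]
  have hρL : ∀ h : H, (h : G) ∈ L → ρ₀ h = 1 := by
    intro h hh
    have h1 : conjU h = 1 := by
      refine LinearMap.ext fun x => ?_
      show Additive.ofMul (MulAut.conjNormal (π (h : G)) (Additive.toMul x) : U) = x
      rw [(hπ _).mpr hh, map_one]
      rfl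
    show (Module.End.baseChangeHom (ZMod p) K (Additive U)) (conjU h) = 1
    rw [h1, map_one]
  haveI : (L.subgroupOf H).Normal := inferInstance
  let S := H ⧸ L.subgroupOf H
  let ρ : S →* Module.End K V := QuotientGroup.lift (L.subgroupOf H) ρ₀ fun h hh =>
    MonoidHom.mem_ker.mpr (hρL h (Subgroup.mem_subgroupOf.mp hh))
  have hρ : Function.Injective ρ := by
    intro s t hst
    obtain ⟨a, rfl⟩ := QuotientGroup.mk_surjective s
    obtain ⟨b, rfl⟩ := QuotientGroup.mk_surjective t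
    refine QuotientGroup.eq.mpr (Subgroup.mem_subgroupOf.mpr (hker _ ?_))
    have hst' : ρ₀ a = ρ₀ b := hst
    rw [map_mul, ← hst', ← map_mul, inv_mul_cancel, map_one]
  let AS : Subgroup S := (A.subgroupOf H).map (QuotientGroup.mk' _)
  haveI : AS.Normal := Subgroup.Normal.map inferInstance _ (QuotientGroup.mk'_surjective _)
  have hML : ∀ x, x ∈ M → x ∈ H → x ∈ L := fun x h1 h2 => hcap ▸ Subgroup.mem_inf.mpr ⟨h1, h2⟩
  have hS1 : ∀ h : H, (QuotientGroup.mk h : S) = 1 ↔ (h : G) ∈ L := fun h =>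
    (QuotientGroup.eq_one_iff h).trans Subgroup.mem_subgroupOf
  have hab' : ∀ a ∈ AS, ∀ b ∈ AS, a * b = b * a := by
    rintro _ ⟨a, ha, rfl⟩ _ ⟨b, hb, rfl⟩
    have h := (hS1 (a * b * a⁻¹ * b⁻¹)).mpr
      (hML _ (by simpa using hA _ ha _ hb) (Subtype.prop _))
    simp only [QuotientGroup.mk'_apply, QuotientGroup.mk_mul, QuotientGroup.mk_inv] at h ⊢
    rwa [mul_inv_eq_one, mul_inv_eq_iff_eq_mul] at h
  have hC' : ∀ s : S, (∀ a ∈ AS, s * a = a * s) → s ∈ AS := by
    intro s hs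
    obtain ⟨x, rfl⟩ := QuotientGroup.mk_surjective s
    refine ⟨x, Subgroup.mem_subgroupOf.mpr (hC fun a ha => ?_), rfl⟩
    obtain ⟨m, hm, h, hh, rfl⟩ := hMH a
    have hhA : h ∈ A := by simpa using A.mul_mem (A.inv_mem (hMA hm)) ha
    have h1 := hs _ ⟨⟨h, hh⟩, hhA, rfl⟩
    rw [QuotientGroup.mk'_apply, ← mul_inv_eq_iff_eq_mul, ← mul_inv_eq_one, ← QuotientGroup.mk_mul,
      ← QuotientGroup.mk_inv, ← QuotientGroup.mk_mul, ← QuotientGroup.mk_inv, ← QuotientGroup.mk_mul,
      hS1] at h1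
    have h2 : (x : G) * h * (x : G)⁻¹ * h⁻¹ ∈ M := hLM.le (by simpa using h1)
    have e : (x : G) * (m * h) * (x : G)⁻¹ * (m * h)⁻¹ =
        ((x : G) * m * (x : G)⁻¹) * ((x : G) * h * (x : G)⁻¹ * h⁻¹) * m⁻¹ := by group
    rw [e]
    exact M.mul_mem (M.mul_mem (hM.conj_mem m hm x) h2) (M.inv_mem hm)
  have hp'' : ¬ p ∣ Nat.card AS := fun hdvd => by
    obtain ⟨⟨_, a, ha, rfl⟩, hord⟩ := exists_prime_orderOf_dvd_card' p hdvd
    have hord' : orderOf (QuotientGroup.mk a : S) = p := by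
      rw [← hord, ← Subgroup.orderOf_coe]; rfl
    have h1 : (QuotientGroup.mk (a ^ p) : S) = 1 := by
      rw [QuotientGroup.mk_pow, ← hord', pow_orderOf_eq_one]
    have h2 := hp' a ha a.2 (by simpa using (hS1 _).mp h1)
    rw [← hS1] at h2
    rw [h2, orderOf_one] at hord'
    exact hp.out.one_lt.ne hord'
  haveI hUne : Nontrivial (Additive U) := by
    obtain ⟨m, hm, hmL⟩ := SetLike.exists_of_lt hLM
    refine ⟨⟨Additive.ofMul ⟨π m, m, hm, rfl⟩, 0, fun e => hmL ((hπ m).mp ?_)⟩⟩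
    exact congrArg (fun x : Additive U => ((Additive.toMul x : U) : G ⧸ L)) e
  haveI : Nontrivial V := Module.nontrivial_of_finrank_pos (R := K) (by
    rw [Module.finrank_baseChange]; exact Module.finrank_pos)
  have key := not_pow_finrank_dvd_card (V := V) p ρ hρ AS hab' hC' hp''
  rw [Module.finrank_baseChange] at key
  have hcardU : p ^ Module.finrank (ZMod p) (Additive U) = L.relIndex M := by
    have h1 := Module.natCard_eq_pow_finrank (K := ZMod p) (V := Additive U)
    rw [Nat.card_zmod] at h1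
    rw [← h1, Nat.card_congr Additive.toMul, hU, ← Subgroup.relIndex_ker M π, QuotientGroup.ker_mk']
  rw [hcardU] at key
  exact key

end Main

/-- A quasi-primitive character above a solvable quotient is not induced from a maximal subgroup. -/
theorem not_induced_of_qp (L0 : Subgroup G) [L0.Normal] (hs : Group.IsSolvable (G ⧸ L0))
    {χ : G → ℂ} (hχ : IsIrrCharacter G χ) (hqp : QuasiPrimAbove L0 χ) (H : Subgroup G)
    (hH : IsCoatom H) (hL0 : L0 ≤ H) {θ : H → ℂ} (hθ : IsIrrCharacter H θ) :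
    indFun H θ ≠ χ := by
  classical
  intro hind
  haveI := Fintype.ofFinite H
  set L := H.normalCore with hLdef
  have hLH : L ≤ H := H.normalCore_le
  have hL0L : L0 ≤ L := Subgroup.normal_le_normalCore.mpr hL0
  haveI := Fintype.ofFinite L
  have hLtop : L < ⊤ := lt_of_le_of_lt hLH hH.lt_top
  have hsL : Group.IsSolvable (G ⧸ L) := by
    haveI := hs
    refine Group.isSolvable_of_surjective (f := QuotientGroup.map L0 L (MonoidHom.id G)
      (by simpa using hL0L)) ?_
    intro x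
    obtain ⟨g, rfl⟩ := QuotientGroup.mk_surjective x
    exact ⟨QuotientGroup.mk g, rfl⟩
  obtain ⟨M, p, hMn, hLM, -, hp, hab, hexp, hchief⟩ := exists_chief L ⊤ hLtop hsL
  haveI := hMn
  haveI : Fact p.Prime := ⟨hp⟩
  haveI := Fintype.ofFinite M
  have hMnH : ¬ M ≤ H := fun h => hLM.not_ge (Subgroup.normal_le_normalCore.mpr h)
  have hsup : M ⊔ H = ⊤ := hH.2 _ (lt_of_le_of_ne le_sup_right fun h => hMnH (h ▸ le_sup_left))
  have hMH : ∀ x : G, ∃ m ∈ M, ∃ h ∈ H, x = m * h := fun x =>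
    (Basics.mem_sup_of_le_normalizer (H := H)
      (Subgroup.le_normalizer_iff.2 fun y _ x hx => hMn.conj_mem x hx y)).mp (hsup ▸ Subgroup.mem_top x)
  have hLMH : L ≤ M ⊓ H := le_inf hLM.le hLH
  have hcap : M ⊓ H = L := by
    have hn : (M ⊓ H).Normal := by
      refine ⟨fun x hx g => ?_⟩
      obtain ⟨m, hm, h, hh, rfl⟩ := hMH g
      have hy : h * x * h⁻¹ ∈ M ⊓ H :=
        ⟨hMn.conj_mem _ hx.1 h, H.mul_mem (H.mul_mem hh hx.2) (H.inv_mem hh)⟩
      have e : m * h * x * (m * h)⁻¹ =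
          (m * (h * x * h⁻¹) * m⁻¹ * (h * x * h⁻¹)⁻¹) * (h * x * h⁻¹) := by group
      rw [e]
      exact (M ⊓ H).mul_mem (hLMH (hab _ hm _ hy.1)) hy
    rcases hchief _ hn hLMH inf_le_left with h | h
    · exact h
    · exact absurd (h ▸ inf_le_right) hMnH
  have hML : ∀ x, x ∈ M → x ∈ H → x ∈ L := fun x h1 h2 => hcap ▸ Subgroup.mem_inf.mpr ⟨h1, h2⟩
  have hfaith : ∀ h ∈ H, h ∈ centMod L M → h ∈ L := by
    have hn : (centMod L M ⊓ H).Normal := by
      refine ⟨fun x hx g => ?_⟩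
      obtain ⟨m, hm, h, hh, rfl⟩ := hMH g
      have hy : h * x * h⁻¹ ∈ centMod L M ⊓ H :=
        ⟨(centMod_normal L M).conj_mem _ hx.1 h, H.mul_mem (H.mul_mem hh hx.2) (H.inv_mem hh)⟩
      set y := h * x * h⁻¹
      have e : m * h * x * (m * h)⁻¹ = (y * m * y⁻¹ * m⁻¹)⁻¹ * y := by
        simp only [y]; group
      rw [e]
      have hl : (y * m * y⁻¹ * m⁻¹)⁻¹ ∈ L := L.inv_mem (hy.1 m hm)
      refine (centMod L M ⊓ H).mul_mem ⟨fun a ha => ?_, hLH hl⟩ hy
      exact hab _ (hLM.le hl) a ha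
    exact fun h hh hc => (Subgroup.normal_le_normalCore (H := H) (N := centMod L M ⊓ H)).mpr
      inf_le_right ⟨hc, hh⟩
  obtain ⟨φ, e, hφ, hφe⟩ := hqp L inferInstance hL0L
  obtain ⟨ψ, e', hψ, hψe⟩ := hqp M hMn (hL0L.trans hLM.le)
  obtain ⟨c, hψL, hec⟩ := homogeneous_restrict L M hLM.le hχ hψ hψe hφ hφe
  -- `θ` restricts to a multiple of `φ`
  have hχH : IsCharacter H (fun h : H => χ h) := isCharacter_restrict H (isCharacter_of_isIrr hχ)
  have hθmult : mult (fun h : H => χ h) θ ≠ 0 := by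
    intro h0
    have h1 := frobenius_reciprocity H θ (isClassFunction_of_isIrr hχ)
    rw [hind, irr_inner_self hχ, classInner_comm_of_char (isCharacter_of_isIrr hθ) hχH,
      mult_spec hχH (isCharacter_of_isIrr hθ), h0, Nat.cast_zero] at h1
    exact one_ne_zero h1
  obtain ⟨f, hfpos, hθL⟩ := res_eq_smul_of_constituent (Subgroup.inclusion hLH) hχH ⟨θ, hθ⟩ hθmult hφ
    (k := e) (by simpa using hφe)
  have hθc := isClassFunction_of_isIrr hθ
  -- restriction to a normal subgroup above `M`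
  have hres : ∀ (Z : Subgroup G) [Fintype Z], M ≤ Z → (fun z : Z => χ z) =
      indFun (H.subgroupOf Z) (fun x => θ ⟨(x : Z), Subgroup.mem_subgroupOf.mp x.2⟩) := by
    intro Z _ hMZ
    rw [← hind]
    exact restrict_indFun_of_cover Z H (fun x => by
      obtain ⟨m, hm, h, hh, e⟩ := hMH x
      exact ⟨m, hMZ hm, h, hh, e⟩) hθc
  set D := H.subgroupOf M with hD
  haveI := Fintype.ofFinite D
  let toL : D → L := fun d => ⟨(d : M), hML _ (d : M).2 (Subgroup.mem_subgroupOf.mp d.2)⟩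
  let eD : D ≃ L :=
    { toFun := toL
      invFun := fun l => ⟨⟨l, hLM.le l.2⟩, Subgroup.mem_subgroupOf.mpr (hLH l.2)⟩
      left_inv := fun d => rfl
      right_inv := fun l => rfl }
  have he' : e' = f * c := by
    have h1 : classInner (fun m : M => χ m) ψ = (e' : ℂ) := by
      rw [hψe, classInner_smul_left, irr_inner_self hψ, mul_one]
    rw [hres M le_rfl, frobenius_reciprocity _ _ (isClassFunction_of_isIrr hψ)] at h1
    have h2 : classInner (fun d : D => θ ⟨(d : M), Subgroup.mem_subgroupOf.mp d.2⟩)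
        (fun d : D => ψ (d : M)) = (f : ℂ) * c * classInner φ φ := by
      simp only [classInner]
      rw [Nat.card_congr eD, Fintype.sum_equiv eD _
        (fun l => (f : ℂ) * c * (φ l * conj (φ l))) fun d => ?_, ← Finset.mul_sum]
      · ring
      have hd1 : θ ⟨(d : M), Subgroup.mem_subgroupOf.mp d.2⟩ = (f : ℂ) * φ (eD d) :=
        congrFun hθL (eD d)
      have hd2 : ψ (d : M) = (c : ℂ) * φ (eD d) := hψL (eD d)
      rw [hd1, hd2, map_mul, map_natCast]
      ring
    rw [h2, irr_inner_self hφ, mul_one] at h1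
    exact_mod_cast h1.symm
  have hf0 : (f : ℂ) ≠ 0 := Nat.cast_ne_zero.mpr hfpos.ne'
  have hφ1 := irr_one_ne_zero hφ
  have hθ1 : θ 1 = (f : ℂ) * φ 1 := by
    have := congrFun hθL 1
    simpa using this
  have hψ1 : ψ 1 = (c : ℂ) * φ 1 := hψL 1
  have hDindex : D.index = L.relIndex M := by
    rw [hD, ← hcap, inf_comm, Subgroup.inf_relIndex_right]
    rfl
  have hq : c ^ 2 = L.relIndex M := by
    have h1 := congrFun (hres M le_rfl) 1
    rw [indFun_one_eval, congrFun hψe 1, Pi.smul_apply, smul_eq_mul, hψ1, he'] at h1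
    have hθ1' : θ ⟨((1 : D) : M), Subgroup.mem_subgroupOf.mp (1 : D).2⟩ = θ 1 :=
      congrArg θ (Subtype.ext rfl)
    rw [hθ1', hθ1, ← hD, hDindex] at h1
    have h2 : ((c ^ 2 : ℕ) : ℂ) = (L.relIndex M : ℕ) := by
      push_cast at h1 ⊢
      refine mul_left_cancel₀ (mul_ne_zero hf0 hφ1) ?_
      linear_combination h1
    exact_mod_cast h2
  -- no normal subgroup above `M` to which `ψ` extends
  have hext : ∀ (Z : Subgroup G) [Fintype Z], Z.Normal → ∀ (hMZ : M ≤ Z) (ζ : Z → ℂ) (k : ℕ),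
      IsIrrCharacter Z ζ → (fun z : Z => χ z) = (k : ℂ) • ζ →
        (∀ m : M, ζ ⟨m, hMZ m.2⟩ = ψ m) → Z ≤ M := by
    intro Z _ hZn hMZ ζ k hζ hζk hζM
    haveI := hZn
    have hk : k = e' := by
      have h1 := congrFun hζk ⟨(1 : M), hMZ (1 : M).2⟩
      have h2 := congrFun hψe 1
      rw [Pi.smul_apply, smul_eq_mul, hζM 1] at h1
      rw [Pi.smul_apply, smul_eq_mul] at h2
      have h3 := h1.symm.trans h2
      exact_mod_cast mul_right_cancel₀ (irr_one_ne_zero hψ) h3
    set DZ := H.subgroupOf Z with hDZ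
    haveI := Fintype.ofFinite DZ
    let a : DZ → ℂ := fun d => θ ⟨(d : Z), Subgroup.mem_subgroupOf.mp d.2⟩
    let b : DZ → ℂ := fun d => ζ (d : Z)
    have hac : IsCharacter DZ a :=
      isCharacter_comp { toFun := fun d : DZ => (⟨(d : Z), Subgroup.mem_subgroupOf.mp d.2⟩ : H)
                         map_one' := rfl
                         map_mul' := fun _ _ => rfl } (isCharacter_of_isIrr hθ)
    have hbc : IsCharacter DZ b := isCharacter_restrict DZ (isCharacter_of_isIrr hζ)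
    let ι : L →* DZ :=
      { toFun := fun l => ⟨⟨l, hMZ (hLM.le l.2)⟩, Subgroup.mem_subgroupOf.mpr (hLH l.2)⟩
        map_one' := rfl
        map_mul' := fun _ _ => rfl }
    have haL : (fun l => a (ι l)) = (f : ℂ) • φ := funext fun l => congrFun hθL l
    have hbL : (fun l => b (ι l)) = (c : ℂ) • φ := funext fun l => by
      show ζ ⟨(l : G), _⟩ = _
      rw [Pi.smul_apply, smul_eq_mul, ← hψL l]
      exact hζM ⟨l, hLM.le l.2⟩
    have hinner : classInner a b = (f : ℂ) * c := by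
      have h1 : classInner (fun z : Z => χ z) ζ = (k : ℂ) := by
        rw [hζk, classInner_smul_left, irr_inner_self hζ, mul_one]
      rw [hres Z hMZ, frobenius_reciprocity _ _ (isClassFunction_of_isIrr hζ), hk, he'] at h1
      push_cast at h1
      exact h1
    have hbb := inner_self_eq_of_inner_eq ι hac hbc hφ hfpos.ne' haL hbL hinner
    have hDZi : DZ.index = L.relIndex M := by
      have h1 := congrFun (hres Z hMZ) 1
      have h2 := congrFun (hres M le_rfl) 1
      rw [indFun_one_eval] at h1 h2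
      have e1 : θ ⟨((1 : DZ) : Z), Subgroup.mem_subgroupOf.mp (1 : DZ).2⟩ = θ 1 :=
        congrArg θ (Subtype.ext rfl)
      have e2 : θ ⟨((1 : D) : M), Subgroup.mem_subgroupOf.mp (1 : D).2⟩ = θ 1 :=
        congrArg θ (Subtype.ext rfl)
      simp only [OneMemClass.coe_one] at h1 h2
      rw [← hDindex]
      have h3 : (DZ.index : ℂ) * θ 1 = (D.index : ℂ) * θ 1 := h1.symm.trans h2
      exact_mod_cast mul_right_cancel₀ (irr_one_ne_zero hθ) h3
    have hsumD : ∑ d : DZ, ζ (d : Z) * conj (ζ (d : Z)) = (Nat.card Z : ℂ) := by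
      have h1 := classInner_self_eq_sum b
      rw [hbb] at h1
      rw [← h1, ← DZ.index_mul_card, hDZi, ← hq]
      push_cast
      ring
    have hvanD := vanish_of_norm_eq DZ hζ hsumD
    have hzero : ∀ z : Z, (z : G) ∈ H → (z : G) ∉ L → ζ z = 0 := by
      intro z hzH hzL
      by_contra hne
      refine hzL (hfaith _ hzH fun m hm => ?_)
      set mz : Z := ⟨m, hMZ hm⟩
      have hconj : ζ (mz * z * mz⁻¹) = ζ z := (isClassFunction_of_isIrr hζ) z mz
      have hmem : m * (z : G) * m⁻¹ ∈ H :=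
        Subgroup.mem_subgroupOf.mp (by_contra fun h => hne (hconj.symm.trans (hvanD _ h)) :
          mz * z * mz⁻¹ ∈ DZ)
      have h1 : m * (z : G) * m⁻¹ * (z : G)⁻¹ ∈ L := by
        refine hML _ ?_ (H.mul_mem hmem (H.inv_mem hzH))
        rw [show m * (z : G) * m⁻¹ * (z : G)⁻¹ = m * ((z : G) * m⁻¹ * (z : G)⁻¹) by group]
        exact M.mul_mem hm (hMn.conj_mem _ (M.inv_mem hm) z)
      have e1 : (z : G) * m * (z : G)⁻¹ * m⁻¹ = (m * (z : G) * m⁻¹ * (z : G)⁻¹)⁻¹ := by group
      rw [e1]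
      exact L.inv_mem h1
    have hall : ∀ z : Z, (z : G) ∉ L → ζ z = 0 := fun z hz => by
      by_cases hzH : (z : G) ∈ H
      · exact hzero z hzH hz
      · exact hvanD z fun h => hzH (Subgroup.mem_subgroupOf.mp h)
    have hres' := sq_eq_relIndex_of_vanish L Z (hLM.le.trans hMZ) hζ hφ c (fun l => by
      rw [← hψL l]; exact hζM ⟨l, hLM.le l.2⟩) hall
    rw [hq] at hres'
    have hmul := Subgroup.relIndex_mul_relIndex L M Z hLM.le hMZ
    rw [← hres'] at hmul
    exact Subgroup.relIndex_eq_one.mp ((mul_eq_left₀ (by rw [← hq]; exact pow_ne_zero 2 (fun h0 => by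
      rw [h0, Nat.cast_zero, zero_mul] at hψ1; exact irr_one_ne_zero hψ hψ1))).mp hmul)
  -- a maximal abelian normal subgroup modulo `M`
  let Fam : Subgroup G → Prop := fun A =>
    A.Normal ∧ M ≤ A ∧ ∀ a ∈ A, ∀ b ∈ A, a * b * a⁻¹ * b⁻¹ ∈ M
  obtain ⟨A, hAmax⟩ := (Set.toFinite {A | Fam A}).exists_maximal
    ⟨M, hMn, le_rfl, fun a ha b hb => M.mul_mem (M.mul_mem (M.mul_mem ha hb) (M.inv_mem ha)) (M.inv_mem hb)⟩
  obtain ⟨hAn, hMA, hAab⟩ := hAmax.1
  haveI := hAn
  obtain ⟨d, τ, hτ, hτψ⟩ := id hψ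
  have hinvψ : ∀ g, conjFun M g τ.character = τ.character := fun g => by
    rw [hτψ]; exact conjFun_eq_of_homogeneous hχ M hψe g
  obtain ⟨P, hP⟩ := exists_projExt τ hinvψ
  have hC : centMod M A ≤ A := by
    by_contra hCA
    have hAC : A < centMod M A := lt_of_le_not_ge (fun a ha b hb => hAab a ha b hb) hCA
    have hsA : Group.IsSolvable (G ⧸ A) := by
      haveI := hsL
      refine Group.isSolvable_of_surjective (f := QuotientGroup.map L A (MonoidHom.id G)
        (by simpa using hLM.le.trans hMA)) ?_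
      intro x
      obtain ⟨g, rfl⟩ := QuotientGroup.mk_surjective x
      exact ⟨QuotientGroup.mk g, rfl⟩
    obtain ⟨B, q, hBn, hAB, hBC, -, hBab, -, -⟩ := exists_chief A (centMod M A) hAC hsA
    haveI := hBn
    have hMB : M ≤ B := hMA.trans hAB.le
    obtain ⟨b1, hb1, b2, hb2, hb⟩ : ∃ b1 ∈ B, ∃ b2 ∈ B, b1 * b2 * b1⁻¹ * b2⁻¹ ∉ M := by
      by_contra h
      push Not at h
      exact hAB.not_ge (hAmax.2 ⟨hBn, hMB, h⟩ hAB.le)
    haveI : (⁅B, B⁆ ⊔ M).Normal := inferInstance
    have hY1 : M < ⁅B, B⁆ ⊔ M := lt_of_le_of_ne le_sup_right fun h => hb (h ▸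
      Subgroup.mem_sup_left (Subgroup.commutator_mem_commutator hb1 hb2))
    have hsM : Group.IsSolvable (G ⧸ M) := by
      haveI := hsL
      refine Group.isSolvable_of_surjective (f := QuotientGroup.map L M (MonoidHom.id G)
        (by simpa using hLM.le)) ?_
      intro x
      obtain ⟨g, rfl⟩ := QuotientGroup.mk_surjective x
      exact ⟨QuotientGroup.mk g, rfl⟩
    obtain ⟨Z, r, hZn, hMZ, hZY, -, hZab, -, hZchief⟩ := exists_chief M (⁅B, B⁆ ⊔ M) hY1 hsM
    haveI := hZn
    haveI := Fintype.ofFinite Z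
    have hZA : Z ≤ A := hZY.trans (sup_le (Subgroup.commutator_le.mpr fun x hx y hy =>
      hBab x hx y hy) hMA)
    have hpair : ∀ a (ha : a ∈ Z) b (hb : b ∈ Z),
        P a * P b * (P a)⁻¹ = τ.asGroupHom ⟨a * b * a⁻¹ * b⁻¹, hZab a ha b hb⟩ * P b := by
      intro a ha b hb
      exact pairing_eq hP B hMB b (fun y hy => hBC hy b (hZA hb)) (hZY ha) _
    obtain ⟨Q, hQ⟩ := exists_hom_of_trivial_pairing hP Z hMZ.le hZab hpair
    obtain ⟨ζ, k, hζ, hζk⟩ := hqp Z hZn (hL0L.trans (hLM.le.trans hMZ.le))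
    obtain ⟨cc, hcc, -⟩ := homogeneous_restrict M Z hMZ.le hχ hζ hζk hψ hψe
    -- an extension of `ψ` to `Z`
    let σ : Representation ℂ Z (Fin d → ℂ) := (Units.coeHom (Module.End ℂ (Fin d → ℂ))).comp Q
    have hσ : ∀ m : M, σ ⟨m, hMZ.le m.2⟩ = τ m := fun m => by
      show ((Q _ : (Module.End ℂ (Fin d → ℂ))ˣ) : Module.End ℂ (Fin d → ℂ)) = _
      rw [hQ, Representation.asGroupHom_apply]
    haveI : σ.IsIrreducible := by
      obtain ⟨hW, h⟩ := (isIrreducible_iff τ).mp hτ
      exact (isIrreducible_iff σ).mpr ⟨hW, fun U hU => h U fun n v hv => hσ n ▸ hU _ v hv⟩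
    have hσψ : ∀ m : M, σ.character ⟨m, hMZ.le m.2⟩ = ψ m := fun m => by
      rw [← hτψ]
      simp only [Representation.character, hσ]
    rcases chief_dichotomy hMZ.le hZab hZchief hζ (conjFun_eq_of_homogeneous hχ Z hζk) hψ cc hcc
      with rfl | hram
    · exact hMZ.not_ge (hext Z hZn hMZ.le ζ k hζ hζk fun m => by rw [hcc, Nat.cast_one, one_mul])
    · -- the ramified case contradicts the extension
      have hσirr := isIrrCharacter_character σ
      have hvan : ∀ z : Z, (z : G) ∉ M → ζ z = 0 := fun z hz =>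
        vanish_of_norm_eq (M.subgroupOf Z) hζ (by
          have e1 : Nat.card Z = (M.subgroupOf Z).index * Nat.card (M.subgroupOf Z) :=
            ((M.subgroupOf Z).index_mul_card).symm
          rw [e1, show (M.subgroupOf Z).index = cc ^ 2 from hram.symm,
            Basics.card_subgroupOf hMZ.le, Nat.cast_mul, Nat.cast_pow,
            ← mul_one ((cc : ℂ) ^ 2 * (Nat.card M : ℂ)), ← irr_inner_self hψ, mul_assoc,
            classInner_self_eq_sum, Finset.mul_sum]
          refine Fintype.sum_equiv (Subgroup.subgroupOfEquivOfLe hMZ.le).toEquiv _ _ fun x => ?_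
          have hx : ζ (x : Z) = (cc : ℂ) * ψ (Subgroup.subgroupOfEquivOfLe hMZ.le x) :=
            hcc ⟨_, Subgroup.mem_subgroupOf.mp x.2⟩
          show ζ (x : Z) * conj (ζ (x : Z)) = _
          rw [hx, map_mul, map_natCast]
          show _ = (cc : ℂ) ^ 2 * (ψ (Subgroup.subgroupOfEquivOfLe hMZ.le x) *
            conj (ψ (Subgroup.subgroupOfEquivOfLe hMZ.le x)))
          ring) z fun h => hz (Subgroup.mem_subgroupOf.mp h)
      have hne : classInner ζ σ.character ≠ 0 := by
        rw [classInner, sum_eq_sum_subgroup M Z hMZ.le _ fun z hz => by rw [hvan z hz, zero_mul]]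
        have e : ∑ m : M, ζ ⟨m, hMZ.le m.2⟩ * conj (σ.character ⟨m, hMZ.le m.2⟩) =
            (cc : ℂ) * ((Nat.card M : ℂ) * classInner ψ ψ) := by
          rw [classInner_self_eq_sum, Finset.mul_sum]
          refine Finset.sum_congr rfl fun m _ => ?_
          rw [hcc, hσψ]
          ring
        rw [e, irr_inner_self hψ, mul_one]
        refine mul_ne_zero (inv_ne_zero (Nat.cast_ne_zero.mpr Nat.card_pos.ne'))
          (mul_ne_zero (Nat.cast_ne_zero.mpr fun h0 => ?_) (Nat.cast_ne_zero.mpr Nat.card_pos.ne'))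
        have := hcc 1
        rw [h0, Nat.cast_zero, zero_mul] at this
        exact irr_one_ne_zero hζ this
      have hζσ : ζ = σ.character := by_contra fun h => hne (irr_inner_of_ne hζ hσirr h)
      exact hMZ.not_ge (hext Z hZn hMZ.le ζ k hζ hζk fun m => by rw [hζσ]; exact hσψ m)
  -- `A / M` has no element of order `p`
  have hp' : ∀ a ∈ A, a ∈ H → a ^ p ∈ L → a ∈ L := by
    intro a ha haH hap
    let Pp : Subgroup G :=
      { carrier := {g | g ∈ A ∧ ∃ j : ℕ, g ^ p ^ j ∈ M}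
        one_mem' := ⟨A.one_mem, 0, by simp⟩
        mul_mem' := by
          rintro x y ⟨hx, i, hi⟩ ⟨hy, j, hj⟩
          refine ⟨A.mul_mem hx hy, i + j, ?_⟩
          rw [← QuotientGroup.eq_one_iff, QuotientGroup.mk_pow, QuotientGroup.mk_mul]
          have hcm : Commute (x : G ⧸ M) (y : G ⧸ M) := by
            show (x : G ⧸ M) * y = y * x
            rw [← mul_inv_eq_iff_eq_mul, ← mul_inv_eq_one, ← QuotientGroup.mk_mul,
              ← QuotientGroup.mk_inv, ← QuotientGroup.mk_mul, ← QuotientGroup.mk_inv,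
              ← QuotientGroup.mk_mul, QuotientGroup.eq_one_iff]
            exact hAab x hx y hy
          have hi' : (x : G ⧸ M) ^ p ^ i = 1 := by
            rw [← QuotientGroup.mk_pow, QuotientGroup.eq_one_iff]; exact hi
          have hj' : (y : G ⧸ M) ^ p ^ j = 1 := by
            rw [← QuotientGroup.mk_pow, QuotientGroup.eq_one_iff]; exact hj
          rw [hcm.mul_pow, pow_add, pow_mul, hi', one_pow, one_mul, mul_comm, pow_mul, hj', one_pow]
        inv_mem' := by
          rintro x ⟨hx, i, hi⟩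
          exact ⟨A.inv_mem hx, i, by rw [inv_pow]; exact M.inv_mem hi⟩ }
    have hPn : Pp.Normal := ⟨fun x ⟨hx, i, hi⟩ g =>
      ⟨hAn.conj_mem x hx g, i, by rw [conj_pow]; exact hMn.conj_mem _ hi g⟩⟩
    let π := QuotientGroup.mk' L
    let Q0 : Subgroup (G ⧸ L) := (Pp ⊓ H).map π
    have hQ0 : IsPGroup p Q0 := by
      rintro ⟨_, x, ⟨⟨hxA, i, hi⟩, hxH⟩, rfl⟩
      refine ⟨i, Subtype.ext ?_⟩
      rw [Subgroup.coe_pow, Subgroup.coe_one]
      show π x ^ p ^ i = 1
      rw [← map_pow]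
      exact (QuotientGroup.eq_one_iff _).mpr (hML _ hi (H.pow_mem hxH _))
    haveI : (M.map π).Normal := Subgroup.Normal.map hMn _ (QuotientGroup.mk'_surjective L)
    let act : Q0 →* MulAut (M.map π) := MulAut.conjNormal.comp Q0.subtype
    letI : MulAction Q0 (M.map π) := MulAction.compHom _ act
    have hdvd : p ∣ Nat.card (M.map π) := by
      have h1 : IsPGroup p (M.map π) := by
        rintro ⟨_, x, hx, rfl⟩
        refine ⟨1, Subtype.ext ?_⟩
        rw [Subgroup.coe_pow, Subgroup.coe_one, pow_one]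
        show π x ^ p = 1
        rw [← map_pow]
        exact (QuotientGroup.eq_one_iff _).mpr (hexp x hx)
      obtain ⟨m0, hm0, hm0L⟩ := SetLike.exists_of_lt hLM
      haveI : Nontrivial (M.map π) := ⟨⟨π m0, m0, hm0, rfl⟩, 1, fun e =>
        hm0L ((QuotientGroup.eq_one_iff m0).mp (congrArg Subtype.val e))⟩
      obtain ⟨n, hn, hcard⟩ := h1.nontrivial_iff_card.mp inferInstance
      rw [hcard]
      exact dvd_pow_self p (by omega)
    have hfix := hQ0.card_modEq_card_fixedPoints (M.map π)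
    have hpf : p ∣ Nat.card (MulAction.fixedPoints Q0 (M.map π)) :=
      Nat.modEq_zero_iff_dvd.mp (hfix.symm.trans (Nat.modEq_zero_iff_dvd.mpr hdvd))
    have hone : (1 : M.map π) ∈ MulAction.fixedPoints Q0 (M.map π) := fun q => map_one (act q)
    haveI : Nonempty (MulAction.fixedPoints Q0 (M.map π)) := ⟨⟨1, hone⟩⟩
    have hnt : Nontrivial (MulAction.fixedPoints Q0 (M.map π)) :=
      Finite.one_lt_card_iff_nontrivial.mp
        (lt_of_lt_of_le hp.one_lt (Nat.le_of_dvd Nat.card_pos hpf))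
    obtain ⟨⟨⟨_, m0, hm0, rfl⟩, hm0f⟩, hm0ne⟩ := exists_ne
      (⟨1, hone⟩ : MulAction.fixedPoints Q0 (M.map π))
    have hPH : ∀ x ∈ Pp, x ∈ H → x * m0 * x⁻¹ * m0⁻¹ ∈ L := by
      intro x hx hxH
      have h1 := congrArg Subtype.val (hm0f ⟨π x, x, ⟨hx, hxH⟩, rfl⟩)
      change ((MulAut.conjNormal (π x) (⟨π m0, m0, hm0, rfl⟩ : M.map π) : M.map π) : G ⧸ L) = π m0
        at h1
      rw [MulAut.conjNormal_apply] at h1
      rw [← QuotientGroup.eq_one_iff]
      show π (x * m0 * x⁻¹ * m0⁻¹) = 1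
      rw [map_mul, map_mul, map_mul, map_inv, map_inv, h1, mul_inv_cancel]
    haveI := hPn
    have hm0C : m0 ∈ centMod L Pp := by
      intro x hx
      obtain ⟨m, hm, h, hh, rfl⟩ := hMH x
      have hMP : M ≤ Pp := fun y hy => ⟨hMA hy, 0, by simpa using hy⟩
      have hhP : h ∈ Pp := by simpa using Pp.mul_mem (Pp.inv_mem (hMP hm)) hx
      have h1 := L.inv_mem (hPH h hhP hh)
      have h2 := hab m0 hm0 m hm
      have e : m0 * (m * h) * m0⁻¹ * (m * h)⁻¹ =
          (m0 * m * m0⁻¹ * m⁻¹) * (m * (h * m0 * h⁻¹ * m0⁻¹)⁻¹ * m⁻¹) := by group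
      rw [e]
      exact L.mul_mem h2 ((inferInstance : L.Normal).conj_mem _ h1 m)
    rcases hchief (centMod L Pp ⊓ M) inferInstance
      (le_inf (fun l hl x hx => by
        rw [show l * x * l⁻¹ * x⁻¹ = l * (x * l⁻¹ * x⁻¹) by group]
        exact L.mul_mem hl ((inferInstance : L.Normal).conj_mem _ (L.inv_mem hl) x)) hLM.le) inf_le_right with h | h
    · refine absurd (Subtype.ext (Subtype.ext ?_)) hm0ne
      exact (QuotientGroup.eq_one_iff m0).mpr (h ▸ Subgroup.mem_inf.mpr ⟨hm0C, hm0⟩)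
    · refine hfaith a haH fun m hm => ?_
      have hm' : m ∈ centMod L Pp := (by rw [h]; exact hm : m ∈ centMod L Pp ⊓ M).1
      have h1 := L.inv_mem (hm' a ⟨ha, 1, by simpa using hLM.le hap⟩)
      simpa [mul_assoc] using h1
  -- the contradiction
  have hnd := not_pow_dvd_relIndex hLM hLH hMH hcap hab hexp hfaith A hMA hAab hC hp'
  apply hnd
  have hsM : Group.IsSolvable (G ⧸ M) := by
    haveI := hsL
    refine Group.isSolvable_of_surjective (f := QuotientGroup.map L M (MonoidHom.id G)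
      (by simpa using hLM.le)) ?_
    intro x
    obtain ⟨g, rfl⟩ := QuotientGroup.mk_surjective x
    exact ⟨QuotientGroup.mk g, rfl⟩
  have hd := sq_dvd_index_of_qp hχ M.index M le_rfl hsM (hqp.mono (hL0L.trans hLM.le)) hψ hψe
  rw [he', mul_pow] at hd
  have hMi : M.index = L.relIndex H := by
    rw [← Subgroup.relIndex_top_right, ← hsup, sup_comm, Subgroup.relIndex_sup_right,
      ← Subgroup.inf_relIndex_right, hcap]
  rw [← hMi, ← hq]
  exact dvd_trans (dvd_mul_left _ _) hd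


/-- A character inducing an irreducible character is irreducible. -/
theorem isIrr_of_isIrr_indFun (H : Subgroup G) {θ : H → ℂ} (hθ : IsCharacter H θ)
    (hi : IsIrrCharacter G (indFun H θ)) : IsIrrCharacter H θ := by
  classical
  haveI := Fintype.ofFinite H
  have hθ0 : θ ≠ 0 := fun h => irr_one_ne_zero hi (by rw [h, indFun_zero]; rfl)
  obtain ⟨ν, hν⟩ := exists_constituent hθ hθ0
  have hγ : IsCharacter H (θ - (ν : H → ℂ)) := by
    have hm : 1 ≤ mult θ (ν : H → ℂ) := Nat.one_le_iff_ne_zero.mpr fun h => hν (by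
      rw [mult_spec hθ (isCharacter_of_isIrr ν.2), h, Nat.cast_zero])
    simpa using isCharacter_sub_constituent hθ ν.2 hm
  have hνG := isCharacter_indFun H (isCharacter_of_isIrr ν.2)
  have hne : indFun H (ν : H → ℂ) ≠ 0 := fun h => by
    have h1 := congrFun h 1
    rw [indFun_one_eval, Pi.zero_apply] at h1
    exact mul_ne_zero (Nat.cast_ne_zero.mpr Subgroup.index_ne_zero_of_finite)
      (irr_one_ne_zero ν.2) h1
  obtain ⟨η, hη⟩ := exists_constituent hνG hne
  have hηeq : (η : G → ℂ) = indFun H θ := by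
    by_contra hne'
    have h0 := irr_inner_of_ne hi η.2 (Ne.symm hne')
    have e : indFun H θ = indFun H (ν : H → ℂ) + indFun H (θ - (ν : H → ℂ)) := by
      rw [← indFun_add, add_sub_cancel]
    rw [e, classInner_add_left, mult_spec hνG (isCharacter_of_isIrr η.2),
      mult_spec (isCharacter_indFun H hγ) (isCharacter_of_isIrr η.2)] at h0
    have h0' : mult (indFun H (ν : H → ℂ)) η + mult (indFun H (θ - (ν : H → ℂ))) η = 0 := by
      exact_mod_cast h0
    exact hη (by rw [mult_spec hνG (isCharacter_of_isIrr η.2), (Nat.add_eq_zero_iff.mp h0').1,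
      Nat.cast_zero])
  have hle : deg (η : G → ℂ) ≤ deg (indFun H (ν : H → ℂ)) := by
    refine le_trans (Nat.le_mul_of_pos_left _ (Nat.pos_of_ne_zero fun h => hη ?_))
      (constituent_deg_le hνG η)
    rw [mult_spec hνG (isCharacter_of_isIrr η.2), h, Nat.cast_zero]
  have hd : ∀ θ' : H → ℂ, IsCharacter H θ' → deg (indFun H θ') = H.index * deg θ' := by
    intro θ' h'
    have h := deg_eq (isCharacter_indFun H h')
    rw [indFun_one_eval, deg_eq h'] at h
    exact_mod_cast h.symm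
  rw [hηeq, hd _ hθ, hd _ (isCharacter_of_isIrr ν.2)] at hle
  rw [eq_of_deg_le hθ ν.2 hν (Nat.le_of_mul_le_mul_left hle
    (Nat.pos_of_ne_zero Subgroup.index_ne_zero_of_finite))]
  exact ν.2

end Cfsg.Agent.CT
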