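import Cfsg.Agent.Lib.CT.Kernel
import Cfsg.Agent.Lib.CT.Brauer
import Cfsg.Agent.Lib.OddChar.GaloisChar

/-!
# Abelian subgroups of finite linear groups: the theorem of Blichfeldt on Hall subgroups
-/

set_option autoImplicit false

namespace Cfsg.Agent.CT.Blichfeldt

open scoped ComplexConjugate
open Representation Module

universe u

variable {G : Type u} [Group G] [Finite G]

/-- An abelian subgroup is a Hall subgroup for the primes greater than `n + 1`. -/
def HasHall (G : Type u) [Group G] (n : ℕ) : Prop :=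
  ∃ A : Subgroup G, (∀ x ∈ A, ∀ y ∈ A, x * y = y * x) ∧
    (∀ q : ℕ, q.Prime → q ∣ Nat.card A → n + 1 < q) ∧
    ∀ q : ℕ, q.Prime → q ∣ A.index → q ≤ n + 1

theorem hasHall_of_subgroup {n : ℕ} (H : Subgroup G)
    (hH : ∀ q : ℕ, q.Prime → q ∣ H.index → q ≤ n + 1) (h : HasHall H n) : HasHall G n := by
  obtain ⟨A, h1, h2, h3⟩ := h
  refine ⟨A.map H.subtype, ?_, ?_, ?_⟩
  · rintro x ⟨a, ha, rfl⟩ y ⟨b, hb, rfl⟩
    rw [← map_mul, ← map_mul, h1 a ha b hb]
  · intro q hq hd
    rw [Subgroup.card_map_of_injective H.subtype_injective] at hd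
    exact h2 q hq hd
  · intro q hq hd
    rw [Subgroup.index_map_of_injective _ H.subtype_injective, H.range_subtype] at hd
    rcases hq.dvd_mul.mp hd with h | h
    · exact h3 q hq h
    · exact hH q hq h

theorem eq_one_of_forall_constituent [Fintype G] {χ : G → ℂ} (hχ : IsCharacter G χ)
    (hfaith : ∀ g : G, χ g = χ 1 → g = 1) {g : G}
    (hg : ∀ ξ : IrrCharacter G, mult χ (ξ : G → ℂ) ≠ 0 → g ∈ kerChar (ξ : G → ℂ)) : g = 1 := by
  classical
  refine hfaith g ?_
  rw [character_eq_sum hχ]
  simp only [Finset.sum_apply, Pi.smul_apply]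
  refine Finset.sum_congr rfl fun ξ _ => ?_
  rcases eq_or_ne (mult χ (ξ : G → ℂ)) 0 with h | h
  · simp [h]
  · rw [(mem_kerChar_iff (isCharacter_of_isIrr ξ.2)).mp (hg ξ h)]

theorem kerChar_normal {χ : G → ℂ} (hχ : IsCharacter G χ) : (kerChar χ).Normal :=
  ⟨fun a ha g => by
    rw [mem_kerChar_iff hχ] at ha ⊢
    rw [isClassFunction_of_isCharacter hχ a g, ha]⟩

theorem deg_constituent_le [Fintype G] {χ : G → ℂ} (hχ : IsCharacter G χ) (ξ : IrrCharacter G)
    (hm : mult χ (ξ : G → ℂ) ≠ 0) : deg (ξ : G → ℂ) ≤ deg χ := by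
  exact le_trans (Nat.le_mul_of_pos_left _ (Nat.pos_of_ne_zero hm)) (constituent_deg_le hχ ξ)

/-- A `p`-subgroup of a linear group of degree `n` has an abelian subgroup of index dividing
`n!`. -/
theorem exists_abelian_index_dvd {χ : G → ℂ} (hχ : IsCharacter G χ)
    (hfaith : ∀ g : G, χ g = χ 1 → g = 1) {p : ℕ} [Fact p.Prime] (hG : IsPGroup p G) {n : ℕ}
    (hn : deg χ ≤ n) :
    ∃ H : Subgroup G, (∀ x ∈ H, ∀ y ∈ H, x * y = y * x) ∧ H.index ∣ n.factorial := by
  classical
  haveI := Fintype.ofFinite G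
  haveI : Group.IsNilpotent G := hG.isNilpotent
  have hmon := fun ξ : IrrCharacter G => nilpotent_monomial ξ.2
  choose K lam hlam using hmon
  have hdeg : ∀ ξ : IrrCharacter G, deg (ξ : G → ℂ) = (K ξ).index := fun ξ => by
    have h := deg_eq (isCharacter_of_isIrr ξ.2)
    rw [congrFun (hlam ξ) 1, indFun_one_eval, map_one, Units.val_one, mul_one] at h
    exact_mod_cast h.symm
  let S := {ξ : IrrCharacter G // mult χ (ξ : G → ℂ) ≠ 0}
  let Y := Σ ξ : S, G ⧸ K ξ.1
  let φ : G →* Equiv.Perm Y :=
    { toFun := fun g => Equiv.sigmaCongrRight fun ξ => MulAction.toPermHom G (G ⧸ K ξ.1) g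
      map_one' := Equiv.ext fun x => by simp
      map_mul' := fun a b => Equiv.ext fun x => by
        obtain ⟨ξ, x⟩ := x
        simp [MulAction.toPermHom_apply, mul_smul] }
  refine ⟨φ.ker, fun a ha b hb => ?_, ?_⟩
  · suffices a * b * a⁻¹ * b⁻¹ = 1 by
      calc a * b = (a * b * a⁻¹ * b⁻¹) * (b * a) := by group
        _ = b * a := by rw [this, one_mul]
    refine eq_one_of_forall_constituent hχ hfaith fun ξ hm => ?_
    have hmem : ∀ c ∈ φ.ker, ∀ x : G, x⁻¹ * c * x ∈ K ξ := by
      intro c hc x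
      have h := DFunLike.congr_fun (MonoidHom.mem_ker.mp hc)
        (⟨⟨ξ, hm⟩, QuotientGroup.mk x⟩ : Y)
      have h' : (QuotientGroup.mk (c * x) : G ⧸ K ξ) = QuotientGroup.mk x :=
        eq_of_heq (Sigma.mk.inj h).2
      replace h := QuotientGroup.eq.mp h'.symm
      simpa [mul_assoc] using h
    rw [mem_kerChar_iff (isCharacter_of_isIrr ξ.2), hlam ξ]
    simp only [indFun]
    congr 1
    refine Finset.sum_congr rfl fun x _ => ?_
    have e : x⁻¹ * (a * b * a⁻¹ * b⁻¹) * x =
        ((⟨_, hmem a ha x⟩ : K ξ) * ⟨_, hmem b hb x⟩ * (⟨_, hmem a ha x⟩ : K ξ)⁻¹ *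
          (⟨_, hmem b hb x⟩ : K ξ)⁻¹ : K ξ) := by
      simp only [Subgroup.coe_mul, Subgroup.coe_inv]
      group
    rw [e, extendByZero_coe, show x⁻¹ * 1 * x = ((1 : K ξ) : G) by simp, extendByZero_coe]
    congr 1
    simp only [map_mul, map_inv, map_one]
    rw [mul_comm (lam ξ _) (lam ξ _), mul_inv_cancel_right, mul_inv_cancel]
  · rw [Subgroup.index_ker]
    refine (Subgroup.card_subgroup_dvd_card φ.range).trans ?_
    rw [Nat.card_perm, Nat.card_sigma]
    refine Nat.factorial_dvd_factorial ?_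
    calc ∑ ξ : S, Nat.card (G ⧸ K ξ.1) = ∑ ξ : S, deg (ξ.1 : G → ℂ) :=
          Finset.sum_congr rfl fun ξ _ => by rw [hdeg]; rfl
      _ ≤ ∑ ξ : S, mult χ (ξ.1 : G → ℂ) * deg (ξ.1 : G → ℂ) :=
          Finset.sum_le_sum fun ξ _ => Nat.le_mul_of_pos_left _ (Nat.pos_of_ne_zero ξ.2)
      _ ≤ ∑ ξ : IrrCharacter G, mult χ (ξ : G → ℂ) * deg (ξ : G → ℂ) := by
          refine le_trans (Eq.le ?_) (Finset.sum_le_sum_of_subset (Finset.subset_univ
            ((Finset.univ : Finset S).map (Function.Embedding.subtype _))))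
          rw [Finset.sum_map]
          rfl
      _ = deg χ := by
          have h := congrFun (character_eq_sum hχ) 1
          rw [deg_eq hχ, Finset.sum_apply] at h
          simp only [Pi.smul_apply, smul_eq_mul] at h
          rw [Finset.sum_congr rfl fun c _ => by rw [deg_eq (isCharacter_of_isIrr c.2)]] at h
          exact_mod_cast h.symm
      _ ≤ n := hn

theorem sylow_comm {χ : G → ℂ} (hχ : IsCharacter G χ) (hfaith : ∀ g : G, χ g = χ 1 → g = 1)
    {n : ℕ} (hn : deg χ ≤ n) {p : ℕ} [Fact p.Prime] (hp : n < p) {P : Subgroup G}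
    (hP : IsPGroup p P) : ∀ x ∈ P, ∀ y ∈ P, x * y = y * x := by
  haveI := Fintype.ofFinite P
  have hdeg : deg (fun h : P => χ h) = deg χ := by
    have h1 := deg_eq (isCharacter_restrict P hχ)
    simp only [OneMemClass.coe_one, deg_eq hχ] at h1
    exact_mod_cast h1.symm
  obtain ⟨H, hc, hd⟩ := exists_abelian_index_dvd (isCharacter_restrict P hχ)
    (fun g hg => Subtype.ext (hfaith g (by simpa using hg))) hP (hdeg.trans_le hn)
  have htop : H = ⊤ := by
    rw [← Subgroup.index_eq_one]
    obtain ⟨k, hk⟩ := hP.exists_card_eq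
    obtain ⟨i, -, hi⟩ := (Nat.dvd_prime_pow (Fact.out : p.Prime)).mp (hk ▸ H.index_dvd_card)
    rcases Nat.eq_zero_or_pos i with rfl | hpos
    · simpa using hi
    · exfalso
      have : p ∣ n.factorial := (dvd_pow_self p hpos.ne').trans (hi ▸ hd)
      exact absurd ((Nat.Prime.dvd_factorial Fact.out).mp this) (not_le.mpr hp)
  intro x hx y hy
  exact congrArg Subtype.val
    (hc ⟨x, hx⟩ (htop ▸ Subgroup.mem_top _) ⟨y, hy⟩ (htop ▸ Subgroup.mem_top _))

/-- No nontrivial `p`-element has a rational value at a faithful character of degree below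
`p - 1`. -/
theorem false_of_rational {χ : G → ℂ} (hχ : IsCharacter G χ)
    (hfaith : ∀ g : G, χ g = χ 1 → g = 1) {n p : ℕ} [hp : Fact p.Prime] (hn : deg χ ≤ n)
    (hnp : n + 1 < p) {x : G} (hx : orderOf x = p)
    (hrat : ∀ j : ℕ, ¬ p ∣ j → χ (x ^ j) = χ x) : False := by
  classical
  haveI := Fintype.ofFinite G
  haveI := Fintype.ofFinite (Subgroup.zpowers x)
  set H := Subgroup.zpowers x
  have hcard : Nat.card H = p := by rw [Nat.card_zpowers, hx]
  obtain ⟨m, hm⟩ := classInner_character_nat (isCharacter_restrict H hχ) (isCharacter_one (G := H))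
  have hval : ∀ h : H, h ≠ 1 → χ h = χ x := by
    rintro ⟨h, hh⟩ hne
    obtain ⟨j, rfl⟩ := (isOfFinOrder_of_finite x).mem_powers_iff_mem_zpowers.mpr hh
    refine hrat j fun hd => hne (Subtype.ext ?_)
    exact orderOf_dvd_iff_pow_eq_one.mp (hx ▸ hd)
  have hsum : ∑ h : H, χ (h : G) = (p : ℂ) * m := by
    rw [classInner, hcard] at hm
    rw [← hm, ← mul_assoc, mul_inv_cancel₀ (Nat.cast_ne_zero.mpr hp.out.ne_zero), one_mul]
    simp
  rw [← Finset.add_sum_erase _ _ (Finset.mem_univ (1 : H))] at hsum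
  rw [Finset.sum_congr rfl fun h hh => hval h (Finset.ne_of_mem_erase hh), Finset.sum_const,
    Finset.card_erase_of_mem (Finset.mem_univ _), Finset.card_univ, ← Nat.card_eq_fintype_card,
    hcard, nsmul_eq_mul, OneMemClass.coe_one, deg_eq hχ] at hsum
  push_cast [Nat.cast_sub hp.out.one_le] at hsum
  have hp1 : (p : ℂ) - 1 ≠ 0 := sub_ne_zero.mpr (by exact_mod_cast hp.out.one_lt.ne')
  set q : ℚ := ((p : ℚ) * m - deg χ) / ((p : ℚ) - 1) with hq
  have hqv : χ x = (q : ℂ) := by
    rw [hq]; push_cast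
    rw [eq_div_iff hp1]
    linear_combination hsum
  have hint : IsIntegral ℤ q := by
    rw [← isIntegral_algebraMap_iff (A := ℚ) (B := ℂ) (algebraMap ℚ ℂ).injective]
    simpa [← hqv] using isIntegral_isCharacter hχ x
  obtain ⟨v, hv⟩ := IsIntegrallyClosed.isIntegral_iff.mp hint
  have hxv : χ x = (v : ℂ) := by rw [hqv, ← hv]; simp
  rw [hxv] at hsum
  have hz : (deg χ : ℤ) + ((p : ℤ) - 1) * v = (p : ℤ) * m := by exact_mod_cast hsum
  have hle : v ≤ (deg χ : ℤ) := by
    have h1 := norm_isCharacter_le hχ x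
    rw [hxv, deg_eq hχ, Complex.norm_intCast, Complex.natCast_re] at h1
    have h2 : |v| ≤ (deg χ : ℤ) := by exact_mod_cast h1
    exact (abs_le.mp h2).2
  have hne : v ≠ (deg χ : ℤ) := fun e => by
    have := hfaith x (by rw [hxv, e, deg_eq hχ]; simp)
    rw [this, orderOf_one] at hx
    exact hp.out.one_lt.ne hx
  have hv0 : 0 ≤ v := by
    by_contra hv0
    nlinarith [Int.natCast_nonneg m, Int.natCast_nonneg p]
  have hd : (p : ℤ) ∣ (deg χ : ℤ) - v := ⟨(m : ℤ) - v, by linear_combination hz⟩
  have := Int.le_of_dvd (by omega) hd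
  omega

/-- If no element has order `p * q`, an irreducible faithful character is rational on the
`p`-elements or on the `q`-elements; hence such elements exist for large primes. -/
theorem exists_commuting_pair {χ : G → ℂ} (hχ : IsIrrCharacter G χ)
    (hfaith : ∀ g : G, χ g = χ 1 → g = 1) {n p q : ℕ} [hp : Fact p.Prime] [hq : Fact q.Prime]
    (hn : deg χ ≤ n) (hpn : n + 1 < p) (hqn : n + 1 < q) (hpG : p ∣ Nat.card G)
    (hqG : q ∣ Nat.card G) :
    ∃ x y : G, orderOf x = p ∧ orderOf y = q ∧ x * y = y * x := by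
  classical
  haveI := Fintype.ofFinite G
  by_contra hno
  have hreg : ∀ g : G, ¬ p ∣ orderOf g ∨ ¬ q ∣ orderOf g := by
    intro g
    by_contra h
    push_neg at h
    exact hno ⟨_, _, orderOf_pow_orderOf_div (orderOf_pos g).ne' h.1,
      orderOf_pow_orderOf_div (orderOf_pos g).ne' h.2, (Commute.pow_pow_self g _ _).eq⟩
  -- a Galois twist fixing the elements of order prime to `r`
  have twist : ∀ (r : ℕ) [Fact r.Prime], ∀ j : ℕ, ¬ r ∣ j → r ∣ Nat.card G →
      ∃ k : ℕ, k.Coprime (Nat.card G) ∧ (∀ g : G, ¬ r ∣ orderOf g → g ^ k = g) ∧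
        ∀ x : G, orderOf x = r → x ^ k = x ^ j := by
    intro r hr j hj hrG
    set c := Nat.card G with hc
    have hc0 : c ≠ 0 := Nat.card_pos.ne'
    have hco : (r ^ c.factorization r).Coprime (c / r ^ c.factorization r) :=
      (Nat.coprime_ordCompl hr.out hc0).pow_left _
    obtain ⟨k, hk1, hk2⟩ := Nat.chineseRemainder hco j 1
    have hrpos : 0 < c.factorization r := hr.out.factorization_pos_of_dvd hc0 hrG
    have hkj : k ≡ j [MOD r] := hk1.of_dvd (dvd_pow_self r hrpos.ne')
    refine ⟨k, ?_, ?_, ?_⟩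
    · rw [← Nat.ordProj_mul_ordCompl_eq_self c r]
      refine Nat.Coprime.mul_right ?_ ?_
      · refine Nat.Coprime.pow_right _ (Nat.Coprime.symm ?_)
        exact hr.out.coprime_iff_not_dvd.mpr fun h => hj
          ((hkj.dvd_iff dvd_rfl).mp h)
      · rw [Nat.Coprime, Nat.ModEq.gcd_eq hk2, Nat.gcd_one_left]
    · intro g hg
      have hdvd : orderOf g ∣ c / r ^ c.factorization r := by
        have h1 : orderOf g ∣ r ^ c.factorization r * (c / r ^ c.factorization r) := by
          rw [Nat.ordProj_mul_ordCompl_eq_self]; exact orderOf_dvd_natCard g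
        exact (Nat.Coprime.pow_right _
          ((hr.out.coprime_iff_not_dvd.mpr hg).symm)).dvd_of_dvd_mul_left h1
      conv_rhs => rw [← pow_one g]
      exact pow_eq_pow_iff_modEq.mpr (hk2.of_dvd hdvd)
    · intro x hx
      exact pow_eq_pow_iff_modEq.mpr (hx ▸ hkj)
  have hc := isCharacter_of_isIrr hχ
  obtain ⟨x, hx⟩ := exists_prime_orderOf_dvd_card' p hpG
  obtain ⟨y, hy⟩ := exists_prime_orderOf_dvd_card' q hqG
  obtain ⟨j, hj, hjne⟩ : ∃ j, ¬ p ∣ j ∧ χ (x ^ j) ≠ χ x := by
    by_contra h
    push_neg at h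
    exact false_of_rational hc hfaith hn hpn hx h
  obtain ⟨i, hi, hine⟩ : ∃ i, ¬ q ∣ i ∧ χ (y ^ i) ≠ χ y := by
    by_contra h
    push_neg at h
    exact false_of_rational hc hfaith hn hqn hy h
  obtain ⟨k, hk, hkfix, hkx⟩ := twist p j hj hpG
  obtain ⟨l, hl, hlfix, hly⟩ := twist q i hi hqG
  set a : G → ℂ := fun g => χ (g ^ k)
  set b : G → ℂ := fun g => χ (g ^ l)
  have ha : IsIrrCharacter G a := OddChar.isIrr_map_pow hχ hk
  have hb : IsIrrCharacter G b := OddChar.isIrr_map_pow hχ hl
  have hane : a ≠ χ := fun e => hjne (by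
    have := congrFun e x
    simp only [a, hkx x hx] at this
    exact this)
  have hbne : b ≠ χ := fun e => hine (by
    have := congrFun e y
    simp only [b, hly y hy] at this
    exact this)
  have h0 : classInner (a - χ) (b - χ) = 0 := by
    rw [classInner, Finset.sum_eq_zero, mul_zero]
    intro g _
    rcases hreg g with h | h
    · simp [a, hkfix g h]
    · simp [b, hlfix g h]
  rw [classInner_sub_left, classInner_sub_right, classInner_sub_right, irr_inner_self hχ,
    irr_inner_of_ne ha hχ hane, irr_inner_of_ne hχ hb hbne.symm, sub_zero, zero_sub,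
    sub_neg_eq_add] at h0
  obtain ⟨m, hm⟩ := classInner_character_nat (isCharacter_of_isIrr ha) (isCharacter_of_isIrr hb)
  rw [hm] at h0
  exact Nat.succ_ne_zero m (by exact_mod_cast h0)

/-- A subgroup that commutes elementwise and has index prime to `p` contains a full Sylow
subgroup. -/
theorem exists_sylow_le {p : ℕ} [Fact p.Prime] (B : Subgroup G) (hB : ¬ p ∣ B.index) :
    ∃ P : Sylow p G, (P : Subgroup G) ≤ B := by
  obtain ⟨S⟩ := (inferInstance : Nonempty (Sylow p B))
  have h1 : IsPGroup p ((S : Subgroup B).map B.subtype) := S.isPGroup'.map _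
  have h2 : ¬ p ∣ ((S : Subgroup B).map B.subtype).index := by
    rw [Subgroup.index_map_of_injective _ B.subtype_injective, B.range_subtype]
    exact (Fact.out : p.Prime).not_dvd_mul S.not_dvd_index hB
  exact ⟨h1.toSylow h2, Subgroup.map_subtype_le _⟩

theorem exists_sylow_mem {p : ℕ} [Fact p.Prime] {x : G} (hx : orderOf x = p) :
    ∃ P : Sylow p G, x ∈ P := by
  obtain ⟨P, hP⟩ := IsPGroup.exists_le_sylow
    (IsPGroup.of_card (n := 1) (by rw [Nat.card_zpowers, hx, pow_one]) :
      IsPGroup p (Subgroup.zpowers x))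
  exact ⟨P, hP (Subgroup.mem_zpowers x)⟩

/-- The theorem of Blichfeldt. -/
theorem hasHall_of_faithful : ∀ (N : ℕ) (G : Type u) [Group G] [Finite G] (χ : G → ℂ) (n : ℕ),
    Nat.card G + deg χ ≤ N → IsCharacter G χ → (∀ g : G, χ g = χ 1 → g = 1) → deg χ ≤ n →
      HasHall G n := by
  intro N
  induction N using Nat.strong_induction_on with
  | _ N ih =>
  intro G _ _ χ n hN hχ hfaith hn
  classical
  haveI := Fintype.ofFinite G
  -- proper subgroups
  have hsub : ∀ H : Subgroup G, H ≠ ⊤ → HasHall H n := by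
    intro H hH
    have hdeg : deg (fun h : H => χ h) = deg χ := by
      have h1 := deg_eq (isCharacter_restrict H hχ)
      simp only [OneMemClass.coe_one, deg_eq hχ] at h1
      exact_mod_cast h1.symm
    have hlt : Nat.card H < Nat.card G :=
      lt_of_le_of_ne (Nat.le_of_dvd Nat.card_pos H.card_subgroup_dvd_card)
        fun e => hH (Subgroup.eq_top_of_card_eq H e)
    exact ih _ (show Nat.card H + deg (fun h : H => χ h) < N by omega) H _ n le_rfl
      (isCharacter_restrict H hχ) (fun g hg => Subtype.ext (hfaith g (by simpa using hg)))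
      (hdeg.trans_le hn)
  -- a character with nontrivial kernel settles the question unless its quotient is an abelian
  -- group of order divisible only by large primes
  have hquot : ∀ η : G → ℂ, IsCharacter G η → deg η ≤ deg χ → kerChar η ≠ ⊥ →
      HasHall G n ∨ ((∀ a b : G, a * b * a⁻¹ * b⁻¹ ∈ kerChar η) ∧
        ∀ q : ℕ, q.Prime → q ∣ (kerChar η).index → n + 1 < q) := by
    intro η hη hdle hK
    haveI := kerChar_normal hη
    haveI := Fintype.ofFinite (G ⧸ kerChar η)
    obtain ⟨ψ, hψ, hval⟩ := exists_quotient_character hη (kerChar η)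
      fun x hx => (mem_kerChar_iff hη).mp hx
    have hψdeg : deg ψ = deg η := by
      have h1 := hval 1
      rw [QuotientGroup.mk_one, deg_eq hψ, deg_eq hη] at h1
      exact_mod_cast h1
    have hψf : ∀ c : G ⧸ kerChar η, ψ c = ψ 1 → c = 1 := by
      intro c hc
      induction c using QuotientGroup.induction_on with | _ g =>
      rw [hval, ← QuotientGroup.mk_one, hval] at hc
      exact (QuotientGroup.eq_one_iff g).mpr ((mem_kerChar_iff hη).mpr hc)
    have hlt : Nat.card (G ⧸ kerChar η) < Nat.card G := by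
      rw [← Subgroup.index_eq_card, ← Subgroup.card_mul_index (kerChar η)]
      exact lt_mul_of_one_lt_left (Nat.pos_of_ne_zero Subgroup.index_ne_zero_of_finite)
        ((Subgroup.one_lt_card_iff_ne_bot _).mpr hK)
    obtain ⟨A, h1, h2, h3⟩ := ih _
      (show Nat.card (G ⧸ kerChar η) + deg ψ < N by omega) _ ψ n le_rfl hψ hψf
      (by omega)
    by_cases hA : A.comap (QuotientGroup.mk' (kerChar η)) = ⊤
    · right
      have hAtop : A = ⊤ := by
        have := congrArg (Subgroup.map (QuotientGroup.mk' (kerChar η))) hA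
        rwa [Subgroup.map_comap_eq_self_of_surjective (QuotientGroup.mk'_surjective _),
          Subgroup.map_top_of_surjective _ (QuotientGroup.mk'_surjective _)] at this
      subst hAtop
      constructor
      · intro a b
        rw [← QuotientGroup.eq_one_iff]
        simp only [QuotientGroup.mk_mul, QuotientGroup.mk_inv]
        rw [h1 (a : G ⧸ kerChar η) (Subgroup.mem_top _) (b : G ⧸ kerChar η) (Subgroup.mem_top _)]
        group
      · intro q hq hd
        refine h2 q hq ?_
        rwa [Subgroup.card_top, ← Subgroup.index_eq_card]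
    · left
      refine hasHall_of_subgroup _ (fun q hq hd => h3 q hq ?_) (hsub _ hA)
      rwa [Subgroup.index_comap_of_surjective _ (QuotientGroup.mk'_surjective _)] at hd
  -- reducible characters
  by_cases hirr : IsIrrCharacter G χ
  swap
  · by_contra hgoal
    have hall : ∀ ξ : IrrCharacter G, mult χ (ξ : G → ℂ) ≠ 0 →
        (∀ a b : G, a * b * a⁻¹ * b⁻¹ ∈ kerChar (ξ : G → ℂ)) ∧
          ∀ q : ℕ, q.Prime → q ∣ (kerChar (ξ : G → ℂ)).index → n + 1 < q := by
      intro ξ hm
      have hle := deg_constituent_le hχ ξ hm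
      rcases eq_or_ne (kerChar (ξ : G → ℂ)) ⊥ with hK | hK
      · exfalso
        rcases lt_or_eq_of_le hle with hlt | heq
        · refine hgoal (ih _ (show Nat.card G + deg (ξ : G → ℂ) < N by omega) G _ n le_rfl
            (isCharacter_of_isIrr ξ.2) (fun g hg => ?_) (by omega))
          rw [← Subgroup.mem_bot, ← hK]
          exact (mem_kerChar_iff (isCharacter_of_isIrr ξ.2)).mpr hg
        · refine hirr ?_
          suffices χ = (ξ : G → ℂ) by rw [this]; exact ξ.2
          have h1 := constituent_deg_le hχ ξ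
          have hm1 : mult χ (ξ : G → ℂ) = 1 := by
            rw [heq] at h1
            have hpos : 0 < deg χ := heq ▸ deg_pos ξ.2
            nlinarith [Nat.pos_of_ne_zero hm]
          have hsum := congrFun (character_eq_sum hχ) 1
          rw [deg_eq hχ, Finset.sum_apply] at hsum
          simp only [Pi.smul_apply, smul_eq_mul] at hsum
          rw [Finset.sum_congr rfl fun c _ => by rw [deg_eq (isCharacter_of_isIrr c.2)]] at hsum
          have hnat : deg χ = ∑ c : IrrCharacter G, mult χ (c : G → ℂ) * deg (c : G → ℂ) := by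
            exact_mod_cast hsum
          rw [← Finset.add_sum_erase _ _ (Finset.mem_univ ξ), hm1, one_mul, heq] at hnat
          have hz : ∑ c ∈ Finset.univ.erase ξ, mult χ (c : G → ℂ) * deg (c : G → ℂ) = 0 := by
            omega
          rw [character_eq_sum hχ, Finset.sum_eq_single ξ]
          · rw [hm1, Nat.cast_one, one_smul]
          · intro c _ hc
            have := (Finset.sum_eq_zero_iff.mp hz) c (Finset.mem_erase.mpr ⟨hc, Finset.mem_univ _⟩)
            rcases Nat.mul_eq_zero.mp this with h0 | h0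
            · simp [h0]
            · exact absurd h0 (deg_pos c.2).ne'
          · exact fun h => absurd (Finset.mem_univ _) h
      · exact (hquot _ (isCharacter_of_isIrr ξ.2) hle hK).resolve_left hgoal
    refine hgoal ⟨⊤, fun a _ b _ => ?_, fun q hq hd => ?_, fun q hq hd => ?_⟩
    · have : a * b * a⁻¹ * b⁻¹ = 1 :=
        eq_one_of_forall_constituent hχ hfaith fun ξ hm => (hall ξ hm).1 a b
      calc a * b = (a * b * a⁻¹ * b⁻¹) * (b * a) := by group
        _ = b * a := by rw [this, one_mul]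
    · haveI := Fact.mk hq
      rw [Subgroup.card_top] at hd
      obtain ⟨g, hg⟩ := exists_prime_orderOf_dvd_card' q hd
      obtain ⟨ξ, hm, hgξ⟩ : ∃ ξ : IrrCharacter G, mult χ (ξ : G → ℂ) ≠ 0 ∧
          g ∉ kerChar (ξ : G → ℂ) := by
        by_contra h
        push_neg at h
        rw [eq_one_of_forall_constituent hχ hfaith h, orderOf_one] at hg
        exact hq.one_lt.ne hg
      refine (hall ξ hm).2 q hq ?_
      haveI := kerChar_normal (isCharacter_of_isIrr ξ.2)
      rw [Subgroup.index_eq_card]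
      have hne : (QuotientGroup.mk g : G ⧸ kerChar (ξ : G → ℂ)) ≠ 1 :=
        fun e => hgξ ((QuotientGroup.eq_one_iff g).mp e)
      have ho : orderOf (QuotientGroup.mk g : G ⧸ kerChar (ξ : G → ℂ)) = q :=
        orderOf_eq_prime (by rw [← QuotientGroup.mk_pow, ← hg, pow_orderOf_eq_one,
          QuotientGroup.mk_one]) hne
      exact ho ▸ orderOf_dvd_natCard _
    · rw [Subgroup.index_top] at hd
      exact absurd hd hq.not_dvd_one
  obtain ⟨d, ρ, hρ, hρc⟩ := id hirr
  have hd : deg χ = d := by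
    rw [← hρc, deg_eq_finrank]; simp
  -- central elements of large prime order
  by_cases hZ : ∃ z ∈ Subgroup.center G, ∃ q : ℕ, q.Prime ∧ n + 1 < q ∧ orderOf z = q
  · obtain ⟨z, hz, q, hq, hqn, hzo⟩ := hZ
    haveI := Fact.mk hq
    haveI := hρ
    have hd0 : 0 < d := hd ▸ deg_pos hirr
    set ω : ℂ := LinearMap.trace ℂ _ (ρ z) / (finrank ℂ (Fin d → ℂ) : ℂ) with hω
    have hscal : ρ z = ω • LinearMap.id := eq_scalar_of_commute ρ (ρ z) fun g => by
      rw [← map_mul, ← map_mul, Subgroup.mem_center_iff.mp hz g]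
    have hω1 : ω ≠ 1 := by
      intro e
      rw [e, one_smul] at hscal
      have := hfaith z (by rw [← hρc]; exact (rep_eq_one_iff ρ z).mp hscal)
      rw [this, orderOf_one] at hzo
      exact hq.one_lt.ne hzo
    have hωq : ω ^ q = 1 := by
      have h1 : ρ (z ^ q) = 1 := by rw [← hzo, pow_orderOf_eq_one, map_one]
      rw [map_pow, hscal, smul_pow, ← Module.End.one_eq_id, one_pow] at h1
      obtain ⟨v, hv⟩ : ∃ v : Fin d → ℂ, v ≠ 0 := ⟨fun _ => 1, fun e =>
        one_ne_zero (congrFun e ⟨0, hd0⟩)⟩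
      have h2 := LinearMap.congr_fun h1 v
      simp only [LinearMap.smul_apply, Module.End.one_apply] at h2
      exact smul_left_injective ℂ hv (h2.trans (one_smul ℂ v).symm)
    let lam : G →* ℂˣ := ((LinearMap.det : Module.End ℂ (Fin d → ℂ) →* ℂ).comp ρ).toHomUnits
    set c := Nat.card G with hc
    have hc0 : c ≠ 0 := Nat.card_pos.ne'
    set m := c / q ^ c.factorization q with hm
    have hcop : (d * m).Coprime q := by
      refine Nat.Coprime.mul_left ?_ (Nat.coprime_ordCompl hq hc0).symm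
      exact (hq.coprime_iff_not_dvd.mpr fun h => absurd (Nat.le_of_dvd hd0 h) (by omega)).symm
    obtain ⟨e, he⟩ : ∃ e, d * m * e ≡ 1 [MOD q] := by
      obtain ⟨e, -, he⟩ := Nat.exists_mul_mod_eq_one_of_coprime hcop hq.one_lt
      exact ⟨e, by rw [Nat.ModEq, he, Nat.one_mod_eq_one.mpr hq.one_lt.ne']⟩
    let μ : G →* ℂˣ := lam ^ (m * e)
    have hμq : ∀ g : G, μ g ^ q ^ c.factorization q = 1 := by
      intro g
      simp only [μ, MonoidHom.pow_apply, ← pow_mul]
      have : m * e * q ^ c.factorization q = c * e := by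
        rw [mul_right_comm, mul_comm m, hm, Nat.ordProj_mul_ordCompl_eq_self]
      rw [this, ← map_pow, pow_mul, pow_card_eq_one', one_pow, map_one]
    have hμz : (μ z : ℂ) = ω := by
      have h1 : (lam z : ℂ) = ω ^ d := by
        show LinearMap.det (ρ z) = _
        rw [hscal, LinearMap.det_smul, LinearMap.det_id, mul_one]
        simp
      simp only [μ, MonoidHom.pow_apply, Units.val_pow_eq_pow_val, h1, ← pow_mul]
      rw [← mul_assoc, pow_eq_pow_mod _ hωq, he, Nat.one_mod_eq_one.mpr hq.one_lt.ne', pow_one]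
    let ρ' : Representation ℂ G (Fin d → ℂ) :=
      { toFun := fun g => ((μ g)⁻¹ : ℂˣ).val • ρ g
        map_one' := by simp
        map_mul' := fun a b => by
          simp only [map_mul, mul_inv_rev, Units.val_mul, smul_mul_smul_comm]
          rw [mul_comm] }
    have hK : kerChar ρ'.character ≠ ⊥ := by
      intro h
      have hz1 : ρ' z = 1 := by
        show ((μ z)⁻¹ : ℂˣ).val • ρ z = 1
        rw [hscal, smul_smul, ← hμz, ← Units.val_mul, inv_mul_cancel, Units.val_one, one_smul]
        rfl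
      have := mem_kerChar_of_rep ρ' hz1
      rw [h, Subgroup.mem_bot] at this
      rw [this, orderOf_one] at hzo
      exact hq.one_lt.ne hzo
    have hρ'irr : IsIrrCharacter G ρ'.character := by
      have : ρ'.IsIrreducible := by
        obtain ⟨hV, hW⟩ := (isIrreducible_iff ρ).mp hρ
        refine (isIrreducible_iff _).mpr ⟨hV, fun W hW' => hW W fun g v hv => ?_⟩
        have h1 := W.smul_mem (μ g : ℂ) (hW' g v hv)
        simp only [ρ', MonoidHom.coe_mk, OneHom.coe_mk, LinearMap.smul_apply, smul_smul] at h1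
        rwa [← Units.val_mul, mul_inv_cancel, Units.val_one, one_smul] at h1
      exact isIrrCharacter_character ρ'
    have hdeg' : deg ρ'.character = deg χ := by rw [deg_eq_finrank, hd]; simp
    rcases hquot ρ'.character (isCharacter_character ρ') hdeg'.le hK with h | ⟨hab, hidx⟩
    · exact h
    -- the quotient is abelian: the character is linear
    haveI := kerChar_normal (isCharacter_character ρ')
    obtain ⟨ψ, hψ, hval⟩ := exists_quotient_irr hρ'irr (kerChar ρ'.character)
      fun x hx => (mem_kerChar_iff (isCharacter_character ρ')).mp hx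
    haveI := Fintype.ofFinite (G ⧸ kerChar ρ'.character)
    have hψ1 : ψ 1 = 1 := irr_degree_one_of_comm (fun a b => by
      induction a using QuotientGroup.induction_on with | _ a =>
      induction b using QuotientGroup.induction_on with | _ b =>
      rw [← QuotientGroup.mk_mul, ← QuotientGroup.mk_mul, QuotientGroup.eq_iff_div_mem]
      simpa [div_eq_mul_inv, mul_assoc] using hab a b) hψ
    have hχ1 : χ 1 = 1 := by
      rw [← QuotientGroup.mk_one, hval, Representation.char_one] at hψ1
      rw [← hρc, Representation.char_one, hψ1]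
    obtain ⟨l, hl⟩ := exists_hom_of_degree_one hχ hχ1
    have hinj : Function.Injective l := fun a b hab' => by
      refine inv_mul_eq_one.mp (hfaith _ ?_)
      rw [hl]
      simp [hab']
    refine ⟨⊤, fun a _ b _ => hinj (by simp [mul_comm]), fun r hr hdvd => ?_, fun r hr hdvd => ?_⟩
    · rw [Subgroup.card_top, ← Subgroup.card_mul_index (kerChar ρ'.character)] at hdvd
      rcases hr.dvd_mul.mp hdvd with h | h
      · haveI := Fact.mk hr
        obtain ⟨g, hg⟩ := exists_prime_orderOf_dvd_card' r h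
        have h1 : ρ' (g : G) = 1 :=
          (rep_eq_one_iff ρ' _).mpr ((mem_kerChar_iff (isCharacter_character ρ')).mp g.2)
        have h2 : ρ (g : G) = ((μ g : ℂˣ) : ℂ) • 1 := by
          rw [← h1]
          show _ = (μ g : ℂ) • (((μ g)⁻¹ : ℂˣ).val • ρ g)
          rw [smul_smul, ← Units.val_mul, mul_inv_cancel, Units.val_one, one_smul]
        have h3 : ρ ((g : G) ^ q ^ c.factorization q) = 1 := by
          rw [map_pow, h2, smul_pow, one_pow, ← Units.val_pow_eq_pow_val, hμq, Units.val_one,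
            one_smul]
        have h4 : (g : G) ^ q ^ c.factorization q = 1 :=
          hfaith _ (by rw [← hρc]; exact (rep_eq_one_iff ρ _).mp h3)
        rw [← Subgroup.orderOf_coe] at hg
        have h5 : r ∣ q ^ c.factorization q := hg ▸ orderOf_dvd_of_pow_eq_one h4
        rw [(Nat.prime_dvd_prime_iff_eq hr hq).mp (hr.dvd_of_dvd_pow h5)]
        exact hqn
      · exact hidx r hr h
    · rw [Subgroup.index_top] at hdvd
      exact absurd hdvd hr.not_dvd_one
  push_neg at hZ
  -- centralizers of elements of large prime order are proper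
  have hcent : ∀ (r : ℕ) (g : G), r.Prime → n + 1 < r → orderOf g = r →
      Subgroup.centralizer ({g} : Set G) ≠ ⊤ := by
    intro r g hr hrn hg e
    refine hZ g ?_ r hr hrn hg
    rw [Subgroup.mem_center_iff]
    intro h
    have : h ∈ Subgroup.centralizer ({g} : Set G) := e ▸ Subgroup.mem_top h
    exact Subgroup.mem_centralizer_singleton_iff.mp this
  by_cases hex : ∃ p : ℕ, p.Prime ∧ n + 1 < p ∧ p ∣ Nat.card G
  swap
  · refine ⟨⊥, fun a ha b hb => ?_, fun q hq hd' => ?_, fun q hq hd' => ?_⟩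
    · rw [Subgroup.mem_bot.mp ha, Subgroup.mem_bot.mp hb]
    · rw [Subgroup.card_bot] at hd'
      exact absurd hd' hq.not_dvd_one
    · rw [Subgroup.index_bot] at hd'
      push_neg at hex
      by_contra h
      exact hex q hq (not_le.mp h) hd'
  obtain ⟨p, hp, hpn, hpG⟩ := hex
  haveI := Fact.mk hp
  obtain ⟨x₀, hx₀⟩ := exists_prime_orderOf_dvd_card' p hpG
  obtain ⟨P, hxP⟩ := exists_sylow_mem hx₀
  have habel : ∀ (r : ℕ) [Fact r.Prime], n + 1 < r → ∀ (S : Sylow r G) (g : G), g ∈ S →
      (S : Subgroup G) ≤ Subgroup.centralizer ({g} : Set G) := by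
    intro r _ hr S g hg y hy
    rw [Subgroup.mem_centralizer_singleton_iff]
    exact sylow_comm hχ hfaith hn (by omega) S.isPGroup' y hy g hg
  have hCP : Subgroup.centralizer ((P : Subgroup G) : Set G) ≠ ⊤ := fun e =>
    hcent p x₀ hp hpn hx₀ (top_le_iff.mp (e ▸ Subgroup.centralizer_le
      (Set.singleton_subset_iff.mpr hxP)))
  refine hasHall_of_subgroup _ ?_ (hsub _ hCP)
  intro q hq hdvd
  by_contra hqn
  rw [not_le] at hqn
  haveI := Fact.mk hq
  rcases eq_or_ne q p with rfl | hne
  · refine P.not_dvd_index (hdvd.trans (Subgroup.index_dvd_of_le ?_))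
    intro y hy
    rw [Subgroup.mem_centralizer_iff]
    exact fun g hg => sylow_comm hχ hfaith hn (by omega) P.isPGroup' g hg y hy
  · have hqG : q ∣ Nat.card G := hdvd.trans (Subgroup.index_dvd_card _)
    obtain ⟨x, y, hx, hy, hxy⟩ := exists_commuting_pair hirr hfaith hn hpn hqn hpG hqG
    -- the centralizer of `x`
    obtain ⟨P₁, hxP₁⟩ := exists_sylow_mem hx
    set C := Subgroup.centralizer ({x} : Set G) with hCdef
    obtain ⟨B, hB1, -, hB3⟩ := hsub C (hcent p x hp hpn hx)
    set B' := B.map C.subtype with hB'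
    have hB'comm : ∀ a ∈ B', ∀ b ∈ B', a * b = b * a := by
      rintro a ⟨a, ha, rfl⟩ b ⟨b, hb, rfl⟩
      rw [← map_mul, ← map_mul, hB1 a ha b hb]
    have hB'p : ¬ p ∣ B'.index := by
      rw [hB', Subgroup.index_map_of_injective _ C.subtype_injective, C.range_subtype]
      refine hp.not_dvd_mul (fun h => absurd (hB3 p hp h) (not_le.mpr hpn)) fun h => ?_
      exact P₁.not_dvd_index (h.trans (Subgroup.index_dvd_of_le (habel p hpn P₁ x hxP₁)))
    have hqB : q ∣ Nat.card B := by
      have hyC : y ∈ C := Subgroup.mem_centralizer_singleton_iff.mpr hxy.symm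
      have h1 : q ∣ Nat.card C := by
        rw [← hy]
        exact (Subgroup.orderOf_coe (⟨y, hyC⟩ : C)).symm ▸ orderOf_dvd_natCard (⟨y, hyC⟩ : C)
      rw [← Subgroup.card_mul_index B] at h1
      exact (hq.dvd_mul.mp h1).resolve_right fun h => absurd (hB3 q hq h) (not_le.mpr hqn)
    obtain ⟨y', hy'⟩ := exists_prime_orderOf_dvd_card' q hqB
    set z : G := ((y' : C) : G) with hz
    have hzo : orderOf z = q := by rw [hz, Subgroup.orderOf_coe, Subgroup.orderOf_coe, hy']
    have hzB : z ∈ B' := ⟨(y' : C), y'.2, rfl⟩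
    obtain ⟨Q₁, hzQ⟩ := exists_sylow_mem hzo
    set D := Subgroup.centralizer ({z} : Set G) with hDdef
    have hBD : B' ≤ D := fun b hb =>
      Subgroup.mem_centralizer_singleton_iff.mpr (hB'comm b hb z hzB)
    obtain ⟨B₂, hC1, -, hC3⟩ := hsub D (hcent q z hq hqn hzo)
    set B₂' := B₂.map D.subtype with hB₂'
    have hidx : B₂'.index = B₂.index * D.index := by
      rw [hB₂', Subgroup.index_map_of_injective _ D.subtype_injective, D.range_subtype]
    have hB₂p : ¬ p ∣ B₂'.index := by
      rw [hidx]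
      exact hp.not_dvd_mul (fun h => absurd (hC3 p hp h) (not_le.mpr hpn))
        fun h => hB'p (h.trans (Subgroup.index_dvd_of_le hBD))
    have hB₂q : ¬ q ∣ B₂'.index := by
      rw [hidx]
      exact hq.not_dvd_mul (fun h => absurd (hC3 q hq h) (not_le.mpr hqn))
        fun h => Q₁.not_dvd_index (h.trans (Subgroup.index_dvd_of_le (habel q hqn Q₁ z hzQ)))
    obtain ⟨P₂, hP₂⟩ := exists_sylow_le (p := p) B₂' hB₂p
    obtain ⟨Q₂, hQ₂⟩ := exists_sylow_le (p := q) B₂' hB₂q
    obtain ⟨g, rfl⟩ := MulAction.exists_smul_eq G P₂ P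
    have hle : ((g • Q₂ : Sylow q G) : Subgroup G) ≤
        Subgroup.centralizer (((g • P₂ : Sylow p G) : Subgroup G) : Set G) := by
      intro a ha
      rw [Subgroup.mem_centralizer_iff]
      intro b hb
      rw [Sylow.coe_subgroup_smul] at ha
      rw [SetLike.mem_coe, Sylow.coe_subgroup_smul] at hb
      obtain ⟨a, ha', rfl⟩ := Subgroup.mem_smul_pointwise_iff_exists _ _ _ |>.mp ha
      obtain ⟨b, hb', rfl⟩ := Subgroup.mem_smul_pointwise_iff_exists _ _ _ |>.mp hb
      rw [← smul_mul', ← smul_mul']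
      obtain ⟨a, haB, rfl⟩ := hQ₂ ha'
      obtain ⟨b, hbB, rfl⟩ := hP₂ hb'
      rw [← map_mul, ← map_mul, hC1 b hbB a haB]
    exact (g • Q₂).not_dvd_index (hdvd.trans (Subgroup.index_dvd_of_le hle))

theorem exists_abelian_hall {χ : G → ℂ} (hχ : IsCharacter G χ)
    (hfaith : ∀ g : G, χ g = χ 1 → g = 1) : HasHall G (deg χ) :=
  hasHall_of_faithful _ G χ _ le_rfl hχ hfaith le_rfl

end Cfsg.Agent.CT.Blichfeldt
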