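import Cfsg.Agent.Lib.CT.SectionIndicator
import Cfsg.Agent.Lib.CT.Induced
import Cfsg.Agent.Lib.CT.Kernel
import Mathlib.GroupTheory.NoncommCoprod

/-!
# The Brauer–Suzuki transfer theorem
-/

namespace Cfsg.Agent.CT.BSTransfer

open scoped ComplexConjugate Classical

universe u

variable {G : Type u} [Group G] [Fintype G] (H : Subgroup G)

/-- The standing hypotheses. -/
structure Hyp (k : ℕ) : Prop where
  hall : Nat.Coprime (Nat.card H) H.index
  fus : ∀ x ∈ H, ∀ y ∈ H, IsConj x y → ∃ h ∈ H, h * x * h⁻¹ = y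
  elem : ∀ (E : Subgroup G) (q : ℕ), q.Prime → IsElementary q E → Nat.card E ∣ Nat.card H →
    ∃ g : G, E.map (MulAut.conj g).toMonoidHom ≤ H
  hk0 : k ≡ 0 [MOD H.index]
  hk1 : k ≡ 1 [MOD Nat.card H]

variable {H} {k : ℕ} (hyp : Hyp H k)
include hyp

theorem card_eq : Nat.card G = H.index * Nat.card H := H.index_mul_card.symm

theorem pow_fix (h : H) : (h : G) ^ k = h := by
  refine pow_eq_of_decomp (card_eq hyp) hyp.hk0 hyp.hk1 (one_mul _).symm (Commute.one_left _)
    (by simp) (hyp.hall.coprime_dvd_left ?_)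
  exact Subgroup.orderOf_coe h ▸ orderOf_dvd_natCard h

theorem orderOf_pow_dvd (x : G) : orderOf (x ^ k) ∣ Nat.card H := by
  refine orderOf_dvd_of_pow_eq_one ?_
  rw [← pow_mul, ← orderOf_dvd_iff_pow_eq_one]
  exact ((orderOf_dvd_natCard x).trans (dvd_of_eq (card_eq hyp))).trans
    (Nat.mul_dvd_mul_right (Nat.modEq_zero_iff_dvd.mp hyp.hk0) _)

theorem exists_conj (x : G) : ∃ h : H, IsConj (x ^ k) (h : G) := by
  have hn : orderOf (x ^ k) ∣ Nat.card H := orderOf_pow_dvd hyp x
  obtain ⟨q, hlarge, hq⟩ := Nat.exists_infinite_primes (Nat.card G + 1)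
  have helem : IsElementary q (Subgroup.zpowers (x ^ k)) := by
    refine ⟨⟨x ^ k, Subgroup.mem_zpowers _⟩, ?_, ?_, 0, ?_⟩
    · exact Subgroup.mem_center_iff.mpr fun g => mul_comm' g _
    · rw [Subgroup.orderOf_mk]
      exact (hq.coprime_iff_not_dvd.mpr fun h => absurd (Nat.le_of_dvd (orderOf_pos _) h) (by
        have := (Nat.le_of_dvd Nat.card_pos (orderOf_dvd_natCard (x ^ k)))
        omega)).symm
    · rw [pow_zero, Subgroup.index_eq_one, eq_top_iff]
      rintro ⟨y, i, rfl⟩ -
      exact ⟨i, Subtype.ext (by simp)⟩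
  obtain ⟨g, hg⟩ := hyp.elem _ q hq helem (by rw [Nat.card_zpowers]; exact hn)
  exact ⟨⟨_, hg ⟨x ^ k, Subgroup.mem_zpowers _, rfl⟩⟩, isConj_iff.mpr ⟨g, rfl⟩⟩

/-- The member of the subgroup belonging to an element. -/
noncomputable def rep (x : G) : H := (exists_conj hyp x).choose

theorem rep_spec (x : G) : IsConj (x ^ k) (rep hyp x : G) := (exists_conj hyp x).choose_spec

theorem apply_eq_of_isConj {θ : H → ℂ} (hθ : IsClassFunction H θ) {a b : H}
    (h : IsConj (a : G) (b : G)) : θ a = θ b := by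
  obtain ⟨c, hc, he⟩ := hyp.fus a a.2 b b.2 h
  have : (⟨c, hc⟩ : H) * a * (⟨c, hc⟩ : H)⁻¹ = b := Subtype.ext he
  rw [← this, hθ]

/-- The extension of a class function. -/
noncomputable def ext (θ : H → ℂ) (x : G) : ℂ := θ (rep hyp x)

theorem ext_eq {θ : H → ℂ} (hθ : IsClassFunction H θ) {x : G} {h : H}
    (hc : IsConj (x ^ k) (h : G)) : ext hyp θ x = θ h :=
  apply_eq_of_isConj hyp hθ ((rep_spec hyp x).symm.trans hc)

theorem ext_class {θ : H → ℂ} (hθ : IsClassFunction H θ) : IsClassFunction G (ext hyp θ) := by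
  intro x c
  refine ext_eq hyp hθ (IsConj.trans ?_ (rep_spec hyp x))
  rw [conj_pow]
  exact (isConj_iff.mpr ⟨c, rfl⟩).symm

theorem ext_coe {θ : H → ℂ} (hθ : IsClassFunction H θ) (h : H) : ext hyp θ h = θ h :=
  ext_eq hyp hθ (by rw [pow_fix hyp h])

theorem ext_isGen [Fintype H] {θ : H → ℂ} (hθ : IsCharacter H θ) :
    IsGeneralizedCharacter G (ext hyp θ) := by
  have hcl := isClassFunction_of_isCharacter hθ
  refine isGen_of_restrict_elementary (ext_class hyp hcl) fun E q hq hE => ?_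
  haveI := isNilpotent_of_isElementary hq hE
  have hEc : Nat.card E ∣ H.index * Nat.card H :=
    card_eq hyp ▸ Subgroup.card_subgroup_dvd_card E
  let π : E →* G :=
    E.subtype.comp (MonoidHom.mk' (fun e => e ^ k) (mul_pow_of_nilpotent hEc hyp.hk0 hyp.hk1))
  have hπ : ∀ e, π e = (e : G) ^ k := fun e => by simp [π]
  have hle : π.range ≤ E := by
    rintro _ ⟨e, rfl⟩
    rw [hπ]
    exact E.pow_mem e.2 k
  have hcard : Nat.card π.range ∣ Nat.card H := by
    have hcop : (Nat.card π.range).Coprime H.index := by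
      refine Nat.coprime_of_dvd fun r hr h1 h2 => ?_
      haveI := Fact.mk hr
      obtain ⟨⟨y, e, rfl⟩, hy⟩ := exists_prime_orderOf_dvd_card' r h1
      rw [← Subgroup.orderOf_coe] at hy
      change orderOf (π e) = r at hy
      rw [hπ] at hy
      exact hr.not_dvd_one (hyp.hall ▸ Nat.dvd_gcd (hy ▸ orderOf_pow_dvd hyp _) h2)
    exact hcop.dvd_of_dvd_mul_left
      ((Subgroup.card_subgroup_dvd_card _).trans (dvd_of_eq (card_eq hyp)))
  obtain ⟨g, hg⟩ := hyp.elem π.range q hq
    (isElementary_congr (Subgroup.subgroupOfEquivOfLe hle)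
      (isElementary_subgroup hq hE (π.range.subgroupOf E))) hcard
  let ψ : E →* H := ((MulAut.conj g).toMonoidHom.comp π).codRestrict H fun e =>
    hg ⟨π e, ⟨e, rfl⟩, rfl⟩
  have : (fun e : E => ext hyp θ e) = fun e => θ (ψ e) := by
    funext e
    refine ext_eq hyp hcl (isConj_iff.mpr ⟨g, ?_⟩)
    simp [ψ, hπ]
  rw [this]
  exact isGen_of_isCharacter (isCharacter_comp ψ hθ)

/-- A Sylow subgroup of the centralizer of an element of `H` is conjugate into it. -/
theorem exists_conj_sylow (h : H) (q : ℕ) (hqH : q ∣ Nat.card H) [hq : Fact q.Prime]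
    (Q : Sylow q (Subgroup.centralizer ({(h : G)} : Set G))) :
    q ^ (Nat.card (Subgroup.centralizer ({(h : G)} : Set G))).factorization q ∣
      Nat.card (Subgroup.centralizer ({h} : Set H)) := by
  set C := Subgroup.centralizer ({(h : G)} : Set G) with hC
  have hhC : (h : G) ∈ C := Subgroup.mem_centralizer_singleton_iff.mpr rfl
  set hC' : C := ⟨h, hhC⟩
  set a := (orderOf hC').factorization q
  set o := orderOf hC' / q ^ a
  have hao : q ^ a * o = orderOf hC' := Nat.ordProj_mul_ordCompl_eq_self _ q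
  have hqo : ¬ q ∣ o := Nat.not_dvd_ordCompl hq.out (orderOf_pos hC').ne'
  set x := hC' ^ q ^ a with hx
  have hxc : x ∈ Subgroup.center C := Subgroup.pow_mem _ (Subgroup.mem_center_iff.mpr fun w =>
    Subtype.ext (Subgroup.mem_centralizer_singleton_iff.mp w.2)) _
  have hox : orderOf x = o := by
    rw [hx, orderOf_pow_of_dvd (pow_ne_zero _ hq.out.ne_zero) (Dvd.intro o hao), ← hao,
      Nat.mul_div_cancel_left _ (pow_pos hq.out.pos _)]
  let φ : Subgroup.zpowers x × (Q : Subgroup C) →* G :=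
    C.subtype.comp (MonoidHom.noncommCoprod (Subgroup.zpowers x).subtype (Q : Subgroup C).subtype
      fun z w => ((Subgroup.mem_center_iff.mp (Subgroup.zpowers_le.mpr hxc z.2)) (w : C)).symm)
  obtain ⟨t, ht⟩ := IsPGroup.iff_card.mp Q.2
  have hφ : Function.Injective φ := by
    rw [injective_iff_map_eq_one]
    rintro ⟨z, w⟩ hzw
    have h0 : C.subtype ((z : C) * (w : C)) = 1 := hzw
    have h1 : (z : C) * (w : C) = 1 := C.subtype_injective (h0.trans (map_one _).symm)
    have h2 : (z : C) = (w : C)⁻¹ := eq_inv_of_mul_eq_one_left h1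
    have hz : orderOf (z : C) ∣ o := by
      rw [← hox, ← Nat.card_zpowers x, Subgroup.orderOf_coe]; exact orderOf_dvd_natCard z
    have hw : orderOf (z : C) ∣ q ^ t := by
      rw [h2, orderOf_inv, Subgroup.orderOf_coe, ← ht]; exact orderOf_dvd_natCard w
    have hz1 : (z : C) = 1 := orderOf_eq_one_iff.mp (Nat.eq_one_of_dvd_coprimes
      ((hq.out.coprime_iff_not_dvd.mpr hqo).pow_left t) hw hz)
    have hw1 : (w : C) = 1 := by rw [hz1, one_mul] at h1; exact h1
    exact Prod.ext (Subtype.ext hz1) (Subtype.ext hw1)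
  let e := MonoidHom.ofInjective hφ
  have helem : IsElementary q φ.range := by
    refine isElementary_congr e ⟨(⟨x, Subgroup.mem_zpowers x⟩, 1), ?_, ?_, t, ?_⟩
    · exact Subgroup.mem_center_iff.mpr fun w => Prod.ext (mul_comm' _ _) (by simp)
    · rw [Prod.orderOf, Subgroup.orderOf_mk, orderOf_one, Nat.lcm_one_right, hox]
      exact (hq.out.coprime_iff_not_dvd.mpr hqo).symm
    · have h1 := (Subgroup.zpowers
        ((⟨x, Subgroup.mem_zpowers x⟩, 1) : Subgroup.zpowers x × (Q : Subgroup C))).index_mul_card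
      rw [Nat.card_zpowers, Prod.orderOf, Subgroup.orderOf_mk, orderOf_one, Nat.lcm_one_right,
        Nat.card_prod, Nat.card_zpowers, ht, mul_comm (orderOf x)] at h1
      exact Nat.eq_of_mul_eq_mul_right (orderOf_pos x) h1
  have hcard : Nat.card φ.range ∣ Nat.card H := by
    rw [← Nat.card_congr e.toEquiv, Nat.card_prod, Nat.card_zpowers, hox, ht]
    refine Nat.Coprime.mul_dvd_of_dvd_of_dvd ((hq.out.coprime_iff_not_dvd.mpr hqo).symm.pow_right t)
      ((Dvd.intro_left (q ^ a) hao).trans ?_) ?_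
    · rw [← Subgroup.orderOf_coe, show ((hC' : C) : G) = (h : G) from rfl, Subgroup.orderOf_coe]
      exact orderOf_dvd_natCard h
    · have hcop : Nat.Coprime (q ^ t) H.index :=
        (Nat.Coprime.coprime_dvd_left hqH hyp.hall).pow_left t
      refine hcop.dvd_of_dvd_mul_left ?_
      rw [← card_eq hyp, ← ht]
      exact (Subgroup.card_subgroup_dvd_card _).trans (Subgroup.card_subgroup_dvd_card C)
  obtain ⟨g, hg⟩ := hyp.elem φ.range q hq.out helem hcard
  -- `h` lies in this elementary subgroup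
  have hQm : hC' ^ o ∈ (Q : Subgroup C) := by
    have hc : hC' ^ o ∈ Subgroup.center C := Subgroup.pow_mem _ (Subgroup.mem_center_iff.mpr fun w =>
      Subtype.ext (Subgroup.mem_centralizer_singleton_iff.mp w.2)) _
    haveI := CT.normal_of_central (Subgroup.zpowers (hC' ^ o)) (Subgroup.zpowers_le.mpr hc)
    have hp : IsPGroup q (Subgroup.zpowers (hC' ^ o)) := IsPGroup.of_card (n := a) (by
      rw [Nat.card_zpowers, orderOf_pow_of_dvd (fun h0 => hqo (by rw [h0]; exact dvd_zero q))
        (Dvd.intro_left (q ^ a) hao), ← hao, Nat.mul_div_cancel _ (Nat.pos_of_ne_zero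
          fun h0 => hqo (by rw [h0]; exact dvd_zero q))])
    exact (Q.is_maximal' (Q.2.to_sup_of_normal_right hp) le_sup_left).le
      ((le_sup_right : Subgroup.zpowers (hC' ^ o) ≤ (Q : Subgroup C) ⊔ Subgroup.zpowers (hC' ^ o))
        (Subgroup.mem_zpowers _))
  have hbez : ((Nat.gcd (q ^ a) o : ℕ) : ℤ) = (q ^ a : ℕ) * Nat.gcdA (q ^ a) o + o * Nat.gcdB (q ^ a) o :=
    Nat.gcd_eq_gcd_ab _ _
  rw [((hq.out.coprime_iff_not_dvd.mpr hqo).pow_left a).gcd_eq_one] at hbez
  have hmem : (h : G) ∈ φ.range := by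
    refine ⟨(⟨x ^ Nat.gcdA (q ^ a) o, Subgroup.zpow_mem _ (Subgroup.mem_zpowers x) _⟩,
      ⟨(hC' ^ o) ^ Nat.gcdB (q ^ a) o, Subgroup.zpow_mem _ hQm _⟩), ?_⟩
    show ((x ^ Nat.gcdA (q ^ a) o * (hC' ^ o) ^ Nat.gcdB (q ^ a) o : C) : G) = ((hC' : C) : G)
    rw [hx, ← zpow_natCast, ← zpow_natCast, ← zpow_mul, ← zpow_mul, ← zpow_add, ← hbez, Nat.cast_one,
      zpow_one]
  obtain ⟨c, hc, hce⟩ := hyp.fus _ (hg ⟨_, hmem, rfl⟩) h h.2 (isConj_iff.mpr ⟨g⁻¹, by simp [mul_assoc]⟩)
  let T : ↥(Q : Subgroup C) → Subgroup.centralizer ({h} : Set H) := fun w =>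
    ⟨⟨c * (g * ((w : C) : G) * g⁻¹) * c⁻¹, H.mul_mem (H.mul_mem hc (hg ⟨((w : C) : G),
      ⟨(1, w), by show C.subtype ((1 : C) * (w : C)) = _; rw [one_mul]; rfl⟩, rfl⟩)) (H.inv_mem hc)⟩, by
      refine Subgroup.mem_centralizer_singleton_iff.mpr (Subtype.ext ?_)
      show c * (g * ((w : C) : G) * g⁻¹) * c⁻¹ * (h : G) = (h : G) * (c * (g * ((w : C) : G) * g⁻¹) * c⁻¹)
      have hw : ((w : C) : G) * (h : G) = (h : G) * ((w : C) : G) :=
        Subgroup.mem_centralizer_singleton_iff.mp (w : C).2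
      simp only [MulEquiv.coe_toMonoidHom, MulAut.conj_apply] at hce
      conv_lhs => rw [← hce]
      conv_rhs => rw [← hce]
      calc _ = c * g * (((w : C) : G) * (h : G)) * g⁻¹ * c⁻¹ := by group
        _ = c * g * ((h : G) * ((w : C) : G)) * g⁻¹ * c⁻¹ := by rw [hw]
        _ = _ := by group⟩
  have hT : ∀ w w', T (w * w') = T w * T w' := fun w w' => by
    refine Subtype.ext (Subtype.ext ?_)
    simp [T, mul_assoc]
  rw [← Q.card_eq_multiplicity]
  exact Subgroup.card_dvd_of_injective (MonoidHom.mk' T hT) fun w w' he => by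
    have := congrArg (fun z : Subgroup.centralizer ({h} : Set H) => ((z : H) : G)) he
    simpa [T] using this

/-- The elements belonging to a member of `H`. -/
theorem card_class_le (h : H) :
    Nat.card {z : H // IsConj h z} * H.index ≤ Nat.card {x : G // IsConj (x ^ k) (h : G)} := by
  set N := Nat.card {x : G // IsConj (x ^ k) (h : G)} with hN
  set C := Subgroup.centralizer ({(h : G)} : Set G) with hC
  set D := Subgroup.centralizer ({h} : Set H) with hD
  letI := Fintype.ofFinite H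
  -- an algebraic integer which is rational
  have hint := section_indicator_coeff (card_eq hyp) hyp.hk0 hyp.hk1 hyp.hall.symm (h : G) (trivIrr G)
  have hval : classInner (fun x : G => if IsConj (x ^ k) (h : G) then (Nat.card H : ℂ) else 0)
      (trivIrr G : G → ℂ) = (((N : ℚ) / (H.index : ℚ) : ℚ) : ℂ) := by
    simp only [classInner, trivIrr_apply, map_one, mul_one]
    rw [← Finset.sum_filter, Finset.sum_const, nsmul_eq_mul, ← Fintype.card_subtype,
      ← Nat.card_eq_fintype_card, ← hN, card_eq hyp]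
    push_cast
    field_simp [Nat.cast_ne_zero.mpr (Nat.card_pos (α := H)).ne',
      Nat.cast_ne_zero.mpr H.index_ne_zero_of_finite]
  rw [hval] at hint
  have hdvd : H.index ∣ N := by
    have h1 : IsIntegral ℤ ((N : ℚ) / (H.index : ℚ)) := by
      rw [← isIntegral_algebraMap_iff (A := ℚ) (B := ℂ) (algebraMap ℚ ℂ).injective]
      simpa [mem_integralClosure_iff] using hint
    obtain ⟨z, hz⟩ := IsIntegrallyClosed.isIntegral_iff.mp h1
    rw [eq_intCast] at hz
    rw [eq_div_iff (Nat.cast_ne_zero.mpr H.index_ne_zero_of_finite)] at hz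
    have : (N : ℤ) = z * H.index := by exact_mod_cast hz.symm
    exact Int.natCast_dvd_natCast.mp ⟨z, by rw [this, mul_comm]⟩
  obtain ⟨i, hi⟩ := hdvd
  -- conjugates of the element have fibres of equal size
  set F := Nat.card {x : G // x ^ k = (h : G)} with hF
  have hfib : N = Nat.card {z : G // IsConj (h : G) z} * F := by
    rw [hN, ← Nat.card_prod]
    refine Nat.card_congr ?_
    choose c hc using fun z : {z : G // IsConj (h : G) z} => isConj_iff.mp z.2
    refine ((Equiv.sigmaFiberEquiv (fun x : {x : G // IsConj (x ^ k) (h : G)} =>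
      (⟨(x : G) ^ k, x.2.symm⟩ : {z : G // IsConj (h : G) z}))).symm.trans
        (Equiv.sigmaCongrRight fun z => ?_)).trans (Equiv.sigmaEquivProd _ _)
    refine
      { toFun := fun x => ⟨(c z)⁻¹ * (x.1 : G) * c z, ?_⟩
        invFun := fun y => ⟨⟨c z * (y : G) * (c z)⁻¹, ?_⟩, ?_⟩
        left_inv := fun x => Subtype.ext (Subtype.ext (by group))
        right_inv := fun y => Subtype.ext (by group) }
    · have h1 : (x.1 : G) ^ k = (z : G) := congrArg Subtype.val x.2
      have h2 := conj_pow (i := k) (a := (c z)⁻¹) (b := (x.1 : G))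
      rw [inv_inv] at h2
      rw [h2, h1, ← hc z]
      group
    · rw [conj_pow, y.2, hc z]; exact z.2.symm
    · exact Subtype.ext (by simp only [conj_pow, y.2, hc z])
  have e1 := card_conj_class_mul_centralizer (h : G)
  have e2 := card_conj_class_mul_centralizer h
  rw [hfib] at hi
  -- the p'-part of the centralizer is small
  have hkey : F * Nat.card H = i * Nat.card C := by
    have hpos : 0 < Nat.card {z : G // IsConj (h : G) z} :=
      Nat.card_pos_iff.mpr ⟨⟨⟨h, IsConj.refl _⟩⟩, inferInstance⟩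
    refine Nat.eq_of_mul_eq_mul_left hpos ?_
    rw [← mul_assoc, hi, mul_comm H.index i, mul_assoc, ← card_eq hyp, ← e1, mul_left_comm]
  have hdiv : Nat.card C ∣ F * Nat.card D := by
    refine (Nat.factorization_prime_le_iff_dvd Nat.card_pos.ne' (mul_ne_zero
      (Nat.card_pos_iff.mpr ⟨⟨⟨h, pow_fix hyp h⟩⟩, inferInstance⟩).ne' Nat.card_pos.ne')).mp
      fun q hq => ?_
    by_cases hqH : q ∣ Nat.card H
    · haveI := Fact.mk hq
      obtain ⟨Q⟩ : Nonempty (Sylow q C) := inferInstance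
      exact (hq.pow_dvd_iff_le_factorization (mul_ne_zero
        (Nat.card_pos_iff.mpr ⟨⟨⟨h, pow_fix hyp h⟩⟩, inferInstance⟩).ne' Nat.card_pos.ne')).mp
        ((exists_conj_sylow hyp h q hqH Q).trans (Dvd.intro_left F rfl))
    · have h1 : q ^ (Nat.card C).factorization q ∣ F :=
        ((hq.coprime_iff_not_dvd.mpr hqH).pow_left _).dvd_of_dvd_mul_right
          ((Nat.ordProj_dvd _ q).trans (Dvd.intro_left i hkey.symm))
      exact (hq.pow_dvd_iff_le_factorization (mul_ne_zero
        (Nat.card_pos_iff.mpr ⟨⟨⟨h, pow_fix hyp h⟩⟩, inferInstance⟩).ne' Nat.card_pos.ne')).mp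
        (h1.trans (Dvd.intro _ rfl))
  have hle : Nat.card C ≤ F * Nat.card D := Nat.le_of_dvd (Nat.mul_pos
    (Nat.card_pos_iff.mpr ⟨⟨⟨h, pow_fix hyp h⟩⟩, inferInstance⟩) Nat.card_pos) hdiv
  rw [hfib]
  refine Nat.le_of_mul_le_mul_right ?_ (Nat.card_pos (α := D))
  rw [mul_right_comm, e2, mul_comm (Nat.card H), ← card_eq hyp, ← e1, mul_assoc]
  exact Nat.mul_le_mul_left _ hle

/-- Each fibre has exactly the expected size. -/
theorem card_class_eq (h : H) :
    Nat.card {x : G // IsConj (x ^ k) (h : G)} = Nat.card {z : H // IsConj h z} * H.index := by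
  letI := Fintype.ofFinite H
  set f : H → ℝ := fun h => (Nat.card {x : G // IsConj (x ^ k) (h : G)} : ℝ) /
    (Nat.card {z : H // IsConj h z} : ℝ) with hf
  have hcpos : ∀ h : H, (0 : ℝ) < Nat.card {z : H // IsConj h z} := fun h => by
    exact_mod_cast (Nat.card_pos_iff (α := {z : H // IsConj h z})).mpr ⟨⟨⟨h, IsConj.refl h⟩⟩, inferInstance⟩
  have hge : ∀ h : H, (H.index : ℝ) ≤ f h := fun h => by
    rw [hf, le_div_iff₀ (hcpos h), mul_comm]
    exact_mod_cast card_class_le hyp h
  have hsum : ∑ h : H, f h = ∑ _h : H, (H.index : ℝ) := by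
    have h1 : ∀ h : H, f h = ∑ x : G, if IsConj (x ^ k) (h : G) then
        ((Nat.card {z : H // IsConj h z} : ℝ))⁻¹ else 0 := fun h => by
      rw [← Finset.sum_filter, Finset.sum_const, nsmul_eq_mul, ← Fintype.card_subtype,
        ← Nat.card_eq_fintype_card]
      simp only [hf, div_eq_mul_inv]
    rw [Finset.sum_congr rfl fun h _ => h1 h, Finset.sum_comm]
    refine (Finset.sum_congr rfl fun x _ => ?_).trans (?_ : ∑ _x : G, (1 : ℝ) = _)
    swap
    · rw [Finset.sum_const, Finset.card_univ, Finset.sum_const, Finset.card_univ, nsmul_eq_mul,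
        mul_one, nsmul_eq_mul, ← Nat.card_eq_fintype_card, ← Nat.card_eq_fintype_card, card_eq hyp]
      push_cast
      ring
    · have hiff : ∀ z : H, IsConj (x ^ k) (z : G) ↔ IsConj (rep hyp x) z := fun z =>
        ⟨fun h => by
          obtain ⟨c, hc, he⟩ := hyp.fus _ (rep hyp x).2 _ z.2 ((rep_spec hyp x).symm.trans h)
          exact isConj_iff.mpr ⟨⟨c, hc⟩, Subtype.ext he⟩,
        fun h => (rep_spec hyp x).trans (H.subtype.map_isConj h)⟩
      simp only [hiff]
      rw [← Finset.sum_filter]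
      have hcst : ∀ z ∈ Finset.univ.filter (fun z : H => IsConj (rep hyp x) z),
          ((Nat.card {w : H // IsConj z w} : ℝ))⁻¹ =
            ((Nat.card {w : H // IsConj (rep hyp x) w} : ℝ))⁻¹ := fun z hz => by
        have hz' := (Finset.mem_filter.mp hz).2
        rw [Nat.card_congr (Equiv.subtypeEquivRight fun w =>
          (⟨fun h => hz'.trans h, fun h => hz'.symm.trans h⟩ : IsConj z w ↔ IsConj (rep hyp x) w))]
      rw [Finset.sum_congr rfl hcst, Finset.sum_const, nsmul_eq_mul, ← Fintype.card_subtype,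
        ← Nat.card_eq_fintype_card, mul_inv_cancel₀ (hcpos _).ne']
  have := ((Finset.sum_eq_sum_iff_of_le fun i _ => hge i).mp hsum.symm) h (Finset.mem_univ h)
  rw [hf, eq_div_iff (hcpos h).ne', mul_comm] at this
  exact_mod_cast this.symm

theorem ext_norm [Fintype H] {θ : H → ℂ} (hθ : IsClassFunction H θ) :
    classInner (ext hyp θ) (ext hyp θ) = classInner θ θ := by
  have hcc : ∀ z : H, (Nat.card {w : H // IsConj z w} : ℂ) ≠ 0 := fun z =>
    Nat.cast_ne_zero.mpr (Nat.card_pos_iff.mpr ⟨⟨⟨z, IsConj.refl z⟩⟩, inferInstance⟩).ne'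
  have h1 : ∀ x : G, ext hyp θ x * conj (ext hyp θ x) = ∑ z : H, if IsConj (x ^ k) (z : G) then
      (Nat.card {w : H // IsConj z w} : ℂ)⁻¹ * (θ z * conj (θ z)) else 0 := fun x => by
    have hiff : ∀ z : H, IsConj (x ^ k) (z : G) ↔ IsConj (rep hyp x) z := fun z =>
      ⟨fun h => by
        obtain ⟨c, hc, he⟩ := hyp.fus _ (rep hyp x).2 _ z.2 ((rep_spec hyp x).symm.trans h)
        exact isConj_iff.mpr ⟨⟨c, hc⟩, Subtype.ext he⟩,
      fun h => (rep_spec hyp x).trans (H.subtype.map_isConj h)⟩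
    simp only [hiff]
    rw [← Finset.sum_filter]
    have hcst : ∀ z ∈ Finset.univ.filter (fun z : H => IsConj (rep hyp x) z),
        (Nat.card {w : H // IsConj z w} : ℂ)⁻¹ * (θ z * conj (θ z)) =
        (Nat.card {w : H // IsConj (rep hyp x) w} : ℂ)⁻¹ * (ext hyp θ x * conj (ext hyp θ x)) :=
      fun z hz => by
        have hz' := (Finset.mem_filter.mp hz).2
        rw [ext_eq hyp hθ ((rep_spec hyp x).trans (H.subtype.map_isConj hz')),
          Nat.card_congr (Equiv.subtypeEquivRight fun w =>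
            (⟨fun h => hz'.trans h, fun h => hz'.symm.trans h⟩ : IsConj z w ↔ IsConj (rep hyp x) w))]
    rw [Finset.sum_congr rfl hcst, Finset.sum_const, nsmul_eq_mul, ← Fintype.card_subtype,
      ← Nat.card_eq_fintype_card, mul_inv_cancel_left₀ (hcc _)]
  simp only [classInner, h1]
  rw [Finset.sum_comm, Finset.mul_sum, Finset.mul_sum]
  refine Finset.sum_congr rfl fun z _ => ?_
  rw [← Finset.sum_filter, Finset.sum_const, nsmul_eq_mul, ← Fintype.card_subtype,
    ← Nat.card_eq_fintype_card, card_class_eq hyp z, card_eq hyp]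
  push_cast
  field_simp [hcc z, Nat.cast_ne_zero.mpr H.index_ne_zero_of_finite]
  rw [mul_assoc, mul_div_cancel_left₀ _ (hcc z)]

/-- The normal complement. -/
theorem exists_complement : ∃ K : Subgroup G, K.Normal ∧ K ⊔ H = ⊤ ∧ K ⊓ H = ⊥ := by
  letI := Fintype.ofFinite H
  have hirr : ∀ θ : IrrCharacter H, IsIrrCharacter G (ext hyp (θ : H → ℂ)) := fun θ => by
    refine isIrr_of_isGen_norm_one (ext_isGen hyp (isCharacter_of_isIrr θ.2))
      (by rw [ext_norm hyp (isClassFunction_of_isIrr θ.2), irr_inner_self θ.2]) ?_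
    rw [← OneMemClass.coe_one H, ext_coe hyp (isClassFunction_of_isIrr θ.2) 1]
    obtain ⟨d, ρ, hρ, he⟩ := θ.2
    haveI := hρ
    rw [← he, Representation.char_one, Complex.natCast_re]
    exact Nat.cast_pos.mpr (finrank_pos_of_irreducible ρ)
  let K : Subgroup G := ⨅ θ : IrrCharacter H, kerChar (ext hyp (θ : H → ℂ))
  have hK : ∀ x, x ∈ K ↔ x ^ k = 1 := by
    intro x
    simp only [K, Subgroup.mem_iInf, fun θ : IrrCharacter H =>
      mem_kerChar_iff (isCharacter_of_isIrr (hirr θ)) (g := x)]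
    constructor
    · intro hx
      have hr : rep hyp x = 1 := by
        by_contra hne
        have h1 := column_orthogonality (1 : H) (rep hyp x)
        rw [if_neg (by rw [isConj_one_right]; exact fun h => hne h)] at h1
        have h2 := column_orthogonality (1 : H) 1
        rw [if_pos (IsConj.refl _), Finset.sum_congr rfl fun θ _ => by
          rw [← ext_coe hyp (isClassFunction_of_isIrr θ.2) 1, OneMemClass.coe_one, ← hx θ]] at h2
        refine Nat.cast_ne_zero.mpr (Nat.card_pos (α := Subgroup.centralizer ({1} : Set H))).ne'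
          (h2.symm.trans (Eq.trans ?_ h1))
        refine Finset.sum_congr rfl fun θ _ => ?_
        rw [hx θ, ← OneMemClass.coe_one H, ext_coe hyp (isClassFunction_of_isIrr θ.2) 1]
        conv_rhs => rw [show (θ : H → ℂ) (rep hyp x) = ext hyp (θ : H → ℂ) x from rfl, hx θ,
          ← OneMemClass.coe_one H, ext_coe hyp (isClassFunction_of_isIrr θ.2) 1]
      have h3 := rep_spec hyp x
      rw [hr, OneMemClass.coe_one, isConj_one_left] at h3
      exact h3
    · intro hx θ
      rw [ext_eq hyp (isClassFunction_of_isIrr θ.2) (h := 1) (by rw [hx]; exact IsConj.refl _),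
        ← OneMemClass.coe_one H, ext_coe hyp (isClassFunction_of_isIrr θ.2) 1]
  have hcard : Nat.card K = H.index := by
    have h := card_class_eq hyp (1 : H)
    rw [show Nat.card {z : H // IsConj (1 : H) z} = 1 by
      rw [Nat.card_eq_one_iff_unique]
      exact ⟨⟨fun a b => Subtype.ext ((isConj_one_right.mp a.2).trans (isConj_one_right.mp b.2).symm)⟩,
        ⟨⟨1, IsConj.refl _⟩⟩⟩, one_mul] at h
    rw [← h]
    exact Nat.card_congr (Equiv.subtypeEquivRight fun x => by
      rw [hK, OneMemClass.coe_one, isConj_one_left])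
  have hbot : K ⊓ H = ⊥ := (Subgroup.eq_bot_iff_forall _).mpr fun x ⟨h1, h2⟩ => by
    exact (pow_fix hyp ⟨x, h2⟩).symm.trans ((hK x).mp h1)
  refine ⟨K, Subgroup.normal_iInf_normal fun θ => ⟨fun a ha g => ?_⟩, ?_, hbot⟩
  · have hc := isCharacter_of_isIrr (hirr θ)
    rw [mem_kerChar_iff hc] at ha ⊢
    rw [isClassFunction_of_isCharacter hc, ha]
  · exact (Subgroup.isComplement'_of_card_mul_and_disjoint (by rw [hcard, H.index_mul_card]) (disjoint_iff.mpr hbot)).sup_eq_top

end Cfsg.Agent.CT.BSTransfer
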