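import Cfsg.Agent.Lib.CoprimeExt.Gallagher
import Cfsg.Agent.Lib.CoprimeExt.CoprimeDegree
import Cfsg.Agent.Lib.Glauberman.Conj
import Cfsg.Agent.Lib.Blocks.GaloisStable
import Cfsg.Agent.Lib.Blocks.MajorBound
import Cfsg.Agent.Lib.Basics.Tools
import Cfsg.Agent.Lib.Blocks.StarParts

/-!
# The canonical extension on the generators of a cyclic coprime operator group

For a cyclic group `S` of operators of order prime to `|G|` the values of the canonical extension
of an invariant character at `c * s`, `s` a generator, form up to sign an irreducible character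
of the centralizer of `S`.
-/

set_option linter.unusedSectionVars false
set_option linter.style.haveILetI false

namespace Cfsg.Agent.CanonCyc

open Cfsg.Agent
open scoped ComplexConjugate

universe u

variable {Γ : Type u} [Group Γ] [Fintype Γ] (G S : Subgroup Γ) [hGn : G.Normal] [Fintype G]
  (hnorm : ∀ s ∈ S, ∀ g ∈ G, s * g * s⁻¹ ∈ G)
  (hcop : (Nat.card G).Coprime (Nat.card S)) (htop : G ⊔ S = ⊤)

include hcop htop in
theorem index_eq : G.index = Nat.card S := by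
  have h := Basics.card_sup_of_coprime (N := G) (H := S)
    (by rw [Subgroup.normalizer_eq_top]; exact le_top) hcop
  rw [htop, Subgroup.card_top, ← G.card_mul_index] at h
  exact Nat.eq_of_mul_eq_mul_left Nat.card_pos h

include hcop htop in
theorem inf_eq_bot : G ⊓ S = ⊥ := (Subgroup.disjoint_of_coprime_natCard hcop).eq_bot

include htop in
theorem invariant_all (χ : Cfsg.IrrCharacter G)
    (hinv : ∀ s ∈ S, ∀ g g' : G, (g' : Γ) = s * g * s⁻¹ → (χ : G → ℂ) g' = (χ : G → ℂ) g)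
    (x : Γ) (g : G) :
    (χ : G → ℂ) ⟨x * g * x⁻¹, hGn.conj_mem g g.2 x⟩ = (χ : G → ℂ) g := by
  let T : Subgroup Γ :=
    { carrier := {x | ∀ g : G, (χ : G → ℂ) ⟨x * g * x⁻¹, hGn.conj_mem g g.2 x⟩ = (χ : G → ℂ) g}
      one_mem' := fun g => congrArg (χ : G → ℂ) (Subtype.ext (by simp))
      mul_mem' := fun {a b} ha hb g => by
        rw [← hb g, ← ha ⟨b * g * b⁻¹, hGn.conj_mem g g.2 b⟩]
        exact congrArg (χ : G → ℂ) (Subtype.ext (by simp [mul_assoc]))
      inv_mem' := fun {a} ha g => by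
        rw [← ha ⟨a⁻¹ * g * a⁻¹⁻¹, hGn.conj_mem g g.2 a⁻¹⟩]
        exact congrArg (χ : G → ℂ) (Subtype.ext (by simp [mul_assoc])) }
  have hle : G ⊔ S ≤ T := by
    refine sup_le (fun a ha g => ?_) fun a ha g => hinv a ha g _ rfl
    exact (CT.isClassFunction_isConj (CT.isClassFunction_of_isIrr χ.2)
      (isConj_iff.mpr ⟨⟨a, ha⟩, Subtype.ext (by simp)⟩)).symm
  exact hle (htop ▸ Subgroup.mem_top x) g

/-- The canonical extension. -/
def IsCanon (χ : Cfsg.IrrCharacter G) (χh : Cfsg.IrrCharacter Γ) : Prop :=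
  (∀ g : G, (χh : Γ → ℂ) g = (χ : G → ℂ) g) ∧
    (Cfsg.detOrder (χh : Γ → ℂ)).Coprime (Nat.card S)

include hcop htop in
theorem coprime_deg (χ : Cfsg.IrrCharacter G) :
    G.index.Coprime (CT.deg (χ : G → ℂ)) ∧ G.index.Coprime (Cfsg.detOrder (χ : G → ℂ)) := by
  rw [index_eq G S hcop htop]
  exact ⟨hcop.symm.coprime_dvd_right (Glauberman.deg_dvd_card χ),
    hcop.symm.coprime_dvd_right (CoprimeExt.detOrder_dvd_card (CT.isCharacter_of_isIrr χ.2))⟩

include hcop htop in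
theorem exists_canon (χ : Cfsg.IrrCharacter G)
    (hinv : ∀ s ∈ S, ∀ g g' : G, (g' : Γ) = s * g * s⁻¹ → (χ : G → ℂ) g' = (χ : G → ℂ) g) :
    ∃ χh, IsCanon G S χ χh := by
  obtain ⟨χh, ⟨h, ho⟩, -⟩ := CoprimeExt.exists_coprime_ext G χ (invariant_all G S htop χ hinv)
    (coprime_deg G S hcop htop χ).1 (coprime_deg G S hcop htop χ).2
  refine ⟨χh, h, ?_⟩
  rw [ho]
  exact (index_eq G S hcop htop ▸ (coprime_deg G S hcop htop χ).2).symm

include hcop htop in
theorem canon_unique (χ : Cfsg.IrrCharacter G) {χh χh' : Cfsg.IrrCharacter Γ}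
    (h : IsCanon G S χ χh) (h' : IsCanon G S χ χh') : χh = χh' := by
  have hinv : ∀ (x : Γ) (g : G),
      (χ : G → ℂ) ⟨x * g * x⁻¹, hGn.conj_mem g g.2 x⟩ = (χ : G → ℂ) g := by
    intro x g
    rw [← h.1, ← h.1]
    exact (CT.isClassFunction_isConj (CT.isClassFunction_of_isIrr χh.2)
      (isConj_iff.mpr ⟨x, rfl⟩)).symm
  obtain ⟨χ₀, -, hu⟩ := CoprimeExt.exists_coprime_ext G χ hinv
    (coprime_deg G S hcop htop χ).1 (coprime_deg G S hcop htop χ).2
  have e := hu _ (CT.isCharacter_of_isIrr χh.2) h.1 (by rw [index_eq G S hcop htop]; exact h.2.symm)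
  have e' := hu _ (CT.isCharacter_of_isIrr χh'.2) h'.1 (by rw [index_eq G S hcop htop]; exact h'.2.symm)
  exact Subtype.ext (e.trans e'.symm)

include hcop htop in
open Classical in
/-- Orthogonality on a coset generating the quotient. -/
theorem orth (hcyc : IsCyclic S) {χ χ' : Cfsg.IrrCharacter G} {χh χh' : Cfsg.IrrCharacter Γ}
    (h : IsCanon G S χ χh) (h' : IsCanon G S χ' χh') (s₀ : Γ) :
    ∑ x ∈ Finset.univ.filter (fun x : Γ => (x : Γ ⧸ G) = s₀),
      (χh : Γ → ℂ) x * conj ((χh' : Γ → ℂ) x) = if χ = χ' then (Nat.card G : ℂ) else 0 := by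
  haveI := Fintype.ofFinite (Γ ⧸ G)
  have hcomm : ∀ a b : Γ ⧸ G, a * b = b * a := by
    haveI := hcyc
    letI : CommGroup S := IsCyclic.commGroup
    have hsurj : Function.Surjective ((QuotientGroup.mk' G).comp S.subtype) := by
      intro q
      obtain ⟨x, rfl⟩ := QuotientGroup.mk_surjective q
      have hx : x ∈ G ⊔ S := htop ▸ Subgroup.mem_top x
      obtain ⟨g, hg, s, hs, rfl⟩ := Subgroup.mem_sup_of_normal_left.mp hx
      exact ⟨⟨s, hs⟩, by simp [(QuotientGroup.eq_one_iff g).mpr hg]⟩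
    intro a b
    obtain ⟨a, rfl⟩ := hsurj a
    obtain ⟨b, rfl⟩ := hsurj b
    rw [← map_mul, ← map_mul, mul_comm]
  let hf : Γ ⧸ G → ℂ := fun q => if q = (s₀ : Γ ⧸ G) then 1 else 0
  have hcl : Cfsg.IsClassFunction (Γ ⧸ G) hf := fun a b => by
    rw [show b * a * b⁻¹ = a by rw [hcomm b a, mul_inv_cancel_right]]
  have hμ : ∀ μ : Cfsg.IrrCharacter (Γ ⧸ G), Cfsg.IsIrrCharacter Γ fun x => (μ : Γ ⧸ G → ℂ) x :=
    fun μ => CT.isIrr_inflate G μ.2 fun x => rfl
  let η : Cfsg.IrrCharacter (Γ ⧸ G) → Cfsg.IrrCharacter Γ := fun μ => ⟨_, hμ μ⟩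
  have hηG : ∀ μ, ∀ g ∈ G, (η μ : Γ → ℂ) g = 1 := fun μ g hg => by
    show (μ : Γ ⧸ G → ℂ) (g : Γ ⧸ G) = 1
    rw [(QuotientGroup.eq_one_iff g).mpr hg]
    exact CT.irr_degree_one_of_comm hcomm μ.2
  have hη : ∀ μ, Cfsg.classInner (fun g : G => (η μ : Γ → ℂ) g) (fun _ => (1 : ℂ)) ≠ 0 := fun μ => by
    rw [show (fun g : G => (η μ : Γ → ℂ) g) = fun _ => (1 : ℂ) from funext fun g => hηG μ g g.2,
      CT.irr_inner_self CT.isIrrCharacter_one]
    exact one_ne_zero
  let one' : Cfsg.IrrCharacter (Γ ⧸ G) := ⟨fun _ => 1, CT.isIrrCharacter_one⟩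
  have hone : ∀ f : Γ → ℂ, (η one' : Γ → ℂ) * f = f := fun f => funext fun x => one_mul _
  have hinner : ∀ μ, Cfsg.classInner ((η μ : Γ → ℂ) * (χh : Γ → ℂ)) (χh' : Γ → ℂ) =
      if χ = χ' ∧ μ = one' then 1 else 0 := by
    intro μ
    by_cases he : χ = χ'
    · subst he
      obtain rfl := canon_unique G S hcop htop χ h h'
      conv_lhs => arg 2; rw [← hone (χh : Γ → ℂ)]
      rw [CoprimeExt.inner_mul_ext G χh χ h.1 (η μ) (η one') (hη μ) (hη one')]
      have : η μ = η one' ↔ μ = one' :=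
        ⟨fun e => Subtype.ext (funext fun q => by
          obtain ⟨x, rfl⟩ := QuotientGroup.mk_surjective q
          exact congrFun (congrArg Subtype.val e) x), fun e => e ▸ rfl⟩
      simp [this]
    · rw [if_neg fun hc => he hc.1]
      by_contra hne
      have hirr : Cfsg.IsIrrCharacter Γ ((η μ : Γ → ℂ) * (χh : Γ → ℂ)) :=
        CT.isIrr_of_inner_self (CT.isCharacter_mul (CT.isCharacter_of_isIrr (η μ).2)
          (CT.isCharacter_of_isIrr χh.2))
          (by rw [CoprimeExt.inner_mul_ext G χh χ h.1 (η μ) (η μ) (hη μ) (hη μ), if_pos rfl])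
      have e := CT.eq_of_inner_ne_zero hirr χh'.2 hne
      refine he (Subtype.ext (funext fun g => ?_))
      rw [← h.1, ← h'.1, ← e, Pi.mul_apply, hηG μ g g.2, one_mul]
  have hexp := CT.classFunction_eq_sum hcl
  have e1 : ∀ x : Γ,
      (if (x : Γ ⧸ G) = (s₀ : Γ ⧸ G) then (χh : Γ → ℂ) x * conj ((χh' : Γ → ℂ) x) else 0) =
      (∑ μ : Cfsg.IrrCharacter (Γ ⧸ G), Cfsg.classInner hf (μ : Γ ⧸ G → ℂ) • (μ : Γ ⧸ G → ℂ))
          (x : Γ ⧸ G) * ((χh : Γ → ℂ) x * conj ((χh' : Γ → ℂ) x)) := fun x => by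
    rw [← congrFun hexp (x : Γ ⧸ G)]
    simp only [hf]
    split_ifs <;> simp
  rw [Finset.sum_filter, Finset.sum_congr rfl fun x _ => e1 x]
  simp only [Finset.sum_apply, Pi.smul_apply, smul_eq_mul, Finset.sum_mul]
  rw [Finset.sum_comm]
  have hstep : ∀ μ : Cfsg.IrrCharacter (Γ ⧸ G),
      ∑ x : Γ, Cfsg.classInner hf (μ : Γ ⧸ G → ℂ) * (μ : Γ ⧸ G → ℂ) x *
        ((χh : Γ → ℂ) x * conj ((χh' : Γ → ℂ) x)) =
      Cfsg.classInner hf (μ : Γ ⧸ G → ℂ) * ((Nat.card Γ : ℂ) *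
        Cfsg.classInner ((η μ : Γ → ℂ) * (χh : Γ → ℂ)) (χh' : Γ → ℂ)) := by
    intro μ
    rw [Cfsg.classInner.eq_def ((η μ : Γ → ℂ) * _), mul_inv_cancel_left₀ CT.card_ne_zero,
      Finset.mul_sum]
    refine Finset.sum_congr rfl fun x _ => ?_
    show _ = _ * ((μ : Γ ⧸ G → ℂ) x * (χh : Γ → ℂ) x * conj ((χh' : Γ → ℂ) x))
    ring
  rw [Finset.sum_congr rfl fun μ _ => hstep μ]
  simp only [hinner]
  by_cases he : χ = χ'
  · simp only [he, true_and, mul_ite, mul_one, mul_zero, Finset.sum_ite_eq', Finset.mem_univ,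
      if_true]
    rw [Cfsg.classInner]
    simp only [hf, one']
    rw [Finset.sum_eq_single (s₀ : Γ ⧸ G) (fun q _ hq => by simp [hq])
      (fun h => absurd (Finset.mem_univ _) h)]
    have hi : (Nat.card (Γ ⧸ G) : ℂ) ≠ 0 := Nat.cast_ne_zero.mpr Nat.card_pos.ne'
    rw [← G.card_mul_index, Subgroup.index_eq_card]
    push_cast
    simp only [if_pos, map_one, mul_one]
    field_simp
  · simp [he]

section Values

variable (C : Subgroup Γ) [Fintype C] (hC : C = G ⊓ Subgroup.centralizer (S : Set Γ)) {s₀ : Γ}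
  (hs₀ : Subgroup.zpowers s₀ = S)

include hC hs₀ in
theorem commute_gen (c : C) : Commute (c : Γ) s₀ :=
  (Subgroup.mem_centralizer_iff.mp (hC.le c.2).2 s₀ (hs₀ ▸ Subgroup.mem_zpowers s₀)).symm

include hC hs₀ hcop in
open Classical in
/-- Summing a class function over the coset. -/
theorem sum_coset {f : Γ → ℂ} (hf : Cfsg.IsClassFunction Γ f) :
    (Nat.card C : ℂ) * ∑ x ∈ Finset.univ.filter (fun x : Γ => (x : Γ ⧸ G) = s₀), f x =
      (Nat.card G : ℂ) * ∑ c : C, f ((c : Γ) * s₀) := by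
  have hs : s₀ ∈ S := hs₀ ▸ Subgroup.mem_zpowers s₀
  set F := Finset.univ.filter (fun x : Γ => (x : Γ ⧸ G) = s₀) with hF
  let Φ : G × C → Γ := fun a => (a.1 : Γ) * ((a.2 : Γ) * s₀) * (a.1 : Γ)⁻¹
  have hmem : ∀ a, Φ a ∈ F := by
    intro a
    refine Finset.mem_filter.mpr ⟨Finset.mem_univ _, ?_⟩
    simp only [Φ, QuotientGroup.mk_mul, QuotientGroup.mk_inv,
      (QuotientGroup.eq_one_iff (a.1 : Γ)).mpr a.1.2,
      (QuotientGroup.eq_one_iff (a.2 : Γ)).mpr (hC.le a.2.2).1, one_mul, inv_one, mul_one]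
  obtain ⟨k, hk1, hk0⟩ := Nat.chineseRemainder hcop.symm 1 0
  have hpow : ∀ c : C, ((c : Γ) * s₀) ^ k = s₀ := by
    intro c
    rw [(commute_gen G S C hC hs₀ c).mul_pow]
    have h1 : (c : Γ) ^ k = 1 := by
      have h : Nat.card G ∣ k := Nat.modEq_zero_iff_dvd.mp hk0
      obtain ⟨t, ht⟩ := h
      have hc : ((⟨c, (hC.le c.2).1⟩ : G) ^ Nat.card G) = 1 := pow_card_eq_one'
      rw [ht, pow_mul, show (c : Γ) ^ Nat.card G = 1 from congrArg Subtype.val hc, one_pow]
    have h2 : s₀ ^ k = s₀ := by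
      conv_rhs => rw [← pow_one s₀]
      exact pow_eq_pow_iff_modEq.mpr (hk1.of_dvd (by rw [← Nat.card_zpowers, hs₀]))
    rw [h1, h2, one_mul]
  have hfib : ∀ a : G × C, (Finset.univ.filter fun b => Φ b = Φ a).card = Nat.card C := by
    intro a
    rw [Nat.card_eq_fintype_card, ← Finset.card_univ]
    refine (Finset.card_bij (fun (h : C) _ => ((a.1 * (⟨h, (hC.le h.2).1⟩ : G)⁻¹, h * a.2 * h⁻¹) :
      G × C)) ?_ ?_ ?_).symm
    · intro h _
      refine Finset.mem_filter.mpr ⟨Finset.mem_univ _, ?_⟩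
      have hc := (commute_gen G S C hC hs₀ h).eq
      simp only [Φ, Subgroup.coe_mul, Subgroup.coe_inv, mul_inv_rev, inv_inv]
      calc (a.1 : Γ) * (h : Γ)⁻¹ * ((h : Γ) * a.2 * (h : Γ)⁻¹ * s₀) * ((h : Γ) * (a.1 : Γ)⁻¹)
          = (a.1 : Γ) * a.2 * ((h : Γ)⁻¹ * (s₀ * (h : Γ))) * (a.1 : Γ)⁻¹ := by group
        _ = _ := by rw [← hc, inv_mul_cancel_left]; group
    · intro h _ h' _ e
      have e1 := congrArg Prod.fst e
      simp only [mul_right_inj, inv_inj, Subtype.mk.injEq] at e1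
      exact Subtype.ext e1
    · intro b hb
      have e := (Finset.mem_filter.mp hb).2
      set g : G := b.1⁻¹ * a.1 with hg
      have e' : (g : Γ) * ((a.2 : Γ) * s₀) * (g : Γ)⁻¹ = (b.2 : Γ) * s₀ := by
        simp only [hg, Subgroup.coe_mul, Subgroup.coe_inv]
        calc _ = (b.1 : Γ)⁻¹ * Φ a * (b.1 : Γ) := by simp only [Φ]; group
          _ = _ := by rw [← e]; simp only [Φ]; group
      have e'' : (g : Γ) * s₀ * (g : Γ)⁻¹ = s₀ := by
        have := congrArg (· ^ k) e'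
        simp only [conj_pow, hpow] at this
        exact this
      have hcen : (g : Γ) ∈ Subgroup.centralizer (S : Set Γ) := by
        rw [← hs₀, Subgroup.mem_centralizer_iff]
        rintro _ ⟨i, rfl⟩
        exact ((show Commute (g : Γ) s₀ from mul_inv_eq_iff_eq_mul.mp e'').zpow_right i).eq.symm
      refine ⟨⟨g, hC.ge ⟨g.2, hcen⟩⟩, Finset.mem_univ _, Prod.ext ?_ (Subtype.ext ?_)⟩
      · show a.1 * (⟨(g : Γ), _⟩ : G)⁻¹ = b.1
        rw [show (⟨(g : Γ), _⟩ : G) = g from rfl, hg, mul_inv_rev, inv_inv, mul_inv_cancel_left]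
      · apply mul_right_cancel (b := s₀)
        rw [← e']
        simp only [Subgroup.coe_mul, Subgroup.coe_inv]
        calc (g : Γ) * a.2 * (g : Γ)⁻¹ * s₀ = (g : Γ) * a.2 * ((g : Γ)⁻¹ * s₀) := by group
          _ = (g : Γ) * a.2 * (s₀ * (g : Γ)⁻¹) := by
            rw [(show Commute (g : Γ) s₀ from mul_inv_eq_iff_eq_mul.mp e'').inv_left.eq]
          _ = _ := by group
  have hFG : F.card = Nat.card G := by
    rw [Nat.card_eq_fintype_card, ← Finset.card_univ]
    refine (Finset.card_bij (fun (g : G) _ => (g : Γ) * s₀) ?_ ?_ ?_).symm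
    · intro g _
      refine Finset.mem_filter.mpr ⟨Finset.mem_univ _, ?_⟩
      rw [QuotientGroup.mk_mul, (QuotientGroup.eq_one_iff (g : Γ)).mpr g.2, one_mul]
    · intro g _ g' _ e
      exact Subtype.ext (mul_right_cancel e)
    · intro x hx
      refine ⟨⟨x * s₀⁻¹, ?_⟩, Finset.mem_univ _, by simp⟩
      rw [← QuotientGroup.eq_one_iff, QuotientGroup.mk_mul, QuotientGroup.mk_inv,
        (Finset.mem_filter.mp hx).2, mul_inv_cancel]
  have hcount : ∀ x ∈ F, (Finset.univ.filter fun b => Φ b = x).card = Nat.card C := by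
    have hsub : Finset.univ.image Φ ⊆ F := fun x hx => by
      obtain ⟨a, -, rfl⟩ := Finset.mem_image.mp hx
      exact hmem a
    have h1 : (Finset.univ.image Φ).card * Nat.card C = F.card * Nat.card C := by
      rw [← smul_eq_mul, ← Finset.sum_const, Finset.sum_congr rfl fun x hx => ?_,
        ← Finset.card_eq_sum_card_image Φ Finset.univ, hFG, Finset.card_univ, Fintype.card_prod,
        ← Nat.card_eq_fintype_card, ← Nat.card_eq_fintype_card]
      obtain ⟨a, -, rfl⟩ := Finset.mem_image.mp hx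
      exact (hfib a).symm
    have h2 := Finset.eq_of_subset_of_card_le hsub
      (Nat.eq_of_mul_eq_mul_right Nat.card_pos h1).ge
    intro x hx
    rw [← h2] at hx
    obtain ⟨a, -, rfl⟩ := Finset.mem_image.mp hx
    exact hfib a
  calc (Nat.card C : ℂ) * ∑ x ∈ F, f x
      = ∑ x ∈ F, ∑ b ∈ Finset.univ.filter (fun b => Φ b = x), f (Φ b) := by
        rw [Finset.mul_sum]
        refine Finset.sum_congr rfl fun x hx => ?_
        rw [Finset.sum_congr rfl fun b hb => by rw [(Finset.mem_filter.mp hb).2],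
          Finset.sum_const, hcount x hx, nsmul_eq_mul]
    _ = ∑ b : G × C, f (Φ b) := Finset.sum_fiberwise_of_maps_to (fun b _ => hmem b) _
    _ = _ := by
        rw [Fintype.sum_prod_type]
        simp only [Φ]
        have e : ∀ (g : G) (c : C), f ((g : Γ) * ((c : Γ) * s₀) * (g : Γ)⁻¹) = f ((c : Γ) * s₀) :=
          fun g c => hf _ _
        simp only [e]
        rw [Finset.sum_const, Finset.card_univ, ← Nat.card_eq_fintype_card, nsmul_eq_mul]

include hC hs₀ hcop htop in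
open Classical in
/-- The functions on the centralizer are orthonormal. -/
theorem inner_values {χ χ' : Cfsg.IrrCharacter G} {χh χh' : Cfsg.IrrCharacter Γ}
    (h : IsCanon G S χ χh) (h' : IsCanon G S χ' χh') :
    Cfsg.classInner (fun c : C => (χh : Γ → ℂ) ((c : Γ) * s₀))
      (fun c : C => (χh' : Γ → ℂ) ((c : Γ) * s₀)) = if χ = χ' then 1 else 0 := by
  have hcyc : IsCyclic S := hs₀ ▸ inferInstance
  have hcl : Cfsg.IsClassFunction Γ fun x => (χh : Γ → ℂ) x * conj ((χh' : Γ → ℂ) x) := fun a b => by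
    show _ * _ = _
    rw [CT.isClassFunction_of_isIrr χh.2 a b, CT.isClassFunction_of_isIrr χh'.2 a b]
  have h1 := sum_coset G S hcop C hC hs₀ hcl
  rw [orth G S hcop htop hcyc h h' s₀] at h1
  have hC0 : (Nat.card C : ℂ) ≠ 0 := Nat.cast_ne_zero.mpr Nat.card_pos.ne'
  have hG0 : (Nat.card G : ℂ) ≠ 0 := Nat.cast_ne_zero.mpr Nat.card_pos.ne'
  rw [Cfsg.classInner]
  split_ifs at h1 ⊢ with he
  · field_simp
    exact mul_left_cancel₀ hG0 (by linear_combination -h1)
  · rw [mul_zero] at h1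
    rw [(mul_eq_zero.mp h1.symm).resolve_left hG0, mul_zero]

include hC hs₀ hcop htop in
/-- The values do not depend on the generator. -/
theorem value_gen {χ : Cfsg.IrrCharacter G} {χh : Cfsg.IrrCharacter Γ} (h : IsCanon G S χ χh)
    (c : C) {j : ℕ} (hj : j.Coprime (Nat.card S)) :
    (χh : Γ → ℂ) ((c : Γ) * s₀ ^ j) = (χh : Γ → ℂ) ((c : Γ) * s₀) := by
  obtain ⟨k, hkG, hkj⟩ := Nat.chineseRemainder hcop 1 j
  have hΓ : Nat.card Γ = Nat.card G * Nat.card S := by
    rw [← G.card_mul_index, index_eq G S hcop htop]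
  have hkG' : k.Coprime (Nat.card G) := by
    rw [Nat.Coprime, Nat.gcd_comm, Nat.gcd_rec, hkG, ← Nat.gcd_rec, Nat.gcd_one_right]
  have hkS : k.Coprime (Nat.card S) := by
    rw [Nat.Coprime, Nat.gcd_comm, Nat.gcd_rec, hkj, ← Nat.gcd_rec, Nat.gcd_comm]
    exact hj
  have hk : k.Coprime (Nat.card Γ) := hΓ ▸ Nat.Coprime.mul_right hkG' hkS
  have hpG : ∀ g : G, (g : Γ) ^ k = g := by
    intro g
    conv_rhs => rw [← pow_one (g : Γ)]
    refine pow_eq_pow_iff_modEq.mpr (hkG.of_dvd ?_)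
    rw [Subgroup.orderOf_coe]
    exact orderOf_dvd_natCard g
  let χk := Blocks.powIrr hk χh
  have hdetS : ∀ (ψ : Cfsg.IrrCharacter Γ), (Cfsg.detOrder (ψ : Γ → ℂ)).Coprime (Nat.card S) →
      ∀ s ∈ S, Cfsg.detChar (ψ : Γ → ℂ) s = 1 := by
    intro ψ hψ s hs
    obtain ⟨d, ρ, hρ⟩ := CT.isCharacter_of_isIrr ψ.2
    rw [← hρ, CoprimeExt.detOrder_eq] at hψ
    rw [← hρ, CoprimeExt.detChar_eq]
    have h1 : CoprimeExt.detHom ρ s ^ orderOf (CoprimeExt.detHom ρ) = 1 := by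
      rw [← MonoidHom.pow_apply, pow_orderOf_eq_one, MonoidHom.one_apply]
    have h2 : CoprimeExt.detHom ρ s ^ Nat.card S = 1 := by
      rw [← map_pow, show s ^ Nat.card S = 1 from congrArg Subtype.val
        (pow_card_eq_one' (x := (⟨s, hs⟩ : S))), map_one]
    show ((CoprimeExt.detHom ρ s : ℂˣ) : ℂ) = 1
    rw [orderOf_eq_one_iff.mp (Nat.eq_one_of_dvd_coprimes hψ (orderOf_dvd_of_pow_eq_one h1)
      (orderOf_dvd_of_pow_eq_one h2)), Units.val_one]
  have hcan : IsCanon G S χ χk := by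
    refine ⟨fun g => ?_, ?_⟩
    · rw [Blocks.powIrr_apply, hpG, h.1]
    suffices hdet : Cfsg.detChar (χk : Γ → ℂ) = Cfsg.detChar (χh : Γ → ℂ) by
      unfold Cfsg.detOrder
      rw [hdet]
      exact h.2
    obtain ⟨d, ρ, hρ⟩ := CT.isCharacter_of_isIrr χh.2
    obtain ⟨d', τ, hτ⟩ := CT.isCharacter_of_isIrr χk.2
    rw [← hρ, ← hτ, CoprimeExt.detChar_eq, CoprimeExt.detChar_eq]
    suffices e : CoprimeExt.detHom τ = CoprimeExt.detHom ρ by rw [e]
    have hle : G ⊔ S ≤ MonoidHom.eqLocus (CoprimeExt.detHom τ) (CoprimeExt.detHom ρ) := by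
      refine sup_le (fun g hg => ?_) fun s hs => ?_
      · refine Units.ext ?_
        have h1 := CoprimeExt.detChar_eq (CoprimeExt.pullRep τ G.subtype)
        have h2 : (CoprimeExt.pullRep τ G.subtype).character =
            (CoprimeExt.pullRep ρ G.subtype).character := funext fun x => by
          show τ.character (x : Γ) = ρ.character (x : Γ)
          rw [hτ, hρ, Blocks.powIrr_apply, hpG]
        rw [h2, CoprimeExt.detChar_eq] at h1
        exact (congrFun h1 ⟨g, hg⟩).symm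
      · haveI : IsCyclic S := hs₀ ▸ inferInstance
        letI : CommGroup S := IsCyclic.commGroup
        refine Units.ext ?_
        have h1 := CoprimeExt.detChar_eq (CoprimeExt.pullRep τ S.subtype)
        have h2 : (CoprimeExt.pullRep τ S.subtype).character =
            (CoprimeExt.pullRep ρ (S.subtype.comp (powMonoidHom k))).character := funext fun x => by
          show τ.character (x : Γ) = ρ.character ((x : Γ) ^ k)
          rw [hτ, hρ, Blocks.powIrr_apply]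
        rw [h2, CoprimeExt.detChar_eq] at h1
        have e1 := (congrFun h1 ⟨s, hs⟩).symm
        have hd := fun s hs => hdetS χh h.2 s hs
        rw [← hρ, CoprimeExt.detChar_eq] at hd
        refine Eq.trans e1 ?_
        show ((CoprimeExt.detHom ρ (s ^ k) : ℂˣ) : ℂ) = (CoprimeExt.detHom ρ s : ℂ)
        exact (hd _ (pow_mem hs k)).trans (hd _ hs).symm
    exact MonoidHom.ext fun x => hle (htop ▸ Subgroup.mem_top x)
  have e := canon_unique G S hcop htop χ hcan h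
  have e1 := congrFun (congrArg Subtype.val e) ((c : Γ) * s₀)
  rw [Blocks.powIrr_apply, (commute_gen G S C hC hs₀ c).mul_pow] at e1
  rw [← e1]
  exact congrArg (χh : Γ → ℂ) (congrArg₂ (· * ·) (hpG ⟨c, (hC.le c.2).1⟩).symm
    (pow_eq_pow_iff_modEq.mpr (hkj.symm.of_dvd (by rw [← Nat.card_zpowers, hs₀]))))

include hC hs₀ hcop htop in
/-- The coefficients are integers, and bounded by the multiplicities in the restriction. -/
theorem exists_int_coeff {χ : Cfsg.IrrCharacter G} {χh : Cfsg.IrrCharacter Γ}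
    (h : IsCanon G S χ χh) (hCG : C ≤ G) (β : Cfsg.IrrCharacter C) :
    ∃ a : ℤ, Cfsg.classInner (fun c : C => (χh : Γ → ℂ) ((c : Γ) * s₀)) (β : C → ℂ) = (a : ℂ) ∧
      (Cfsg.classInner (fun c : C => (χ : G → ℂ) ⟨c, hCG c.2⟩) (β : C → ℂ) = 0 → a = 0) := by
  classical
  set n := Nat.card S with hn
  haveI : NeZero n := ⟨Nat.card_pos.ne'⟩
  haveI := Fintype.ofFinite S
  have hs : s₀ ∈ S := hs₀ ▸ Subgroup.mem_zpowers s₀
  have hord : orderOf s₀ = n := by rw [← Nat.card_zpowers, hs₀]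
  let φ : C × S →* Γ :=
    { toFun := fun a => (a.1 : Γ) * (a.2 : Γ)
      map_one' := by simp
      map_mul' := fun a b => by
        have hc : Commute (b.1 : Γ) (a.2 : Γ) :=
          (Subgroup.mem_centralizer_iff.mp (hC.le b.1.2).2 a.2 a.2.2).symm
        simp only [Prod.fst_mul, Prod.snd_mul, Subgroup.coe_mul]
        calc (a.1 : Γ) * b.1 * (a.2 * b.2) = a.1 * ((b.1 : Γ) * a.2) * b.2 := by group
          _ = _ := by rw [hc.eq]; group }
  have hψ : Cfsg.IsCharacter (C × S) fun a => (χh : Γ → ℂ) (φ a) :=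
    CT.isCharacter_comp φ (CT.isCharacter_of_isIrr χh.2)
  let z : C × S := (1, ⟨s₀, hs⟩)
  have hzc : z ∈ Subgroup.center (C × S) := by
    haveI : IsCyclic S := hs₀ ▸ inferInstance
    letI : CommGroup S := IsCyclic.commGroup
    exact Subgroup.mem_center_iff.mpr fun w => Prod.ext (by simp [z]) (mul_comm _ _)
  choose ω hω using fun ξ : Cfsg.IrrCharacter (C × S) => Blocks.exists_scalar_central ξ hzc
  have hωp : ∀ (ξ : Cfsg.IrrCharacter (C × S)) (i : ℕ) (b : C × S), (ξ : C × S → ℂ) (z ^ i * b) = ω ξ ^ i * (ξ : C × S → ℂ) b := by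
    intro ξ i b
    induction i generalizing b with
    | zero => simp
    | succ i ih => rw [pow_succ, mul_assoc, ih, hω, pow_succ, mul_assoc]
  have hωn : ∀ ξ, ω ξ ^ n = 1 := by
    intro ξ
    have hz : z ^ n = 1 := Prod.ext (one_pow _) (pow_card_eq_one' (x := (⟨s₀, hs⟩ : S)))
    have := hωp ξ n 1
    rw [hz, one_mul] at this
    exact (mul_eq_right₀ (CT.irr_one_ne_zero ξ.2)).mp this.symm
  have hres : ∀ ξ : Cfsg.IrrCharacter (C × S),
      Cfsg.IsCharacter C fun c => (ξ : C × S → ℂ) (c, 1) := fun ξ =>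
    CT.isCharacter_comp (MonoidHom.inl C S) (CT.isCharacter_of_isIrr ξ.2)
  let N : Cfsg.IrrCharacter (C × S) → ℕ := fun ξ =>
    CT.mult (fun a => (χh : Γ → ℂ) (φ a)) (ξ : C × S → ℂ) *
      CT.mult (fun c => (ξ : C × S → ℂ) (c, 1)) (β : C → ℂ)
  have hexp : ∀ i : ℕ,
      Cfsg.classInner (fun c : C => (χh : Γ → ℂ) ((c : Γ) * s₀ ^ i)) (β : C → ℂ) =
        ∑ ξ, (N ξ : ℂ) * ω ξ ^ i := by
    intro i
    have e : (fun c : C => (χh : Γ → ℂ) ((c : Γ) * s₀ ^ i)) =
        ∑ ξ : Cfsg.IrrCharacter (C × S),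
          ((CT.mult (fun a => (χh : Γ → ℂ) (φ a)) (ξ : C × S → ℂ) : ℂ) * ω ξ ^ i) •
            fun c => (ξ : C × S → ℂ) (c, 1) := by
      funext c
      have h1 := congrFun (CT.character_eq_sum hψ) (z ^ i * (c, 1))
      rw [Finset.sum_apply] at h1 ⊢
      have e2 : φ (z ^ i * (c, 1)) = (c : Γ) * s₀ ^ i := by simp [φ, z]
      rw [e2] at h1
      rw [h1]
      refine Finset.sum_congr rfl fun ξ _ => ?_
      simp only [Pi.smul_apply, smul_eq_mul, hωp]
      ring
    rw [e, CT.classInner_sum_left]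
    refine Finset.sum_congr rfl fun ξ _ => ?_
    rw [CT.classInner_smul_left, CT.mult_spec (hres ξ) (CT.isCharacter_of_isIrr β.2)]
    simp only [N]
    push_cast
    ring
  obtain ⟨ζ, hζ⟩ : ∃ ζ : ℂ, IsPrimitiveRoot ζ n := ⟨_, Complex.isPrimitiveRoot_exp n (NeZero.ne n)⟩
  obtain ⟨K, hfin, hgal, hroot⟩ := Blocks.exists_root_field n
  let aK : K := ∑ ξ, (N ξ : K) * ⟨ω ξ, hroot _ (hωn ξ)⟩
  have haK : (aK : ℂ) = ∑ ξ, (N ξ : ℂ) * ω ξ ^ 1 := by
    simp only [aK, AddSubmonoidClass.coe_finsetSum, pow_one]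
    exact Finset.sum_congr rfl fun ξ _ => by push_cast; rfl
  have hfix : ∀ σ : Gal(K/ℚ), σ aK = aK := by
    intro σ
    let ζK : K := ⟨ζ, hroot _ hζ.pow_eq_one⟩
    have hζK : IsPrimitiveRoot ζK n :=
      (IsPrimitiveRoot.map_iff_of_injective (f := K.val) K.val.injective).mp hζ
    obtain ⟨j, hjn, hj⟩ := hζK.eq_pow_of_pow_eq_one (show σ ζK ^ n = 1 by
      rw [← map_pow, hζK.pow_eq_one, map_one])
    have hjc : j.Coprime n :=
      (hζK.pow_iff_coprime (NeZero.pos n) j).mp (hj ▸ hζK.map_of_injective σ.injective)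
    have hσ : ∀ w : K, w ^ n = 1 → σ w = w ^ j := by
      intro w hw
      obtain ⟨i, -, rfl⟩ := hζK.eq_pow_of_pow_eq_one hw
      rw [map_pow, ← hj, ← pow_mul, ← pow_mul, mul_comm]
    apply Subtype.ext
    rw [haK, ← hexp 1]
    simp only [aK, map_sum, map_mul, map_natCast, AddSubmonoidClass.coe_finsetSum]
    rw [Finset.sum_congr rfl fun ξ _ => by rw [hσ ⟨ω ξ, hroot _ (hωn ξ)⟩ (Subtype.ext (hωn ξ))]]
    push_cast
    rw [← hexp j]
    exact congrArg (fun f => Cfsg.classInner f (β : C → ℂ))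
      (funext fun c => by rw [pow_one]; exact value_gen G S hcop htop C hC hs₀ h c hjc)
  obtain ⟨r, hr⟩ := IntermediateField.mem_bot.mp ((IsGalois.mem_bot_iff_fixed aK).mpr hfix)
  have haint : IsIntegral ℤ (∑ ξ, (N ξ : ℂ) * ω ξ ^ 1) := by
    refine IsIntegral.sum _ fun ξ _ => (isIntegral_natCast _).mul ?_
    rw [pow_one]
    exact IsIntegral.of_pow (NeZero.pos n) (by rw [hωn]; exact isIntegral_one)
  have hr' : algebraMap ℚ ℂ r = ∑ ξ, (N ξ : ℂ) * ω ξ ^ 1 := by rw [← haK, ← hr]; rfl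
  rw [← hr'] at haint
  obtain ⟨a, ha⟩ := IsIntegrallyClosed.isIntegral_iff.mp
    ((isIntegral_algebraMap_iff (A := ℚ) (B := ℂ) (algebraMap ℚ ℂ).injective).mp haint)
  have hval : ∑ ξ, (N ξ : ℂ) * ω ξ ^ 1 = (a : ℂ) := by rw [← hr', ← ha]; simp
  refine ⟨a, ?_, fun h0 => ?_⟩
  · rw [← hval, ← hexp 1]; simp only [pow_one]
  · have h1 := hexp 0
    rw [show (fun c : C => (χh : Γ → ℂ) ((c : Γ) * s₀ ^ 0)) =
      fun c : C => (χ : G → ℂ) ⟨c, hCG c.2⟩ from funext fun c => by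
        rw [pow_zero, mul_one]; exact h.1 ⟨c, hCG c.2⟩, h0] at h1
    simp only [pow_zero, mul_one] at h1
    have hN : ∀ ξ, N ξ = 0 := fun ξ => by
      have h2 : ∑ ξ, N ξ = 0 := by exact_mod_cast h1.symm
      exact Finset.sum_eq_zero_iff.mp h2 ξ (Finset.mem_univ _)
    have : (a : ℂ) = 0 := by rw [← hval]; simp [hN]
    exact_mod_cast this

include hC hs₀ hcop htop in
/-- Up to sign the values form an irreducible character of the centralizer. -/
theorem exists_beta {χ : Cfsg.IrrCharacter G} {χh : Cfsg.IrrCharacter Γ}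
    (h : IsCanon G S χ χh) (hCG : C ≤ G) :
    ∃ (β : Cfsg.IrrCharacter C) (ε : ℤ), (ε = 1 ∨ ε = -1) ∧
      (∀ c : C, ∀ s : Γ, Subgroup.zpowers s = S →
        (χh : Γ → ℂ) ((c : Γ) * s) = (ε : ℂ) * (β : C → ℂ) c) ∧
      Cfsg.classInner (fun c : C => (χ : G → ℂ) ⟨c, hCG c.2⟩) (β : C → ℂ) ≠ 0 := by
  classical
  have hs : s₀ ∈ S := hs₀ ▸ Subgroup.mem_zpowers s₀
  let f : C → ℂ := fun c => (χh : Γ → ℂ) ((c : Γ) * s₀)
  have hfc : Cfsg.IsClassFunction C f := fun a b => by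
    show (χh : Γ → ℂ) (((b * a * b⁻¹ : C) : Γ) * s₀) = (χh : Γ → ℂ) ((a : Γ) * s₀)
    rw [← CT.isClassFunction_of_isIrr χh.2 ((a : Γ) * s₀) (b : Γ)]
    congr 1
    simp only [Subgroup.coe_mul, Subgroup.coe_inv, mul_assoc]
    rw [(commute_gen G S C hC hs₀ b).inv_left.eq]
  choose a ha ha0 using exists_int_coeff G S hcop htop C hC hs₀ h hCG
  have hsum : ∑ β, a β ^ 2 = 1 := by
    have h1 := inner_values G S hcop htop C hC hs₀ h h
    rw [if_pos rfl, show (fun c : C => (χh : Γ → ℂ) ((c : Γ) * s₀)) = f from rfl,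
      CT.classInner_eq_sum hfc] at h1
    simp only [show ∀ β, Cfsg.classInner f (β : Cfsg.IrrCharacter C) = (a β : ℂ) from ha,
      map_intCast, ← sq] at h1
    exact_mod_cast h1
  obtain ⟨β, hβ⟩ : ∃ β, a β ≠ 0 := by
    by_contra hcon
    push Not at hcon
    simp [hcon] at hsum
  have hle : a β ^ 2 + ∑ γ ∈ Finset.univ.erase β, a γ ^ 2 = 1 := by
    exact (Finset.add_sum_erase Finset.univ (fun γ => a γ ^ 2) (Finset.mem_univ β)).trans hsum
  have hpos : 1 ≤ a β ^ 2 := Int.one_le_abs (pow_ne_zero 2 hβ) |>.trans_eq (abs_of_nonneg (sq_nonneg _))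
  have hrest : ∀ γ, γ ≠ β → a γ = 0 := fun γ hγ => by
    have h0 : ∑ γ ∈ Finset.univ.erase β, a γ ^ 2 = 0 := by
      have : 0 ≤ ∑ γ ∈ Finset.univ.erase β, a γ ^ 2 := Finset.sum_nonneg fun _ _ => sq_nonneg _
      linarith
    exact pow_eq_zero_iff two_ne_zero |>.mp ((Finset.sum_eq_zero_iff_of_nonneg fun _ _ => sq_nonneg _).mp h0 γ
      (Finset.mem_erase.mpr ⟨hγ, Finset.mem_univ _⟩))
  refine ⟨β, a β, ?_, fun c s hsg => ?_, fun h0 => hβ (ha0 β h0)⟩
  · have h0 : (0 : ℤ) ≤ ∑ γ ∈ Finset.univ.erase β, a γ ^ 2 := Finset.sum_nonneg fun _ _ => sq_nonneg _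
    have : a β ^ 2 = 1 := by linarith
    exact sq_eq_one_iff.mp this
  · have hf : f c = (a β : ℂ) * (β : C → ℂ) c := by
      conv_lhs => rw [CT.classFunction_eq_sum hfc]
      rw [Finset.sum_apply, Finset.sum_eq_single β (fun γ _ hγ => by
        rw [Pi.smul_apply, show Cfsg.classInner f (γ : C → ℂ) = _ from ha γ, hrest γ hγ]; simp)
        (fun h => absurd (Finset.mem_univ _) h), Pi.smul_apply, smul_eq_mul,
        show Cfsg.classInner f (β : C → ℂ) = _ from ha β]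
    rw [← hf]
    obtain ⟨j, rfl⟩ := mem_powers_iff_mem_zpowers.mpr
      (show s ∈ Subgroup.zpowers s₀ by rw [hs₀, ← hsg]; exact Subgroup.mem_zpowers s)
    refine value_gen G S hcop htop C hC hs₀ h c ?_
    have h1 : orderOf (s₀ ^ j) = orderOf s₀ := by rw [← Nat.card_zpowers, ← Nat.card_zpowers, hsg, hs₀]
    rw [← hs₀, Nat.card_zpowers]
    by_cases hj : j = 0
    · subst hj
      rw [pow_zero, orderOf_one] at h1
      rw [← h1]; exact Nat.coprime_one_right _
    · rw [orderOf_pow' s₀ hj] at h1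
      exact (Nat.coprime_comm.mp ((Nat.div_eq_self.mp h1).resolve_left (orderOf_pos s₀).ne'))

end Values

end Cfsg.Agent.CanonCyc
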