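import Cfsg.Agent.Lib.CT.Chief
import Cfsg.Agent.Lib.CT.Kernel

/-!
# Extensions and products: generalized Gallagher, coset averages, fully ramified characters
-/

set_option autoImplicit false
set_option linter.unusedSectionVars false

namespace Cfsg.Agent.CT.GallagherExt

open scoped ComplexConjugate

universe u

variable {G : Type u} [Group G] [Fintype G] (N : Subgroup G) [hN : N.Normal] [Fintype N]

theorem norm_indFun {f : N → ℂ} (hf : IsIrrCharacter N f) (hfi : ∀ g, conjFun N g f = f) :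
    classInner (indFun N f) (indFun N f) = (N.index : ℂ) := by
  rw [frobenius_reciprocity N f (isClassFunction_indFun N f), restrict_indFun N f]
  simp only [hfi, Finset.sum_const, Finset.card_univ]
  rw [← Nat.cast_smul_eq_nsmul ℂ, ← Nat.card_eq_fintype_card, smul_smul,
    classInner_smul_right, irr_inner_self hf, mul_one, map_mul, map_inv₀, map_natCast,
    map_natCast, ← N.card_mul_index]
  have : (Nat.card N : ℂ) ≠ 0 := card_ne_zero
  push_cast
  field_simp

/-- Multiplying by an extension is injective from `Irr(G|φ)` to `Irr(G|φθ)`. -/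
theorem inner_mul_ext {φ θ : N → ℂ} (hφ : IsIrrCharacter N φ) (hφinv : ∀ g, conjFun N g φ = φ)
    (hθinv : ∀ g, conjFun N g θ = θ) (hprod : IsIrrCharacter N (φ * θ))
    {χ : G → ℂ} (hχ : IsIrrCharacter G χ) (hext : ∀ n : N, χ n = θ n)
    (η η' : IrrCharacter G) (hη : classInner (indFun N φ) η ≠ 0) (hη' : classInner (indFun N φ) η' ≠ 0)
    [Decidable (η = η')] :
    classInner ((η : G → ℂ) * χ) ((η' : G → ℂ) * χ) = if η = η' then 1 else 0 := by
  classical
  have hI := isCharacter_indFun N (isCharacter_of_isIrr hφ)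
  set m : IrrCharacter G → ℕ := fun η => mult (indFun N φ) (η : G → ℂ) with hm
  have hc := fun η : IrrCharacter G => isCharacter_of_isIrr η.2
  have hχc := isCharacter_of_isIrr hχ
  have hind : indFun N (φ * θ) = ∑ η : IrrCharacter G, (m η : ℂ) • ((η : G → ℂ) * χ) := by
    have h1 := indFun_mul_restrict N φ (isClassFunction_of_isCharacter hχc)
    rw [show (fun n : N => χ n) = θ from funext hext] at h1
    rw [h1]
    calc indFun N φ * χ = (∑ η : IrrCharacter G, (m η : ℂ) • (η : G → ℂ)) * χ := by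
          rw [← character_eq_sum hI]
      _ = _ := by rw [Finset.sum_mul]; simp only [smul_mul_assoc]
  set d : IrrCharacter G → IrrCharacter G → ℕ :=
    fun η η' => mult ((η : G → ℂ) * χ) ((η' : G → ℂ) * χ) with hd
  have hdspec : ∀ η η' : IrrCharacter G,
      classInner ((η : G → ℂ) * χ) ((η' : G → ℂ) * χ) = (d η η' : ℂ) :=
    fun η η' => mult_spec (isCharacter_mul (hc η) hχc) (isCharacter_mul (hc η') hχc)
  have hsum1 : ∑ η : IrrCharacter G, ∑ η' : IrrCharacter G, m η * m η' * d η η' = N.index := by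
    have hinv : ∀ g, conjFun N g (φ * θ) = φ * θ := fun g => funext fun n =>
      congrArg₂ (· * ·) (congrFun (hφinv g) n) (congrFun (hθinv g) n)
    have h := norm_indFun N hprod hinv
    rw [hind, classInner_sum_left] at h
    simp only [classInner_sum_right, classInner_smul_left, classInner_smul_right,
      map_natCast, hdspec] at h
    simp only [← mul_assoc] at h
    rw [← Nat.cast_inj (R := ℂ), ← h]
    push_cast
    exact Finset.sum_congr rfl fun η _ => Finset.sum_congr rfl fun η' _ => by ring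
  have hsum2 : ∑ η : IrrCharacter G, m η * m η = N.index := by
    have h := norm_indFun N hφ hφinv
    rw [classInner_eq_sum (isClassFunction_of_isCharacter hI)] at h
    simp only [mult_spec hI (hc _), map_natCast] at h
    exact_mod_cast h
  have hdpos : ∀ η, 1 ≤ d η η := by
    intro η
    by_contra h
    have h1 := hdspec η η
    rw [show d η η = 0 by omega, Nat.cast_zero] at h1
    have h2 := congrFun (classInner_self_eq_zero h1) 1
    exact mul_ne_zero (irr_one_ne_zero η.2) (irr_one_ne_zero hχ) h2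
  have hterm : ∀ a b : IrrCharacter G, m a * m b * (if a = b then 1 else 0) ≤ m a * m b * d a b := by
    intro a b
    split_ifs with e
    · subst e; exact Nat.mul_le_mul_left _ (hdpos a)
    · simp
  have heq : ∑ a : IrrCharacter G, ∑ b : IrrCharacter G, m a * m b * (if a = b then 1 else 0) =
      ∑ a : IrrCharacter G, ∑ b : IrrCharacter G, m a * m b * d a b := by
    rw [hsum1, ← hsum2]
    simp
  have h1 := (Finset.sum_eq_sum_iff_of_le
    (fun a _ => Finset.sum_le_sum fun b _ => hterm a b)).mp heq η (Finset.mem_univ _)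
  have h2 := (Finset.sum_eq_sum_iff_of_le (fun b _ => hterm η b)).mp h1 η' (Finset.mem_univ _)
  have hm0 : ∀ {η : IrrCharacter G}, classInner (indFun N φ) η ≠ 0 → m η ≠ 0 := fun {η} h e =>
    h (by rw [mult_spec hI (hc η)]; exact_mod_cast e)
  have h3 := Nat.eq_of_mul_eq_mul_left (Nat.pos_of_ne_zero (mul_ne_zero (hm0 hη) (hm0 hη'))) h2
  rw [hdspec, ← h3]
  split_ifs <;> simp

/-- Multiplication by an extension is a bijection `Irr(G|φ) → Irr(G|φθ)`. -/
theorem bijOn_mul_ext {φ θ : N → ℂ} (hφ : IsIrrCharacter N φ) (hφinv : ∀ g, conjFun N g φ = φ)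
    (hθinv : ∀ g, conjFun N g θ = θ) (hprod : IsIrrCharacter N (φ * θ))
    {χ : G → ℂ} (hχ : IsIrrCharacter G χ) (hext : ∀ n : N, χ n = θ n) :
    Set.BijOn (fun β : G → ℂ => β * χ)
      {β : G → ℂ | IsIrrCharacter G β ∧ classInner (indFun N φ) β ≠ 0}
      {ψ : G → ℂ | IsIrrCharacter G ψ ∧ classInner (indFun N (φ * θ)) ψ ≠ 0} := by
  classical
  have hI := isCharacter_indFun N (isCharacter_of_isIrr hφ)
  have hχc := isCharacter_of_isIrr hχ
  have hind : indFun N (φ * θ) =
      ∑ η : IrrCharacter G, (mult (indFun N φ) η : ℂ) • ((η : G → ℂ) * χ) := by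
    have h1 := indFun_mul_restrict N φ (isClassFunction_of_isCharacter hχc)
    rw [show (fun n : N => χ n) = θ from funext hext] at h1
    rw [h1]
    calc indFun N φ * χ
        = (∑ η : IrrCharacter G, (mult (indFun N φ) η : ℂ) • (η : G → ℂ)) * χ := by
          rw [← character_eq_sum hI]
      _ = _ := by rw [Finset.sum_mul]; simp only [smul_mul_assoc]
  have hirr : ∀ η : IrrCharacter G, classInner (indFun N φ) η ≠ 0 → IsIrrCharacter G ((η : G → ℂ) * χ) :=
    fun η h => isIrr_of_inner_self (isCharacter_mul (isCharacter_of_isIrr η.2) hχc)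
      (by rw [inner_mul_ext N hφ hφinv hθinv hprod hχ hext η η h h, if_pos rfl])
  refine ⟨fun β hβ => ⟨hirr ⟨β, hβ.1⟩ hβ.2, ?_⟩, fun β hβ β' hβ' h => ?_, fun ψ hψ => ?_⟩
  · show classInner (indFun N (φ * θ)) (β * χ) ≠ 0
    rw [hind, classInner_sum_left, Finset.sum_eq_single (⟨β, hβ.1⟩ : IrrCharacter G)]
    · rw [classInner_smul_left, irr_inner_self (hirr ⟨β, hβ.1⟩ hβ.2), mul_one,
        ← mult_spec hI (isCharacter_of_isIrr hβ.1)]
      exact hβ.2
    · intro η _ hne
      rw [classInner_smul_left]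
      by_cases h0 : classInner (indFun N φ) η = 0
      · rw [mult_spec hI (isCharacter_of_isIrr η.2)] at h0
        rw [h0, zero_mul]
      · rw [inner_mul_ext N hφ hφinv hθinv hprod hχ hext η ⟨β, hβ.1⟩ h0 hβ.2, if_neg hne, mul_zero]
    · exact fun h => absurd (Finset.mem_univ _) h
  · have e := inner_mul_ext N hφ hφinv hθinv hprod hχ hext ⟨β, hβ.1⟩ ⟨β', hβ'.1⟩ hβ.2 hβ'.2
    rw [show (β * χ : G → ℂ) = β' * χ from h, irr_inner_self (hirr ⟨β', hβ'.1⟩ hβ'.2)] at e
    by_contra hne
    rw [if_neg fun e' => hne (congrArg Subtype.val e')] at e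
    exact one_ne_zero e
  · have hne := hψ.2
    rw [hind, classInner_sum_left] at hne
    obtain ⟨η, -, hη⟩ := Finset.exists_ne_zero_of_sum_ne_zero hne
    rw [classInner_smul_left, mul_ne_zero_iff] at hη
    have h0 : classInner (indFun N φ) η ≠ 0 := by
      rw [mult_spec hI (isCharacter_of_isIrr η.2)]; exact hη.1
    exact ⟨η, ⟨η.2, h0⟩, eq_of_inner_ne_zero (hirr η h0) hψ.1 hη.2⟩

/-- An irreducible character without invariants under `N` averages to zero on the cosets. -/
theorem coset_sum_eq_zero {β : G → ℂ} (hβ : IsIrrCharacter G β)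
    (h : classInner (fun n : N => β n) (fun _ => 1) = 0) (g : G) : ∑ n : N, β (n * g) = 0 := by
  classical
  obtain ⟨d, ρ, hρ, rfl⟩ := hβ
  haveI := hρ
  have hcl : IsClassFunction G (fun g => if g ∈ N then (1 : ℂ) else 0) := fun x y => by
    refine if_congr ⟨fun h => ?_, fun h => hN.conj_mem _ h y⟩ rfl rfl
    have := hN.conj_mem _ h y⁻¹
    simpa [mul_assoc] using this
  have hsc := weighted_sum_scalar ρ hcl
  have hzero : ∑ x, (if x ∈ N then (1 : ℂ) else 0) * ρ.character x = 0 := by
    rw [classInner, mul_eq_zero] at h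
    have h' := h.resolve_left (inv_ne_zero card_ne_zero)
    simp only [map_one, mul_one] at h'
    simp only [ite_mul, one_mul, zero_mul]
    rw [← Finset.sum_filter, Finset.sum_subtype (Finset.univ.filter (· ∈ N)) (p := fun x => x ∈ N)
      (fun x => by simp)]
    exact h'
  rw [hzero, zero_div, zero_smul] at hsc
  have hsc2 := congrArg (fun T => LinearMap.trace ℂ _ (T ∘ₗ ρ g)) hsc
  simp only [LinearMap.zero_comp, map_zero] at hsc2
  rw [← hsc2]
  simp only [ite_smul, one_smul, zero_smul, ← Finset.sum_filter]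
  rw [Finset.sum_subtype (Finset.univ.filter (· ∈ N)) (p := fun x => x ∈ N) (fun x => by simp),
    ← Module.End.mul_eq_comp, Finset.sum_mul, map_sum]
  exact Finset.sum_congr rfl fun n _ => by rw [← map_mul]; rfl

/-- The twisted coset average of a product with an extension. -/
theorem twisted_average {χ ψ : G → ℂ} (hχ : IsIrrCharacter G χ)
    (hχN : IsIrrCharacter N (fun n : N => χ n)) (hψ : IsIrrCharacter G ψ) (η : G → ℂ)
    (hη : η = fun g => (Nat.card N : ℂ)⁻¹ * ∑ n : N, ψ ((n : G) * g) * conj (χ ((n : G) * g))) :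
    (classInner (fun n : N => ψ n) (fun n : N => χ n) ≠ 0 → IsIrrCharacter G η) ∧
      (classInner (fun n : N => ψ n) (fun n : N => χ n) = 0 → η = 0) ∧
      (ψ = χ → η = fun _ => 1) := by
  classical
  have hχc := isCharacter_of_isIrr hχ
  have hψcf := isClassFunction_of_isIrr hψ
  have hχcf := isClassFunction_of_isIrr hχ
  have hcard : (Nat.card N : ℂ) ≠ 0 := card_ne_zero
  have hcoset : ∀ (m : N) (g : G), η ((m : G) * g) = η g := fun m g => by
    simp only [hη]
    congr 1
    refine Fintype.sum_equiv (Equiv.mulRight m) _ _ fun n => ?_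
    simp [mul_assoc]
  have hηcl : IsClassFunction G η := by
    intro g x
    simp only [hη]
    congr 1
    refine Fintype.sum_equiv (MulAut.conjNormal x⁻¹ : MulAut N).toEquiv _ _ fun n => ?_
    have e : ((n : G) * (x * g * x⁻¹)) = x * (((MulAut.conjNormal x⁻¹ : MulAut N) n : G) * g) * x⁻¹ := by
      rw [MulAut.conjNormal_apply]; group
    rw [e, hψcf, hχcf]
    rfl
  let θ : N → ℂ := fun n => χ n
  have hθinv : ∀ g, conjFun N g θ = θ := fun g => conjFun_restrict N g hχcf
  have hinv1 : ∀ g, conjFun N g (fun _ => (1 : ℂ)) = fun _ => 1 := fun g => rfl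
  have hmul : ((fun _ : N => (1 : ℂ)) * θ) = θ := funext fun n => one_mul _
  have hbij := bijOn_mul_ext N (φ := fun _ => 1) (θ := θ) isIrrCharacter_one hinv1 hθinv
    (by rw [hmul]; exact hχN) hχ (fun n => rfl)
  rw [hmul] at hbij
  -- the coefficients of `η`
  have hover : ∀ β : IrrCharacter G, classInner (indFun N (fun _ => 1)) β ≠ 0 →
      ∀ (n : N) (g : G), (β : G → ℂ) ((n : G) * g) = (β : G → ℂ) g := by
    intro β hβ n g
    have hc := isCharacter_of_isIrr β.2
    have hb : classInner (fun n : N => (β : G → ℂ) n) (fun _ => 1) ≠ 0 := by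
      rw [← classInner_comm_of_char isCharacter_one (isCharacter_restrict N hc),
        ← frobenius_reciprocity N _ (isClassFunction_of_isIrr β.2)]
      exact hβ
    have hres := restrict_eq_smul_of_invariant N β.2 isIrrCharacter_one hb hinv1
    have hk : (n : G) ∈ kerChar (β : G → ℂ) := (mem_kerChar_iff hc).mpr (by
      have e1 := congrFun hres n
      have e2 := congrFun hres 1
      simp only [Pi.smul_apply, OneMemClass.coe_one] at e1 e2
      rw [e1, e2])
    rw [isClassFunction_mul_comm (isClassFunction_of_isIrr β.2)]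
    exact hk g
  have hcoef : ∀ β : IrrCharacter G, classInner η (β : G → ℂ) =
      if classInner (indFun N (fun _ => 1)) β ≠ 0 then classInner ψ ((β : G → ℂ) * χ) else 0 := by
    intro β
    split_ifs with h
    swap
    · simp only [not_not] at h
      have hb : classInner (fun n : N => (β : G → ℂ) n) (fun _ => 1) = 0 := by
        rw [← classInner_comm_of_char isCharacter_one (isCharacter_restrict N (isCharacter_of_isIrr β.2)),
          ← frobenius_reciprocity N _ (isClassFunction_of_isIrr β.2)]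
        exact h
      have key : (Nat.card N : ℂ) * classInner η (β : G → ℂ) = 0 := by
        simp only [classInner]
        rw [← mul_assoc, mul_comm (Nat.card N : ℂ), mul_assoc]
        refine mul_eq_zero_of_right _ ?_
        calc (Nat.card N : ℂ) * ∑ g, η g * conj ((β : G → ℂ) g)
            = ∑ n : N, ∑ g : G, η ((n : G) * g) * conj ((β : G → ℂ) ((n : G) * g)) := by
              rw [← smul_eq_mul, Nat.cast_smul_eq_nsmul, Nat.card_eq_fintype_card, ← Finset.card_univ,
                ← Finset.sum_const]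
              exact Finset.sum_congr rfl fun n _ => (Fintype.sum_equiv (Equiv.mulLeft (n : G)) _
                (fun g => η g * conj ((β : G → ℂ) g)) fun g => rfl).symm
          _ = ∑ g : G, η g * conj (∑ n : N, (β : G → ℂ) ((n : G) * g)) := by
              rw [Finset.sum_comm]
              simp only [hcoset, map_sum, Finset.mul_sum]
          _ = 0 := Finset.sum_eq_zero fun g _ => by
              rw [coset_sum_eq_zero N β.2 hb g, map_zero, mul_zero]
      exact (mul_eq_zero.mp key).resolve_left hcard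
    · simp only [classInner, hη, Finset.mul_sum, Finset.sum_mul]
      rw [Finset.sum_comm]
      have : ∀ n : N, ∑ g : G, (Nat.card G : ℂ)⁻¹ * ((Nat.card N : ℂ)⁻¹ *
          (ψ ((n : G) * g) * conj (χ ((n : G) * g))) * conj ((β : G → ℂ) g)) =
          (Nat.card N : ℂ)⁻¹ * ∑ g : G, (Nat.card G : ℂ)⁻¹ * (ψ g * conj (((β : G → ℂ) * χ) g)) := by
        intro n
        rw [Finset.mul_sum]
        refine Fintype.sum_equiv (Equiv.mulLeft (n : G)) _ _ fun g => ?_
        rw [Equiv.coe_mulLeft, Pi.mul_apply, map_mul, hover β h n g]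
        ring
      rw [Finset.sum_congr rfl fun n _ => this n, Finset.sum_const, Finset.card_univ, nsmul_eq_mul,
        ← Nat.card_eq_fintype_card, ← mul_assoc, mul_inv_cancel₀ hcard, one_mul]
  have hzero : classInner (fun n : N => ψ n) θ = 0 → η = 0 := by
    intro h0
    refine classFunction_ext hηcl (fun x y => rfl) fun β => ?_
    rw [hcoef, show classInner (0 : G → ℂ) β = 0 by simp [classInner]]
    split_ifs with hb
    · by_contra hne
      have hirr := hbij.mapsTo (x := (β : G → ℂ)) ⟨β.2, hb⟩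
      have e : ψ = (β : G → ℂ) * χ := eq_of_inner_ne_zero hψ hirr.1 hne
      refine hirr.2 ?_
      show classInner (indFun N θ) ((β : G → ℂ) * χ) = 0
      rw [← e, frobenius_reciprocity N θ hψcf, ← classInner_conj_symm, h0, map_zero]
    · rfl
  have hmain : ∀ β₀ : IrrCharacter G, classInner (indFun N (fun _ => 1)) β₀ ≠ 0 →
      ψ = (β₀ : G → ℂ) * χ → η = (β₀ : G → ℂ) := by
    intro β₀ h₀ e
    refine classFunction_ext hηcl (isClassFunction_of_isIrr β₀.2) fun β => ?_
    rw [hcoef, irr_inner_subtype]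
    split_ifs with hb hb'
    · subst hb'
      rw [e, irr_inner_self (hbij.mapsTo (x := (β₀ : G → ℂ)) ⟨β₀.2, h₀⟩).1]
    · rw [e, irr_inner (hbij.mapsTo (x := (β₀ : G → ℂ)) ⟨β₀.2, h₀⟩).1
        (hbij.mapsTo (x := (β : G → ℂ)) ⟨β.2, hb⟩).1, if_neg fun h => hb'
          (Subtype.ext (hbij.injOn ⟨β₀.2, h₀⟩ ⟨β.2, hb⟩ h))]
    · rename_i hb'
      subst hb'
      exact absurd h₀ hb
    · rfl
  refine ⟨fun hne => ?_, hzero, fun e => ?_⟩
  · obtain ⟨β, hβ, hβe⟩ := hbij.surjOn (a := ψ) ⟨hψ, by
      rw [frobenius_reciprocity N θ hψcf, ← classInner_conj_symm]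
      simpa using hne⟩
    rw [hmain ⟨β, hβ.1⟩ hβ.2 hβe.symm]
    exact hβ.1
  · refine (hmain (trivIrr G) ?_ (e.trans (one_mul χ).symm)).trans rfl
    show classInner (indFun N (fun _ => 1)) (fun _ => (1 : ℂ)) ≠ 0
    rw [frobenius_reciprocity N _ (isClassFunction_of_isIrr isIrrCharacter_one),
      irr_inner_self isIrrCharacter_one]
    exact one_ne_zero

/-- Fully ramified characters. -/
theorem fully_ramified {χ : G → ℂ} (hχ : IsIrrCharacter G χ) {θ : N → ℂ} (hθ : IsIrrCharacter N θ)
    (hcon : classInner (fun n : N => χ n) θ ≠ 0) :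
    ((∃ e : ℕ, (fun n : N => χ n) = (e : ℂ) • θ ∧ e ^ 2 = N.index) ↔
      ((∀ g : G, g ∉ N → χ g = 0) ∧ ∀ g, conjFun N g θ = θ)) ∧
    ((∃ e : ℕ, (fun n : N => χ n) = (e : ℂ) • θ ∧ e ^ 2 = N.index) ↔
      ((∀ g, conjFun N g θ = θ) ∧
        ∀ ψ : G → ℂ, IsIrrCharacter G ψ → classInner (indFun N θ) ψ ≠ 0 → ψ = χ)) := by
  classical
  have hcN := isCharacter_restrict N (isCharacter_of_isIrr hχ)
  set e₀ := mult (fun n : N => χ n) θ with he₀
  have hres : (∀ g, conjFun N g θ = θ) → (fun n : N => χ n) = (e₀ : ℂ) • θ := fun hinv => by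
    rw [restrict_eq_smul_of_invariant N hχ hθ hcon hinv, mult_spec hcN (isCharacter_of_isIrr hθ)]
  have hinvar : ∀ e : ℕ, (fun n : N => χ n) = (e : ℂ) • θ → ∀ g, conjFun N g θ = θ := by
    intro e h g
    have hne : (e : ℂ) ≠ 0 := fun h0 => hcon (by rw [h, classInner_smul_left, h0, zero_mul])
    have h1 := conjFun_restrict N g (isClassFunction_of_isIrr hχ)
    rw [h, conjFun_smul] at h1
    exact smul_right_injective (N → ℂ) hne h1
  have hsum : ∀ e : ℕ, (fun n : N => χ n) = (e : ℂ) • θ →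
      ∑ g ∈ Finset.univ.filter (fun g => g ∈ N), χ g * conj (χ g) = (e : ℂ) ^ 2 * Nat.card N := by
    intro e h
    rw [Finset.sum_subtype (Finset.univ.filter (fun g => g ∈ N)) (p := fun x => x ∈ N) (fun x => by simp)]
    calc ∑ n : N, χ n * conj (χ n) = ∑ n : N, ((e : ℂ) ^ 2) * (θ n * conj (θ n)) :=
          Finset.sum_congr rfl fun n _ => by
            rw [congrFun h n, Pi.smul_apply, smul_eq_mul, map_mul, map_natCast]; ring
      _ = _ := by rw [← Finset.mul_sum, ← classInner_self_eq_sum θ, irr_inner_self hθ, mul_one]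
  have hall : ∑ g : G, χ g * conj (χ g) = (Nat.card G : ℂ) := by
    rw [← classInner_self_eq_sum χ, irr_inner_self hχ, mul_one]
  have hcardG : (Nat.card G : ℂ) = (N.index : ℂ) * Nat.card N := by exact_mod_cast N.index_mul_card.symm
  have hvan : ∀ e : ℕ, (fun n : N => χ n) = (e : ℂ) • θ → e ^ 2 = N.index → ∀ g ∉ N, χ g = 0 := by
    intro e h he g hg
    rw [← Finset.sum_filter_add_sum_filter_not _ (fun g => g ∈ N), hsum e h, hcardG, ← he] at hall
    push_cast at hall
    rw [add_eq_left] at hall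
    have hpos : ∀ x : G, χ x * conj (χ x) = ((Complex.normSq (χ x) : ℝ) : ℂ) := fun x => Complex.mul_conj _
    simp only [hpos] at hall
    rw [← Complex.ofReal_sum, Complex.ofReal_eq_zero,
      Finset.sum_eq_zero_iff_of_nonneg fun x _ => Complex.normSq_nonneg _] at hall
    exact Complex.normSq_eq_zero.mp (hall g (Finset.mem_filter.mpr ⟨Finset.mem_univ _, hg⟩))
  have hI := isCharacter_indFun N (isCharacter_of_isIrr hθ)
  have hmul : classInner (indFun N θ) χ = (e₀ : ℂ) := by
    rw [frobenius_reciprocity N θ (isClassFunction_of_isIrr hχ),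
      classInner_comm_of_char (isCharacter_of_isIrr hθ) hcN, mult_spec hcN (isCharacter_of_isIrr hθ)]
  have huniq : (∀ g, conjFun N g θ = θ) → (e₀ ^ 2 = N.index ↔
      ∀ ψ : G → ℂ, IsIrrCharacter G ψ → classInner (indFun N θ) ψ ≠ 0 → ψ = χ) := by
    intro hinv
    set m : IrrCharacter G → ℕ := fun ψ => mult (indFun N θ) ψ
    have hsum2 : ∑ ψ, m ψ ^ 2 = N.index := by
      have h := norm_indFun N hθ hinv
      rw [classInner_eq_sum (isClassFunction_of_isCharacter hI)] at h
      simp only [mult_spec hI (isCharacter_of_isIrr (Subtype.prop _)), map_natCast, ← pow_two] at h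
      exact_mod_cast h
    have hχm : m ⟨χ, hχ⟩ = e₀ := by
      rw [mult_spec hI (isCharacter_of_isIrr hχ)] at hmul
      exact_mod_cast hmul
    rw [← Finset.add_sum_erase _ _ (Finset.mem_univ (⟨χ, hχ⟩ : IrrCharacter G)), hχm] at hsum2
    constructor
    · intro he ψ hψ hne
      by_contra hne'
      have hz : ∑ ψ ∈ Finset.univ.erase (⟨χ, hχ⟩ : IrrCharacter G), m ψ ^ 2 = 0 := by omega
      have := Finset.sum_eq_zero_iff.mp hz ⟨ψ, hψ⟩
        (Finset.mem_erase.mpr ⟨fun e => hne' (congrArg Subtype.val e), Finset.mem_univ _⟩)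
      exact hne (by rw [mult_spec hI (isCharacter_of_isIrr hψ)]; exact_mod_cast eq_zero_of_pow_eq_zero this)
    · intro hall'
      rw [Finset.sum_eq_zero fun ψ hψ => ?_, add_zero] at hsum2
      · exact hsum2
      · have h0 : classInner (indFun N θ) (ψ : G → ℂ) = 0 := by_contra fun h =>
          Finset.ne_of_mem_erase hψ (Subtype.ext (hall' _ ψ.2 h))
        rw [mult_spec hI (isCharacter_of_isIrr ψ.2), Nat.cast_eq_zero] at h0
        show m ψ ^ 2 = 0
        rw [show m ψ = 0 from h0]; rfl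
  have huniq_e : ∀ e : ℕ, (fun n : N => χ n) = (e : ℂ) • θ → e = e₀ := by
    intro e h
    have := mult_spec hcN (isCharacter_of_isIrr hθ)
    rw [← he₀, h, classInner_smul_left, irr_inner_self hθ, mul_one] at this
    exact_mod_cast this
  refine ⟨⟨?_, ?_⟩, ⟨?_, ?_⟩⟩
  · rintro ⟨e, h, he⟩
    exact ⟨hvan e h he, hinvar e h⟩
  · rintro ⟨hz, hinv⟩
    refine ⟨e₀, hres hinv, ?_⟩
    rw [← Finset.sum_filter_add_sum_filter_not _ (fun g => g ∈ N), hsum e₀ (hres hinv),
      Finset.sum_eq_zero (s := Finset.univ.filter fun g => ¬ g ∈ N) fun g hg => by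
        rw [hz g (Finset.mem_filter.mp hg).2, zero_mul], add_zero, hcardG] at hall
    exact_mod_cast mul_right_cancel₀ (card_ne_zero (G := N)) hall
  · rintro ⟨e, h, he⟩
    exact ⟨hinvar e h, (huniq (hinvar e h)).mp (huniq_e e h ▸ he)⟩
  · rintro ⟨hinv, hu⟩
    exact ⟨e₀, hres hinv, (huniq hinv).mpr hu⟩

/-- Going down over an abelian chief factor: the three cases. -/
theorem going_down (K L : Subgroup G) [hK : K.Normal] [hL : L.Normal] [Fintype K] [Fintype L] (hLK : L ≤ K)
    (hchief : ∀ M : Subgroup G, M.Normal → L ≤ M → M ≤ K → M = L ∨ M = K)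
    (hab : ∀ a ∈ K, ∀ b ∈ K, a * b * a⁻¹ * b⁻¹ ∈ L) {ϑ : K → ℂ} (hϑ : IsIrrCharacter K ϑ)
    (hinv : ∀ g, conjFun K g ϑ = ϑ) :
    IsIrrCharacter L (fun x : L => ϑ ⟨x, hLK x.2⟩) ∨
    (∃ (φ : L → ℂ) (e : ℕ), IsIrrCharacter L φ ∧
      (fun x : L => ϑ ⟨x, hLK x.2⟩) = (e : ℂ) • φ ∧ e ^ 2 = L.relIndex K) ∨
    (∃ F : Finset (L → ℂ), (∀ φ ∈ F, IsIrrCharacter L φ) ∧ F.card = L.relIndex K ∧
      (fun x : L => ϑ ⟨x, hLK x.2⟩) = ∑ φ ∈ F, φ) := by
  classical
  haveI := Fintype.ofFinite (L.subgroupOf K)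
  let incl : L ≃* L.subgroupOf K := (Subgroup.subgroupOfEquivOfLe hLK).symm
  set r : L.subgroupOf K → ℂ := fun z => ϑ z with hr
  have hrc : IsCharacter (L.subgroupOf K) r := isCharacter_restrict _ (isCharacter_of_isIrr hϑ)
  obtain ⟨φ', hφ'⟩ := exists_constituent hrc (fun e => irr_one_ne_zero hϑ (congrFun e 1))
  have htoL : ∀ {f : L.subgroupOf K → ℂ}, IsIrrCharacter (L.subgroupOf K) f →
      IsIrrCharacter L (fun x => f (incl x)) := fun hf =>
    isIrrCharacter_comp incl.toMonoidHom incl.surjective hf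
  set φ : L → ℂ := fun x => (φ' : L.subgroupOf K → ℂ) (incl x) with hφdef
  set e₀ := mult r φ' with he₀
  -- the inertia group is normal in `G`
  set T := inertia (L.subgroupOf K) (φ' : L.subgroupOf K → ℂ) with hT
  have hTmem : ∀ k : K, k ∈ T ↔ ∀ z : L, φ ⟨(k : G) * z * (k : G)⁻¹, hL.conj_mem _ z.2 _⟩ = φ z := by
    intro k
    rw [hT, mem_inertia]
    constructor
    · intro h z; exact congrFun h (incl z)
    · intro h
      funext z
      obtain ⟨w, rfl⟩ := incl.surjective z
      exact h w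
  have hconj : ∀ g : G, ∃ k : K, ∀ z : L, φ ⟨g * z * g⁻¹, hL.conj_mem _ z.2 _⟩ =
      φ ⟨(k : G) * z * (k : G)⁻¹, hL.conj_mem _ z.2 _⟩ := by
    intro g
    let c : L.subgroupOf K →* L.subgroupOf K :=
      (incl.toMonoidHom.comp (MulAut.conjNormal g : MulAut L).toMonoidHom).comp incl.symm.toMonoidHom
    have hcs : Function.Surjective c :=
      (incl.surjective.comp (MulAut.conjNormal g : MulAut L).surjective).comp incl.symm.surjective
    have hcb : Function.Bijective c := Finite.surjective_iff_bijective.mp hcs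
    have hψ : IsIrrCharacter (L.subgroupOf K) (fun z => (φ' : L.subgroupOf K → ℂ) (c z)) :=
      isIrrCharacter_comp c hcs φ'.2
    have hψr : classInner r (fun z => (φ' : L.subgroupOf K → ℂ) (c z)) ≠ 0 := by
      have : classInner r (fun z => (φ' : L.subgroupOf K → ℂ) (c z)) = classInner r φ' := by
        simp only [classInner]
        congr 1
        refine Fintype.sum_equiv (Equiv.ofBijective c hcb) _ _ fun z => ?_
        show r z * _ = r (c z) * _
        congr 1
        exact (congrFun (hinv g) (z : K)).symm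
      rwa [this]
    obtain ⟨k, hk⟩ := exists_conj_of_constituent (L.subgroupOf K) hϑ φ'.2 hψ hφ' hψr
    exact ⟨k, fun z => (congrFun hk (incl z)).symm⟩
  set X : Subgroup G := T.map K.subtype with hX
  have hXn : X.Normal := by
    refine ⟨fun u hu g => ?_⟩
    obtain ⟨k, hk, rfl⟩ := hu
    refine ⟨⟨g * k * g⁻¹, hK.conj_mem _ k.2 g⟩, (hTmem _).mpr fun z => ?_, rfl⟩
    obtain ⟨k₀, hk₀⟩ := hconj g
    have hkT := (hTmem k).mp hk
    set w : L := ⟨g⁻¹ * z * g, by simpa using hL.conj_mem _ z.2 g⁻¹⟩ with hw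
    have e1 : φ z = φ ⟨(k₀ : G) * w * (k₀ : G)⁻¹, hL.conj_mem _ w.2 _⟩ := by
      rw [← hk₀ w]; exact congrArg φ (Subtype.ext (by simp [hw, mul_assoc]))
    set v : L := ⟨(k : G) * w * (k : G)⁻¹, hL.conj_mem _ w.2 _⟩ with hv
    have e2 : φ ⟨g * k * g⁻¹ * z * (g * k * g⁻¹)⁻¹, hL.conj_mem _ z.2 _⟩ =
        φ ⟨(k₀ : G) * v * (k₀ : G)⁻¹, hL.conj_mem _ v.2 _⟩ := by
      rw [← hk₀ v]; exact congrArg φ (Subtype.ext (by simp [hv, hw, mul_assoc]))
    rw [e1]
    refine e2.trans ?_
    -- conjugation commutes modulo `L`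
    set d : G := (k₀ : G) * k * (k₀ : G)⁻¹ * (k : G)⁻¹ with hd
    have hdT : (⟨d, hLK (hab _ k₀.2 _ k.2)⟩ : K) ∈ T :=
      le_inertia (L.subgroupOf K) (isClassFunction_of_isIrr φ'.2)
        (Subgroup.mem_subgroupOf.mpr (hab _ k₀.2 _ k.2))
    have hdk : (⟨d, hLK (hab _ k₀.2 _ k.2)⟩ : K) * k ∈ T := T.mul_mem hdT hk
    have e3 := (hTmem _).mp hdk ⟨(k₀ : G) * w * (k₀ : G)⁻¹, hL.conj_mem _ w.2 _⟩
    refine Eq.trans (congrArg φ (Subtype.ext ?_)) e3
    simp [hd, hv, mul_assoc]
  have hLX : L ≤ X := fun l hl => ⟨⟨l, hLK hl⟩,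
    le_inertia (L.subgroupOf K) (isClassFunction_of_isIrr φ'.2) (Subgroup.mem_subgroupOf.mpr hl), rfl⟩
  have hXK : X ≤ K := fun u ⟨k, _, e⟩ => e ▸ k.2
  have hrel : L.relIndex K = (L.subgroupOf K).index := rfl
  rcases hchief X hXn hLX hXK with h | h
  · -- induced
    right; right
    have hTL : T = L.subgroupOf K := by
      refine le_antisymm (fun k hk => ?_) (le_inertia _ (isClassFunction_of_isIrr φ'.2))
      have : (k : G) ∈ X := ⟨k, hk, rfl⟩
      rw [h] at this
      exact Subgroup.mem_subgroupOf.mpr this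
    have horb := clifford (L.subgroupOf K) hϑ φ'.2 hφ'
    have hmult := clifford_mult (L.subgroupOf K) hϑ φ'.2 hφ'
    rw [← hT, hTL] at hmult
    have hi := isCharacter_indFun (L.subgroupOf K) (isCharacter_of_isIrr φ'.2)
    have hm1 : 1 ≤ mult (indFun (L.subgroupOf K) (φ' : L.subgroupOf K → ℂ)) ϑ := by
      rw [Nat.one_le_iff_ne_zero]
      intro e
      apply hφ'
      have e' := mult_spec hi (isCharacter_of_isIrr hϑ)
      rw [frobenius_reciprocity _ _ (isClassFunction_of_isIrr hϑ),
        classInner_comm_of_char (isCharacter_of_isIrr φ'.2) hrc, e, Nat.cast_zero] at e'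
      exact e'
    have hdle := constituent_deg_le hi ⟨ϑ, hϑ⟩
    have hdi : deg (indFun (L.subgroupOf K) (φ' : L.subgroupOf K → ℂ)) =
        (L.subgroupOf K).index * deg (φ' : L.subgroupOf K → ℂ) := by
      have e := deg_eq hi
      rw [indFun_one_eval, deg_eq (isCharacter_of_isIrr φ'.2)] at e
      exact_mod_cast e.symm
    have he1 : e₀ = 1 := by
      have hne : e₀ ≠ 0 := fun e => hφ' (by
        rw [mult_spec hrc (isCharacter_of_isIrr φ'.2), ← he₀, e, Nat.cast_zero])
      have h1 : e₀ * ((L.subgroupOf K).index * deg (φ' : L.subgroupOf K → ℂ)) ≤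
          1 * ((L.subgroupOf K).index * deg (φ' : L.subgroupOf K → ℂ)) := by
        rw [one_mul, ← mul_assoc]
        calc _ = deg ϑ := hmult.symm
          _ ≤ _ := (Nat.le_mul_of_pos_left _ hm1).trans (hdle.trans hdi.le)
      have := Nat.le_of_mul_le_mul_right h1
        (Nat.mul_pos (Nat.pos_of_ne_zero Subgroup.index_ne_zero_of_finite) (deg_pos φ'.2))
      omega
    rw [mult_spec hrc (isCharacter_of_isIrr φ'.2), ← he₀, he1, Nat.cast_one, one_smul] at horb
    refine ⟨(conjOrbit (L.subgroupOf K) (φ' : L.subgroupOf K → ℂ)).image (fun f => fun x => f (incl x)),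
      fun f hf => ?_, ?_, ?_⟩
    · obtain ⟨f, hf', rfl⟩ := Finset.mem_image.mp hf
      obtain ⟨k, rfl⟩ := (mem_conjOrbit _).mp hf'
      exact htoL (isIrrCharacter_conjFun _ k φ'.2)
    · rw [Finset.card_image_of_injective, card_conjOrbit, ← hT, hTL, hrel]
      intro f f' e
      funext z
      obtain ⟨w, rfl⟩ := incl.surjective z
      exact congrFun e w
    · rw [Finset.sum_image]
      · funext x
        rw [Finset.sum_apply]
        have := congrFun horb (incl x)
        rw [Finset.sum_apply] at this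
        exact this
      · intro f _ f' _ e
        funext z
        obtain ⟨w, rfl⟩ := incl.surjective z
        exact congrFun e w
  · have hinvφ : ∀ k : K, conjFun (L.subgroupOf K) k (φ' : L.subgroupOf K → ℂ) = φ' := fun k => by
      have : (k : G) ∈ X := by rw [h]; exact k.2
      obtain ⟨k', hk', e⟩ := this
      rw [← Subtype.ext e]
      exact hk'
    have hres := restrict_eq_smul_of_invariant (L.subgroupOf K) hϑ φ'.2 hφ' hinvφ
    rw [mult_spec hrc (isCharacter_of_isIrr φ'.2), ← he₀] at hres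
    have hres' : ∀ n : L, ϑ ⟨n, hLK n.2⟩ = (e₀ : ℂ) * φ n := fun n => congrFun hres (incl n)
    rcases chief_dichotomy hLK hab hchief hϑ hinv (htoL φ'.2) e₀ hres' with e1 | e2
    · refine Or.inl ?_
      rw [show (fun x : L => ϑ ⟨x, hLK x.2⟩) = φ from funext fun n => by
        rw [hres', e1, Nat.cast_one, one_mul]]
      exact htoL φ'.2
    · exact Or.inr (Or.inl ⟨φ, e₀, htoL φ'.2, funext hres', e2⟩)

end Cfsg.Agent.CT.GallagherExt
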