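import Cfsg.Agent.Lib.CT.SylowKernel
import Cfsg.Agent.Lib.CT.Extend
import Cfsg.Agent.Lib.CT.Kernel
import Cfsg.Agent.Lib.CT.GallagherExt

/-!
# Reduction of an invariant character to a central one
-/

set_option autoImplicit false
set_option linter.all false

namespace Cfsg.Agent.CentralReduction

open Cfsg.Agent.CT Cfsg.Agent.RelCount
open scoped Pointwise ComplexConjugate

universe u

/-- Descent of a character along a surjection. -/
theorem exists_descend {B C : Type u} [Group B] [Finite B] [Group C] [Finite C] (f : B →* C)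
    (hf : Function.Surjective f) {χ : B → ℂ} (hχ : IsIrrCharacter B χ)
    (h : ∀ n ∈ f.ker, χ n = χ 1) : ∃ ψ : IrrCharacter C, ∀ b, (ψ : C → ℂ) (f b) = χ b := by
  obtain ⟨ψ, hψ, hψ'⟩ := exists_quotient_irr hχ f.ker h
  let e := QuotientGroup.quotientKerEquivOfSurjective f hf
  refine ⟨⟨_, isIrrCharacter_comp e.symm.toMonoidHom e.symm.surjective hψ⟩, fun b => ?_⟩
  show ψ (e.symm (f b)) = χ b
  rw [← hψ' b, show f b = e (b : B ⧸ f.ker) from rfl, MulEquiv.symm_apply_apply]

section Setup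

variable {G : Type u} [Group G] [Finite G] (L : Subgroup G) [L.Normal] {d : ℕ}
  (τ : Representation ℂ L (Fin d → ℂ))

/-- Determinant of a unit. -/
noncomputable def detU : (Module.End ℂ (Fin d → ℂ))ˣ →* ℂˣ := Units.map LinearMap.det

/-- Intertwiners of bounded determinantal order. -/
noncomputable def Gam : Subgroup (G × (Module.End ℂ (Fin d → ℂ))ˣ) :=
  intertwiners L τ ⊓
    (((detU (d := d)).comp (MonoidHom.snd G (Module.End ℂ (Fin d → ℂ))ˣ)) ^ Nat.card L).ker

theorem mem_gam {g : G} {A : (Module.End ℂ (Fin d → ℂ))ˣ} :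
    (g, A) ∈ Gam L τ ↔ (g, A) ∈ intertwiners L τ ∧ detU A ^ Nat.card L = 1 := Iff.rfl

/-- The projection. -/
noncomputable def prG : Gam L τ →* G := (MonoidHom.fst _ _).comp (Gam L τ).subtype

/-- The tautological character. -/
noncomputable def theta : Representation ℂ (Gam L τ) (Fin d → ℂ) :=
  (Units.coeHom _).comp ((MonoidHom.snd _ _).comp (Gam L τ).subtype)

/-- The normal subgroup in the group of intertwiners. -/
noncomputable def emb : L →* Gam L τ where
  toFun l := ⟨((l : G), τ.asGroupHom l), mem_intertwiners_coe l, by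
    show detU (τ.asGroupHom l) ^ Nat.card L = 1
    rw [← map_pow, ← map_pow, pow_card_eq_one', map_one, map_one]⟩
  map_one' := Subtype.ext (Prod.ext rfl (map_one _))
  map_mul' a b := Subtype.ext (Prod.ext rfl (map_mul _ _ _))

theorem emb_injective : Function.Injective (emb L τ) := fun a b h =>
  Subtype.ext (congrArg (fun z : Gam L τ => (z : G × (Module.End ℂ (Fin d → ℂ))ˣ).1) h)

theorem prG_emb (l : L) : prG L τ (emb L τ l) = l := rfl

instance emb_range_normal : (emb L τ).range.Normal := by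
  refine ⟨?_⟩
  rintro _ ⟨l, rfl⟩ ⟨⟨g, A⟩, hgA, hdet⟩
  refine ⟨⟨g * l * g⁻¹, Subgroup.Normal.conj_mem inferInstance (l : G) l.2 g⟩,
    Subtype.ext (Prod.ext rfl ?_)⟩
  show τ.asGroupHom _ = A * τ.asGroupHom l * A⁻¹
  rw [hgA l, mul_inv_cancel_right]
  exact congrArg τ.asGroupHom (Subtype.ext (MulAut.conjNormal_apply g l).symm)

variable [hτ : τ.IsIrreducible]

theorem ker_scalar (z : Gam L τ) (hz : prG L τ z = 1) :
    ∃ c : ℂˣ, (z : G × (Module.End ℂ (Fin d → ℂ))ˣ).2 = scU c := by
  obtain ⟨⟨g, A⟩, hgA, hdet⟩ := z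
  obtain rfl : g = 1 := hz
  refine unit_scalar (τ := τ) A fun n => ?_
  have h := hgA n
  rw [map_one] at h
  exact h

omit hτ in
theorem detU_scU (c : ℂˣ) : detU (scU (W := Fin d → ℂ) c) = c ^ d := by
  apply Units.ext
  show LinearMap.det ((scU c : (Module.End ℂ (Fin d → ℂ))ˣ) : Module.End ℂ (Fin d → ℂ)) = _
  rw [coe_scU, LinearMap.det_smul, LinearMap.det_id, mul_one, Module.finrank_fin_fun]
  simp

instance finite_gam : Finite (Gam L τ) := by
  haveI := ((isIrreducible_iff τ).mp hτ).1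
  have hd : d ≠ 0 := by
    intro h
    subst h
    exact false_of_nontrivial_of_subsingleton (Fin 0 → ℂ)
  haveI : Finite (prG L τ).ker := by
    choose c hc using fun z : (prG L τ).ker => ker_scalar L τ z z.2
    haveI : NeZero (d * Nat.card L) := ⟨Nat.mul_ne_zero hd Nat.card_pos.ne'⟩
    refine Finite.of_injective (fun z => (⟨c z, ?_⟩ : rootsOfUnity (d * Nat.card L) ℂ)) fun a b h => ?_
    · rw [mem_rootsOfUnity, pow_mul, ← detU_scU (d := d), ← hc z]
      exact (z : Gam L τ).2.2
    · refine Subtype.ext (Subtype.ext (Prod.ext (a.2.trans b.2.symm) ?_))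
      rw [hc a, hc b, show c a = c b from congrArg Subtype.val h]
  haveI : Finite (Gam L τ ⧸ (prG L τ).ker) :=
    Finite.of_injective _ (QuotientGroup.kerLift_injective (prG L τ))
  exact Finite.of_equiv _ (Subgroup.groupEquivQuotientProdSubgroup (s := (prG L τ).ker)).symm

theorem prG_surjective (hinv : ∀ g : G, Conj L g τ.character τ.character) :
    Function.Surjective (prG L τ) := by
  intro g
  haveI := ((isIrreducible_iff τ).mp hτ).1
  let τg : Representation ℂ L (Fin d → ℂ) := τ.comp (MulAut.conjNormal g).toMonoidHom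
  have hc : τ.character = τg.character := funext fun l =>
    (hinv g l (MulAut.conjNormal g l) (MulAut.conjNormal_apply g l)).symm
  obtain ⟨B⟩ := equiv_of_character_eq τ τg hc
  let A : (Module.End ℂ (Fin d → ℂ))ˣ := LinearMap.GeneralLinearGroup.ofLinearEquiv B.toLinearEquiv
  have hA : (g, A) ∈ intertwiners L τ := fun n =>
    Units.ext (LinearMap.ext fun v => B.toIntertwiningMap.isIntertwining τ τg n v)
  have hd : d ≠ 0 := by
    intro h
    subst h
    exact false_of_nontrivial_of_subsingleton (Fin 0 → ℂ)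
  obtain ⟨c, hc⟩ := IsAlgClosed.exists_pow_nat_eq (((detU A ^ Nat.card L)⁻¹ : ℂˣ) : ℂ)
    (Nat.pos_of_ne_zero (Nat.mul_ne_zero hd (Nat.card_pos (α := L)).ne'))
  have hc0 : c ≠ 0 := fun h => by
    rw [h, zero_pow (Nat.mul_ne_zero hd Nat.card_pos.ne')] at hc
    exact Units.ne_zero _ hc.symm
  let u : ℂˣ := Units.mk0 c hc0
  refine ⟨⟨(g, scU u * A), fun n => ?_, ?_⟩, rfl⟩
  · show scU u * A * τ.asGroupHom n = τ.asGroupHom (MulAut.conjNormal g n) * (scU u * A)
    rw [mul_assoc, hA n, ← mul_assoc, scU_comm, mul_assoc]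
  · show detU (scU u * A) ^ Nat.card L = 1
    rw [map_mul, detU_scU, mul_pow, ← pow_mul,
      show u ^ (d * Nat.card L) = (detU A ^ Nat.card L)⁻¹ from Units.ext hc]
    exact inv_mul_cancel _

/-- The quotient. -/
abbrev Bar := Gam L τ ⧸ (emb L τ).range

/-- The projection to the quotient. -/
noncomputable def qB : Gam L τ →* Bar L τ := QuotientGroup.mk' _

/-- The central subgroup of the quotient. -/
noncomputable def Zb : Subgroup (Bar L τ) := (prG L τ).ker.map (qB L τ)

omit hτ in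
theorem ker_inf (x : Gam L τ) (h1 : prG L τ x = 1) (h2 : x ∈ (emb L τ).range) : x = 1 := by
  obtain ⟨l, rfl⟩ := h2
  obtain rfl : l = 1 := Subtype.ext h1
  exact map_one _

theorem ker_central (z : Gam L τ) (hz : prG L τ z = 1) : z ∈ Subgroup.center (Gam L τ) := by
  obtain ⟨c, hc⟩ := ker_scalar L τ z hz
  refine Subgroup.mem_center_iff.mpr fun g => Subtype.ext (Prod.ext ?_ ?_)
  · show prG L τ g * prG L τ z = prG L τ z * prG L τ g
    rw [hz, mul_one, one_mul]
  · show (g : G × (Module.End ℂ (Fin d → ℂ))ˣ).2 * (z : G × (Module.End ℂ (Fin d → ℂ))ˣ).2 =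
      (z : G × (Module.End ℂ (Fin d → ℂ))ˣ).2 * (g : G × (Module.End ℂ (Fin d → ℂ))ˣ).2
    rw [hc, scU_comm]

theorem zb_center : Zb L τ ≤ Subgroup.center (Bar L τ) := by
  rintro _ ⟨z, hz, rfl⟩
  refine Subgroup.mem_center_iff.mpr fun g => ?_
  obtain ⟨g, rfl⟩ := QuotientGroup.mk_surjective g
  show qB L τ g * qB L τ z = qB L τ z * qB L τ g
  rw [← map_mul, ← map_mul, Subgroup.mem_center_iff.mp (ker_central L τ z hz) g]

/-- The linear character of the central subgroup. -/
theorem exists_zeta : ∃ ζ : IrrCharacter (Zb L τ), ∀ (z : Gam L τ) (hz : prG L τ z = 1),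
    (theta L τ).character z * (ζ : Zb L τ → ℂ) ⟨qB L τ z, ⟨z, hz, rfl⟩⟩ = (d : ℂ) := by
  haveI := ((isIrreducible_iff τ).mp hτ).1
  choose c hc using fun z : (prG L τ).ker => ker_scalar L τ z z.2
  let κ : (prG L τ).ker →* ℂˣ :=
    { toFun := c
      map_one' := scU_injective (W := Fin d → ℂ) (by rw [← hc]; simp [scU])
      map_mul' := fun a b => scU_injective (W := Fin d → ℂ) (by rw [scU_mul, ← hc, ← hc, ← hc]; rfl) }
  let f : (prG L τ).ker →* Zb L τ := (qB L τ).subgroupMap _
  have hinj : Function.Injective f := (injective_iff_map_eq_one f).mpr fun z hz => by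
    refine Subtype.ext (ker_inf L τ z z.2 ?_)
    exact (QuotientGroup.eq_one_iff (z : Gam L τ)).mp (congrArg Subtype.val hz)
  let e : (prG L τ).ker ≃* Zb L τ := MulEquiv.ofBijective f ⟨hinj, (qB L τ).subgroupMap_surjective _⟩
  refine ⟨⟨_, isIrrCharacter_lin ((κ.comp e.symm.toMonoidHom)⁻¹)⟩, fun z hz => ?_⟩
  show LinearMap.trace ℂ _ (theta L τ z) * (((κ (e.symm ⟨qB L τ z, _⟩))⁻¹ : ℂˣ) : ℂ) = _
  have e1 : e.symm ⟨qB L τ z, ⟨z, hz, rfl⟩⟩ = ⟨z, hz⟩ := e.symm_apply_eq.mpr rfl
  rw [e1]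
  show LinearMap.trace ℂ _ (((z : G × (Module.End ℂ (Fin d → ℂ))ˣ).2 : Module.End ℂ (Fin d → ℂ))) *
    (((c ⟨z, hz⟩)⁻¹ : ℂˣ) : ℂ) = _
  rw [hc ⟨z, hz⟩, coe_scU, map_smul, LinearMap.trace_id, Module.finrank_fin_fun, smul_eq_mul,
    mul_comm, ← mul_assoc, Units.inv_mul, one_mul]

omit hτ in
theorem theta_emb (l : L) : (theta L τ).character (emb L τ l) = τ.character l := by
  show LinearMap.trace ℂ _ ((τ.asGroupHom l : (Module.End ℂ (Fin d → ℂ))ˣ) : Module.End ℂ (Fin d → ℂ)) = _
  rw [Representation.asGroupHom_apply]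
  rfl

theorem qB_surjective : Function.Surjective (qB L τ) := QuotientGroup.mk'_surjective _

/-- The preimage of a subgroup, pushed to the quotient. -/
noncomputable def barOf (M : Subgroup G) : Subgroup (Bar L τ) := (M.comap (prG L τ)).map (qB L τ)

theorem zb_le_barOf (M : Subgroup G) : Zb L τ ≤ barOf L τ M :=
  Subgroup.map_mono fun z hz => by
    rw [Subgroup.mem_comap, show prG L τ z = 1 from hz]; exact M.one_mem

open Classical in
/-- **Counts over an invariant character are counts over a central linear character.** -/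
theorem transfer (p : ℕ) [Fact p.Prime] (hd : ¬ p ∣ d)
    (hinv : ∀ g : G, Conj L g τ.character τ.character)
    (ζ : IrrCharacter (Zb L τ))
    (hζ : ∀ (z : Gam L τ) (hz : prG L τ z = 1),
      (theta L τ).character z * (ζ : Zb L τ → ℂ) ⟨qB L τ z, ⟨z, hz, rfl⟩⟩ = (d : ℂ))
    (M : Subgroup G) (hLM : L ≤ M) :
    cnt p (Subgroup.inclusion hLM) τ.character =
      cnt p (Subgroup.inclusion (zb_le_barOf L τ M)) (ζ : Zb L τ → ℂ) := by
  haveI := ((isIrreducible_iff τ).mp hτ).1
  let B := M.comap (prG L τ)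
  let πM : B →* M := (prG L τ).subgroupComap M
  have hπM : Function.Surjective πM := fun m => by
    obtain ⟨x, hx⟩ := prG_surjective L τ hinv (m : G)
    exact ⟨⟨x, Subgroup.mem_comap.mpr (hx ▸ m.2)⟩, Subtype.ext hx⟩
  let qM : B →* barOf L τ M := (qB L τ).subgroupMap B
  have hqM : Function.Surjective qM := (qB L τ).subgroupMap_surjective B
  have hjB : ∀ l : L, emb L τ l ∈ B := fun l => hLM l.2
  let jB : L →* B := (emb L τ).codRestrict B hjB
  have hjinj : Function.Injective jB := fun a b h => emb_injective L τ (congrArg Subtype.val h)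
  let eL : L ≃* jB.range := MonoidHom.ofInjective hjinj
  haveI hNn : jB.range.Normal := by
    refine ⟨?_⟩
    rintro _ ⟨l, rfl⟩ b
    obtain ⟨l', hl'⟩ := (emb_range_normal L τ).conj_mem (emb L τ l) ⟨l, rfl⟩ (b : Gam L τ)
    exact ⟨l', Subtype.ext hl'⟩
  haveI := Fintype.ofFinite B
  haveI := Fintype.ofFinite jB.range
  haveI := Fintype.ofFinite L
  let Θ : B → ℂ := fun b => (theta L τ).character (b : Gam L τ)
  have hΘc : IsCharacter B Θ := isCharacter_comp B.subtype (isCharacter_character (theta L τ))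
  have hΘj : ∀ l : L, Θ (jB l) = τ.character l := fun l => theta_emb L τ l
  have hτirr : IsIrrCharacter L τ.character := isIrrCharacter_character τ
  have hΘ : IsIrrCharacter B Θ := Glue.isIrr_of_res jB hΘc (by
    rw [show (fun l => Θ (jB l)) = τ.character from funext hΘj]; exact hτirr)
  let θ : jB.range → ℂ := fun n => Θ n
  have hθ : IsIrrCharacter jB.range θ := by
    have h := isIrrCharacter_comp eL.symm.toMonoidHom eL.symm.surjective hτirr
    rwa [show (fun n => τ.character (eL.symm.toMonoidHom n)) = θ from funext fun n => by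
      obtain ⟨l, rfl⟩ := eL.surjective n
      show τ.character (eL.symm (eL l)) = θ (eL l)
      rw [MulEquiv.symm_apply_apply]
      exact (hΘj l).symm] at h
  have hθinv : ∀ b : B, conjFun jB.range b θ = θ := fun b => funext fun n => by
    show Θ (b * n * b⁻¹) = Θ n
    rw [isClassFunction_mul_comm (isClassFunction_of_isIrr hΘ), inv_mul_cancel_left]
  have hone : ((fun _ : jB.range => (1 : ℂ)) * θ) = θ := funext fun n => one_mul _
  have hbij := GallagherExt.bijOn_mul_ext jB.range (φ := fun _ : jB.range => (1 : ℂ)) (θ := θ)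
    isIrrCharacter_one (fun g => rfl) hθinv (hone.symm ▸ hθ) hΘ (fun n => rfl)
  -- lying over, in the intermediate group
  have hset2 : ∀ χ : IrrCharacter M, Ov (Subgroup.inclusion hLM) τ.character (χ : M → ℂ) ↔
      classInner (indFun jB.range θ) (fun b => (χ : M → ℂ) (πM b)) ≠ 0 := by
    intro χ
    rw [ov_def, frobenius_reciprocity jB.range θ (isClassFunction_of_isIrr
      (isIrrCharacter_comp πM hπM χ.2)), classInner_comm_of_char (isCharacter_of_isIrr hθ)
      (isCharacter_restrict jB.range (isCharacter_comp πM (isCharacter_of_isIrr χ.2)))]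
    suffices h : classInner (fun l : L => (χ : M → ℂ) (Subgroup.inclusion hLM l)) τ.character =
        classInner (fun n : jB.range => (χ : M → ℂ) (πM n)) θ by rw [h]
    simp only [classInner]
    rw [Nat.card_congr eL.toEquiv]
    congr 1
    refine Fintype.sum_equiv eL.toEquiv _ _ fun l => ?_
    show _ = (χ : M → ℂ) (πM (jB l)) * conj (Θ (jB l))
    rw [hΘj]
    rfl
  have hset1 : ∀ β : IrrCharacter (barOf L τ M),
      classInner (indFun jB.range fun _ => (1 : ℂ)) (fun b => (β : barOf L τ M → ℂ) (qM b)) ≠ 0 := by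
    intro β
    rw [frobenius_reciprocity jB.range _ (isClassFunction_of_isIrr (isIrrCharacter_comp qM hqM β.2))]
    have e : (fun n : jB.range => (β : barOf L τ M → ℂ) (qM n)) =
        (β : barOf L τ M → ℂ) 1 • fun _ : jB.range => (1 : ℂ) := funext fun n => by
      obtain ⟨l, hl⟩ := n.2
      rw [Pi.smul_apply, smul_eq_mul, mul_one, ← hl]
      exact congrArg (β : barOf L τ M → ℂ)
        (Subtype.ext ((QuotientGroup.eq_one_iff _).mpr ⟨l, rfl⟩))
    rw [e, classInner_smul_right, irr_inner_self isIrrCharacter_one, mul_one]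
    simpa using irr_one_ne_zero β.2
  have hcen : ∀ z, Subgroup.inclusion (zb_le_barOf L τ M) z ∈ Subgroup.center (barOf L τ M) := fun z =>
    Subgroup.mem_center_iff.mpr fun b => Subtype.ext (Subgroup.mem_center_iff.mp (zb_center L τ z.2) b)
  have hΘ1 : Θ 1 = (d : ℂ) := by simp [Θ, Representation.char_one]
  have hker : ∀ (β : IrrCharacter (barOf L τ M)), Ov (Subgroup.inclusion (zb_le_barOf L τ M)) (ζ : _ → ℂ) (β : _ → ℂ) →
      ∀ z ∈ πM.ker, ((fun b => (β : barOf L τ M → ℂ) (qM b)) * Θ) z =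
        ((fun b => (β : barOf L τ M → ℂ) (qM b)) * Θ) 1 := by
    intro β hβ z hz
    have hz' : prG L τ (z : Gam L τ) = 1 := congrArg Subtype.val (MonoidHom.mem_ker.mp hz)
    simp only [Pi.mul_apply, map_one, hΘ1]
    have e := (SylowKernel.ov_central _ hcen (Subgroup.inclusion_injective _) β.2 ζ).mp hβ
      ⟨qB L τ (z : Gam L τ), ⟨(z : Gam L τ), hz', rfl⟩⟩
    rw [show qM z = Subgroup.inclusion (zb_le_barOf L τ M) ⟨qB L τ (z : Gam L τ), ⟨(z : Gam L τ), hz', rfl⟩⟩
      from rfl, e, mul_assoc, mul_comm _ (Θ z)]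
    exact congrArg ((β : barOf L τ M → ℂ) 1 * ·) (hζ _ hz')
  have hdeg : ∀ (β : IrrCharacter (barOf L τ M)) (χ : IrrCharacter M),
      (∀ b, (χ : M → ℂ) (πM b) = (β : barOf L τ M → ℂ) (qM b) * Θ b) →
      deg (χ : M → ℂ) = deg (β : barOf L τ M → ℂ) * d := by
    intro β χ h
    have h1 := h 1
    rw [map_one, map_one, hΘ1, deg_eq (isCharacter_of_isIrr χ.2), deg_eq (isCharacter_of_isIrr β.2)] at h1
    exact_mod_cast h1
  let F : {β : IrrCharacter (barOf L τ M) // ¬ p ∣ deg (β : barOf L τ M → ℂ) ∧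
      Ov (Subgroup.inclusion (zb_le_barOf L τ M)) (ζ : _ → ℂ) (β : _ → ℂ)} →
      {χ : IrrCharacter M // ¬ p ∣ deg (χ : M → ℂ) ∧ Ov (Subgroup.inclusion hLM) τ.character (χ : M → ℂ)} :=
    fun β =>
      have hm := hbij.mapsTo (show (fun b => (β.1 : barOf L τ M → ℂ) (qM b)) ∈ _ from
        ⟨isIrrCharacter_comp qM hqM β.1.2, hset1 β.1⟩)
      let χ := (exists_descend πM hπM hm.1 (hker β.1 β.2.2)).choose
      have hχ : ∀ b, (χ : M → ℂ) (πM b) = (β.1 : barOf L τ M → ℂ) (qM b) * Θ b :=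
        (exists_descend πM hπM hm.1 (hker β.1 β.2.2)).choose_spec
      ⟨χ, fun h => by
        rw [hdeg β.1 χ hχ] at h
        exact ((Fact.out : p.Prime).dvd_mul.mp h).elim β.2.1 hd,
        (hset2 χ).mpr (by
          rw [show (fun b => (χ : M → ℂ) (πM b)) = (fun b => (β.1 : barOf L τ M → ℂ) (qM b)) * Θ from funext hχ]
          have h2 := hm.2
          rwa [hone] at h2)⟩
  have hF : ∀ β b, ((F β).1 : M → ℂ) (πM b) = (β.1 : barOf L τ M → ℂ) (qM b) * Θ b := fun β =>
    (exists_descend πM hπM (hbij.mapsTo (show (fun b => (β.1 : barOf L τ M → ℂ) (qM b)) ∈ _ from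
      ⟨isIrrCharacter_comp qM hqM β.1.2, hset1 β.1⟩)).1 (hker β.1 β.2.2)).choose_spec
  refine (Nat.card_eq_of_bijective F ⟨fun a b h => ?_, fun χ => ?_⟩).symm
  · have e := hbij.injOn
      (show (fun x => (a.1 : barOf L τ M → ℂ) (qM x)) ∈ _ from ⟨isIrrCharacter_comp qM hqM a.1.2, hset1 a.1⟩)
      (show (fun x => (b.1 : barOf L τ M → ℂ) (qM x)) ∈ _ from ⟨isIrrCharacter_comp qM hqM b.1.2, hset1 b.1⟩)
      (funext fun x => by
        show _ * Θ x = _ * Θ x
        rw [← hF a x, ← hF b x, h])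
    refine Subtype.ext (Subtype.ext (funext fun y => ?_))
    obtain ⟨x, rfl⟩ := hqM y
    exact congrFun e x
  · obtain ⟨β, ⟨hβ, hβ1⟩, hβχ⟩ := hbij.surjOn (show (fun b => (χ.1 : M → ℂ) (πM b)) ∈ _ from
      ⟨isIrrCharacter_comp πM hπM χ.1.2, by rw [hone]; exact (hset2 χ.1).mp χ.2.2⟩)
    have hβker : ∀ n ∈ qM.ker, β n = β 1 := by
      intro n hn
      have hn' : n ∈ jB.range := by
        obtain ⟨l, hl⟩ := (QuotientGroup.eq_one_iff _).mp (congrArg Subtype.val (MonoidHom.mem_ker.mp hn))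
        exact ⟨l, Subtype.ext hl⟩
      rw [frobenius_reciprocity jB.range _ (isClassFunction_of_isIrr hβ),
        classInner_comm_of_char (isCharacter_of_isIrr isIrrCharacter_one)
          (isCharacter_restrict jB.range (isCharacter_of_isIrr hβ))] at hβ1
      have h := restrict_eq_smul_of_invariant jB.range hβ isIrrCharacter_one hβ1 (fun g => rfl)
      exact (congrFun h ⟨n, hn'⟩).trans (congrFun h 1).symm
    obtain ⟨β0, hβ0⟩ := exists_descend qM hqM hβ hβker
    have hval : ∀ b, (χ.1 : M → ℂ) (πM b) = (β0 : barOf L τ M → ℂ) (qM b) * Θ b := fun b => by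
      rw [hβ0]; exact (congrFun hβχ b).symm
    have hdegχ := hdeg β0 χ.1 hval
    refine ⟨⟨β0, fun h => χ.2.1 (hdegχ ▸ h.trans (dvd_mul_right _ _)), ?_⟩, ?_⟩
    · refine (SylowKernel.ov_central _ hcen (Subgroup.inclusion_injective _) β0.2 ζ).mpr ?_
      rintro ⟨_, z, hz, rfl⟩
      let zB : B := ⟨z, zb_le_B z hz⟩
      have h1 := hval zB
      rw [show πM zB = 1 from Subtype.ext hz] at h1
      have h2 := hval 1
      rw [map_one, map_one, hΘ1] at h2
      have h3 := hζ z hz
      rw [h2] at h1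
      show (β0 : barOf L τ M → ℂ) (qM zB) = _
      have hΘz : Θ zB ≠ 0 := fun h0 => by
        have hd0 : (d : ℂ) ≠ 0 := Nat.cast_ne_zero.mpr fun h => hd (h ▸ dvd_zero p)
        exact hd0 (by rw [← h3, show (theta L τ).character z = Θ zB from rfl, h0, zero_mul])
      apply mul_right_cancel₀ hΘz
      rw [← h1, mul_assoc, mul_comm _ (Θ zB)]
      exact congrArg ((β0 : barOf L τ M → ℂ) 1 * ·) h3.symm
    · refine Subtype.ext (Subtype.ext (funext fun m => ?_))
      obtain ⟨b, rfl⟩ := hπM m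
      rw [hF]
      exact (hval b).symm
where
  zb_le_B (z : Gam L τ) (hz : prG L τ z = 1) : z ∈ M.comap (prG L τ) := by
    rw [Subgroup.mem_comap, hz]; exact M.one_mem

end Setup

end Cfsg.Agent.CentralReduction
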