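import Cfsg.Agent.Lib.CT.Clifford
import Cfsg.Agent.Lib.CT.Kernel
import Cfsg.Agent.Lib.Basics.Tools

/-!
# Characters over chief factors; quasi-primitive characters
-/

namespace Cfsg.Agent.CT

open scoped ComplexConjugate

universe u

variable {G : Type u} [Group G]

/-- An abelian chief factor above `L` inside `Y`. -/
theorem exists_chief [Finite G] (L Y : Subgroup G) [L.Normal] [Y.Normal] (hLY : L < Y)
    (hs : Group.IsSolvable (G ⧸ L)) :
    ∃ (M : Subgroup G) (p : ℕ), M.Normal ∧ L < M ∧ M ≤ Y ∧ p.Prime ∧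
      (∀ a ∈ M, ∀ b ∈ M, a * b * a⁻¹ * b⁻¹ ∈ L) ∧ (∀ a ∈ M, a ^ p ∈ L) ∧
      ∀ X : Subgroup G, X.Normal → L ≤ X → X ≤ M → X = L ∨ X = M := by
  let π := QuotientGroup.mk' L
  have hker : π.ker = L := QuotientGroup.ker_mk' L
  haveI : (Y.map π).Normal := Subgroup.Normal.map inferInstance _ (QuotientGroup.mk'_surjective L)
  have hY : Y.map π ≠ ⊥ := fun h => by
    rw [Subgroup.map_eq_bot_iff, hker] at h
    exact hLY.not_ge h
  obtain ⟨M', hn, hle, hne, hmin⟩ := Basics.exists_minimal_normal hY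
  haveI := hn
  haveI := hs
  obtain ⟨hab, p, hp, hexp, -⟩ := Basics.minimal_normal_solvable hne inferInstance hmin
  have hLM : L ≤ M'.comap π := fun x hx => by
    show π x ∈ M'
    rw [show π x = 1 from (QuotientGroup.eq_one_iff x).mpr hx]
    exact M'.one_mem
  have hsurj := QuotientGroup.mk'_surjective L
  refine ⟨M'.comap π, p, inferInstance, lt_of_le_of_ne hLM fun h => hne ?_, ?_, hp, ?_, ?_, ?_⟩
  · rw [← Subgroup.map_comap_eq_self_of_surjective hsurj M', ← h, Subgroup.map_eq_bot_iff, hker]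
  · refine le_trans (Subgroup.comap_mono hle) ?_
    rw [Subgroup.comap_map_eq, hker]
    exact sup_le le_rfl hLY.le
  · intro a ha b hb
    rw [← hker, MonoidHom.mem_ker, map_mul, map_mul, map_mul, map_inv, map_inv]
    have h : π a * π b = π b * π a :=
      congrArg Subtype.val (hab.is_comm.comm (⟨π a, ha⟩ : M') ⟨π b, hb⟩)
    rw [h]
    simp [mul_assoc]
  · intro a ha
    rw [← hker, MonoidHom.mem_ker, map_pow]
    exact hexp _ ha
  · intro X hX hLX hXM
    haveI := hX
    have hX' : X = (X.map π).comap π := by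
      rw [Subgroup.comap_map_eq, hker, sup_eq_left.mpr hLX]
    rcases hmin (X.map π) (Subgroup.Normal.map hX _ hsurj) (Subgroup.map_le_iff_le_comap.mpr hXM)
      with h | h
    · left
      rw [hX', h, MonoidHom.comap_bot, hker]
    · right
      rw [hX', h]

variable [Fintype G]

theorem sum_eq_sum_subgroup (N Z : Subgroup G) [Fintype N] [Fintype Z] (hNZ : N ≤ Z) (f : Z → ℂ)
    (h : ∀ z : Z, (z : G) ∉ N → f z = 0) : ∑ z : Z, f z = ∑ n : N, f ⟨n, hNZ n.2⟩ := by
  classical
  symm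
  refine Finset.sum_bij_ne_zero (fun n _ _ => ⟨n, hNZ n.2⟩) (fun _ _ _ => Finset.mem_univ _)
    (fun a _ _ b _ _ hab => Subtype.ext (by simpa using congrArg Subtype.val hab))
    (fun z _ hz => ⟨⟨z, by_contra fun hn => hz (h z hn)⟩, Finset.mem_univ _, hz, rfl⟩)
    fun _ _ _ => rfl

theorem classInner_self_eq_sum {K : Type u} [Group K] [Fintype K] (f : K → ℂ) :
    (Nat.card K : ℂ) * classInner f f = ∑ z : K, f z * conj (f z) := by
  rw [classInner, ← mul_assoc, mul_inv_cancel₀ (Nat.cast_ne_zero.mpr Nat.card_pos.ne'), one_mul]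

/-- `[Z : N] = c ^ 2` when an irreducible character of `Z` vanishes outside `N`. -/
theorem sq_eq_relIndex_of_vanish (N Z : Subgroup G) [Fintype N] [Fintype Z] (hNZ : N ≤ Z)
    {ζ : Z → ℂ} (hζ : IsIrrCharacter Z ζ) {φ : N → ℂ} (hφ : IsIrrCharacter N φ) (c : ℕ)
    (hres : ∀ n : N, ζ ⟨n, hNZ n.2⟩ = c * φ n) (hvan : ∀ z : Z, (z : G) ∉ N → ζ z = 0) :
    c ^ 2 = N.relIndex Z := by
  have h1 := classInner_self_eq_sum ζ
  rw [irr_inner_self hζ, mul_one, sum_eq_sum_subgroup N Z hNZ _ fun z hz => by rw [hvan z hz, zero_mul]]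
    at h1
  have h2 : ∑ n : N, ζ ⟨n, hNZ n.2⟩ * conj (ζ ⟨n, hNZ n.2⟩) = (c : ℂ) ^ 2 * Nat.card N := by
    rw [← mul_one ((c : ℂ) ^ 2 * Nat.card N), ← irr_inner_self hφ, mul_assoc,
      classInner_self_eq_sum, Finset.mul_sum]
    refine Finset.sum_congr rfl fun n _ => ?_
    rw [hres, map_mul, map_natCast]
    ring
  rw [h2] at h1
  have h3 : Nat.card Z = N.relIndex Z * Nat.card N := by
    have := (N.subgroupOf Z).index_mul_card
    rw [Basics.card_subgroupOf hNZ] at this
    exact this.symm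
  rw [h3] at h1
  push_cast at h1
  exact_mod_cast (mul_right_cancel₀ (Nat.cast_ne_zero.mpr Nat.card_pos.ne') h1).symm

variable {N Z : Subgroup G}

/-- Linear characters of `Z` trivial on `N` separate the elements outside `N`. -/
theorem exists_lin_ne_one [hN : N.Normal] (hab : ∀ a ∈ Z, ∀ b ∈ Z, a * b * a⁻¹ * b⁻¹ ∈ N) (z : Z)
    (hz : (z : G) ∉ N) : ∃ lam : Z →* ℂˣ, (∀ x : Z, (x : G) ∈ N → lam x = 1) ∧ lam z ≠ 1 := by
  classical
  let A := Z ⧸ N.subgroupOf Z
  haveI := Fintype.ofFinite A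
  have hc : ∀ a b : A, a * b = b * a := by
    intro a b
    obtain ⟨a, rfl⟩ := QuotientGroup.mk_surjective a
    obtain ⟨b, rfl⟩ := QuotientGroup.mk_surjective b
    rw [← QuotientGroup.mk_mul, ← QuotientGroup.mk_mul, QuotientGroup.eq, Subgroup.mem_subgroupOf]
    simpa [mul_assoc] using hab _ (Z.inv_mem b.2) _ (Z.inv_mem a.2)
  by_contra hcon
  push Not at hcon
  have : IsConj (1 : A) (QuotientGroup.mk z) := isConj_iff_forall_irr.mpr fun χ => by
    obtain ⟨lam, hlam⟩ := exists_hom_of_comm hc χ.2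
    have h1 := hcon (lam.comp (QuotientGroup.mk' _)) fun x hx => by
      rw [MonoidHom.comp_apply, QuotientGroup.mk'_apply,
        (QuotientGroup.eq_one_iff x).mpr (Subgroup.mem_subgroupOf.mpr hx), map_one]
    rw [MonoidHom.comp_apply, QuotientGroup.mk'_apply] at h1
    rw [hlam]
    simp [h1]
  exact hz (Subgroup.mem_subgroupOf.mp ((QuotientGroup.eq_one_iff z).mp (isConj_one_right.mp this)))

/-- An invariant character over an invariant character in an abelian chief factor: restricting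
irreducibly or fully ramified. -/
theorem chief_dichotomy [hN : N.Normal] [hZ : Z.Normal] [Fintype N] [Fintype Z] (hNZ : N ≤ Z)
    (hab : ∀ a ∈ Z, ∀ b ∈ Z, a * b * a⁻¹ * b⁻¹ ∈ N)
    (hchief : ∀ X : Subgroup G, X.Normal → N ≤ X → X ≤ Z → X = N ∨ X = Z)
    {ζ : Z → ℂ} (hζ : IsIrrCharacter Z ζ) (hinv : ∀ g, conjFun Z g ζ = ζ) {φ : N → ℂ}
    (hφ : IsIrrCharacter N φ) (c : ℕ) (hres : ∀ n : N, ζ ⟨n, hNZ n.2⟩ = c * φ n) :
    c = 1 ∨ c ^ 2 = N.relIndex Z := by
  classical
  -- linear characters trivial on `N` fixing `ζ`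
  let Fix : (Z →* ℂˣ) → Prop := fun lam =>
    (∀ x : Z, (x : G) ∈ N → lam x = 1) ∧ ∀ x, ζ x * (lam x : ℂ) = ζ x
  let X : Subgroup G :=
    { carrier := {x | ∃ hx : x ∈ Z, ∀ lam, Fix lam → lam ⟨x, hx⟩ = 1}
      one_mem' := ⟨Z.one_mem, fun lam _ => map_one lam⟩
      mul_mem' := fun ⟨ha, ha'⟩ ⟨hb, hb'⟩ => ⟨Z.mul_mem ha hb, fun lam hl => by
        rw [show (⟨_, Z.mul_mem ha hb⟩ : Z) = ⟨_, ha⟩ * ⟨_, hb⟩ from rfl, map_mul, ha' lam hl,
          hb' lam hl, one_mul]⟩
      inv_mem' := fun ⟨ha, ha'⟩ => ⟨Z.inv_mem ha, fun lam hl => by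
        rw [show (⟨_, Z.inv_mem ha⟩ : Z) = (⟨_, ha⟩ : Z)⁻¹ from rfl, map_inv, ha' lam hl,
          inv_one]⟩ }
  have hXn : X.Normal := ⟨fun x ⟨hx, hx'⟩ g => ⟨hZ.conj_mem x hx g, fun lam hl => by
    have hfix : Fix (lam.comp (MulAut.conjNormal g).toMonoidHom) := by
      refine ⟨fun y hy => hl.1 _ ?_, fun y => ?_⟩
      · show ((MulAut.conjNormal g y : Z) : G) ∈ N
        rw [MulAut.conjNormal_apply]
        exact hN.conj_mem _ hy g
      · have h := hl.2 (MulAut.conjNormal g y)
        have e : ζ (MulAut.conjNormal g y) = ζ y := by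
          have := congrFun (hinv g) y
          rwa [conjFun_eq_comp] at this
        rw [e] at h
        exact h
    have h := hx' _ hfix
    rw [MonoidHom.comp_apply] at h
    refine Eq.trans (congrArg lam (Subtype.ext ?_)) h
    exact (MulAut.conjNormal_apply g (⟨x, hx⟩ : Z)).symm⟩⟩
  rcases hchief X hXn (fun n hn => ⟨hNZ hn, fun lam hl => hl.1 _ hn⟩) (fun x hx => hx.1) with hX | hX
  · -- the stabilizer separates: fully ramified
    refine Or.inr (sq_eq_relIndex_of_vanish N Z hNZ hζ hφ c hres fun z hz => ?_)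
    have : (z : G) ∉ X := fun h => hz (hX ▸ h)
    obtain ⟨lam, hl, hne⟩ : ∃ lam, Fix lam ∧ lam z ≠ 1 := by
      by_contra hcon
      push Not at hcon
      exact this ⟨z.2, fun lam hl => hcon lam hl⟩
    have h := hl.2 z
    by_contra h0
    exact hne (Units.ext (mul_left_cancel₀ h0 (by rw [Units.val_one, mul_one]; exact h)))
  · -- only the trivial character fixes `ζ`
    refine Or.inl ?_
    let Λ := {lam : IrrCharacter Z // (lam : Z → ℂ) 1 = 1 ∧ ∀ x : Z, (x : G) ∈ N → (lam : Z → ℂ) x = 1}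
    haveI : Fintype Λ := Fintype.ofFinite Λ
    have hhom : ∀ l : Λ, ∃ lam : Z →* ℂˣ, ((l.1 : IrrCharacter Z) : Z → ℂ) = fun x => (lam x : ℂ) :=
      fun l => exists_hom_of_degree_one (isCharacter_of_isIrr l.1.2) l.2.1
    choose hm hhm using hhom
    have hmk : ∀ lam : Z →* ℂˣ, (∀ x : Z, (x : G) ∈ N → lam x = 1) → ∃ l : Λ, hm l = lam := by
      intro lam hlam
      let l : Λ := ⟨⟨_, isIrrCharacter_lin lam⟩, by simp, fun x hx => by simp [hlam x hx]⟩
      exact ⟨l, MonoidHom.ext fun x => Units.ext (congrFun (hhm l) x).symm⟩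
    have hinjm : Function.Injective hm := fun a b h =>
      Subtype.ext (Subtype.ext (by rw [hhm a, hhm b, h]))
    have hmN : ∀ (l : Λ) (x : Z), (x : G) ∈ N → hm l x = 1 := fun l x hx =>
      Units.ext ((congrFun (hhm l) x).symm.trans (l.2.2 x hx))
    set t : ℕ := Fintype.card Λ with ht
    let S : Z → ℂ := fun x => ∑ l : Λ, (hm l x : ℂ)
    have hSN : ∀ n : N, S ⟨n, hNZ n.2⟩ = t := fun n => by
      simp [S, hmN _ ⟨n, hNZ n.2⟩ n.2, ht]
    have hSout : ∀ z : Z, (z : G) ∉ N → S z = 0 := by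
      intro z hz
      obtain ⟨mu, hmu, hne⟩ := exists_lin_ne_one hab z hz
      have hshift : ∀ l : Λ, ∃ l' : Λ, hm l' = mu * hm l :=
        fun l => hmk _ fun x hx => by rw [MonoidHom.mul_apply, hmu x hx, hmN l x hx, one_mul]
      choose σ hσ using hshift
      have hσb : Function.Bijective σ := Finite.injective_iff_bijective.mp fun a b h =>
        hinjm (mul_left_cancel ((hσ a).symm.trans ((congrArg hm h).trans (hσ b))))
      have h : S z = (mu z : ℂ) * S z := by
        simp only [S, Finset.mul_sum]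
        conv_lhs => rw [← Fintype.sum_bijective σ hσb _ _ fun l => rfl]
        exact Finset.sum_congr rfl fun l _ => by rw [hσ, MonoidHom.mul_apply, Units.val_mul]
      have h' : ((mu z : ℂ) - 1) * S z = 0 := by rw [sub_mul, one_mul, ← h, sub_self]
      exact (mul_eq_zero.mp h').resolve_left fun e => hne (Units.ext (sub_eq_zero.mp e))
    have hcard : (t : ℂ) * Nat.card N = Nat.card Z := by
      obtain ⟨l1, hl1⟩ := hmk 1 fun _ _ => rfl
      have h : ∑ z : Z, S z = ∑ l : Λ, if l = l1 then (Nat.card Z : ℂ) else 0 := by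
        simp only [S]
        rw [Finset.sum_comm]
        refine Finset.sum_congr rfl fun l _ => ?_
        split_ifs with hl
        · subst hl
          simp [hl1]
        · have h0 := irr_inner_of_ne l.1.2 isIrrCharacter_one fun e => hl (hinjm (by
            rw [hl1]
            refine MonoidHom.ext fun x => Units.ext ?_
            rw [← congrFun (hhm l) x, e]
            simp))
          rw [classInner, mul_eq_zero, inv_eq_zero] at h0
          have h0' := h0.resolve_left (Nat.cast_ne_zero.mpr Nat.card_pos.ne')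
          simp only [map_one, mul_one] at h0'
          rw [← h0']
          exact Finset.sum_congr rfl fun x _ => (congrFun (hhm l) x).symm
      rw [Finset.sum_ite_eq', if_pos (Finset.mem_univ _), sum_eq_sum_subgroup N Z hNZ S hSout,
        Finset.sum_congr rfl fun n _ => hSN n, Finset.sum_const, Finset.card_univ, nsmul_eq_mul,
        ← Nat.card_eq_fintype_card] at h
      rw [← h, mul_comm]
    have hirr : ∀ l : Λ, IsIrrCharacter Z (fun x => ζ x * (hm l x : ℂ)) := by
      intro l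
      refine isIrr_of_inner_self (isCharacter_mul (isCharacter_of_isIrr hζ)
        (isCharacter_of_isIrr (isIrrCharacter_lin (hm l)))) ?_
      rw [← irr_inner_self hζ]
      simp only [classInner]
      congr 1
      refine Finset.sum_congr rfl fun x _ => ?_
      have hn := irr_inner_self (isIrrCharacter_lin (hm l))
      have hc : (hm l x : ℂ) * conj (hm l x : ℂ) = 1 := by
        rw [← char_inv_eq_conj (isCharacter_of_isIrr (isIrrCharacter_lin (hm l)))]
        simp
      rw [map_mul, mul_mul_mul_comm, hc, mul_one]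
    have hdist : ∀ l l' : Λ, l ≠ l' → classInner (fun x => ζ x * (hm l x : ℂ))
        (fun x => ζ x * (hm l' x : ℂ)) = 0 := by
      intro l l' hne
      refine irr_inner_of_ne (hirr l) (hirr l') fun e => hne (hinjm ?_)
      have hf : Fix (hm l * (hm l')⁻¹) := by
        refine ⟨fun x hx => by simp [hmN _ x hx], fun x => ?_⟩
        have := congrFun e x
        rw [MonoidHom.mul_apply, MonoidHom.inv_apply, Units.val_mul, ← mul_assoc, this,
          Units.mul_inv_cancel_right]
      refine MonoidHom.ext fun x => ?_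
      have hxX : (x : G) ∈ X := by rw [hX]; exact x.2
      have hx' : ∀ lam, Fix lam → lam x = 1 := hxX.elim fun _ h => h
      have := hx' _ hf
      rw [MonoidHom.mul_apply, MonoidHom.inv_apply, mul_inv_eq_one] at this
      exact this
    have hA : classInner (fun x => ζ x * S x) (fun x => ζ x * S x) = t := by
      have e : (fun x => ζ x * S x) = ∑ l : Λ, fun x => ζ x * (hm l x : ℂ) := by
        funext x
        simp [S, Finset.mul_sum, Finset.sum_apply]
      rw [e, classInner_sum_left]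
      simp only [classInner_sum_right]
      rw [Finset.sum_congr rfl fun l _ => Finset.sum_eq_single l (fun l' _ h => hdist l l' h.symm)
        (fun h => absurd (Finset.mem_univ _) h), Finset.sum_congr rfl fun l _ => irr_inner_self (hirr l)]
      simp [ht]
    have h1 := classInner_self_eq_sum fun x => ζ x * S x
    rw [hA, sum_eq_sum_subgroup N Z hNZ _ fun z hz => by rw [hSout z hz, mul_zero, zero_mul],
      ← hcard] at h1
    have h2 : ∑ n : N, ζ ⟨n, hNZ n.2⟩ * S ⟨n, hNZ n.2⟩ * conj (ζ ⟨n, hNZ n.2⟩ * S ⟨n, hNZ n.2⟩) =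
        (c : ℂ) ^ 2 * (t : ℂ) ^ 2 * ((Nat.card N : ℂ) * classInner φ φ) := by
      rw [classInner_self_eq_sum, Finset.mul_sum]
      refine Finset.sum_congr rfl fun n _ => ?_
      simp only [hres, hSN, map_mul, map_natCast]
      ring
    rw [h2, irr_inner_self hφ, mul_one] at h1
    have htpos : (t : ℂ) ≠ 0 := by
      intro h0
      rw [h0, zero_mul] at hcard
      exact Nat.cast_ne_zero.mpr Nat.card_pos.ne' hcard.symm
    have hc2 : (c : ℂ) ^ 2 = 1 := by
      have hN0 : (Nat.card N : ℂ) ≠ 0 := Nat.cast_ne_zero.mpr Nat.card_pos.ne'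
      field_simp at h1
      linear_combination -h1
    have : c ^ 2 = 1 := by exact_mod_cast hc2
    simpa using this

/-- Homogeneous restrictions to all normal subgroups above `L`. -/
def QuasiPrimAbove (L : Subgroup G) (χ : G → ℂ) : Prop :=
  ∀ X : Subgroup G, X.Normal → L ≤ X →
    ∃ (φ : X → ℂ) (e : ℕ), IsIrrCharacter X φ ∧ (fun x : X => χ x) = (e : ℂ) • φ

theorem QuasiPrimAbove.mono {L L' : Subgroup G} {χ : G → ℂ} (h : QuasiPrimAbove L χ)
    (hle : L ≤ L') : QuasiPrimAbove L' χ := fun X hX hLX => h X hX (hle.trans hLX)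

theorem smul_ne_zero_of_irr {χ : G → ℂ} (hχ : IsIrrCharacter G χ) (X : Subgroup G) {φ : X → ℂ}
    {e : ℕ} (h : (fun x : X => χ x) = (e : ℂ) • φ) : e ≠ 0 := by
  intro h0
  have := congrFun h 1
  simp only [h0, Nat.cast_zero, zero_smul, Pi.zero_apply, OneMemClass.coe_one] at this
  exact irr_one_ne_zero hχ this

theorem conjFun_eq_of_homogeneous {χ : G → ℂ} (hχ : IsIrrCharacter G χ) (X : Subgroup G)
    [X.Normal] {φ : X → ℂ} {e : ℕ} (h : (fun x : X => χ x) = (e : ℂ) • φ) (g : G) :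
    conjFun X g φ = φ := by
  funext x
  refine mul_left_cancel₀ (Nat.cast_ne_zero.mpr (smul_ne_zero_of_irr hχ X h)) ?_
  have h1 := congrFun h ⟨g * x * g⁻¹, ‹X.Normal›.conj_mem _ x.2 g⟩
  have h2 := congrFun h x
  simp only [Pi.smul_apply, smul_eq_mul] at h1 h2
  show (e : ℂ) * φ ⟨g * x * g⁻¹, _⟩ = _
  rw [← h1, ← h2]
  exact (isClassFunction_of_isIrr hχ) x g

/-- Compatibility of homogeneous restrictions. -/
theorem homogeneous_restrict (N Z : Subgroup G) [Fintype N] [Fintype Z] (hNZ : N ≤ Z)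
    {χ : G → ℂ} (hχ : IsIrrCharacter G χ) {ζ : Z → ℂ} {e' : ℕ} (hζ : IsIrrCharacter Z ζ)
    (hZ : (fun x : Z => χ x) = (e' : ℂ) • ζ) {φ : N → ℂ} {e : ℕ} (hφ : IsIrrCharacter N φ)
    (hN : (fun x : N => χ x) = (e : ℂ) • φ) :
    ∃ c : ℕ, (∀ n : N, ζ ⟨n, hNZ n.2⟩ = c * φ n) ∧ e = e' * c := by
  have hres : ∀ n : N, (e' : ℂ) * ζ ⟨n, hNZ n.2⟩ = (e : ℂ) * φ n := fun n =>
    (congrFun hZ ⟨n, hNZ n.2⟩).symm.trans (congrFun hN n)
  have hc : IsCharacter N (fun n : N => ζ ⟨n, hNZ n.2⟩) :=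
    isCharacter_comp (Subgroup.inclusion hNZ) (isCharacter_of_isIrr hζ)
  obtain ⟨c, hc⟩ := classInner_character_nat hc (isCharacter_of_isIrr hφ)
  have he' : (e' : ℂ) ≠ 0 := Nat.cast_ne_zero.mpr (smul_ne_zero_of_irr hχ Z hZ)
  have hfun : (fun n : N => ζ ⟨n, hNZ n.2⟩) = ((e : ℂ) / (e' : ℂ)) • φ := funext fun n => by
    rw [Pi.smul_apply, smul_eq_mul, div_mul_eq_mul_div, eq_div_iff he', ← hres n, mul_comm]
  rw [hfun, classInner_smul_left, irr_inner_self hφ, mul_one] at hc
  refine ⟨c, fun n => ?_, ?_⟩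
  · rw [congrFun hfun n, Pi.smul_apply, smul_eq_mul, hc]
  · have : (e : ℂ) = (e' : ℂ) * c := by rw [← hc]; field_simp
    exact_mod_cast this

/-- For a quasi-primitive character `e ^ 2` divides the index. -/
theorem sq_dvd_index_of_qp {χ : G → ℂ} (hχ : IsIrrCharacter G χ) :
    ∀ (n : ℕ) (N : Subgroup G) [N.Normal] [Fintype N], N.index ≤ n → Group.IsSolvable (G ⧸ N) →
      QuasiPrimAbove N χ → ∀ {φ : N → ℂ} {e : ℕ}, IsIrrCharacter N φ →
        (fun x : N => χ x) = (e : ℂ) • φ → e ^ 2 ∣ N.index := by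
  intro n
  induction n using Nat.strong_induction_on with
  | _ n ih =>
    intro N _ _ hn hs hqp φ e hφ he
    classical
    rcases eq_or_ne N ⊤ with rfl | hne
    · have h1 : classInner (fun x : (⊤ : Subgroup G) => χ x) (fun x : (⊤ : Subgroup G) => χ x) = 1 :=
        irr_inner_self (isIrrCharacter_comp (⊤ : Subgroup G).subtype
          (fun g => ⟨⟨g, trivial⟩, rfl⟩) hχ)
      rw [he, classInner_smul_left, classInner_smul_right, irr_inner_self hφ, map_natCast,
        mul_one] at h1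
      have h2 : e * e = 1 := by exact_mod_cast h1
      rw [pow_two, h2]
      exact one_dvd _
    · obtain ⟨Z, p, hZn, hNZ, -, -, hab, -, hchief⟩ :=
        exists_chief N ⊤ (lt_top_iff_ne_top.mpr hne) hs
      haveI := hZn
      haveI := Fintype.ofFinite Z
      obtain ⟨ζ, e', hζ, he'⟩ := hqp Z hZn hNZ.le
      obtain ⟨c, hres, hec⟩ := homogeneous_restrict N Z hNZ.le hχ hζ he' hφ he
      have hlt : Z.index < N.index := Subgroup.index_strictAnti hNZ
      have hs' : Group.IsSolvable (G ⧸ Z) := by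
        haveI := hs
        refine Group.isSolvable_of_surjective (f := QuotientGroup.map N Z (MonoidHom.id G)
          (by simpa using hNZ.le)) ?_
        intro x
        obtain ⟨g, rfl⟩ := QuotientGroup.mk_surjective x
        exact ⟨QuotientGroup.mk g, rfl⟩
      have h1 := ih Z.index (lt_of_lt_of_le hlt hn) Z le_rfl hs' (hqp.mono hNZ.le) hζ he'
      have h2 : c ^ 2 ∣ N.relIndex Z := by
        rcases chief_dichotomy hNZ.le hab hchief hζ (conjFun_eq_of_homogeneous hχ Z he') hφ c hres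
          with rfl | h
        · simp
        · rw [h]
      rw [hec, mul_pow, ← Subgroup.relIndex_mul_index hNZ.le, mul_comm (N.relIndex Z)]
      exact mul_dvd_mul h1 h2

/-- Restricting an induced function to a subgroup covering all double cosets. -/
theorem restrict_indFun_of_cover (U H : Subgroup G) [Fintype U] [Fintype H]
    (hUH : ∀ x : G, ∃ u ∈ U, ∃ h ∈ H, x = u * h) {θ : H → ℂ} (hθ : IsClassFunction H θ) :
    (fun u : U => indFun H θ u) =
      indFun (H.subgroupOf U) (fun x => θ ⟨(x : U), Subgroup.mem_subgroupOf.mp x.2⟩) := by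
  classical
  funext w
  let θ' : H.subgroupOf U → ℂ := fun x => θ ⟨(x : U), Subgroup.mem_subgroupOf.mp x.2⟩
  let F : G → ℂ := fun x => extendByZero H θ (x⁻¹ * w * x)
  let D := H.subgroupOf U
  have hfib : ∀ x : G, Nat.card {p : U × H // (p.1 : G) * p.2 = x} = Nat.card D := by
    intro x
    obtain ⟨u0, hu0, h0, hh0, rfl⟩ := hUH x
    symm
    have hmem : ∀ k : D, ((((⟨u0, hu0⟩ : U) * (k : U) : U)) : G) *
        (((⟨(k : U), Subgroup.mem_subgroupOf.mp k.2⟩ : H)⁻¹ * ⟨h0, hh0⟩ : H) : G) = u0 * h0 :=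
      fun k => by simp [mul_assoc]
    refine Nat.card_eq_of_bijective (fun k : D =>
      (⟨(_, _), hmem k⟩ : {p : U × H // (p.1 : G) * p.2 = u0 * h0}))
      ⟨fun a b hab => ?_, fun ⟨⟨u, h⟩, e⟩ => ?_⟩
    · have := congrArg (fun q : {p : U × H // (p.1 : G) * p.2 = u0 * h0} => q.1.1) hab
      exact Subtype.ext (mul_left_cancel this)
    · have hk : u0⁻¹ * (u : G) ∈ H := by
        have : u0⁻¹ * (u : G) = h0 * (h : G)⁻¹ := by
          rw [eq_mul_inv_iff_mul_eq, mul_assoc, e, inv_mul_cancel_left]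
        rw [this]
        exact H.mul_mem hh0 (H.inv_mem h.2)
      refine ⟨⟨⟨u0, hu0⟩⁻¹ * u, Subgroup.mem_subgroupOf.mpr hk⟩, Subtype.ext (Prod.ext ?_ ?_)⟩
      · simp
      · refine Subtype.ext ?_
        have e' : (u : G) * h = u0 * h0 := e
        simp [mul_assoc, ← e']
  have hF : ∀ (u : U) (h : H), F ((u : G) * h) = extendByZero D θ' (u⁻¹ * w * u) := by
    intro u h
    have e : ((u : G) * h)⁻¹ * w * ((u : G) * h) = (h : G)⁻¹ * ((u⁻¹ * w * u : U) : G) * h := by
      simp [mul_assoc]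
    simp only [F, e]
    by_cases hm : ((u⁻¹ * w * u : U) : G) ∈ H
    · have hm' : (h : G)⁻¹ * ((u⁻¹ * w * u : U) : G) * h ∈ H :=
        H.mul_mem (H.mul_mem (H.inv_mem h.2) hm) h.2
      rw [extendByZero_mem H _ hm', extendByZero_mem D θ' (Subgroup.mem_subgroupOf.mpr hm)]
      have hc := hθ ⟨_, hm⟩ h⁻¹
      refine Eq.trans (congrArg θ (Subtype.ext ?_)) hc
      simp [mul_assoc]
    · rw [extendByZero_not_mem D θ' (fun h' => hm (Subgroup.mem_subgroupOf.mp h')),
        extendByZero_not_mem H]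
      intro h'
      apply hm
      have := H.mul_mem (H.mul_mem h.2 h') (H.inv_mem h.2)
      simpa [mul_assoc] using this
  have hsum : (Nat.card D : ℂ) * ∑ x : G, F x =
      (Nat.card H : ℂ) * ∑ u : U, extendByZero D θ' (u⁻¹ * w * u) := by
    have h1 : ∑ p : U × H, F ((p.1 : G) * p.2) = (Nat.card D : ℂ) * ∑ x : G, F x := by
      rw [← Finset.sum_fiberwise Finset.univ (fun p : U × H => (p.1 : G) * p.2), Finset.mul_sum]
      refine Finset.sum_congr rfl fun x _ => ?_
      rw [Finset.sum_congr rfl fun p hp => congrArg F (Finset.mem_filter.mp hp).2, Finset.sum_const,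
        nsmul_eq_mul, ← hfib x, Nat.card_eq_fintype_card, Fintype.card_subtype]
    rw [← h1, Fintype.sum_prod_type, Finset.mul_sum]
    refine Finset.sum_congr rfl fun u _ => ?_
    simp only [hF]
    rw [Finset.sum_const, Finset.card_univ, nsmul_eq_mul, Nat.card_eq_fintype_card]
  show (Nat.card H : ℂ)⁻¹ * ∑ x : G, F x =
    (Nat.card D : ℂ)⁻¹ * ∑ u : U, extendByZero D θ' (u⁻¹ * w * u)
  have hH0 : (Nat.card H : ℂ) ≠ 0 := Nat.cast_ne_zero.mpr Nat.card_pos.ne'
  have hD0 : (Nat.card D : ℂ) ≠ 0 := Nat.cast_ne_zero.mpr Nat.card_pos.ne'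
  field_simp
  linear_combination hsum

end Cfsg.Agent.CT
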