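import Cfsg.Agent.Lib.CT.TwoDegrees
import Cfsg.Agent.Lib.CT.Chief
import Cfsg.Agent.Lib.ClassSum.Codegree

/-!
# Nilpotent groups with degrees `1, p`

Such a group has an abelian normal subgroup of index `p` or a centre of index `p ^ 3`.
-/

set_option autoImplicit false
set_option linter.all false

universe u

namespace Cfsg.Agent.TwoDeg

open Cfsg
open scoped ComplexConjugate

variable {G : Type u} [Group G]

theorem normal_of_commutators (N : Subgroup G) (h : ∀ a b : G, a * b * a⁻¹ * b⁻¹ ∈ N) :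
    N.Normal := ⟨fun n hn g => by
  have := N.mul_mem (h g n) hn
  rwa [inv_mul_cancel_right] at this⟩

theorem deg_one_of_comm_quotient [Finite G] {χ : G → ℂ} (hχ : IsIrrCharacter G χ) (K : Subgroup G)
    [K.Normal] (hK : ∀ n ∈ K, χ n = χ 1) (hc : ∀ a b : G, a * b * a⁻¹ * b⁻¹ ∈ K) :
    CT.deg χ = 1 := by
  obtain ⟨ψ, hψ, he⟩ := CT.exists_quotient_irr hχ K hK
  have h1 := CT.irr_degree_one_of_comm (fun x y => by
    induction x using QuotientGroup.induction_on with | _ a =>
    induction y using QuotientGroup.induction_on with | _ b =>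
    have h := (QuotientGroup.eq_one_iff (N := K) _).mpr (hc a b)
    simp only [QuotientGroup.mk_mul, QuotientGroup.mk_inv] at h
    rwa [mul_inv_eq_one, mul_inv_eq_iff_eq_mul] at h) hψ
  rw [show ψ 1 = χ 1 from he 1, CT.deg_eq (CT.isCharacter_of_isIrr hχ)] at h1
  exact_mod_cast h1

theorem sum_mul_conj_on [Fintype G] (Z : Subgroup G) (c : ℂ) (χ : G → ℂ) [Fintype Z]
    (hoff : ∀ g ∉ Z, χ g = 0) (hon : ∀ g : Z, χ g * conj (χ g) = c) :
    ∑ g : G, χ g * conj (χ g) = (Nat.card Z : ℂ) * c := by
  classical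
  rw [← Finset.sum_subset (Finset.subset_univ (Finset.univ.map (Function.Embedding.subtype (· ∈ Z))))
    (fun g _ hg => by
      rw [hoff g fun h => hg (Finset.mem_map.mpr ⟨⟨g, h⟩, Finset.mem_univ _, rfl⟩), zero_mul]),
    Finset.sum_map]
  simp only [Function.Embedding.subtype_apply, hon, Finset.sum_const, nsmul_eq_mul]
  rw [Finset.card_univ, Nat.card_eq_fintype_card]

section setup

variable [Finite G] [Group.IsNilpotent G] (p : ℕ)

/-- A normal abelian subgroup `Z` of index `p ^ 2` with elementary abelian quotient. -/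
theorem exists_Z (hp : p.Prime)
    (hcd : ∀ χ : G → ℂ, IsIrrCharacter G χ → CT.deg χ = 1 ∨ CT.deg χ = p)
    (hne : ¬ ∀ a b : G, a * b = b * a) :
    ∃ Z : Subgroup G, Z.Normal ∧ Z.index = p ^ 2 ∧ (∀ a b : G, a * b * a⁻¹ * b⁻¹ ∈ Z) ∧
      (∀ g : G, g ^ p ∈ Z) ∧ ∀ a b : Z, a * b = b * a := by
  classical
  letI := Fintype.ofFinite G
  haveI := CT.irr_finite G
  letI : Fintype (IrrCharacter G) := Fintype.ofFinite _
  rw [CT.comm_iff_all_linear] at hne
  push Not at hne
  obtain ⟨χ₁, hχ₁⟩ := hne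
  let S : Finset (IrrCharacter G) := Finset.univ.filter fun χ => CT.deg (χ : G → ℂ) ≠ 1
  have hS : S.Nonempty := ⟨χ₁, Finset.mem_filter.mpr ⟨Finset.mem_univ _, fun h => hχ₁ (by
    rw [CT.deg_eq (CT.isCharacter_of_isIrr χ₁.2), h, Nat.cast_one])⟩⟩
  obtain ⟨χ, hχS, hmax⟩ := S.exists_max_image
    (fun χ => Nat.card (CT.kerChar (χ : G → ℂ))) hS
  have hχd : CT.deg (χ : G → ℂ) = p :=
    ((hcd _ χ.2).resolve_left (Finset.mem_filter.mp hχS).2)
  have hχc := CT.isCharacter_of_isIrr χ.2
  set K := CT.kerChar (χ : G → ℂ) with hKdef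
  haveI : K.Normal := ClassSum.kerChar_normal hχc
  have hKχ : ∀ n ∈ K, (χ : G → ℂ) n = (χ : G → ℂ) 1 := fun n hn =>
    (CT.mem_kerChar_iff hχc).mp hn
  let Z : Subgroup G := (Subgroup.center (G ⧸ K)).comap (QuotientGroup.mk' K)
  haveI hZn : Z.Normal := inferInstance
  have hKZ : K ≤ Z := fun n hn => by
    show (n : G ⧸ K) ∈ Subgroup.center (G ⧸ K)
    rw [(QuotientGroup.eq_one_iff n).mpr hn]
    exact one_mem _
  have hmemZ : ∀ g : G, g ∈ Z ↔ ∀ h : G, h * g * h⁻¹ * g⁻¹ ∈ K := by
    intro g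
    show (g : G ⧸ K) ∈ Subgroup.center (G ⧸ K) ↔ _
    rw [Subgroup.mem_center_iff]
    constructor
    · intro hg h
      rw [← QuotientGroup.eq_one_iff]
      simp only [QuotientGroup.mk_mul, QuotientGroup.mk_inv]
      rw [hg]
      group
    · intro hg x
      induction x using QuotientGroup.induction_on with | _ h =>
      have h' := (QuotientGroup.eq_one_iff (N := K) _).mpr (hg h)
      simp only [QuotientGroup.mk_mul, QuotientGroup.mk_inv] at h'
      rwa [mul_inv_eq_one, mul_inv_eq_iff_eq_mul] at h'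
  -- commutators are central modulo `K`
  have hcZ : ∀ a b : G, a * b * a⁻¹ * b⁻¹ ∈ Z := by
    haveI : Nontrivial (G ⧸ K) := by
      by_contra h
      rw [not_nontrivial_iff_subsingleton] at h
      exact (Finset.mem_filter.mp hχS).2 (deg_one_of_comm_quotient χ.2 K hKχ fun a b =>
        (QuotientGroup.eq_one_iff _).mp (Subsingleton.elim _ _))
    haveI : Group.IsNilpotent (G ⧸ K) :=
      Group.nilpotent_of_surjective (QuotientGroup.mk' K) (QuotientGroup.mk'_surjective K)
    obtain ⟨⟨z, hz⟩, hz1⟩ := Subgroup.ne_bot_iff_exists_ne_one.mp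
      (Group.IsNilpotent.center_ne_bot (G := G ⧸ K))
    have hzn : (Subgroup.zpowers z).Normal := ⟨fun n hn g => by
      rw [Subgroup.mem_center_iff.mp (Subgroup.zpowers_le.mpr hz hn) g, mul_inv_cancel_right]
      exact hn⟩
    haveI := hzn
    let R : Subgroup G := (Subgroup.zpowers z).comap (QuotientGroup.mk' K)
    haveI : R.Normal := inferInstance
    have hKR : K < R := by
      refine lt_of_le_of_ne (fun n hn => ?_) ?_
      · show (n : G ⧸ K) ∈ Subgroup.zpowers z
        rw [(QuotientGroup.eq_one_iff n).mpr hn]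
        exact one_mem _
      · intro h
        obtain ⟨z0, rfl⟩ := QuotientGroup.mk_surjective z
        apply hz1
        refine Subtype.ext ((QuotientGroup.eq_one_iff z0).mpr ?_)
        rw [h]
        exact Subgroup.mem_zpowers _
    have hR : ∀ a b : G, a * b * a⁻¹ * b⁻¹ ∈ R := by
      have hq : ∀ x y : G ⧸ R, x * y = y * x := by
        rw [CT.comm_iff_all_linear]
        intro β
        by_contra hβ
        have hi := CT.isIrr_inflate R (χ := fun g => (β : G ⧸ R → ℂ) (QuotientGroup.mk g)) β.2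
          fun g => rfl
        let χ' : IrrCharacter G := ⟨_, hi⟩
        have hd : CT.deg (χ' : G → ℂ) ≠ 1 := fun h => hβ (by
          rw [CT.deg_eq (CT.isCharacter_of_isIrr β.2)]
          exact_mod_cast h)
        have hle : R ≤ CT.kerChar (χ' : G → ℂ) := fun r hr x => by
          show (β : G ⧸ R → ℂ) (QuotientGroup.mk (x * r)) = (β : G ⧸ R → ℂ) (QuotientGroup.mk x)
          rw [QuotientGroup.mk_mul, (QuotientGroup.eq_one_iff r).mpr hr, mul_one]
        have h1 := hmax χ' (Finset.mem_filter.mpr ⟨Finset.mem_univ _, hd⟩)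
        have h2 := lt_of_lt_of_le hKR hle
        have h3 : Nat.card K < Nat.card (CT.kerChar (χ' : G → ℂ)) := by
          refine lt_of_le_of_ne (Subgroup.card_le_of_le h2.le) fun h => h2.ne ?_
          exact Subgroup.eq_of_le_of_card_ge h2.le h.ge
        omega
      intro a b
      rw [← QuotientGroup.eq_one_iff]
      simp only [QuotientGroup.mk_mul, QuotientGroup.mk_inv]
      rw [hq (a : G ⧸ R)]
      group
    intro a b
    exact Subgroup.zpowers_le.mpr hz (hR a b)
  obtain ⟨n, ρ, hρ, hρc⟩ := id χ.2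
  haveI := hρ
  have hn : n = p := by
    rw [← hχd, ← hρc, CT.deg_eq_finrank, Module.finrank_fin_fun]
  subst hn
  have hscal : ∀ c ∈ Z, ∃ ω : ℂ, ρ c = ω • LinearMap.id := by
    intro c hc
    refine ⟨_, CT.eq_scalar_of_commute ρ (ρ c) fun x => ?_⟩
    rw [← map_mul, ← map_mul]
    have h1 : ρ ((x * c)⁻¹ * (c * x)) = 1 := by
      rw [CT.rep_eq_one_iff, hρc]
      refine hKχ _ ?_
      have h := (inferInstance : K.Normal).conj_mem _ (K.inv_mem ((hmemZ c).mp hc x)) (x * c)⁻¹
      convert h using 1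
      group
    rw [show c * x = x * c * ((x * c)⁻¹ * (c * x)) by group, map_mul, h1, mul_one]
  have hoff : ∀ g ∉ Z, (χ : G → ℂ) g = 0 := by
    intro g hg
    rw [hmemZ] at hg
    push Not at hg
    obtain ⟨h, hh⟩ := hg
    obtain ⟨ω, hω⟩ := hscal _ (hcZ h g)
    have e : (χ : G → ℂ) g = ω * (χ : G → ℂ) g := by
      conv_lhs => rw [← CT.isClassFunction_of_isIrr χ.2 g h]
      rw [show h * g * h⁻¹ = h * g * h⁻¹ * g⁻¹ * g by group, ← hρc]
      show LinearMap.trace ℂ _ (ρ (h * g * h⁻¹ * g⁻¹ * g)) = ω * LinearMap.trace ℂ _ (ρ g)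
      rw [map_mul, hω, smul_mul_assoc, ← Module.End.one_eq_id, one_mul, map_smul, smul_eq_mul]
    have hω1 : ω ≠ 1 := by
      intro h1
      apply hh
      rw [hKdef, CT.mem_kerChar_iff hχc, ← hρc, ← CT.rep_eq_one_iff, hω, h1, one_smul]
      rfl
    by_contra h0
    exact hω1 (mul_right_cancel₀ h0 (e.symm.trans (one_mul _).symm))
  letI : Fintype Z := Fintype.ofFinite _
  have hon : ∀ g : Z, (χ : G → ℂ) g * conj ((χ : G → ℂ) g) = (n : ℂ) ^ 2 := by
    intro g
    have h := (CT.norm_eq_iff_scalar ρ (g : G)).mpr (hscal g g.2)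
    rw [hρc, Module.finrank_fin_fun] at h
    rw [Complex.mul_conj, Complex.normSq_eq_norm_sq, h]
    push_cast
    ring
  have hidx : Z.index = n ^ 2 := by
    have h := CT.classInner_self_eq_sum (χ : G → ℂ)
    rw [CT.irr_inner_self χ.2, mul_one, sum_mul_conj_on Z _ _ hoff hon] at h
    have h' : Nat.card G = Nat.card Z * n ^ 2 := by exact_mod_cast h
    rw [← Z.card_mul_index] at h'
    exact Nat.eq_of_mul_eq_mul_left Nat.card_pos h'
  have hpow : ∀ g : G, g ^ n ∈ Z := by
    intro g
    rw [← QuotientGroup.eq_one_iff, QuotientGroup.mk_pow, ← orderOf_dvd_iff_pow_eq_one]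
    have hd : orderOf (g : G ⧸ Z) ∣ n ^ 2 := by
      rw [← hidx, Subgroup.index_eq_card]; exact orderOf_dvd_natCard _
    obtain ⟨i, hi, he⟩ := (Nat.dvd_prime_pow hp).mp hd
    rcases Nat.lt_or_ge i 2 with h | h
    · rw [he]
      interval_cases i <;> simp
    · exfalso
      haveI : IsCyclic (G ⧸ Z) := isCyclic_of_orderOf_eq_card (g : G ⧸ Z) (by
        rw [he, ← Subgroup.index_eq_card, hidx, le_antisymm hi h])
      have hker : (QuotientGroup.map K Z (MonoidHom.id G) hKZ).ker ≤ Subgroup.center (G ⧸ K) := by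
        intro x hx
        induction x using QuotientGroup.induction_on with | _ a =>
        exact (QuotientGroup.eq_one_iff a).mp hx
      apply (Finset.mem_filter.mp hχS).2
      refine deg_one_of_comm_quotient χ.2 K hKχ fun a b => ?_
      rw [← QuotientGroup.eq_one_iff]
      simp only [QuotientGroup.mk_mul, QuotientGroup.mk_inv]
      rw [commutative_of_cyclic_center_quotient _ hker (a : G ⧸ K) (b : G ⧸ K)]
      group
  refine ⟨Z, hZn, hidx, hcZ, hpow, ?_⟩
  rw [CT.comm_iff_all_linear]
  intro ψ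
  rw [CT.deg_eq (CT.isCharacter_of_isIrr ψ.2)]
  by_contra hψ1
  have hψd : CT.deg (ψ : Z → ℂ) ≠ 1 := fun h => hψ1 (by rw [h, Nat.cast_one])
  obtain ⟨η, hη⟩ := CT.exists_irr_over Z ψ.2
  obtain ⟨k, hk, -⟩ := CT.deg_ratio_dvd_index Z η.2 ψ.2 hη
  have hηd : CT.deg (η : G → ℂ) = n := (hcd _ η.2).resolve_left fun h =>
    hψd (Nat.eq_one_of_mul_eq_one_left (hk.symm.trans h))
  have hψp : CT.deg (ψ : Z → ℂ) = n := by
    rcases (Nat.dvd_prime hp).mp ⟨k, by rw [mul_comm, ← hk, hηd]⟩ with h | h
    · exact absurd h hψd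
    · exact h
  have hres : (fun z : Z => (η : G → ℂ) z) = (ψ : Z → ℂ) := by
    refine CT.eq_of_deg_le (CT.isCharacter_restrict Z (CT.isCharacter_of_isIrr η.2)) ψ.2 hη ?_
    show CT.deg (fun z : Z => (η : G → ℂ) z) ≤ _
    rw [hψp, show CT.deg (fun z : Z => (η : G → ℂ) z) = CT.deg (η : G → ℂ) from rfl, hηd]
  have hpc := CT.isCharacter_mul (CT.isCharacter_of_isIrr η.2) hχc
  have hi : IsIrrCharacter G ((η : G → ℂ) * (χ : G → ℂ)) := by
    refine CT.isIrr_of_inner_self hpc ?_
    have h1 := CT.classInner_self_eq_sum (ψ : Z → ℂ)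
    rw [CT.irr_inner_self ψ.2, mul_one] at h1
    rw [classInner]
    have h2 : ∑ g : G, ((η : G → ℂ) * (χ : G → ℂ)) g * conj (((η : G → ℂ) * (χ : G → ℂ)) g) =
        (Nat.card Z : ℂ) * (n : ℂ) ^ 2 := by
      rw [← Finset.sum_subset (Finset.subset_univ (Finset.univ.map
        (Function.Embedding.subtype (· ∈ Z)))) (fun g _ hg => by
          rw [Pi.mul_apply, hoff g fun h =>
            hg (Finset.mem_map.mpr ⟨⟨g, h⟩, Finset.mem_univ _, rfl⟩)]
          simp), Finset.sum_map, h1, Finset.sum_mul]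
      refine Finset.sum_congr rfl fun g _ => ?_
      rw [← hon g]
      have e : (η : G → ℂ) g = (ψ : Z → ℂ) g := congrFun hres g
      simp only [Function.Embedding.subtype_apply, Pi.mul_apply, map_mul, e]
      ring
    rw [h2, show (n : ℂ) ^ 2 = ((n ^ 2 : ℕ) : ℂ) by push_cast; rfl, ← hidx, ← Nat.cast_mul,
      Z.card_mul_index]
    exact inv_mul_cancel₀ (Nat.cast_ne_zero.mpr Nat.card_pos.ne')
  have hd : CT.deg ((η : G → ℂ) * (χ : G → ℂ)) = n * n := by
    have h := CT.deg_eq hpc
    rw [Pi.mul_apply, CT.deg_eq (CT.isCharacter_of_isIrr η.2), CT.deg_eq hχc, hηd, hχd] at h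
    exact_mod_cast h.symm
  have hn2 := hp.two_le
  rcases hcd _ hi with h | h <;> rw [hd] at h <;> nlinarith

end setup

section lines

variable (Z : Subgroup G) [Z.Normal]

/-- The displacement map of conjugation by an element on an abelian normal subgroup. -/
def disp (hc : ∀ a b : Z, a * b = b * a) (x : G) : Z →* Z where
  toFun z := MulAut.conjNormal x z * z⁻¹
  map_one' := by simp
  map_mul' a b := by
    have hc' : ∀ a b : Z, Commute a b := fun a b => hc a b
    rw [map_mul, mul_inv_rev]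
    calc MulAut.conjNormal x a * MulAut.conjNormal x b * (b⁻¹ * a⁻¹)
        = MulAut.conjNormal x a * ((MulAut.conjNormal x b * b⁻¹) * a⁻¹) := by group
      _ = MulAut.conjNormal x a * (a⁻¹ * (MulAut.conjNormal x b * b⁻¹)) := by
        rw [(hc' (MulAut.conjNormal x b * b⁻¹) a⁻¹).eq]
      _ = _ := by group

theorem disp_eq_one_iff (hc : ∀ a b : Z, a * b = b * a) (x : G) (z : Z) :
    disp Z hc x z = 1 ↔ x * z = z * x := by
  show MulAut.conjNormal x z * z⁻¹ = 1 ↔ _
  rw [mul_inv_eq_one, Subtype.ext_iff, MulAut.conjNormal_apply, mul_inv_eq_iff_eq_mul]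

variable [Finite G] (p : ℕ)

theorem center_index_of_lines (hp : p.Prime)
    (hcd : ∀ χ : G → ℂ, IsIrrCharacter G χ → CT.deg χ = 1 ∨ CT.deg χ = p)
    (hidx : Z.index = p ^ 2) (hcZ : ∀ a b : G, a * b * a⁻¹ * b⁻¹ ∈ Z)
    (hpow : ∀ g : G, g ^ p ∈ Z) (hc : ∀ a b : Z, a * b = b * a)
    (hne : ¬ ∀ a b : G, a * b = b * a)
    (hA : ¬ ∃ A : Subgroup G, A.Normal ∧ (∀ a ∈ A, ∀ b ∈ A, a * b = b * a) ∧ A.index = p) :
    (Subgroup.center G).index = p ^ 3 := by
  classical
  letI := Fintype.ofFinite G
  letI := Fintype.ofFinite Z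
  letI : CommGroup Z := { (inferInstance : Group Z) with mul_comm := hc }
  haveI := Fact.mk hp
  have hp2 := hp.two_le
  let N : G → Subgroup G := fun x => Z ⊔ Subgroup.zpowers x
  have hxN : ∀ x, x ∈ N x := fun x => (le_sup_right : _ ≤ N x) (Subgroup.mem_zpowers x)
  have hNmax : ∀ (H : Subgroup G) (x : G), Z ≤ H → x ∈ H → N x ≤ H := fun H x h1 h2 =>
    sup_le h1 (Subgroup.zpowers_le.mpr h2)
  have hidxdiv : ∀ H : Subgroup G, Z < H → H.index = 1 ∨ H.index = p := by
    intro H hH
    have h1 := Subgroup.index_dvd_of_le hH.le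
    have h2 := Subgroup.index_strictAnti hH
    rw [hidx] at h1 h2
    obtain ⟨i, hi, he⟩ := (Nat.dvd_prime_pow hp).mp h1
    rw [he] at h2
    interval_cases i
    · exact Or.inl (by rw [he, pow_zero])
    · exact Or.inr (by rw [he, pow_one])
    · omega
  have hNi : ∀ x, x ∉ Z → (N x).index = p := by
    intro x hx
    have hm : (N x).map (QuotientGroup.mk' Z) = Subgroup.zpowers (x : G ⧸ Z) := by
      rw [Subgroup.map_sup, QuotientGroup.map_mk'_self, bot_sup_eq, MonoidHom.map_zpowers]
      rfl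
    have h1 := Subgroup.index_map_eq (N x) (QuotientGroup.mk'_surjective Z)
      (by rw [QuotientGroup.ker_mk']; exact le_sup_left)
    rw [hm] at h1
    have h2 : orderOf (x : G ⧸ Z) = p := orderOf_eq_prime
      (by rw [← QuotientGroup.mk_pow, QuotientGroup.eq_one_iff]; exact hpow x)
      (fun h => hx ((QuotientGroup.eq_one_iff x).mp h))
    have h3 := (Subgroup.zpowers (x : G ⧸ Z)).card_mul_index
    rw [Nat.card_zpowers, h2, h1, ← Subgroup.index_eq_card, hidx, sq] at h3
    exact Nat.eq_of_mul_eq_mul_left hp.pos h3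
  have hline : ∀ (H : Subgroup G) (x : G), Z ≤ H → H.index = p → x ∈ H → x ∉ Z → N x = H := by
    intro H x h1 h2 h3 h4
    rcases lt_or_eq_of_le (hNmax H x h1 h3) with h | h
    · have := Subgroup.index_strictAnti h
      rw [h2, hNi x h4] at this
      omega
    · exact h
  have htop : ∀ x y, x ∉ Z → y ∉ N x → ∀ H : Subgroup G, Z ≤ H → x ∈ H → y ∈ H → H = ⊤ := by
    intro x y hx hy H h1 h2 h3
    have hlt : N x < H := lt_of_le_of_ne (hNmax H x h1 h2) fun h => hy (h ▸ h3)
    have h5 := Subgroup.index_strictAnti hlt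
    rw [hNi x hx] at h5
    have hZH : Z < H := lt_of_le_of_lt le_sup_left hlt
    rcases hidxdiv H hZH with h | h
    · exact Subgroup.index_eq_one.mp h
    · omega
  have hNcomm : ∀ x : G, (∀ z : Z, x * z = z * x) → ∀ a ∈ N x, ∀ b ∈ N x, a * b = b * a := by
    intro x hx
    have h1 : Z ≤ Subgroup.centralizer (Z : Set G) := fun a ha => by
      rw [Subgroup.mem_centralizer_iff]
      exact fun b hb => congrArg Subtype.val (hc ⟨b, hb⟩ ⟨a, ha⟩)
    have h2 : N x ≤ Subgroup.centralizer (Z : Set G) := hNmax _ x h1 (by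
      rw [Subgroup.mem_centralizer_iff]
      exact fun b hb => (hx ⟨b, hb⟩).symm)
    have h3 : x ∈ Subgroup.centralizer (N x : Set G) := by
      have : N x ≤ Subgroup.centralizer ({x} : Set G) := hNmax _ x (fun a ha => by
        rw [Subgroup.mem_centralizer_iff]
        rintro b rfl
        exact hx ⟨a, ha⟩) (by
        rw [Subgroup.mem_centralizer_iff]
        rintro b rfl
        rfl)
      rw [Subgroup.mem_centralizer_iff]
      exact fun b hb => (Subgroup.mem_centralizer_iff.mp (this hb) x rfl).symm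
    have h4 : N x ≤ Subgroup.centralizer (N x : Set G) :=
      hNmax _ x (Subgroup.le_centralizer_iff.mp h2) h3
    exact fun a ha b hb => Subgroup.mem_centralizer_iff.mp (h4 hb) a ha
  have hnc : ∀ x ∉ Z, ∃ z : Z, x * z ≠ z * x := by
    intro x hx
    by_contra h
    push Not at h
    exact hA ⟨N x, normal_of_commutators _ fun a b => (le_sup_left : Z ≤ N x) (hcZ a b),
      hNcomm x h, hNi x hx⟩
  have hcen : Subgroup.center G ≤ Z := by
    intro g hg
    by_contra h
    obtain ⟨z, hz⟩ := hnc g h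
    exact hz (Subgroup.mem_center_iff.mp hg z).symm
  -- stabilisers
  have hswap : ∀ (g h : G) (l : Z →* ℂˣ), act Z g (act Z h l) = act Z h (act Z g l) := by
    intro g h l
    rw [← act_mul, ← act_mul, show h * g = h * g * h⁻¹ * g⁻¹ * (g * h) by group, act_mul,
      show act Z (h * g * h⁻¹ * g⁻¹) l = l from le_St Z hc l (hcZ h g)]
  have hSt : ∀ l : Z →* ℂˣ, St Z l = ⊤ ∨ (St Z l).index = p := by
    intro l
    obtain ⟨η, hη⟩ := CT.exists_irr_over Z (CT.isIrrCharacter_lin l)
    have h := CT.clifford_mult Z η.2 (CT.isIrrCharacter_lin l) hη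
    rw [inertia_eq_St] at h
    have hd : (St Z l).index ∣ CT.deg (η : G → ℂ) := by
      rw [h]; exact (dvd_mul_left _ _).mul_right _
    rcases hcd _ η.2 with h1 | h1 <;> rw [h1] at hd
    · exact Or.inl (Subgroup.index_eq_one.mp (Nat.dvd_one.mp hd))
    · rcases (Nat.dvd_prime hp).mp hd with h2 | h2
      · exact Or.inl (Subgroup.index_eq_one.mp h2)
      · exact Or.inr h2
  let F : Subgroup G → Subgroup (Z →* ℂˣ) := fun H =>
    { carrier := {l | ∀ g ∈ H, act Z g l = l}
      one_mem' := fun g _ => rfl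
      mul_mem' := fun {a b} ha hb g hg => by
        show act Z g (a * b) = a * b
        rw [act_hom_mul, ha g hg, hb g hg]
      inv_mem' := fun {a} ha g hg => MonoidHom.ext fun n => by
        have := DFunLike.congr_fun (ha g hg) n
        rw [act_apply] at this
        rw [act_apply, MonoidHom.inv_apply, MonoidHom.inv_apply, this] }
  have hF : ∀ (H : Subgroup G) (l : Z →* ℂˣ), l ∈ F H ↔ H ≤ St Z l := fun H l => Iff.rfl
  have hFN : ∀ (x : G) (l : Z →* ℂˣ), l ∈ F (N x) ↔ act Z x l = l := fun x l =>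
    ⟨fun h => h x (hxN x), fun h => hNmax (St Z l) x (le_St Z hc l) h⟩
  set F0 := F ⊤ with hF0
  have hF0' : ∀ x y l, x ∉ Z → y ∉ N x → act Z x l = l → act Z y l = l → l ∈ F0 := by
    intro x y l hx hy h1 h2 g _
    have h := htop x y hx hy (St Z l) (le_St Z hc l) h1 h2
    exact (h ▸ Subgroup.mem_top g : g ∈ St Z l)
  have hd_index : ∀ x, (F (N x)).index = Nat.card (disp Z hc x).range := by
    intro x
    have he : F (N x) = (MonoidHom.domRestrictHom (disp Z hc x).range ℂˣ).ker := by
      ext l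
      rw [hFN, MonoidHom.mem_ker]
      constructor
      · intro h
        ext ⟨y, z, hz⟩
        subst hz
        show ((l (MulAut.conjNormal x z * z⁻¹) : ℂˣ) : ℂ) = ((1 : ℂˣ) : ℂ)
        have h' : l (MulAut.conjNormal x z) = l z := DFunLike.congr_fun h z
        rw [map_mul, map_inv, h', mul_inv_cancel]
      · intro h
        refine MonoidHom.ext fun z => ?_
        have h' : l (MulAut.conjNormal x z * z⁻¹) = 1 :=
          DFunLike.congr_fun h ⟨_, z, rfl⟩
        rw [map_mul, map_inv, mul_inv_eq_one] at h'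
        exact h'
    rw [he, Subgroup.index_ker, MonoidHom.range_eq_top.mpr
      (MonoidHom.domRestrict_surjective (M := ℂ) (disp Z hc x).range), Subgroup.card_top,
      CommGroup.card_monoidHom_of_hasEnoughRootsOfUnity]
  have hFne : ∀ x ∉ Z, F (N x) ≠ ⊤ := by
    intro x hx h
    obtain ⟨z, hz⟩ := hnc x hx
    apply hz
    have h1 := hd_index x
    rw [h, Subgroup.index_top] at h1
    have h2 : (disp Z hc x).range = ⊥ := Subgroup.eq_bot_of_card_eq _ h1.symm
    rw [MonoidHom.range_eq_bot_iff] at h2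
    exact (disp_eq_one_iff Z hc x z).mp (DFunLike.congr_fun h2 z)
  have hcover : ∀ l, l ∉ F0 → ∃ x, x ∉ Z ∧ St Z l = N x := by
    intro l hl
    rcases hSt l with h | h
    · exact absurd (fun g _ => (h ▸ Subgroup.mem_top g : g ∈ St Z l)) hl
    · obtain ⟨x, hx, hx'⟩ := SetLike.exists_of_lt (lt_of_le_of_ne (le_St Z hc l) fun he => by
        rw [← he, hidx] at h
        nlinarith)
      exact ⟨x, hx', (hline (St Z l) x (le_St Z hc l) h hx hx').symm⟩
  -- powers
  have hactpow : ∀ (g : G) (i : ℕ) (l : Z →* ℂˣ), act Z g l = l → act Z g (l ^ i) = l ^ i :=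
    fun g i l h => MonoidHom.ext fun n => by
      rw [act_apply, MonoidHom.pow_apply, MonoidHom.pow_apply, ← act_apply, h]
  have hpow0 : ∀ a : Z →* ℂˣ, a ^ p ∈ F0 := by
    intro a
    by_cases ha : a ∈ F0
    · exact pow_mem ha p
    obtain ⟨x, hx, hxa⟩ := hcover a ha
    obtain ⟨b, hb⟩ : ∃ b, b ∉ F (N x) := by
      by_contra h
      push Not at h
      exact hFne x hx (eq_top_iff.mpr fun b _ => h b)
    obtain ⟨y, hy, hyb⟩ := hcover b fun h => hb fun g _ => h g (Subgroup.mem_top g)
    have hfa : act Z x a = a := (hxa ▸ hxN x : x ∈ St Z a)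
    have hfb : act Z y b = b := (hyb ▸ hxN y : y ∈ St Z b)
    have hyx : y ∉ N x := fun h => hb (by
      rw [← hline (N x) y le_sup_left (hNi x hx) h hy, hFN]
      exact hfb)
    have hxy : x ∉ N y := fun h => hb (by
      rw [hFN]
      exact (hyb ▸ h : x ∈ St Z b))
    have hab : a * b ∉ F0 := fun h => hb (by
      rw [hFN]
      refine MonoidHom.ext fun n => ?_
      have e := DFunLike.congr_fun (h x (Subgroup.mem_top x)) n
      rw [act_hom_mul, hfa, MonoidHom.mul_apply, MonoidHom.mul_apply] at e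
      exact mul_left_cancel e)
    obtain ⟨w, hw, hwab⟩ := hcover (a * b) hab
    have hfw : act Z w (a * b) = a * b := (hwab ▸ hxN w : w ∈ St Z (a * b))
    have hwx : w ∉ N x := fun h => hb (by
      have hfa' : act Z w a = a := (hxa ▸ h : w ∈ St Z a)
      rw [← hline (N x) w le_sup_left (hNi x hx) h hw, hFN]
      refine MonoidHom.ext fun n => ?_
      have e := DFunLike.congr_fun hfw n
      rw [act_hom_mul, hfa', MonoidHom.mul_apply, MonoidHom.mul_apply] at e
      exact mul_left_cancel e)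
    -- the displacement is fixed by everything
    set d := act Z w a / a with hdd
    have hdx : act Z x d = d := by rw [hdd, act_hom_div, hswap, hfa]
    have hd2 : d = b / act Z w b := MonoidHom.ext fun n => by
      have e := DFunLike.congr_fun hfw n
      rw [act_hom_mul, MonoidHom.mul_apply, MonoidHom.mul_apply] at e
      rw [hdd, MonoidHom.div_apply (act Z w a) a n, MonoidHom.div_apply b (act Z w b) n,
        div_eq_div_iff_mul_eq_mul, e, mul_comm]
    have hdy : act Z y d = d := by rw [hd2, act_hom_div, hswap y w, hfb]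
    have hd0 : d ∈ F0 := hF0' x y d hx hyx hdx hdy
    have hj : ∀ j : ℕ, act Z (w ^ j) a = a * d ^ j := by
      intro j
      induction j with
      | zero =>
        ext n
        simp [act_one]
      | succ j ih =>
        have e : act Z w a = a * d := MonoidHom.ext fun n => by
          rw [hdd, MonoidHom.mul_apply, MonoidHom.div_apply (act Z w a) a n, mul_div_cancel]
        rw [pow_succ, act_mul, ih, act_hom_mul, hactpow w j d (hd0 w (Subgroup.mem_top w)), e]
        ext n
        simp [pow_succ', mul_assoc]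
    have hdp : ∀ n, d n ^ p = 1 := fun n => by
      have h := DFunLike.congr_fun (hj p) n
      rw [show act Z (w ^ p) a = a from le_St Z hc a (hpow w), MonoidHom.mul_apply,
        MonoidHom.pow_apply] at h
      exact left_eq_mul.mp h
    refine hF0' x w _ hx hwx (hactpow x p a hfa) (MonoidHom.ext fun n => ?_)
    have h := hdp n
    rw [hdd, MonoidHom.div_apply (act Z w a) a n, div_pow, div_eq_one, act_apply] at h
    rw [act_apply, MonoidHom.pow_apply, MonoidHom.pow_apply]
    exact h
  -- counting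
  let L : Finset (Subgroup G) := Finset.univ.filter fun H => Z ≤ H ∧ H.index = p
  have hLmem : ∀ x ∉ Z, N x ∈ L := fun x hx =>
    Finset.mem_filter.mpr ⟨Finset.mem_univ _, le_sup_left, hNi x hx⟩
  have hLpick : ∀ H ∈ L, ∃ x, x ∉ Z ∧ H = N x := by
    intro H hH
    obtain ⟨-, h1, h2⟩ := Finset.mem_filter.mp hH
    obtain ⟨x, hx, hx'⟩ := SetLike.exists_of_lt (lt_of_le_of_ne h1 fun he => by
      rw [← he, hidx] at h2
      nlinarith)
    exact ⟨x, hx', (hline H x h1 h2 hx hx').symm⟩
  haveI : Finite (Z →* ℂˣ) := Finite.of_injective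
    (fun l : Z →* ℂˣ => CT.linIrr l) (fun a b h =>
      MonoidHom.ext fun g => Units.ext (congrFun (congrArg Subtype.val h) g))
  letI := Fintype.ofFinite (Z →* ℂˣ)
  have hF0le : ∀ H, F0 ≤ F H := fun H l hl g _ => hl g (Subgroup.mem_top g)
  have hdisj : ∀ x y l, x ∉ Z → y ∉ Z → N x ≠ N y → l ∈ F (N x) → l ∈ F (N y) → l ∈ F0 := by
    intro x y l hx hy hne h1 h2
    refine hF0' x y l hx (fun h => hne ?_) ((hFN x l).mp h1) ((hFN y l).mp h2)
    exact (hline (N x) y le_sup_left (hNi x hx) h hy).symm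
  haveI hF0n : F0.Normal := ⟨fun n hn g => by
    rw [show g * n * g⁻¹ = n from MonoidHom.ext fun z => by
      simp [mul_comm (g z) (n z)]]
    exact hn⟩
  let f : Subgroup G → ℕ := fun H =>
    (Finset.univ.filter fun l : Z →* ℂˣ => l ∈ F H ∧ l ∉ F0).card
  set v0 := Nat.card F0 with hv0
  have hv0pos : 0 < v0 := Nat.card_pos
  set R := F0.index with hRdef
  let r : Subgroup G → ℕ := fun H => F0.relIndex (F H)
  have hr : ∀ H, f H + v0 = r H * v0 := by
    intro H
    have h1 : r H * v0 = Nat.card (F H) := by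
      rw [hv0]
      show F0.relIndex (F H) * Nat.card F0 = _
      rw [Subgroup.relIndex, ← Nat.card_congr (Subgroup.subgroupOfEquivOfLe (hF0le H)).toEquiv,
        mul_comm, Subgroup.card_mul_index]
    rw [h1, hv0, Nat.card_eq_fintype_card, Nat.card_eq_fintype_card, Fintype.card_subtype,
      Fintype.card_subtype]
    rw [← Finset.card_union_of_disjoint]
    · congr 1
      ext l
      simp only [Finset.mem_union, Finset.mem_filter, Finset.mem_univ, true_and]
      constructor
      · rintro (h | h)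
        exacts [h.1, hF0le H h]
      · intro h
        by_cases h0 : l ∈ F0
        exacts [Or.inr h0, Or.inl ⟨h, h0⟩]
    · rw [Finset.disjoint_filter]
      exact fun l _ h h' => h.2 h'
  have hR : ∑ H ∈ L, f H + v0 = R * v0 := by
    have h1 : R * v0 = Nat.card (Z →* ℂˣ) := by
      rw [hRdef, hv0, mul_comm, Subgroup.card_mul_index]
    rw [h1, Nat.card_eq_fintype_card, hv0, Nat.card_eq_fintype_card, Fintype.card_subtype,
      ← Finset.card_biUnion]
    · rw [← Finset.card_union_of_disjoint, ← Finset.card_univ]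
      · congr 1
        refine Finset.eq_univ_of_forall fun l => ?_
        rw [Finset.mem_union, Finset.mem_biUnion]
        by_cases h : l ∈ F0
        · exact Or.inr (Finset.mem_filter.mpr ⟨Finset.mem_univ _, h⟩)
        · obtain ⟨x, hx, hxl⟩ := hcover l h
          exact Or.inl ⟨N x, hLmem x hx,
            Finset.mem_filter.mpr ⟨Finset.mem_univ _, (hF _ l).mpr hxl.ge, h⟩⟩
      · rw [Finset.disjoint_left]
        intro l h1 h2
        obtain ⟨H, -, hH⟩ := Finset.mem_biUnion.mp h1
        exact (Finset.mem_filter.mp hH).2.2 (Finset.mem_filter.mp h2).2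
    · intro H hH H' hH' hne
      rw [Function.onFun, Finset.disjoint_left]
      intro l h1 h2
      obtain ⟨x, hx, rfl⟩ := hLpick H hH
      obtain ⟨y, hy, rfl⟩ := hLpick H' hH'
      exact (Finset.mem_filter.mp h1).2.2 (hdisj x y l hx hy hne
        (Finset.mem_filter.mp h1).2.1 (Finset.mem_filter.mp h2).2.1)
  have hrR : ∀ H, r H ∣ R := fun H => Dvd.intro _ (Subgroup.relIndex_mul_index (hF0le H))
  have hRp : ∃ i, R = p ^ i := by
    have h : IsPGroup p ((Z →* ℂˣ) ⧸ F0) := fun q => by
      refine ⟨1, ?_⟩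
      induction q using QuotientGroup.induction_on with | _ a =>
      rw [pow_one, ← QuotientGroup.mk_pow, QuotientGroup.eq_one_iff]
      exact hpow0 a
    exact IsPGroup.iff_card.mp h
  have hrlt : ∀ H ∈ L, r H < R := by
    intro H hH
    obtain ⟨x, hx, rfl⟩ := hLpick H hH
    refine lt_of_le_of_ne (Nat.le_of_dvd (Nat.pos_of_ne_zero Subgroup.index_ne_zero_of_finite)
      (hrR _)) fun he => hFne x hx ?_
    have h := Subgroup.relIndex_mul_index (hF0le (N x))
    rw [show F0.relIndex (F (N x)) = R from he, ← hRdef] at h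
    refine Subgroup.index_eq_one.mp ?_
    exact Nat.eq_of_mul_eq_mul_left (Nat.pos_of_ne_zero Subgroup.index_ne_zero_of_finite)
      (h.trans (mul_one R).symm)
  have hrr : ∀ H ∈ L, ∀ H' ∈ L, H ≠ H' → r H * r H' ≤ R := by
    intro H hH H' hH' hne
    obtain ⟨x, hx, rfl⟩ := hLpick H hH
    obtain ⟨y, hy, rfl⟩ := hLpick H' hH'
    have e : F0 = F (N y) ⊓ F (N x) := le_antisymm (le_inf (hF0le _) (hF0le _))
      fun l hl => hdisj x y l hx hy hne hl.2 hl.1
    have h1 : r (N x) ≤ (F (N y)).index := by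
      show F0.relIndex (F (N x)) ≤ _
      rw [e, Subgroup.inf_relIndex_right]
      haveI : (F (N y)).Normal := ⟨fun n hn g => by
        rw [show g * n * g⁻¹ = n from MonoidHom.ext fun z => by simp [mul_comm (g z) (n z)]]
        exact hn⟩
      exact Nat.le_of_dvd (Nat.pos_of_ne_zero Subgroup.index_ne_zero_of_finite)
        (Subgroup.relIndex_dvd_index_of_normal _ _)
    have h2 := Subgroup.relIndex_mul_index (hF0le (N y))
    calc r (N x) * r (N y) ≤ (F (N y)).index * r (N y) := Nat.mul_le_mul_right _ h1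
      _ = R := by rw [hRdef, ← h2, mul_comm]
  have hLcard : L.card ≤ p + 1 := by
    let Q : Subgroup G → Finset (G ⧸ Z) := fun H =>
      Finset.univ.filter fun q => q ∈ H.map (QuotientGroup.mk' Z) ∧ q ≠ 1
    have hQ : ∀ H ∈ L, (Q H).card = p - 1 := by
      intro H hH
      obtain ⟨x, hx, rfl⟩ := hLpick H hH
      have h1 : Nat.card ((N x).map (QuotientGroup.mk' Z)) * p = p ^ 2 := by
        have h := ((N x).map (QuotientGroup.mk' Z)).card_mul_index
        rw [Subgroup.index_map_eq _ (QuotientGroup.mk'_surjective Z)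
          (by rw [QuotientGroup.ker_mk']; exact le_sup_left), hNi x hx,
          ← Subgroup.index_eq_card, hidx] at h
        exact h
      have h2 : Nat.card ((N x).map (QuotientGroup.mk' Z)) = p :=
        Nat.eq_of_mul_eq_mul_right hp.pos (h1.trans (sq p))
      rw [Nat.card_eq_fintype_card, Fintype.card_subtype] at h2
      have e : Q (N x) = (Finset.univ.filter fun q => q ∈ (N x).map (QuotientGroup.mk' Z)).erase 1 := by
        ext q
        simp [Q, and_comm]
      rw [e, Finset.card_erase_of_mem (Finset.mem_filter.mpr ⟨Finset.mem_univ _, one_mem _⟩), h2]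
    have h1 : ∑ H ∈ L, (Q H).card ≤ p ^ 2 - 1 := by
      rw [← Finset.card_biUnion]
      · refine (Finset.card_le_card (t := Finset.univ.erase 1) fun q hq => ?_).trans ?_
        · obtain ⟨H, -, hH⟩ := Finset.mem_biUnion.mp hq
          exact Finset.mem_erase.mpr ⟨(Finset.mem_filter.mp hH).2.2, Finset.mem_univ _⟩
        · rw [Finset.card_erase_of_mem (Finset.mem_univ _), Finset.card_univ,
            ← Nat.card_eq_fintype_card, ← Subgroup.index_eq_card, hidx]
      · intro H hH H' hH' hne
        rw [Function.onFun, Finset.disjoint_left]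
        intro q h1 h2
        obtain ⟨x, hx, rfl⟩ := hLpick H hH
        obtain ⟨y, hy, rfl⟩ := hLpick H' hH'
        obtain ⟨⟨a, ha, rfl⟩, hq1⟩ := (Finset.mem_filter.mp h1).2
        obtain ⟨⟨b, hb, hba⟩, -⟩ := (Finset.mem_filter.mp h2).2
        have hy' : a ∈ N y := by
          have h3 : b⁻¹ * a ∈ Z := QuotientGroup.eq.mp hba
          have h4 := (N y).mul_mem hb ((le_sup_left : Z ≤ N y) h3)
          rwa [mul_inv_cancel_left] at h4
        have haZ : a ∉ Z := fun h => hq1 ((QuotientGroup.eq_one_iff a).mpr h)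
        exact hne ((hline (N x) a le_sup_left (hNi x hx) ha haZ).symm.trans
          (hline (N y) a le_sup_left (hNi y hy) hy' haZ))
    rw [Finset.sum_congr rfl hQ, Finset.sum_const, smul_eq_mul] at h1
    obtain ⟨q, rfl⟩ : ∃ q, p = q + 1 := ⟨p - 1, by omega⟩
    have h2 : (q + 1) ^ 2 - 1 = (q + 2) * q := by
      have : (q + 1) ^ 2 = (q + 2) * q + 1 := by ring
      omega
    rw [h2] at h1
    simp only [Nat.add_sub_cancel] at h1
    exact Nat.le_of_mul_le_mul_right h1 (by omega)
  have hr1 : ∀ H, 1 ≤ r H := fun H => Nat.pos_of_dvd_of_pos (hrR H)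
    (Nat.pos_of_ne_zero Subgroup.index_ne_zero_of_finite)
  -- in terms of `R`
  have hRsum : ∑ H ∈ L, (r H - 1) + 1 = R := by
    refine Nat.eq_of_mul_eq_mul_right hv0pos ?_
    rw [← hR, add_mul, one_mul, Finset.sum_mul]
    congr 1
    refine Finset.sum_congr rfl fun H _ => ?_
    rw [Nat.sub_mul, one_mul, ← hr H, Nat.add_sub_cancel]
  have hrp : ∀ H ∈ L, r H = 1 ∨ r H = p := by
    intro H hH
    have h1 := hrlt H hH
    have h2 : r H ≤ p := by
      by_contra hcon
      push Not at hcon
      have hsplit := Finset.add_sum_erase L (fun H => r H - 1) hH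
      have h3 : ∑ H' ∈ L.erase H, (r H' - 1) * r H ≤ p * (R - r H) := by
        refine (Finset.sum_le_card_nsmul _ _ (R - r H) fun H' hH' => ?_).trans ?_
        · have := hrr H' (Finset.mem_of_mem_erase hH') H hH (Finset.ne_of_mem_erase hH')
          rw [Nat.sub_mul, one_mul]
          omega
        · rw [smul_eq_mul, Finset.card_erase_of_mem hH]
          exact Nat.mul_le_mul_right _ (by omega)
      rw [← Finset.sum_mul] at h3
      have h4 : ∑ H' ∈ L.erase H, (r H' - 1) = R - r H := by
        have := hr1 H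
        omega
      rw [h4, mul_comm] at h3
      exact absurd (Nat.le_of_mul_le_mul_right h3 (by omega)) (by omega)
    obtain ⟨i, hi⟩ := hRp
    obtain ⟨j, -, hj⟩ := (Nat.dvd_prime_pow hp).mp (hi ▸ hrR H)
    rw [hj] at h2 ⊢
    rcases Nat.lt_or_ge j 2 with h | h
    · interval_cases j <;> simp
    · have := Nat.pow_le_pow_right hp.pos h
      nlinarith
  have hkey : R = p ^ 2 ∧ ∀ H ∈ L, r H = p := by
    obtain ⟨i, hi⟩ := hRp
    have hub : R ≤ p ^ 2 := by
      have h := Finset.sum_le_card_nsmul L (fun H => r H - 1) (p - 1) (fun H hH => by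
        rcases hrp H hH with h | h <;> rw [h] <;> omega)
      rw [smul_eq_mul] at h
      have h' : L.card * (p - 1) ≤ (p + 1) * (p - 1) := Nat.mul_le_mul_right _ hLcard
      have h'' : (p + 1) * (p - 1) + 1 = p ^ 2 := by
        obtain ⟨q, rfl⟩ : ∃ q, p = q + 1 := ⟨p - 1, by omega⟩
        simp only [Nat.add_sub_cancel]
        ring
      omega
    have hne1 : ∃ H ∈ L, r H = p := by
      by_contra h
      push Not at h
      have hz : R = 1 := by
        rw [← hRsum, Finset.sum_eq_zero fun H hH => by simp [(hrp H hH).resolve_right (h H hH)]]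
      obtain ⟨x, hx⟩ : ∃ x, x ∉ Z := by
        by_contra h'
        push Not at h'
        have := Subgroup.index_eq_one.mpr (eq_top_iff.mpr fun g _ => h' g)
        rw [hidx] at this
        nlinarith
      have := hrlt _ (hLmem x hx)
      have := hr1 (N x)
      omega
    obtain ⟨H1, hH1, hr1'⟩ := hne1
    have hgt := hrlt H1 hH1
    rw [hr1', hi] at hgt
    have hi2 : 2 ≤ i := by
      by_contra h
      interval_cases i <;> simp at hgt <;> omega
    have hR2 : R = p ^ 2 := le_antisymm hub (hi ▸ Nat.pow_le_pow_right hp.pos hi2)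
    refine ⟨hR2, fun H hH => (hrp H hH).resolve_left fun hH1' => ?_⟩
    have hsplit := Finset.add_sum_erase L (fun H => r H - 1) hH
    have h := Finset.sum_le_card_nsmul (L.erase H) (fun H => r H - 1) (p - 1) (fun H' hH' => by
      rcases hrp H' (Finset.mem_of_mem_erase hH') with h | h <;> rw [h] <;> omega)
    rw [smul_eq_mul, Finset.card_erase_of_mem hH] at h
    have h' : (L.card - 1) * (p - 1) ≤ p * (p - 1) := Nat.mul_le_mul_right _ (by omega)
    have h'' : p * (p - 1) + p = p ^ 2 := by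
      obtain ⟨q, rfl⟩ : ∃ q, p = q + 1 := ⟨p - 1, by omega⟩
      simp only [Nat.add_sub_cancel]
      ring
    rw [hH1'] at hsplit
    omega
  have hdp : ∀ x ∉ Z, Nat.card (disp Z hc x).range = p := by
    intro x hx
    rw [← hd_index]
    have h := Subgroup.relIndex_mul_index (hF0le (N x))
    rw [show F0.relIndex (F (N x)) = p from hkey.2 _ (hLmem x hx), ← hRdef, hkey.1, sq] at h
    exact Nat.eq_of_mul_eq_mul_left hp.pos h
  have hkerEq : ∀ x y, x ∉ Z → y ∉ N x → (disp Z hc x).ker = (disp Z hc y).ker := by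
    intro x y hx hyx
    have hy : y ∉ Z := fun h => hyx ((le_sup_left : Z ≤ N x) h)
    have hi : ∀ g ∉ Z, (disp Z hc g).ker.index = p := fun g hg => by
      rw [Subgroup.index_ker, hdp g hg]
    by_contra hne
    obtain ⟨z1, hz1, hz1'⟩ : ∃ z, z ∈ (disp Z hc y).ker ∧ z ∉ (disp Z hc x).ker := by
      by_contra h
      push Not at h
      rcases lt_or_eq_of_le (show (disp Z hc y).ker ≤ (disp Z hc x).ker from h) with h' | h'
      · have := Subgroup.index_strictAnti h'
        rw [hi x hx, hi y hy] at this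
        omega
      · exact hne h'.symm
    obtain ⟨z2, hz2, hz2'⟩ : ∃ z, z ∈ (disp Z hc x).ker ∧ z ∉ (disp Z hc y).ker := by
      by_contra h
      push Not at h
      rcases lt_or_eq_of_le (show (disp Z hc x).ker ≤ (disp Z hc y).ker from h) with h' | h'
      · have := Subgroup.index_strictAnti h'
        rw [hi x hx, hi y hy] at this
        omega
      · exact hne h'
    rw [MonoidHom.mem_ker] at hz1 hz1' hz2 hz2'
    have hmulw : ∀ z, disp Z hc (x * y) z =
        MulAut.conjNormal x (disp Z hc y z) * disp Z hc x z := by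
      intro z
      show MulAut.conjNormal (x * y) z * z⁻¹ =
        MulAut.conjNormal x (MulAut.conjNormal y z * z⁻¹) * (MulAut.conjNormal x z * z⁻¹)
      rw [map_mul, MulAut.mul_apply, map_mul, map_inv]
      group
    have hwZ : x * y ∉ Z := fun h => hyx (by
      have h' := (N x).mul_mem ((N x).inv_mem (hxN x)) ((le_sup_left : Z ≤ N x) h)
      rwa [inv_mul_cancel_left] at h')
    have e1 : disp Z hc (x * y) z1 = disp Z hc x z1 := by rw [hmulw, hz1, map_one, one_mul]
    have e2 : disp Z hc (x * y) z2 = MulAut.conjNormal x (disp Z hc y z2) := by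
      rw [hmulw, hz2, mul_one]
    have hb : MulAut.conjNormal x (disp Z hc y z2) ∈ (disp Z hc y).range := by
      refine ⟨MulAut.conjNormal x z2, ?_⟩
      show MulAut.conjNormal y (MulAut.conjNormal x z2) * (MulAut.conjNormal x z2)⁻¹ =
        MulAut.conjNormal x (MulAut.conjNormal y z2 * z2⁻¹)
      rw [map_mul, map_inv]
      congr 1
      apply Subtype.ext
      simp only [MulAut.conjNormal_apply]
      have hk := hcZ y x
      have := congrArg Subtype.val (hc ⟨_, hk⟩ ⟨_, (inferInstance : Z.Normal).conj_mem _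
        ((inferInstance : Z.Normal).conj_mem _ z2.2 y) x⟩)
      simp only [Subgroup.coe_mul] at this
      calc y * (x * z2 * x⁻¹) * y⁻¹
          = (y * x * y⁻¹ * x⁻¹) * (x * (y * z2 * y⁻¹) * x⁻¹) * (y * x * y⁻¹ * x⁻¹)⁻¹ := by group
        _ = _ := by rw [this, mul_inv_cancel_right]
    have hgen : ∀ (D : Subgroup Z), Nat.card D = p → ∀ t ∈ D, t ≠ 1 → Subgroup.zpowers t = D := by
      intro D hD t ht ht1
      refine Subgroup.eq_of_le_of_card_ge (Subgroup.zpowers_le.mpr ht) ?_
      rw [Nat.card_zpowers, hD]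
      have h1 : orderOf t ∣ p := by
        have := orderOf_dvd_natCard (⟨t, ht⟩ : D)
        rwa [hD, Subgroup.orderOf_mk] at this
      exact ((Nat.dvd_prime hp).mp h1).resolve_left (fun h => ht1 (orderOf_eq_one_iff.mp h)) |>.ge
    have hb1 : MulAut.conjNormal x (disp Z hc y z2) ≠ 1 := fun h => hz2' (by
      simpa using h)
    have hDxy : (disp Z hc x).range = (disp Z hc y).range :=
      calc (disp Z hc x).range = Subgroup.zpowers (disp Z hc x z1) :=
            (hgen _ (hdp x hx) _ ⟨z1, rfl⟩ hz1').symm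
        _ = (disp Z hc (x * y)).range := hgen _ (hdp _ hwZ) _ ⟨z1, e1⟩ hz1'
        _ = Subgroup.zpowers (MulAut.conjNormal x (disp Z hc y z2)) :=
            (hgen _ (hdp _ hwZ) _ ⟨z2, e2⟩ hb1).symm
        _ = (disp Z hc y).range := hgen _ (hdp y hy) _ hb hb1
    have hle : F (N x) ≤ F0 := by
      intro l hl
      refine hF0' x y l hx hyx ((hFN x l).mp hl) (MonoidHom.ext fun z => ?_)
      obtain ⟨z', hz'⟩ : disp Z hc y z ∈ (disp Z hc x).range := hDxy ▸ ⟨z, rfl⟩
      have hlx : l (disp Z hc x z') = 1 := by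
        show l (MulAut.conjNormal x z' * z'⁻¹) = 1
        have h' : l (MulAut.conjNormal x z') = l z' := DFunLike.congr_fun ((hFN x l).mp hl) z'
        rw [map_mul, map_inv, h', mul_inv_cancel]
      rw [hz'] at hlx
      have hly : l (MulAut.conjNormal y z * z⁻¹) = 1 := hlx
      rw [map_mul, map_inv, mul_inv_eq_one] at hly
      exact hly
    have h := hkey.2 _ (hLmem x hx)
    rw [show r (N x) = 1 from Subgroup.relIndex_eq_one.mpr hle] at h
    omega
  obtain ⟨x, hx⟩ : ∃ x, x ∉ Z := by
    by_contra h'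
    push Not at h'
    have := Subgroup.index_eq_one.mpr (eq_top_iff.mpr fun g _ => h' g)
    rw [hidx] at this
    nlinarith
  obtain ⟨y, hy⟩ : ∃ y, y ∉ N x := by
    by_contra h'
    push Not at h'
    have := Subgroup.index_eq_one.mpr (eq_top_iff.mpr fun g _ => h' g)
    rw [hNi x hx] at this
    omega
  have hker : (Subgroup.center G).subgroupOf Z = (disp Z hc x).ker := by
    ext z
    rw [Subgroup.mem_subgroupOf, MonoidHom.mem_ker, disp_eq_one_iff, Subgroup.mem_center_iff]
    refine ⟨fun h => h x, fun h g => ?_⟩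
    have hy' : y * z = z * y := (disp_eq_one_iff Z hc y z).mp
      (MonoidHom.mem_ker.mp (hkerEq x y hx hy ▸ MonoidHom.mem_ker.mpr
        ((disp_eq_one_iff Z hc x z).mpr h)))
    have hg : g ∈ Subgroup.centralizer ({(z : G)} : Set G) := by
      rw [htop x y hx hy (Subgroup.centralizer ({(z : G)} : Set G)) ?_ ?_ ?_]
      · exact Subgroup.mem_top g
      · intro a ha
        rw [Subgroup.mem_centralizer_iff]
        rintro b rfl
        exact congrArg Subtype.val (hc z ⟨a, ha⟩)
      · rw [Subgroup.mem_centralizer_iff]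
        rintro b rfl
        exact h.symm
      · rw [Subgroup.mem_centralizer_iff]
        rintro b rfl
        exact hy'.symm
    exact (Subgroup.mem_centralizer_iff.mp hg z rfl).symm
  rw [← Subgroup.relIndex_mul_index hcen, Subgroup.relIndex, hker, Subgroup.index_ker, hdp x hx,
    hidx]
  ring

end lines

/-- A nilpotent group with degrees `1, p`. -/
theorem nilpotent_degrees_one_prime [Finite G] [Group.IsNilpotent G] {p : ℕ} (hp : p.Prime)
    (hcd : ∀ χ : G → ℂ, IsIrrCharacter G χ → CT.deg χ = 1 ∨ CT.deg χ = p)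
    (hne : ¬ ∀ a b : G, a * b = b * a) :
    (∃ A : Subgroup G, A.Normal ∧ (∀ a ∈ A, ∀ b ∈ A, a * b = b * a) ∧ A.index = p) ∨
      (Subgroup.center G).index = p ^ 3 := by
  by_cases hA : ∃ A : Subgroup G, A.Normal ∧ (∀ a ∈ A, ∀ b ∈ A, a * b = b * a) ∧ A.index = p
  · exact Or.inl hA
  · obtain ⟨Z, hZn, hidx, hcZ, hpow, hc⟩ := exists_Z p hp hcd hne
    haveI := hZn
    exact Or.inr (center_index_of_lines Z p hp hcd hidx hcZ hpow hc hne hA)

end Cfsg.Agent.TwoDeg
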