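import Cfsg.Agent.Lib.CT.WreathChar
import Cfsg.Agent.Lib.CT.GoodCount
import Cfsg.Agent.Lib.CT.TwoDegreesPrime
import Cfsg.Agent.Lib.CT.Berger

/-!
# Embedding solvable groups into groups of central type modulo their centre

One step: from a group of central type `H` and a group `Q` of order `p`, a group of central type
whose central quotient contains `(H / Z(H)) ≀ Q`.
-/

set_option autoImplicit false
set_option linter.all false

universe u

namespace Cfsg.Agent.CentralEmb

open Cfsg RegularWreathProduct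
open scoped ComplexConjugate

/-- The Heisenberg group of order `p ^ 3`. -/
@[ext]
structure Heis (p : ℕ) where
  a : ZMod p
  b : ZMod p
  c : ZMod p

namespace Heis

variable {p : ℕ}

instance : Mul (Heis p) := ⟨fun x y => ⟨x.a + y.a, x.b + y.b, x.c + y.c + x.a * y.b⟩⟩
instance : One (Heis p) := ⟨⟨0, 0, 0⟩⟩
instance : Inv (Heis p) := ⟨fun x => ⟨-x.a, -x.b, -x.c + x.a * x.b⟩⟩

@[simp] theorem mul_a (x y : Heis p) : (x * y).a = x.a + y.a := rfl
@[simp] theorem mul_b (x y : Heis p) : (x * y).b = x.b + y.b := rfl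
@[simp] theorem mul_c (x y : Heis p) : (x * y).c = x.c + y.c + x.a * y.b := rfl
@[simp] theorem one_a : (1 : Heis p).a = 0 := rfl
@[simp] theorem one_b : (1 : Heis p).b = 0 := rfl
@[simp] theorem one_c : (1 : Heis p).c = 0 := rfl
@[simp] theorem inv_a (x : Heis p) : x⁻¹.a = -x.a := rfl
@[simp] theorem inv_b (x : Heis p) : x⁻¹.b = -x.b := rfl
@[simp] theorem inv_c (x : Heis p) : x⁻¹.c = -x.c + x.a * x.b := rfl

instance : Group (Heis p) where
  mul_assoc x y z := by ext <;> simp <;> ring
  one_mul x := by ext <;> simp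
  mul_one x := by ext <;> simp
  inv_mul_cancel x := by ext <;> simp

/-- Coordinates. -/
def equivProd : Heis p ≃ ZMod p × ZMod p × ZMod p where
  toFun x := (x.a, x.b, x.c)
  invFun t := ⟨t.1, t.2.1, t.2.2⟩
  left_inv x := rfl
  right_inv t := rfl

noncomputable instance [NeZero p] : Fintype (Heis p) := Fintype.ofEquiv _ equivProd.symm

theorem card [NeZero p] : Nat.card (Heis p) = p ^ 3 := by
  rw [Nat.card_congr equivProd, Nat.card_prod, Nat.card_prod, Nat.card_zmod]
  ring

/-- The faithful character of degree `p`. -/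
theorem exists_theta [hp : Fact p.Prime] : ∃ (ψ : AddChar (ZMod p) ℂ) (θ : Heis p → ℂ),
    IsCharacter (Heis p) θ ∧ ψ.IsPrimitive ∧
      (∀ g : Heis p, θ g = if g.a = 0 ∧ g.b = 0 then (p : ℂ) * ψ g.c else 0) := by
  classical
  have hz : IsPrimitiveRoot (Complex.exp (2 * Real.pi * Complex.I / p)) p :=
    Complex.isPrimitiveRoot_exp p hp.out.ne_zero
  let ψ : AddChar (ZMod p) ℂ := AddChar.zmodChar p ((IsPrimitiveRoot.iff_def _ p).mp hz).left
  have hψ : ψ.IsPrimitive := AddChar.zmodChar_primitive_of_primitive_root p hz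
  let A : Subgroup (Heis p) :=
    { carrier := {g | g.a = 0}
      one_mem' := rfl
      mul_mem' := fun {x y} hx hy => by simp [show x.a = 0 from hx, show y.a = 0 from hy]
      inv_mem' := fun {x} hx => by simp [show x.a = 0 from hx] }
  let lam : A →* ℂˣ :=
    { toFun := fun g => (ψ.val_isUnit g.1.c).unit
      map_one' := Units.ext (by simp)
      map_mul' := fun x y => Units.ext (by
        simp [show x.1.a = 0 from x.2, AddChar.map_add_eq_mul]) }
  letI := Fintype.ofFinite A
  refine ⟨ψ, indFun A (fun g => (lam g : ℂ)), CT.isCharacter_indFun A (CT.isCharacter_lin lam), hψ,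
    fun g => ?_⟩
  have hA : Nat.card A = p * p := by
    have e : Nat.card A = Nat.card (ZMod p × ZMod p) := Nat.card_congr
      { toFun := fun g => (g.1.b, g.1.c)
        invFun := fun t => ⟨⟨0, t.1, t.2⟩, rfl⟩
        left_inv := fun g => Subtype.ext (Heis.ext (show g.1.a = 0 from g.2).symm rfl rfl)
        right_inv := fun t => rfl }
    rw [e, Nat.card_prod, Nat.card_zmod]
  by_cases ha : g.a = 0
  · have e : ∀ x : Heis p, extendByZero A (fun g => (lam g : ℂ)) (x⁻¹ * g * x) =
        ψ g.c * ψ (x.a * -g.b) := by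
      intro x
      have hm : x⁻¹ * g * x ∈ A := by show (x⁻¹ * g * x).a = 0; simp [ha]
      rw [CT.extendByZero_mem A _ hm]
      show ψ (x⁻¹ * g * x).c = _
      rw [← AddChar.map_add_eq_mul]
      congr 1
      simp [ha]
      ring
    unfold indFun
    rw [hA, Finset.sum_congr rfl fun x _ => e x, ← equivProd.symm.sum_comp, Fintype.sum_prod_type]
    simp only [equivProd, Equiv.coe_fn_symm_mk, Finset.sum_const, Finset.card_univ, Fintype.card_prod,
      ZMod.card, ← Finset.mul_sum, nsmul_eq_mul]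
    rw [AddChar.sum_mulShift (-g.b) hψ]
    have hp0 : (p : ℂ) ≠ 0 := Nat.cast_ne_zero.mpr hp.out.ne_zero
    by_cases hb : g.b = 0
    · rw [if_pos (show -g.b = 0 by simp [hb]), if_pos (show g.a = 0 ∧ g.b = 0 from ⟨ha, hb⟩),
        ZMod.card]
      push_cast
      field_simp
    · rw [if_neg (show ¬ -g.b = 0 by simpa using hb),
        if_neg (show ¬ (g.a = 0 ∧ g.b = 0) from fun h => hb h.2)]
      simp
  · rw [if_neg fun h => ha h.1]
    unfold indFun
    rw [Finset.sum_eq_zero fun x _ => CT.extendByZero_not_mem A _ fun h => ha ?_, mul_zero]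
    have h' : (x⁻¹ * g * x).a = 0 := h
    simpa using h'

end Heis

/-- A faithful fully ramified character vanishes off the centre. -/
theorem central_type_values {H : Type u} [Group H] [Fintype H] {χ : H → ℂ}
    (hχ : IsIrrCharacter H χ) (hdeg : CT.deg χ ^ 2 = (Subgroup.center H).index) :
    (∀ z ∈ Subgroup.center H, χ z * conj (χ z) = (CT.deg χ : ℂ) ^ 2) ∧
      ∀ g ∉ Subgroup.center H, χ g = 0 := by
  classical
  letI : Fintype (Subgroup.center H) := Fintype.ofFinite _
  obtain ⟨n, ρ, hρ, hρc⟩ := id hχ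
  haveI := hρ
  have hd : CT.deg χ = n := by rw [← hρc, CT.deg_eq_finrank, Module.finrank_fin_fun]
  have hon : ∀ z ∈ Subgroup.center H, χ z * conj (χ z) = (CT.deg χ : ℂ) ^ 2 := by
    intro z hz
    obtain ⟨ω, hω, -⟩ := CT.central_scalar ρ hz
    have h := (CT.norm_eq_iff_scalar ρ z).mpr ⟨ω, hω⟩
    rw [hρc, Module.finrank_fin_fun] at h
    rw [Complex.mul_conj, Complex.normSq_eq_norm_sq, h, hd]
    push_cast
    ring
  refine ⟨hon, fun g hg => CT.vanish_of_norm_eq (Subgroup.center H) hχ ?_ g hg⟩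
  rw [Finset.sum_congr rfl fun (z : Subgroup.center H) _ => hon z z.2, Finset.sum_const,
    Finset.card_univ, nsmul_eq_mul, ← Nat.card_eq_fintype_card,
    ← (Subgroup.center H).card_mul_index, ← hdeg]
  push_cast
  ring

/-- The inductive step. -/
theorem step {H : Type u} [Group H] [Finite H] (χ : IrrCharacter H)
    (hfaith : ∀ h : H, (χ : H → ℂ) h = (χ : H → ℂ) 1 → h = 1)
    (hdeg : charDegree (χ : H → ℂ) ^ 2 = (Subgroup.center H).index)
    (hsq : Squarefree (Nat.card (Subgroup.center H)))
    {Q : Type u} [Group Q] [Finite Q] (p : ℕ) [hp : Fact p.Prime] (hQ : Nat.card Q = p) :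
    ∃ (H1 : Type u) (_ : Group H1) (_ : Finite H1) (χ1 : IrrCharacter H1),
      (∀ h : H1, (χ1 : H1 → ℂ) h = (χ1 : H1 → ℂ) 1 → h = 1) ∧
      charDegree (χ1 : H1 → ℂ) ^ 2 = (Subgroup.center H1).index ∧
      (∀ (N : Type u) [Group N] (f : N →* H ⧸ Subgroup.center H), Function.Injective f →
        ∃ g : N ≀ᵣ Q →* H1 ⧸ Subgroup.center H1, Function.Injective g) ∧
      (∀ q : ℕ, q.Prime → q ∣ Nat.card H1 → q ∣ Nat.card H ∨ q = p) ∧
      (∀ q : ℕ, q.Prime →
        (q ∣ Nat.card (Subgroup.center H1) ↔ q ∣ Nat.card (Subgroup.center H) ∨ q = p)) ∧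
      Squarefree (Nat.card (Subgroup.center H1)) := by
  classical
  letI := Fintype.ofFinite H
  letI := Fintype.ofFinite Q
  set Z := Subgroup.center H with hZ
  set n := CT.deg (χ : H → ℂ) with hn
  have hdeg' : n ^ 2 = Z.index := hdeg
  obtain ⟨hon, hoff⟩ := central_type_values χ.2 hdeg'
  have hn0 : 0 < n := CT.deg_pos χ.2
  obtain ⟨ψ, θ, hθ, hψ, hθv⟩ := Heis.exists_theta (p := p)
  haveI : IsCyclic Q := isCyclic_of_prime_card hQ
  let e : Multiplicative (ZMod p) ≃* Q := mulEquivOfCyclicCardEq (by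
    rw [hQ]
    exact Nat.card_zmod p)
  let π : Heis p →* Q :=
    { toFun := fun x => e (Multiplicative.ofAdd x.a)
      map_one' := map_one e
      map_mul' := fun x y => map_mul e (Multiplicative.ofAdd x.a) (Multiplicative.ofAdd y.a) }
  let sect : Q →* Heis p :=
    { toFun := fun q => ⟨(e.symm q).toAdd, 0, 0⟩
      map_one' := by ext <;> simp
      map_mul' := fun x y => by ext <;> simp }
  have hsect : ∀ q, π (sect q) = q := fun q => e.apply_symm_apply q
  have hker : ∀ x : Heis p, x.a = 0 → π x = 1 := fun x hx => by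
    show e (Multiplicative.ofAdd x.a) = 1
    rw [hx]; exact map_one e
  -- extension of the product character
  letI : Fintype (H ≀ᵣ Q) := Fintype.ofFinite _
  letI := Fintype.ofFinite (WreathChar.base H Q)
  let φ : WreathChar.base H Q → ℂ := fun w =>
    WreathChar.piChar (fun _ : Q => (χ : H → ℂ)) (WreathChar.baseEquiv.symm w)
  have hφ : IsIrrCharacter (WreathChar.base H Q) φ :=
    CT.isIrrCharacter_comp (WreathChar.baseEquiv (D := H) (Q := Q)).symm.toMonoidHom
      WreathChar.baseEquiv.symm.surjective (WreathChar.isIrr_piChar fun _ => χ.2)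
  have hinv : ∀ w : H ≀ᵣ Q, CT.conjFun (WreathChar.base H Q) w φ = φ := by
    intro w
    funext m
    show ∏ q, (χ : H → ℂ) ((w * (m : H ≀ᵣ Q) * w⁻¹).left q) = ∏ q, (χ : H → ℂ) ((m : H ≀ᵣ Q).left q)
    have hm : (m : H ≀ᵣ Q).right = 1 := m.2
    refine Fintype.prod_equiv (Equiv.mulLeft w.right⁻¹) _ _ fun q => ?_
    simp [hm]
    exact CT.isClassFunction_of_isIrr χ.2 _ _
  haveI : IsCyclic ((H ≀ᵣ Q) ⧸ WreathChar.base H Q) := isCyclic_of_prime_card (p := p) (by
    rw [← Subgroup.index_eq_card, WreathChar.index_base, hQ])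
  obtain ⟨E, hE, hEv⟩ := GoodCount.exists_ext_cyclic (WreathChar.base H Q) hφ hinv
  -- the fibre product
  let W : Subgroup ((H ≀ᵣ Q) × Heis p) :=
    { carrier := {w | w.1.right = π w.2}
      one_mem' := (map_one π).symm
      mul_mem' := fun {a b} (ha : a.1.right = π a.2) (hb : b.1.right = π b.2) => by
        show (a * b).1.right = π (a * b).2
        rw [Prod.fst_mul, Prod.snd_mul, map_mul, ← ha, ← hb]
        rfl
      inv_mem' := fun {a} (ha : a.1.right = π a.2) => by
        show a⁻¹.1.right = π a⁻¹.2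
        rw [Prod.fst_inv, Prod.snd_inv, map_inv, ← ha]
        rfl }
  letI := Fintype.ofFinite W
  let Φ : W → ℂ := fun w => E w.1.1 * θ w.1.2
  have hΦc : IsCharacter W Φ := CT.isCharacter_mul
    (CT.isCharacter_comp ((MonoidHom.fst _ _).comp W.subtype) (CT.isCharacter_of_isIrr hE))
    (CT.isCharacter_comp ((MonoidHom.snd _ _).comp W.subtype) hθ)
  have hΦv : ∀ w : W, Φ w = if w.1.2.a = 0 ∧ w.1.2.b = 0
      then (p : ℂ) * ψ w.1.2.c * ∏ q, (χ : H → ℂ) (w.1.1.left q) else 0 := by
    intro w
    show E w.1.1 * θ w.1.2 = _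
    rw [hθv]
    split_ifs with h
    · have hb : w.1.1 ∈ WreathChar.base H Q := (show w.1.1.right = π w.1.2 from w.2).trans (hker _ h.1)
      rw [hEv ⟨w.1.1, hb⟩]
      show (∏ q, (χ : H → ℂ) (w.1.1.left q)) * _ = _
      ring
    · rw [mul_zero]
  let S : Subgroup W :=
    { carrier := {w | w.1.2.a = 0 ∧ w.1.2.b = 0 ∧ ∀ q, w.1.1.left q ∈ Z}
      one_mem' := ⟨rfl, rfl, fun q => one_mem _⟩
      mul_mem' := fun {a b} ha hb => ⟨by simp [ha.1, hb.1], by simp [ha.2.1, hb.2.1],
        fun q => Z.mul_mem (ha.2.2 q) (hb.2.2 _)⟩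
      inv_mem' := fun {a} ha => ⟨by simp [ha.1], by simp [ha.2.1], fun q => Z.inv_mem (ha.2.2 _)⟩ }
  haveI hSn : S.Normal := ⟨fun s hs g => by
    obtain ⟨h1, h2, h3⟩ := hs
    have hr : s.1.1.right = 1 := (show s.1.1.right = π s.1.2 from s.2).trans (hker _ h1)
    refine ⟨by simp [h1], by simp [h2], fun q => ?_⟩
    have := (inferInstance : Z.Normal).conj_mem _ (h3 (g.1.1.right⁻¹ * q)) (g.1.1.left q)
    simpa [hr] using this⟩
  set d := p * n ^ Nat.card Q with hd
  have hd0 : d ≠ 0 := Nat.mul_ne_zero hp.out.ne_zero (pow_ne_zero _ hn0.ne')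
  have hSon : ∀ w : S, Φ w * conj (Φ w) = ((d ^ 2 : ℕ) : ℂ) := by
    intro w
    rw [hΦv, if_pos ⟨w.2.1, w.2.2.1⟩]
    simp only [map_mul, map_prod, Complex.conj_natCast]
    have hψ1 : ψ w.1.1.2.c * conj (ψ w.1.1.2.c) = 1 := by
      rw [Complex.mul_conj, Complex.normSq_eq_norm_sq, AddChar.norm_apply]
      simp
    calc _ = (p : ℂ) ^ 2 * (ψ w.1.1.2.c * conj (ψ w.1.1.2.c)) *
          ∏ q, ((χ : H → ℂ) (w.1.1.1.left q) * conj ((χ : H → ℂ) (w.1.1.1.left q))) := by
            rw [Finset.prod_mul_distrib]; ring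
      _ = _ := by
        rw [hψ1, Finset.prod_congr rfl fun q _ => hon _ (w.2.2.2 q), Finset.prod_const,
          Finset.card_univ, ← Nat.card_eq_fintype_card, hd]
        push_cast
        ring
  have hSoff : ∀ w ∉ S, Φ w = 0 := by
    intro w hw
    rw [hΦv]
    split_ifs with h
    · obtain ⟨q, hq⟩ : ∃ q, w.1.1.left q ∉ Z := by
        by_contra hc
        push Not at hc
        exact hw ⟨h.1, h.2, hc⟩
      rw [Finset.prod_eq_zero (Finset.mem_univ q) (hoff _ hq), mul_zero]
    · rfl
  have hWcard : Nat.card W = Nat.card H ^ Nat.card Q * p ^ 3 := by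
    rw [← Nat.card_fun, ← Heis.card, ← Nat.card_prod]
    exact Nat.card_congr
      { toFun := fun w => (w.1.1.left, w.1.2)
        invFun := fun t => ⟨(⟨t.1, π t.2⟩, t.2), rfl⟩
        left_inv := fun w => Subtype.ext (Prod.ext
          (RegularWreathProduct.ext rfl (show w.1.1.right = π w.1.2 from w.2).symm) rfl)
        right_inv := fun t => rfl }
  have hScard : Nat.card S = Nat.card Z ^ Nat.card Q * p := by
    conv_rhs => rw [← Nat.card_fun, ← Nat.card_zmod p, ← Nat.card_prod]
    exact Nat.card_congr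
      { toFun := fun w => (fun q => ⟨w.1.1.1.left q, w.2.2.2 q⟩, w.1.1.2.c)
        invFun := fun t => ⟨⟨(⟨fun q => (t.1 q : H), 1⟩, ⟨0, 0, t.2⟩), (hker _ rfl).symm⟩,
          rfl, rfl, fun q => (t.1 q).2⟩
        left_inv := fun w => by
          apply Subtype.ext
          apply Subtype.ext
          refine Prod.ext (RegularWreathProduct.ext rfl ?_) (Heis.ext ?_ ?_ rfl)
          · exact ((show w.1.1.1.right = π w.1.1.2 from w.1.2).trans (hker _ w.2.1)).symm
          · exact w.2.1.symm
          · exact w.2.2.1.symm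
        right_inv := fun t => rfl }
  have hWS : Nat.card W = Nat.card S * d ^ 2 := by
    rw [hWcard, hScard, hd, ← Z.card_mul_index, ← hdeg']
    rw [mul_pow, ← pow_mul]
    ring
  have hSindex : S.index = d ^ 2 := by
    have h := S.card_mul_index
    rw [hWS] at h
    exact Nat.eq_of_mul_eq_mul_left Nat.card_pos h
  letI := Fintype.ofFinite S
  have hΦi : IsIrrCharacter W Φ := by
    refine CT.isIrr_of_inner_self hΦc ?_
    rw [classInner, TwoDeg.sum_mul_conj_on S _ _ hSoff hSon, ← Nat.cast_mul, ← hWS]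
    exact inv_mul_cancel₀ (Nat.cast_ne_zero.mpr Nat.card_pos.ne')
  have hΦd : Φ 1 = (d : ℂ) := by
    rw [hΦv, if_pos ⟨rfl, rfl⟩, hd]
    simp only [OneMemClass.coe_one, Prod.fst_one, Prod.snd_one, Heis.one_c,
      AddChar.map_zero_eq_one, RegularWreathProduct.one_left, Pi.one_apply, mul_one]
    rw [Finset.prod_const, CT.deg_eq (CT.isCharacter_of_isIrr χ.2), Finset.card_univ,
      ← Nat.card_eq_fintype_card]
    push_cast
    rfl
  -- the quotient by the kernel
  set K := CT.kerChar Φ with hK
  haveI : K.Normal := ClassSum.kerChar_normal hΦc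
  have hKS : K ≤ S := fun w hw => by
    by_contra h
    have := (CT.mem_kerChar_iff hΦc).mp hw
    rw [hSoff w h, hΦd] at this
    exact hd0 (by exact_mod_cast this.symm)
  obtain ⟨ψ1, hψ1, hψ1v⟩ := CT.exists_quotient_irr hΦi K (fun w hw => (CT.mem_kerChar_iff hΦc).mp hw)
  letI := Fintype.ofFinite (W ⧸ K)
  have hfaith1 : ∀ h : W ⧸ K, ψ1 h = ψ1 1 → h = 1 := by
    intro h heq
    induction h using QuotientGroup.induction_on with | _ w =>
    rw [hψ1v, ← QuotientGroup.mk_one, hψ1v] at heq
    exact (QuotientGroup.eq_one_iff w).mpr ((CT.mem_kerChar_iff hΦc).mpr heq)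
  have hd1 : CT.deg ψ1 = d := by
    have h := CT.deg_eq (CT.isCharacter_of_isIrr hψ1)
    rw [show ψ1 1 = Φ 1 from hψ1v 1, hΦd] at h
    exact_mod_cast h.symm
  obtain ⟨m, ρ, hρ, hρc⟩ := id hψ1
  haveI := hρ
  have hm : m = d := by rw [← hd1, ← hρc, CT.deg_eq_finrank, Module.finrank_fin_fun]
  have hinj : ∀ x y, ρ x = ρ y → x = y := by
    intro x y hxy
    have h1 : ρ (x * y⁻¹) = 1 := by rw [map_mul, hxy, ← map_mul, mul_inv_cancel, map_one]
    rw [CT.rep_eq_one_iff, hρc] at h1
    exact mul_inv_eq_one.mp (hfaith1 _ h1)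
  have hcen : Subgroup.center (W ⧸ K) = S.map (QuotientGroup.mk' K) := by
    ext x
    induction x using QuotientGroup.induction_on with | _ w =>
    constructor
    · intro hw
      refine ⟨w, ?_, rfl⟩
      by_contra h
      obtain ⟨ω, hω, -⟩ := CT.central_scalar ρ hw
      have hn' := (CT.norm_eq_iff_scalar ρ _).mpr ⟨ω, hω⟩
      rw [hρc, hψ1v, hSoff w h, norm_zero, Module.finrank_fin_fun, hm] at hn'
      exact hd0 (by exact_mod_cast hn'.symm)
    · rintro ⟨s, hs, hsw⟩
      rw [← hsw, Subgroup.mem_center_iff]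
      intro y
      have hnorm : ‖ρ.character ((s : W) : W ⧸ K)‖ = (Module.finrank ℂ (Fin m → ℂ) : ℝ) := by
        rw [hρc, hψ1v, Module.finrank_fin_fun, hm]
        have h := hSon ⟨s, hs⟩
        rw [Complex.mul_conj, Complex.normSq_eq_norm_sq] at h
        have h' : ‖Φ s‖ ^ 2 = (d : ℝ) ^ 2 := by exact_mod_cast h
        exact (pow_left_inj₀ (norm_nonneg _) (Nat.cast_nonneg _) two_ne_zero).mp h'
      apply hinj
      show ρ (y * (s : W ⧸ K)) = ρ ((s : W ⧸ K) * y)
      rw [map_mul, map_mul, CT.scalar_of_norm_eq ρ hnorm]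
      simp [mul_smul_comm, smul_mul_assoc, ← Module.End.one_eq_id]
  have hidx : (Subgroup.center (W ⧸ K)).index = d ^ 2 := by
    rw [hcen, Subgroup.index_map_eq _ (QuotientGroup.mk'_surjective K)
      (by rw [QuotientGroup.ker_mk']; exact hKS), hSindex]
  -- the centre is cyclic
  haveI hcyc : IsCyclic (Subgroup.center (W ⧸ K)) := by
    have hval : ∀ z : Subgroup.center (W ⧸ K),
        ρ z = (ρ.character z / (m : ℂ)) • LinearMap.id := by
      intro z
      obtain ⟨ω, hω, -⟩ := CT.central_scalar ρ z.2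
      have h := (CT.norm_eq_iff_scalar ρ (z : W ⧸ K)).mpr ⟨ω, hω⟩
      have := CT.scalar_of_norm_eq ρ h
      rwa [Module.finrank_fin_fun] at this
    have hm0 : (m : ℂ) ≠ 0 := by rw [hm]; exact_mod_cast hd0
    let f : Subgroup.center (W ⧸ K) →* ℂ :=
      { toFun := fun z => ρ.character z / (m : ℂ)
        map_one' := by
          rw [OneMemClass.coe_one, Representation.char_one, Module.finrank_fin_fun, div_self hm0]
        map_mul' := fun a b => by
          have h : ρ ((a : W ⧸ K) * b) =
              ((ρ.character a / (m : ℂ)) * (ρ.character b / (m : ℂ))) • LinearMap.id := by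
            rw [map_mul, hval a, hval b, smul_mul_smul_comm]
            rfl
          show ρ.character ((a : W ⧸ K) * b) / (m : ℂ) = _
          rw [Representation.character, h]
          simp only [map_smul, LinearMap.trace_id, Module.finrank_fin_fun, smul_eq_mul]
          field_simp }
    refine isCyclic_of_subgroup_isDomain f fun a b hab => ?_
    apply Subtype.ext
    apply hinj
    rw [hval a, hval b]
    exact congrArg (fun c : ℂ => c • LinearMap.id) hab
  set L := Nat.lcm (Nat.card Z) p with hL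
  have hexp : Nat.card (Subgroup.center (W ⧸ K)) ∣ L := by
    obtain ⟨g, hg⟩ := hcyc.exists_ofOrder_eq_natCard
    rw [← hg, orderOf_dvd_iff_pow_eq_one]
    obtain ⟨w, hw, hwg⟩ := (hcen ▸ g.2 : (g : W ⧸ K) ∈ S.map (QuotientGroup.mk' K))
    apply Subtype.ext
    show (g : W ⧸ K) ^ L = 1
    rw [← hwg, ← map_pow]
    have hwr : w.1.1.right = 1 := (show w.1.1.right = π w.1.2 from w.2).trans (hker _ hw.1)
    have h1 : ∀ j : ℕ, (w ^ j).1.1.left = w.1.1.left ^ j ∧ (w ^ j).1.1.right = 1 ∧
        (w ^ j).1.2 = ⟨0, 0, j • w.1.2.c⟩ := by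
      intro j
      induction j with
      | zero =>
        refine ⟨by simp, by simp, ?_⟩
        rw [zero_smul]; rfl
      | succ j ih =>
        rw [pow_succ]
        refine ⟨?_, ?_, ?_⟩
        · funext q
          show (w ^ j).1.1.left q * w.1.1.left ((w ^ j).1.1.right⁻¹ * q) = _
          rw [ih.1, ih.2.1, inv_one, one_mul, Pi.pow_apply, Pi.pow_apply, pow_succ]
        · show (w ^ j).1.1.right * w.1.1.right = 1
          rw [ih.2.1, hwr, one_mul]
        · show (w ^ j).1.2 * w.1.2 = _
          rw [ih.2.2]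
          ext <;> simp [hw.1, hw.2.1, succ_nsmul, add_smul]
    obtain ⟨h2, h3, h4⟩ := h1 L
    have : w ^ L = 1 := by
      apply Subtype.ext
      refine Prod.ext (RegularWreathProduct.ext (h2.trans (funext fun q => ?_)) h3) (h4.trans ?_)
      · rw [Pi.pow_apply]
        obtain ⟨k, hk⟩ := Nat.dvd_lcm_left (Nat.card Z) p
        have hz : (⟨w.1.1.left q, hw.2.2 q⟩ : Z) ^ Nat.card Z = 1 := pow_card_eq_one'
        have hz' : w.1.1.left q ^ Nat.card Z = 1 := congrArg Subtype.val hz
        show w.1.1.left q ^ L = 1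
        rw [hL, hk, pow_mul, hz', one_pow]
      · obtain ⟨k, hk⟩ := Nat.dvd_lcm_right (Nat.card Z) p
        refine Heis.ext rfl rfl ?_
        show L • w.1.2.c = 0
        rw [hL, hk, mul_smul, ← Nat.cast_smul_eq_nsmul (ZMod p) p, ZMod.natCast_self, zero_smul]
    rw [this, map_one]
  have hwit : ∀ (q : ℕ) (w : W), q.Prime → w ∈ S → w ^ q = 1 → Φ w ≠ Φ 1 →
      q ∣ Nat.card (Subgroup.center (W ⧸ K)) := by
    intro q w hq hwS hwq hne
    haveI := Fact.mk hq
    have hne1 : (w : W ⧸ K) ≠ 1 := fun h =>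
      hne ((CT.mem_kerChar_iff hΦc).mp ((QuotientGroup.eq_one_iff w).mp h))
    have ho : orderOf (w : W ⧸ K) = q := orderOf_eq_prime
      (by rw [← QuotientGroup.mk_pow, hwq]; rfl) hne1
    have hmem : (w : W ⧸ K) ∈ Subgroup.center (W ⧸ K) := hcen ▸ ⟨w, hwS, rfl⟩
    have := orderOf_dvd_natCard (⟨_, hmem⟩ : Subgroup.center (W ⧸ K))
    rwa [Subgroup.orderOf_mk, ho] at this
  refine ⟨W ⧸ K, inferInstance, inferInstance, ⟨ψ1, hψ1⟩, hfaith1, ?_, ?_, ?_, ?_, ?_⟩
  · show CT.deg ψ1 ^ 2 = _
    rw [hd1, hidx]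
  · intro N _ f hf
    let t : H ⧸ Z → H := Quotient.out
    have ht : ∀ x, (t x : H ⧸ Z) = x := QuotientGroup.out_eq'
    let F : N ≀ᵣ Q → W := fun w => ⟨(⟨fun q => t (f (w.left q)), w.right⟩, sect w.right),
      (hsect w.right).symm⟩
    let g : N ≀ᵣ Q →* (W ⧸ K) ⧸ Subgroup.center (W ⧸ K) :=
      MonoidHom.mk' (fun w => ((F w : W ⧸ K) : (W ⧸ K) ⧸ Subgroup.center (W ⧸ K))) fun a b => by
        rw [← QuotientGroup.mk_mul, ← QuotientGroup.mk_mul, QuotientGroup.eq]
        rw [hcen]
        refine ⟨(F (a * b))⁻¹ * (F a * F b), ⟨?_, ?_, fun q => ?_⟩, rfl⟩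
        · show ((sect (a * b).right)⁻¹ * (sect a.right * sect b.right)).a = 0
          rw [RegularWreathProduct.mul_right, map_mul, inv_mul_cancel]; rfl
        · show ((sect (a * b).right)⁻¹ * (sect a.right * sect b.right)).b = 0
          rw [RegularWreathProduct.mul_right, map_mul, inv_mul_cancel]; rfl
        · show (t (f ((a * b).left ((a * b).right * q))))⁻¹ *
              (t (f (a.left ((a * b).right⁻¹⁻¹ * q))) *
                t (f (b.left (a.right⁻¹ * ((a * b).right⁻¹⁻¹ * q))))) ∈ Z
          rw [← QuotientGroup.eq_one_iff, QuotientGroup.mk_mul, QuotientGroup.mk_mul,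
            QuotientGroup.mk_inv, ht, ht, ht, inv_inv, RegularWreathProduct.mul_left, Pi.mul_apply,
            map_mul]
          group
    refine ⟨g, (injective_iff_map_eq_one g).mpr fun w hw => ?_⟩
    have h1 : (F w : W ⧸ K) ∈ Subgroup.center (W ⧸ K) := (QuotientGroup.eq_one_iff _).mp hw
    rw [hcen] at h1
    obtain ⟨s, hs, hsw⟩ := h1
    have hFS : F w ∈ S := by
      have := hKS ((QuotientGroup.eq).mp hsw)
      have h2 := S.mul_mem hs this
      rwa [mul_inv_cancel_left] at h2
    have hr : w.right = 1 := by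
      have h := hFS.1
      have h' : (e.symm w.right).toAdd = 0 := h
      have h'' : e.symm w.right = 1 := h'
      simpa using congrArg e h''
    refine RegularWreathProduct.ext (funext fun q => hf ?_) hr
    rw [RegularWreathProduct.one_left, Pi.one_apply, map_one, ← ht (f (w.left q)),
      QuotientGroup.eq_one_iff]
    exact hFS.2.2 q
  · intro q hq hdvd
    have h1 : q ∣ Nat.card W := hdvd.trans (by
      rw [← Subgroup.index_eq_card]; exact Dvd.intro_left _ K.card_mul_index)
    rw [hWcard] at h1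
    rcases (Nat.Prime.dvd_mul hq).mp h1 with h | h
    · exact Or.inl (hq.dvd_of_dvd_pow h)
    · exact Or.inr ((Nat.prime_dvd_prime_iff_eq hq hp.out).mp (hq.dvd_of_dvd_pow h))
  · intro q hq
    constructor
    · intro h
      have h1 := h.trans hexp
      have h2 : q ∣ Nat.card Z * p := h1.trans (Nat.lcm_dvd_mul _ _)
      exact ((Nat.Prime.dvd_mul hq).mp h2).imp id fun h => (Nat.prime_dvd_prime_iff_eq hq hp.out).mp h
    · rintro (h | rfl)
      · haveI := Fact.mk hq
        obtain ⟨z, hz⟩ := exists_prime_orderOf_dvd_card' q h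
        have hzH : orderOf (z : H) = q := by rw [Subgroup.orderOf_coe, hz]
        let w : W := ⟨(⟨Pi.mulSingle 1 (z : H), 1⟩, 1), (map_one π).symm⟩
        refine hwit q w hq ⟨rfl, rfl, fun r => ?_⟩ ?_ ?_
        · show (Pi.mulSingle 1 (z : H) : Q → H) r ∈ Z
          rcases eq_or_ne r 1 with rfl | hr
          · rw [Pi.mulSingle_eq_same]; exact z.2
          · rw [Pi.mulSingle_eq_of_ne hr]; exact one_mem _
        · have key : ∀ j : ℕ, w ^ j = ⟨(⟨Pi.mulSingle 1 ((z : H) ^ j), 1⟩, 1), (map_one π).symm⟩ := by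
            intro j
            induction j with
            | zero =>
              rw [pow_zero, pow_zero, Pi.mulSingle_one]
              rfl
            | succ j ih =>
              rw [pow_succ, ih, pow_succ, Pi.mulSingle_mul]
              apply Subtype.ext
              refine Prod.ext (RegularWreathProduct.ext (funext fun r => ?_) ?_) ?_
              · simp [w]
              · simp [w]
              · simp [w]
          rw [key, ← hzH, pow_orderOf_eq_one, Pi.mulSingle_one]
          rfl
        · intro he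
          rw [hΦd, hΦv, if_pos ⟨rfl, rfl⟩] at he
          show False
          have hprod : ∏ r, (χ : H → ℂ) (w.1.1.left r) =
              (χ : H → ℂ) z * (n : ℂ) ^ (Nat.card Q - 1) := by
            show ∏ r, (χ : H → ℂ) ((Pi.mulSingle 1 (z : H) : Q → H) r) = _
            rw [← Finset.mul_prod_erase _ _ (Finset.mem_univ (1 : Q)), Pi.mulSingle_eq_same,
              Finset.prod_congr rfl fun r hr => by
                rw [Pi.mulSingle_eq_of_ne (Finset.ne_of_mem_erase hr)],
              Finset.prod_const, Finset.card_erase_of_mem (Finset.mem_univ _), Finset.card_univ,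
              ← Nat.card_eq_fintype_card, CT.deg_eq (CT.isCharacter_of_isIrr χ.2)]
          rw [hprod] at he
          simp only [w, Prod.snd_one, Heis.one_c, AddChar.map_zero_eq_one, mul_one, hd] at he
          push_cast at he
          have hQ1 : Nat.card Q = Nat.card Q - 1 + 1 := by rw [hQ]; have := hp.out.pos; omega
          conv_rhs at he => rw [hQ1, pow_succ']
          have hzn : (χ : H → ℂ) z = n := by
            have hne : ((p : ℂ) * (n : ℂ) ^ (Nat.card Q - 1)) ≠ 0 :=
              mul_ne_zero (Nat.cast_ne_zero.mpr hp.out.ne_zero)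
                (pow_ne_zero _ (Nat.cast_ne_zero.mpr hn0.ne'))
            refine mul_right_cancel₀ hne ?_
            linear_combination he
          have := hfaith z (hzn.trans (CT.deg_eq (CT.isCharacter_of_isIrr χ.2)).symm)
          rw [this, orderOf_one] at hzH
          exact hq.ne_one hzH.symm
      · let w : W := ⟨(1, ⟨0, 0, 1⟩), (hker _ rfl).symm⟩
        refine hwit q w hp.out ⟨rfl, rfl, fun r => one_mem _⟩ ?_ ?_
        · have key : ∀ j : ℕ, w ^ j = ⟨(1, ⟨0, 0, (j : ZMod q)⟩), (hker _ rfl).symm⟩ := by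
            intro j
            induction j with
            | zero => rw [pow_zero]; simp only [Nat.cast_zero]; rfl
            | succ j ih =>
              rw [pow_succ, ih]
              apply Subtype.ext
              refine Prod.ext ?_ ?_
              · simp [w]
              · ext <;> simp [w]
          rw [key]
          simp only [ZMod.natCast_self]
          rfl
        · intro he
          rw [hΦd, hΦv, if_pos ⟨rfl, rfl⟩] at he
          simp only [w, RegularWreathProduct.one_left, Pi.one_apply, Finset.prod_const,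
            CT.deg_eq (CT.isCharacter_of_isIrr χ.2), Finset.card_univ, ← Nat.card_eq_fintype_card,
            ← hn, hd] at he
          push_cast at he
          have h1 : ψ 1 = 1 := by
            have hne : ((q : ℂ) * (n : ℂ) ^ Nat.card Q) ≠ 0 :=
              mul_ne_zero (Nat.cast_ne_zero.mpr hp.out.ne_zero)
                (pow_ne_zero _ (Nat.cast_ne_zero.mpr hn0.ne'))
            refine mul_right_cancel₀ hne ?_
            linear_combination he
          exact hψ one_ne_zero (AddChar.eq_one_iff.mpr fun x => by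
            rw [AddChar.mulShift_apply, one_mul, ← ZMod.natCast_zmod_val x, ← nsmul_one x.val,
              AddChar.map_nsmul_eq_pow, h1, one_pow])
  · refine Squarefree.squarefree_of_dvd hexp ?_
    rw [hL]
    by_cases hpz : p ∣ Nat.card Z
    · rwa [Nat.lcm_eq_left hpz]
    · have hc : (Nat.card Z).Coprime p := ((hp.out.coprime_iff_not_dvd).mpr hpz).symm
      rw [Nat.Coprime.lcm_eq_mul hc]
      exact (Nat.squarefree_mul hc).mpr ⟨hsq, hp.out.squarefree⟩

end Cfsg.Agent.CentralEmb
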