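import Cfsg.Agent.Lib.CT.GoodCount
import Cfsg.Agent.Lib.CT.GallagherExt
import Cfsg.Agent.Lib.Glauberman.Constituent
import Cfsg.Agent.Lib.Glauberman.Corr
import Cfsg.Agent.Lib.Glauberman.Conj
import Cfsg.Agent.Lib.Basics.FpfAbelian
import Cfsg.Agent.Lib.Basics.CoprimeAction
import Cfsg.Agent.Lib.Blocks.Inflation
import Cfsg.Agent.Lib.CT.RelCorrBase

/-!
# The correspondence respects extendibility

`K` a `p'`-group normalised by a `p`-group `S` and by a `p'`-group `A` that normalises `S` and is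
abelian modulo `C = C_K(S) ≤ A`: an invariant character of `K` extends to `K A` iff its
correspondent extends to `A`.
-/

set_option autoImplicit false
set_option linter.all false

namespace Cfsg.Agent.CoprimeTriple

open Cfsg.Agent.CT Cfsg.Agent.Glauberman
open scoped ComplexConjugate Pointwise

universe u

/-! ### Counting over a normal subgroup with abelian quotient -/

section Quotient

variable {G : Type u} [Group G] [Fintype G] (N : Subgroup G) [N.Normal] [Fintype N]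

/-- An extendible character has at least as many extensions as the order of an abelian quotient. -/
theorem ext_count (hab : ∀ a b : G, a * b * a⁻¹ * b⁻¹ ∈ N) (θ : IrrCharacter N) (E : IrrCharacter G)
    (hE : ∀ n : N, (E : G → ℂ) n = (θ : N → ℂ) n) :
    N.index ≤ Nat.card {χ : IrrCharacter G // ∀ n : N, (χ : G → ℂ) n = (θ : N → ℂ) n} := by
  classical
  let : CommGroup (G ⧸ N) :=
    { (inferInstance : Group (G ⧸ N)) with
      mul_comm := fun x y => by
        obtain ⟨a, rfl⟩ := QuotientGroup.mk_surjective x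
        obtain ⟨b, rfl⟩ := QuotientGroup.mk_surjective y
        have h := (QuotientGroup.eq_one_iff _).mpr (hab a b)
        simp only [QuotientGroup.mk_mul, QuotientGroup.mk_inv] at h
        exact mul_inv_eq_iff_eq_mul.mp (mul_inv_eq_one.mp h) }
  rw [Subgroup.index_eq_card, ← CommGroup.card_monoidHom_of_hasEnoughRootsOfUnity (G ⧸ N) ℂ]
  let infl : (G ⧸ N →* ℂˣ) → IrrCharacter G := fun L =>
    ⟨fun g => ((L (g : G ⧸ N) : ℂˣ) : ℂ), isIrrCharacter_lin (L.comp (QuotientGroup.mk' N))⟩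
  have hinfl : ∀ L, classInner (fun n : N => (infl L : G → ℂ) n) (fun _ => (1 : ℂ)) ≠ 0 := fun L => by
    rw [show (fun n : N => (infl L : G → ℂ) n) = fun _ => (1 : ℂ) from funext fun n => by
      show ((L ((n : G) : G ⧸ N) : ℂˣ) : ℂ) = 1
      rw [(QuotientGroup.eq_one_iff (n : G)).mpr n.2, map_one, Units.val_one],
      show classInner (fun _ : N => (1 : ℂ)) (fun _ : N => (1 : ℂ)) = 1 from irr_inner_self (trivIrr N).2]
    exact one_ne_zero
  have hirr : ∀ L, IsIrrCharacter G ((infl L : G → ℂ) * (E : G → ℂ)) := fun L =>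
    isIrr_of_inner_self (isCharacter_mul (isCharacter_of_isIrr (infl L).2) (isCharacter_of_isIrr E.2))
      (by rw [CoprimeExt.inner_mul_ext N E θ hE (infl L) (infl L) (hinfl L) (hinfl L), if_pos rfl])
  let F : (G ⧸ N →* ℂˣ) → {χ : IrrCharacter G // ∀ n : N, (χ : G → ℂ) n = (θ : N → ℂ) n} := fun L =>
    ⟨⟨_, hirr L⟩, fun n => by
      show ((L ((n : G) : G ⧸ N) : ℂˣ) : ℂ) * (E : G → ℂ) n = _
      rw [(QuotientGroup.eq_one_iff (n : G)).mpr n.2, map_one, Units.val_one, one_mul, hE]⟩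
  refine Nat.card_le_card_of_injective F fun L L' h => ?_
  have h0 : (infl L : G → ℂ) * (E : G → ℂ) = (infl L' : G → ℂ) * (E : G → ℂ) :=
    congrArg (fun χ : {χ : IrrCharacter G // ∀ n : N, (χ : G → ℂ) n = (θ : N → ℂ) n} => (χ.1 : G → ℂ)) h
  have h1 := CoprimeExt.inner_mul_ext N E θ hE (infl L) (infl L') (hinfl L) (hinfl L')
  rw [h0, irr_inner_self (hirr L')] at h1
  split_ifs at h1 with e
  · refine MonoidHom.ext fun q => ?_
    obtain ⟨g, rfl⟩ := QuotientGroup.mk_surjective q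
    exact Units.ext (congrFun (congrArg Subtype.val e) g)
  · exact absurd h1 one_ne_zero

/-- If at least index many characters lie over an invariant character, they all extend it. -/
theorem eq_of_card_le (θ : IrrCharacter N) (hinv : ∀ g, conjFun N g (θ : N → ℂ) = θ)
    (P : IrrCharacter G → Prop) (hP : ∀ χ, P χ → classInner (fun n : N => (χ : G → ℂ) n) (θ : N → ℂ) ≠ 0)
    (hcard : N.index ≤ Nat.card {χ : IrrCharacter G // P χ}) (χ : IrrCharacter G) (hχ : P χ) :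
    ∀ n : N, (χ : G → ℂ) n = (θ : N → ℂ) n := by
  classical
  let m : IrrCharacter G → ℕ := fun χ => mult (fun n : N => (χ : G → ℂ) n) (θ : N → ℂ)
  have hm : ∀ χ : IrrCharacter G, classInner (fun n : N => (χ : G → ℂ) n) (θ : N → ℂ) = (m χ : ℂ) := fun χ =>
    mult_spec (isCharacter_restrict N (isCharacter_of_isIrr χ.2)) (isCharacter_of_isIrr θ.2)
  have hsum : ∑ χ : IrrCharacter G, m χ * m χ = N.index := by
    apply Nat.cast_injective (R := ℂ)
    rw [← GallagherExt.norm_indFun N θ.2 hinv, classInner_eq_sum (isClassFunction_indFun N _), Nat.cast_sum]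
    refine Finset.sum_congr rfl fun χ _ => ?_
    have e : classInner (indFun N (θ : N → ℂ)) (χ : G → ℂ) = (m χ : ℂ) := by
      rw [frobenius_reciprocity N _ (isClassFunction_of_isIrr χ.2), ← classInner_conj_symm, hm, map_natCast]
    rw [e, map_natCast, Nat.cast_mul]
  have hle : ∑ χ ∈ Finset.univ.filter P, m χ * m χ ≤ ∑ χ ∈ Finset.univ.filter P, 1 := by
    refine le_trans (Finset.sum_le_sum_of_subset (Finset.subset_univ _)) ?_
    rw [hsum, ← Finset.card_eq_sum_ones, ← Fintype.card_subtype, ← Nat.card_eq_fintype_card]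
    exact hcard
  have hge : ∀ χ ∈ Finset.univ.filter P, 1 ≤ m χ * m χ := fun χ hχ => by
    have h := hP χ (Finset.mem_filter.mp hχ).2
    rw [hm, Nat.cast_ne_zero] at h
    exact Nat.one_le_iff_ne_zero.mpr (mul_ne_zero h h)
  have heq := (Finset.sum_eq_sum_iff_of_le hge).mp (le_antisymm (Finset.sum_le_sum hge) hle)
    χ (Finset.mem_filter.mpr ⟨Finset.mem_univ _, hχ⟩)
  intro n
  have h1 := congrFun (restrict_eq_smul_of_invariant N χ.2 θ.2 (hP χ hχ) hinv) n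
  rw [hm, Pi.smul_apply, Nat.eq_one_of_mul_eq_one_right heq.symm, Nat.cast_one, one_smul] at h1
  exact h1

end Quotient

/-! ### Characters of subgroups of a fixed group -/

variable {T : Type u} [Group T] [Fintype T]

/-- `θ` is invariant under conjugation by `g`. -/
def Fix (K : Subgroup T) (g : T) (θ : K → ℂ) : Prop :=
  ∀ k k' : K, (k' : T) = g * k * g⁻¹ → θ k' = θ k

/-- `θ` extends to `B`. -/
def Ext (K : Subgroup T) (θ : K → ℂ) (B : Subgroup T) : Prop :=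
  ∃ E : B → ℂ, IsIrrCharacter B E ∧ ∀ (k : K) (h : (k : T) ∈ B), E ⟨k, h⟩ = θ k

theorem Fix.inv {K : Subgroup T} {g : T} {θ : K → ℂ} (h : Fix K g θ) : Fix K g⁻¹ θ :=
  fun k k' e => (h k' k (by rw [e]; group)).symm

theorem fix_of_mem {K : Subgroup T} {θ : K → ℂ} (hθ : IsClassFunction K θ) {g : T} (hg : g ∈ K) :
    Fix K g θ := fun k k' e => by
  rw [show k' = ⟨g, hg⟩ * k * ⟨g, hg⟩⁻¹ from Subtype.ext e]
  exact hθ k ⟨g, hg⟩

theorem fix_of_commute {K : Subgroup T} {θ : K → ℂ} {g : T} (hg : ∀ k ∈ K, g * k = k * g) :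
    Fix K g θ := fun k k' e => by
  rw [show k' = k from Subtype.ext (by rw [e, hg k k.2, mul_inv_cancel_right])]

theorem fix_mul {K : Subgroup T} {a b : T} (hb : ∀ k ∈ K, b * k * b⁻¹ ∈ K) {θ : K → ℂ}
    (ha : Fix K a θ) (hb' : Fix K b θ) : Fix K (a * b) θ := fun k k' e =>
  (ha ⟨b * k * b⁻¹, hb k k.2⟩ k' (by rw [e]; group)).trans (hb' k _ rfl)

section Corr

variable {p : ℕ} [Fact p.Prime] (K P : Subgroup T) (hnorm : ∀ s ∈ P, ∀ k ∈ K, s * k * s⁻¹ ∈ K)
  (hP : IsPGroup p P) (hK : ¬ p ∣ Nat.card K) (C : Subgroup T)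
  (hC : C = K ⊓ Subgroup.centralizer (P : Set T))

/-- The correspondent of an invariant character. -/
def Rel (p : ℕ) {K C : Subgroup T} [Fintype C] (hCK : C ≤ K) (θ : K → ℂ) (η : C → ℂ) : Prop :=
  ¬ p ∣ mult (fun c : C => θ (Subgroup.inclusion hCK c)) η

include hnorm hP hK hC in
theorem rel_data [Fintype C] (hCK : C ≤ K) :
    (∀ θ : IrrCharacter K, (∀ s ∈ P, Fix K s (θ : K → ℂ)) →
      ∃! η : IrrCharacter C, Rel p hCK (θ : K → ℂ) (η : C → ℂ)) ∧
    (∀ θ θ' : IrrCharacter K, (∀ s ∈ P, Fix K s (θ : K → ℂ)) → (∀ s ∈ P, Fix K s (θ' : K → ℂ)) →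
      ∀ η : IrrCharacter C, Rel p hCK (θ : K → ℂ) (η : C → ℂ) → Rel p hCK (θ' : K → ℂ) (η : C → ℂ) →
        θ = θ') ∧
    (∀ η : IrrCharacter C, ∃ θ : IrrCharacter K, (∀ s ∈ P, Fix K s (θ : K → ℂ)) ∧
      Rel p hCK (θ : K → ℂ) (η : C → ℂ)) := by
  classical
  haveI := Fintype.ofFinite K
  obtain ⟨Φ, hΦ⟩ := Glauberman.corr (φ := conjAct K P hnorm) (ι := Subgroup.inclusion hCK) hP hK
    (Subgroup.inclusion_injective hCK) (fun g => range_inclusion_conjAct K P hnorm C hC hCK g)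
  have hinv : ∀ θ : IrrCharacter K, (∀ s ∈ P, Fix K s (θ : K → ℂ)) ↔
      Inv (conjAct K P hnorm) (θ : K → ℂ) := fun θ => inv_conjAct_iff K P hnorm _
  have hrel : ∀ (θ : IrrCharacter K) (h : Inv (conjAct K P hnorm) (θ : K → ℂ)) (η : IrrCharacter C),
      Rel p hCK (θ : K → ℂ) (η : C → ℂ) ↔ η = Φ ⟨θ, h⟩ := fun θ h η =>
    (hΦ ⟨θ, h⟩ η _ (mult_spec (isCharacter_comp (Subgroup.inclusion hCK) (isCharacter_of_isIrr θ.2))
      (isCharacter_of_isIrr η.2))).1
  refine ⟨fun θ hθ => ⟨Φ ⟨θ, (hinv θ).mp hθ⟩, (hrel θ _ _).mpr rfl, fun η h => (hrel θ _ η).mp h⟩,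
    fun θ θ' h h' η hη hη' => ?_, fun η => ⟨(Φ.symm η).1, (hinv _).mpr (Φ.symm η).2, ?_⟩⟩
  · exact congrArg Subtype.val (Φ.injective (((hrel θ ((hinv θ).mp h) η).mp hη).symm.trans
      ((hrel θ' ((hinv θ').mp h') η).mp hη')))
  · exact (hrel _ (Φ.symm η).2 η).mpr (Φ.apply_symm_apply η).symm

include hnorm hP hK hC in
/-- The correspondent inherits invariance. -/
theorem rel_fix [Fintype C] (hCK : C ≤ K) (θ : IrrCharacter K) (hθ : ∀ s ∈ P, Fix K s (θ : K → ℂ))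
    (η : IrrCharacter C) (hη : Rel p hCK (θ : K → ℂ) (η : C → ℂ)) {g : T}
    (hgK : ∀ k ∈ K, g * k * g⁻¹ ∈ K) (hgC : ∀ c ∈ C, g * c * g⁻¹ ∈ C) (hg : Fix K g (θ : K → ℂ)) :
    Fix C g (η : C → ℂ) := by
  classical
  let c0 : C →* C :=
    { toFun := fun c => ⟨g * c * g⁻¹, hgC c c.2⟩
      map_one' := Subtype.ext (by simp)
      map_mul' := fun a b => Subtype.ext (by simp [mul_assoc]) }
  have hinj : Function.Injective c0 := fun a b h => Subtype.ext (by
    simpa [c0] using congrArg Subtype.val h)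
  let e : C ≃* C := MulEquiv.ofBijective c0 ⟨hinj, Finite.surjective_of_injective hinj⟩
  let η' : IrrCharacter C := ⟨fun c => (η : C → ℂ) (e c),
    isIrrCharacter_comp e.toMonoidHom e.surjective η.2⟩
  have h1 : Rel p hCK (θ : K → ℂ) (η' : C → ℂ) := by
    unfold Rel at hη ⊢
    have e1 : classInner (fun c : C => (θ : K → ℂ) (Subgroup.inclusion hCK c)) (η' : C → ℂ) =
        classInner (fun c : C => (θ : K → ℂ) (Subgroup.inclusion hCK c)) (η : C → ℂ) := by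
      simp only [classInner]
      congr 1
      refine Fintype.sum_equiv e.toEquiv _ _ fun c => ?_
      rw [hg (Subgroup.inclusion hCK c) (Subgroup.inclusion hCK (e.toEquiv c)) rfl]
      rfl
    rwa [mult, e1, ← mult]
  have h2 := ((rel_data K P hnorm hP hK C hC hCK).1 θ hθ).unique h1 hη
  intro k k' he
  rw [show k' = e k from Subtype.ext he]
  exact congrFun (congrArg Subtype.val h2) k

end Corr

/-! ### One elementary step -/

/-- The multiplicity through an intermediate subgroup. -/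
theorem rel_trans {p : ℕ} [Fact p.Prime] {K L C : Subgroup T} [Fintype C] [Fintype L] (hLK : L ≤ K)
    (hCL : C ≤ L) (θ : IrrCharacter K) (δ : IrrCharacter L) (η : IrrCharacter C)
    (hθ : ∀ δ' : IrrCharacter L, δ' ≠ δ → p ∣ mult (fun l : L => (θ : K → ℂ) (Subgroup.inclusion hLK l)) (δ' : L → ℂ)) :
    (mult (fun c : C => (θ : K → ℂ) (Subgroup.inclusion (hCL.trans hLK) c)) (η : C → ℂ) : ZMod p) =
      (mult (fun l : L => (θ : K → ℂ) (Subgroup.inclusion hLK l)) (δ : L → ℂ) : ZMod p) *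
        (mult (fun c : C => (δ : L → ℂ) (Subgroup.inclusion hCL c)) (η : C → ℂ) : ZMod p) := by
  classical
  set f : L → ℂ := fun l => (θ : K → ℂ) (Subgroup.inclusion hLK l)
  have hf : IsCharacter L f := isCharacter_comp (Subgroup.inclusion hLK) (isCharacter_of_isIrr θ.2)
  have hη := isCharacter_of_isIrr η.2
  have key : (mult (fun c : C => f (Subgroup.inclusion hCL c)) (η : C → ℂ) : ℕ) =
      ∑ δ' : IrrCharacter L, mult f (δ' : L → ℂ) *
        mult (fun c : C => (δ' : L → ℂ) (Subgroup.inclusion hCL c)) (η : C → ℂ) := by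
    apply Nat.cast_injective (R := ℂ)
    rw [← mult_spec (isCharacter_comp (Subgroup.inclusion hCL) hf) hη, Nat.cast_sum]
    have hexp : (fun c : C => f (Subgroup.inclusion hCL c)) =
        ∑ δ' : IrrCharacter L, (mult f (δ' : L → ℂ) : ℂ) • fun c : C => (δ' : L → ℂ) (Subgroup.inclusion hCL c) := by
      funext c
      conv_lhs => rw [character_eq_sum hf]
      simp only [Finset.sum_apply, Pi.smul_apply]
    rw [hexp, classInner_sum_left]
    refine Finset.sum_congr rfl fun δ' _ => ?_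
    rw [classInner_smul_left, mult_spec (isCharacter_comp (Subgroup.inclusion hCL) (isCharacter_of_isIrr δ'.2)) hη,
      Nat.cast_mul]
  have key2 : (mult (fun c : C => (θ : K → ℂ) (Subgroup.inclusion (hCL.trans hLK) c)) (η : C → ℂ) : ℕ) = _ := key
  rw [key2, Nat.cast_sum, Finset.sum_eq_single δ]
  · rw [Nat.cast_mul]
  · intro δ' _ hne
    rw [Nat.cast_mul, (ZMod.natCast_eq_zero_iff _ _).mpr (hθ δ' hne), zero_mul]
  · exact fun h => absurd (Finset.mem_univ _) h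

theorem conj_sup_mem {K A : Subgroup T} {g : T} (hK : ∀ k ∈ K, g * k * g⁻¹ ∈ K)
    (hA : ∀ a ∈ A, g * a * g⁻¹ ∈ A ⊔ K) {b : T} (hb : b ∈ K ⊔ A) : g * b * g⁻¹ ∈ K ⊔ A := by
  have hle : (K ⊔ A).map (MulAut.conj g).toMonoidHom ≤ K ⊔ A := by
    rw [Subgroup.map_sup]
    refine sup_le ?_ ?_
    · rintro _ ⟨k, hk, rfl⟩
      exact Subgroup.mem_sup_left (hK k hk)
    · rintro _ ⟨a, ha, rfl⟩
      rw [sup_comm]
      exact hA a ha
  exact hle ⟨b, hb, rfl⟩

theorem commutator_mem_sup {K A : Subgroup T} (hAK : ∀ a ∈ A, ∀ k ∈ K, a * k * a⁻¹ ∈ K)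
    (hab : ∀ a ∈ A, ∀ b ∈ A, a * b * a⁻¹ * b⁻¹ ∈ K) :
    (K.subgroupOf (K ⊔ A)).Normal ∧
      ∀ x y : ↥(K ⊔ A), x * y * x⁻¹ * y⁻¹ ∈ K.subgroupOf (K ⊔ A) := by
  have hle : A ≤ Subgroup.normalizer (K : Set T) := fun a ha =>
    GoodCount.mem_normalizer_of_forall_conj (hAK a ha)
  have hN : (K.subgroupOf (K ⊔ A)).Normal :=
    (Subgroup.normal_subgroupOf_iff_le_normalizer le_sup_left).mpr (sup_le Subgroup.le_normalizer hle)
  haveI := hN
  refine ⟨hN, fun x y => ?_⟩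
  have hgen : ∀ z : ↥(K ⊔ A), ∃ a, ∃ ha : a ∈ A,
      ((z : ↥(K ⊔ A)) : ↥(K ⊔ A) ⧸ K.subgroupOf (K ⊔ A)) =
        ((⟨a, Subgroup.mem_sup_right ha⟩ : ↥(K ⊔ A)) : ↥(K ⊔ A) ⧸ K.subgroupOf (K ⊔ A)) := by
    intro z
    have hz : (z : T) ∈ (A : Set T) * (K : Set T) := by
      rw [← Subgroup.coe_mul_of_left_le_normalizer_right _ _ hle, sup_comm]
      exact z.2
    obtain ⟨a, ha, k, hk, hak⟩ := hz
    refine ⟨a, ha, (QuotientGroup.eq.mpr ?_).symm⟩
    rw [Subgroup.mem_subgroupOf, Subgroup.coe_mul, Subgroup.coe_inv, ← hak, inv_mul_cancel_left]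
    exact hk
  obtain ⟨a, ha, hx⟩ := hgen x
  obtain ⟨b, hb, hy⟩ := hgen y
  rw [← QuotientGroup.eq_one_iff]
  simp only [QuotientGroup.mk_mul, QuotientGroup.mk_inv, hx, hy]
  rw [← QuotientGroup.mk_mul, ← QuotientGroup.mk_inv, ← QuotientGroup.mk_mul, ← QuotientGroup.mk_inv,
    ← QuotientGroup.mk_mul, QuotientGroup.eq_one_iff]
  exact hab a ha b hb

variable {p : ℕ} [Fact p.Prime]

theorem card_sup_not_dvd {K A : Subgroup T} (hA : ∀ a ∈ A, ∀ k ∈ K, a * k * a⁻¹ ∈ K)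
    (hK : ¬ p ∣ Nat.card K) (hAp : ¬ p ∣ Nat.card A) : ¬ p ∣ Nat.card ↥(K ⊔ A) := by
  have hle : A ≤ Subgroup.normalizer (K : Set T) := fun a ha =>
    GoodCount.mem_normalizer_of_forall_conj (hA a ha)
  haveI : (K.subgroupOf (K ⊔ A)).Normal :=
    (Subgroup.normal_subgroupOf_iff_le_normalizer le_sup_left).mpr (sup_le Subgroup.le_normalizer hle)
  have hp := (Fact.out : p.Prime)
  have hsurj : Function.Surjective ((QuotientGroup.mk' (K.subgroupOf (K ⊔ A))).comp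
      (Subgroup.inclusion (le_sup_right : A ≤ K ⊔ A))) := by
    intro q
    obtain ⟨z, rfl⟩ := QuotientGroup.mk_surjective q
    have hz : (z : T) ∈ (A : Set T) * (K : Set T) := by
      rw [← Subgroup.coe_mul_of_left_le_normalizer_right _ _ hle, sup_comm]
      exact z.2
    obtain ⟨a, ha, k, hk, hak⟩ := hz
    refine ⟨⟨a, ha⟩, QuotientGroup.eq.mpr ?_⟩
    rw [Subgroup.mem_subgroupOf, Subgroup.coe_mul, Subgroup.coe_inv, ← hak]
    show a⁻¹ * (a * k) ∈ K
    rwa [inv_mul_cancel_left]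
  rw [← (K.subgroupOf (K ⊔ A)).card_mul_index,
    Nat.card_congr (Subgroup.subgroupOfEquivOfLe (le_sup_left : K ≤ K ⊔ A)).toEquiv]
  intro h
  rcases hp.dvd_mul.mp h with h | h
  · exact hK h
  · exact hAp (h.trans (by rw [Subgroup.index_eq_card]; exact Subgroup.card_dvd_of_surjective _ hsurj))

/-- The elementary step: `P` centralises `A`. -/
theorem step {K P A C : Subgroup T} (hPK : ∀ s ∈ P, ∀ k ∈ K, s * k * s⁻¹ ∈ K)
    (hP : IsPGroup p P) (hK : ¬ p ∣ Nat.card K) (hAK : ∀ a ∈ A, ∀ k ∈ K, a * k * a⁻¹ ∈ K)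
    (hPA : ∀ a ∈ A, ∀ s ∈ P, s * a = a * s) (hAp : ¬ p ∣ Nat.card A)
    (hC : C = K ⊓ Subgroup.centralizer (P : Set T)) (hab : ∀ a ∈ A, ∀ b ∈ A, a * b * a⁻¹ * b⁻¹ ∈ C)
    {g : T} (hgK : ∀ k ∈ K, g * k * g⁻¹ ∈ K) (hgA : ∀ a ∈ A, g * a * g⁻¹ ∈ A)
    (hgP : ∀ s ∈ P, g * s * g⁻¹ ∈ P)
    [Fintype C] (hCK : C ≤ K) (θ : IrrCharacter K) (hθP : ∀ s ∈ P, Fix K s (θ : K → ℂ))
    (hθA : ∀ a ∈ A, Fix K a (θ : K → ℂ)) (δ : IrrCharacter C) (hδ : Rel p hCK (θ : K → ℂ) (δ : C → ℂ)) :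
    (∃ E : ↥(K ⊔ A) → ℂ, IsIrrCharacter _ E ∧
        (∀ k : K, E ⟨k, Subgroup.mem_sup_left k.2⟩ = (θ : K → ℂ) k) ∧ Fix (K ⊔ A) g E) ↔
      (∃ E : ↥(C ⊔ A) → ℂ, IsIrrCharacter _ E ∧
        (∀ c : C, E ⟨c, Subgroup.mem_sup_left c.2⟩ = (δ : C → ℂ) c) ∧ Fix (C ⊔ A) g E) := by
  classical
  have hp := (Fact.out : p.Prime)
  haveI := Fintype.ofFinite K
  haveI := Fintype.ofFinite ↥(K ⊔ A)
  haveI := Fintype.ofFinite ↥(C ⊔ A)
  haveI := Fintype.ofFinite ↥(K.subgroupOf (K ⊔ A))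
  haveI := Fintype.ofFinite ↥(C.subgroupOf (C ⊔ A))
  have hACC : ∀ a ∈ A, ∀ c ∈ C, a * c * a⁻¹ ∈ C := by
    intro a ha c hc
    rw [hC] at hc ⊢
    refine ⟨hAK a ha c hc.1, Subgroup.mem_centralizer_iff.mpr fun s hs => ?_⟩
    have h1 := Subgroup.mem_centralizer_iff.mp hc.2 s hs
    have h2 := hPA a ha s hs
    calc s * (a * c * a⁻¹) = s * a * c * a⁻¹ := by group
      _ = a * (s * c) * a⁻¹ := by rw [h2]; group
      _ = a * (c * s) * a⁻¹ := by rw [h1]
      _ = a * c * (s * a⁻¹) := by group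
      _ = a * c * (a⁻¹ * s) := by rw [show s * a⁻¹ = a⁻¹ * s by
            calc s * a⁻¹ = a⁻¹ * (a * s) * a⁻¹ := by group
              _ = a⁻¹ * (s * a) * a⁻¹ := by rw [h2]
              _ = a⁻¹ * s := by group]
      _ = a * c * a⁻¹ * s := by group
  obtain ⟨hNB, hcomB⟩ := commutator_mem_sup hAK fun a ha b hb => hCK (hab a ha b hb)
  obtain ⟨hND, hcomD⟩ := commutator_mem_sup hACC hab
  haveI := hNB
  haveI := hND
  have hle : C ⊔ A ≤ K ⊔ A := sup_le_sup_right hCK A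
  -- the action on the larger group
  have hPB : ∀ s ∈ P, ∀ b ∈ K ⊔ A, s * b * s⁻¹ ∈ K ⊔ A := fun s hs b hb =>
    conj_sup_mem (hPK s hs) (fun a ha => by
      rw [hPA a ha s hs, mul_inv_cancel_right]; exact Subgroup.mem_sup_left ha) hb
  have hD : C ⊔ A = (K ⊔ A) ⊓ Subgroup.centralizer (P : Set T) := by
    have hleN : A ≤ Subgroup.normalizer (K : Set T) := fun a ha =>
      GoodCount.mem_normalizer_of_forall_conj (hAK a ha)
    have hAc : A ≤ Subgroup.centralizer (P : Set T) := fun a ha =>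
      Subgroup.mem_centralizer_iff.mpr fun s hs => hPA a ha s hs
    refine le_antisymm (le_inf hle (sup_le (hC.le.trans inf_le_right) hAc)) ?_
    rintro z ⟨hzB, hzc⟩
    have hz' : z ∈ (A : Set T) * (K : Set T) := by
      rw [← Subgroup.coe_mul_of_left_le_normalizer_right _ _ hleN, sup_comm]
      exact hzB
    obtain ⟨a, ha, k, hk, rfl⟩ := hz'
    refine Subgroup.mul_mem _ (Subgroup.mem_sup_right ha) (Subgroup.mem_sup_left (hC.ge ⟨hk, ?_⟩))
    have := Subgroup.mul_mem _ (Subgroup.inv_mem _ (hAc ha)) hzc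
    rwa [inv_mul_cancel_left] at this
  have hBp : ¬ p ∣ Nat.card ↥(K ⊔ A) := card_sup_not_dvd hAK hK hAp
  obtain ⟨huK, hinjK, hsurjK⟩ := rel_data K P hPK hP hK C hC hCK
  obtain ⟨huB, hinjB, hsurjB⟩ := rel_data (K ⊔ A) P hPB hP hBp (C ⊔ A) hD hle
  let eB := Subgroup.subgroupOfEquivOfLe (le_sup_left : K ≤ K ⊔ A)
  let eD := Subgroup.subgroupOfEquivOfLe (le_sup_left : C ≤ C ⊔ A)
  let θB : IrrCharacter ↥(K.subgroupOf (K ⊔ A)) :=
    ⟨fun x => (θ : K → ℂ) (eB x), isIrrCharacter_comp eB.toMonoidHom eB.surjective θ.2⟩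
  let δD : IrrCharacter ↥(C.subgroupOf (C ⊔ A)) :=
    ⟨fun x => (δ : C → ℂ) (eD x), isIrrCharacter_comp eD.toMonoidHom eD.surjective δ.2⟩
  have hδA : ∀ a ∈ A, Fix C a (δ : C → ℂ) := fun a ha =>
    rel_fix K P hPK hP hK C hC hCK θ hθP δ hδ (hAK a ha) (hACC a ha) (hθA a ha)
  have hinvgen : ∀ (X Y : Subgroup T) [hXn : (X.subgroupOf (X ⊔ Y)).Normal] (χ : IrrCharacter X)
      (hYX : ∀ a ∈ Y, ∀ k ∈ X, a * k * a⁻¹ ∈ X) (hfix : ∀ a ∈ Y, Fix X a (χ : X → ℂ))
      (w : ↥(X ⊔ Y)), Fix X (w : T) (χ : X → ℂ) := by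
    intro X Y _ χ hYX hfix w
    have hleN : Y ≤ Subgroup.normalizer (X : Set T) := fun a ha =>
      GoodCount.mem_normalizer_of_forall_conj (hYX a ha)
    have hz' : (w : T) ∈ (Y : Set T) * (X : Set T) := by
      rw [← Subgroup.coe_mul_of_left_le_normalizer_right _ _ hleN, sup_comm]
      exact w.2
    obtain ⟨a, ha, k, hk, hak⟩ := hz'
    rw [← hak]
    exact fix_mul (fun x hx => X.mul_mem (X.mul_mem hk hx) (X.inv_mem hk)) (hfix a ha)
      (fix_of_mem (isClassFunction_of_isIrr χ.2) hk)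
  have hθBinv : ∀ w : ↥(K ⊔ A), conjFun (K.subgroupOf (K ⊔ A)) w (θB : _ → ℂ) = θB := fun w =>
    funext fun x => by
      rw [conjFun_eq_comp]
      exact hinvgen K A θ hAK hθA w (eB x) _ (by simp [eB, MulAut.conjNormal_apply])
  have hδDinv : ∀ w : ↥(C ⊔ A), conjFun (C.subgroupOf (C ⊔ A)) w (δD : _ → ℂ) = δD := fun w =>
    funext fun x => by
      rw [conjFun_eq_comp]
      exact hinvgen C A δ hACC hδA w (eD x) _ (by simp [eD, MulAut.conjNormal_apply])
  let IsExtB : IrrCharacter ↥(K ⊔ A) → Prop := fun ψ =>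
    ∀ x : ↥(K.subgroupOf (K ⊔ A)), (ψ : ↥(K ⊔ A) → ℂ) x = (θB : _ → ℂ) x
  let IsExtD : IrrCharacter ↥(C ⊔ A) → Prop := fun η =>
    ∀ x : ↥(C.subgroupOf (C ⊔ A)), (η : ↥(C ⊔ A) → ℂ) x = (δD : _ → ℂ) x
  have hconv : ∀ (ψ : IrrCharacter ↥(K ⊔ A)), IsExtB ψ ↔
      ∀ k : K, (ψ : ↥(K ⊔ A) → ℂ) ⟨k, Subgroup.mem_sup_left k.2⟩ = (θ : K → ℂ) k :=
    fun ψ => ⟨fun h k => h ⟨⟨k, Subgroup.mem_sup_left k.2⟩, k.2⟩, fun h x => h (eB x)⟩
  have hconvD : ∀ (η : IrrCharacter ↥(C ⊔ A)), IsExtD η ↔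
      ∀ c : C, (η : ↥(C ⊔ A) → ℂ) ⟨c, Subgroup.mem_sup_left c.2⟩ = (δ : C → ℂ) c :=
    fun η => ⟨fun h k => h ⟨⟨k, Subgroup.mem_sup_left k.2⟩, k.2⟩, fun h x => h (eD x)⟩
  -- extensions are invariant
  have hextinv : ∀ ψ : IrrCharacter ↥(K ⊔ A), IsExtB ψ → ∀ s ∈ P, Fix (K ⊔ A) s (ψ : ↥(K ⊔ A) → ℂ) := by
    intro ψ hψ s hs
    let c0 : ↥(K ⊔ A) →* ↥(K ⊔ A) :=
      { toFun := fun b => ⟨s * b * s⁻¹, hPB s hs b b.2⟩
        map_one' := Subtype.ext (by simp)
        map_mul' := fun a b => Subtype.ext (by simp [mul_assoc]) }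
    have hinj : Function.Injective c0 := fun a b h => Subtype.ext (by
      simpa [c0] using congrArg Subtype.val h)
    have hsur := Finite.surjective_of_injective hinj
    let ψ' : IrrCharacter ↥(K ⊔ A) := ⟨_, isIrrCharacter_comp c0 hsur ψ.2⟩
    have hψ' : IsExtB ψ' := fun x => by
      show (ψ : ↥(K ⊔ A) → ℂ) (c0 x) = _
      have hm : s * ((eB x : K) : T) * s⁻¹ ∈ K := hPK s hs _ (eB x).2
      exact ((hconv ψ).mp hψ ⟨_, hm⟩).trans (hθP s hs (eB x) _ rfl)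
    obtain ⟨η, hηN, hη⟩ := CoprimeExt.exists_eq_mul_of_over (K.subgroupOf (K ⊔ A)) ψ θB hψ ψ' (by
      rw [funext hψ', irr_inner_self θB.2]; exact one_ne_zero)
    have hη1 : (η : ↥(K ⊔ A) → ℂ) 1 = 1 := by
      have h := congrFun hη 1
      rw [Pi.mul_apply, show (ψ' : ↥(K ⊔ A) → ℂ) 1 = (ψ : ↥(K ⊔ A) → ℂ) 1 from
        congrArg (ψ : ↥(K ⊔ A) → ℂ) (map_one c0)] at h
      exact (mul_eq_right₀ (irr_one_ne_zero ψ.2)).mp h.symm
    obtain ⟨L, hL⟩ := GoodCount.exists_lin_of_deg_one η.2 hη1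
    have hLc : ∀ b : ↥(K ⊔ A), L (c0 b) = L b := by
      intro b
      have hm : c0 b * b⁻¹ ∈ K.subgroupOf (K ⊔ A) := by
        rw [Subgroup.mem_subgroupOf]
        show s * (b : T) * s⁻¹ * (b : T)⁻¹ ∈ K
        have hleN : A ≤ Subgroup.normalizer (K : Set T) := fun a ha =>
          GoodCount.mem_normalizer_of_forall_conj (hAK a ha)
        have hz' : (b : T) ∈ (K : Set T) * (A : Set T) := by
          rw [← Subgroup.coe_mul_of_right_le_normalizer_left _ _ hleN]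
          exact b.2
        obtain ⟨k, hk, a, ha, hka⟩ := hz'
        rw [← hka]
        show s * (k * a) * s⁻¹ * (k * a)⁻¹ ∈ K
        have h2 : s * (k * a) * s⁻¹ * (k * a)⁻¹ = s * k * s⁻¹ * k⁻¹ := by
          calc s * (k * a) * s⁻¹ * (k * a)⁻¹ = s * k * (a * s⁻¹ * a⁻¹) * k⁻¹ := by group
            _ = s * k * s⁻¹ * k⁻¹ := by
              rw [show a * s⁻¹ * a⁻¹ = s⁻¹ by
                calc a * s⁻¹ * a⁻¹ = (s⁻¹ * (s * a)) * s⁻¹ * a⁻¹ := by group
                  _ = (s⁻¹ * (a * s)) * s⁻¹ * a⁻¹ := by rw [hPA a ha s hs]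
                  _ = s⁻¹ := by group]
        rw [h2]
        exact K.mul_mem (hPK s hs k hk) (K.inv_mem hk)
      have h1 : L (c0 b * b⁻¹) = 1 := Units.ext (by rw [hL, hηN _ hm, hη1]; rfl)
      rwa [map_mul, map_inv, mul_inv_eq_one] at h1
    -- iterate
    have hiter : ∀ (i : ℕ) (b : ↥(K ⊔ A)),
        (ψ : ↥(K ⊔ A) → ℂ) (c0^[i] b) = (L b : ℂ) ^ i * (ψ : ↥(K ⊔ A) → ℂ) b := by
      intro i
      induction i with
      | zero => simp
      | succ i ih =>
        intro b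
        rw [Function.iterate_succ_apply, ih, hLc]
        show (L b : ℂ) ^ i * (ψ' : ↥(K ⊔ A) → ℂ) b = _
        rw [congrFun hη b, Pi.mul_apply, ← hL, pow_succ]
        ring
    obtain ⟨j, hj⟩ := hP ⟨s, hs⟩
    have hsj : s ^ p ^ j = 1 := congrArg Subtype.val hj
    have hc : ∀ (i : ℕ) (b : ↥(K ⊔ A)), ((c0^[i] b : ↥(K ⊔ A)) : T) = s ^ i * b * (s ^ i)⁻¹ := by
      intro i
      induction i with
      | zero => simp
      | succ i ih =>
        intro b
        rw [Function.iterate_succ_apply', show ((c0 (c0^[i] b) : ↥(K ⊔ A)) : T) = s * (c0^[i] b : ↥(K ⊔ A)) * s⁻¹ from rfl,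
          ih, pow_succ']
        group
    intro b b' hb'
    rw [show b' = c0 b from Subtype.ext hb']
    show (ψ' : ↥(K ⊔ A) → ℂ) b = _
    rw [congrFun hη b, Pi.mul_apply, ← hL]
    by_cases h0 : (ψ : ↥(K ⊔ A) → ℂ) b = 0
    · rw [h0, mul_zero]
    · have h1 := hiter (p ^ j) b
      rw [show c0^[p ^ j] b = b from Subtype.ext (by rw [hc, hsj]; simp)] at h1
      have h2 : L b ^ p ^ j = 1 := Units.ext ((mul_eq_right₀ h0).mp h1.symm)
      have h3 : L b ^ Nat.card ↥(K ⊔ A) = 1 := by rw [← map_pow, pow_card_eq_one', map_one]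
      have h4 := Nat.dvd_gcd (orderOf_dvd_of_pow_eq_one h2) (orderOf_dvd_of_pow_eq_one h3)
      rw [show Nat.gcd (p ^ j) (Nat.card ↥(K ⊔ A)) = 1 from
        Nat.Coprime.pow_left _ (hp.coprime_iff_not_dvd.mpr hBp)] at h4
      rw [orderOf_eq_one_iff.mp (Nat.dvd_one.mp h4), Units.val_one, one_mul]
  -- correspondents lie over the correspondents
  have hover : ∀ ψ : IrrCharacter ↥(K ⊔ A), IsExtB ψ → ∀ η : IrrCharacter ↥(C ⊔ A),
      Rel p hle (ψ : ↥(K ⊔ A) → ℂ) (η : ↥(C ⊔ A) → ℂ) →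
      classInner (fun x : ↥(C.subgroupOf (C ⊔ A)) => (η : ↥(C ⊔ A) → ℂ) x) (δD : _ → ℂ) ≠ 0 := by
    intro ψ hψ η hη h0
    have hs := hextinv ψ hψ
    have h1 := rel_trans (p := p) hle (le_sup_left : C ≤ C ⊔ A) ψ η δ fun η' hne => by
      by_contra hd
      exact hne ((huB ψ hs).unique hd hη)
    have e1 : (fun c : C => (ψ : ↥(K ⊔ A) → ℂ) (Subgroup.inclusion ((le_sup_left : C ≤ C ⊔ A).trans hle) c)) =
        fun c : C => (θ : K → ℂ) (Subgroup.inclusion hCK c) :=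
      funext fun c => (hconv ψ).mp hψ (Subgroup.inclusion hCK c)
    rw [e1] at h1
    have e2 : mult (fun c : C => (η : ↥(C ⊔ A) → ℂ) (Subgroup.inclusion le_sup_left c)) (δ : C → ℂ) = 0 := by
      have : classInner (fun c : C => (η : ↥(C ⊔ A) → ℂ) (Subgroup.inclusion le_sup_left c)) (δ : C → ℂ) = 0 := by
        rw [← h0]
        simp only [classInner]
        rw [Nat.card_congr eD.toEquiv]
        congr 1
        exact (Fintype.sum_equiv eD.toEquiv _ _ fun x => rfl).symm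
      rw [mult, this]; simp
    rw [e2, Nat.cast_zero, mul_zero, ZMod.natCast_eq_zero_iff] at h1
    exact hδ h1
  have habB : ∀ x y : ↥(K ⊔ A), x * y * x⁻¹ * y⁻¹ ∈ K.subgroupOf (K ⊔ A) := hcomB
  have hidx : (C.subgroupOf (C ⊔ A)).index = (K.subgroupOf (K ⊔ A)).index := by
    have hlerel : ∀ (X : Subgroup T), (X.subgroupOf (X ⊔ A)).Normal → (X.subgroupOf (X ⊔ A)).index = X.relIndex (A) := by
      intro X hX
      have hleN : A ≤ Subgroup.normalizer (X : Set T) :=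
        le_sup_right.trans ((Subgroup.normal_subgroupOf_iff_le_normalizer le_sup_left).mp hX)
      haveI := hX
      rw [sup_comm] at hX ⊢
      haveI := hX
      haveI : (X.subgroupOf A).Normal := Subgroup.normal_subgroupOf_of_le_normalizer hleN
      rw [Subgroup.relIndex, Subgroup.index_eq_card, Subgroup.index_eq_card]
      exact (Nat.card_congr (QuotientGroup.quotientInfEquivProdNormalizerQuotient A X hleN).toEquiv).symm
    rw [hlerel C hND, hlerel K hNB, ← Subgroup.inf_relIndex_right K A, ← Subgroup.inf_relIndex_right C A]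
    congr 1
    refine le_antisymm (inf_le_inf_right _ hCK) ?_
    rintro z ⟨hzK, hzA⟩
    exact ⟨hC.ge ⟨hzK, Subgroup.mem_centralizer_iff.mpr fun s hs => hPA z hzA s hs⟩, hzA⟩
  -- the correspondence on extensions
  have hfwd : ∀ ψ : IrrCharacter ↥(K ⊔ A), IsExtB ψ →
      ∀ η : IrrCharacter ↥(C ⊔ A), Rel p hle (ψ : ↥(K ⊔ A) → ℂ) (η : ↥(C ⊔ A) → ℂ) → IsExtD η := by
    intro ψ hψ η hη
    refine eq_of_card_le (C.subgroupOf (C ⊔ A)) δD hδDinv
      (fun η => ∃ ψ : IrrCharacter ↥(K ⊔ A), IsExtB ψ ∧ Rel p hle (ψ : ↥(K ⊔ A) → ℂ) (η : ↥(C ⊔ A) → ℂ))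
      (fun η' ⟨ψ', h1, h2⟩ => hover ψ' h1 η' h2) ?_ η ⟨ψ, hψ, hη⟩
    rw [hidx]
    refine (ext_count _ habB θB ψ hψ).trans ?_
    let F : {χ : IrrCharacter ↥(K ⊔ A) // IsExtB χ} → {η : IrrCharacter ↥(C ⊔ A) //
        ∃ ψ : IrrCharacter ↥(K ⊔ A), IsExtB ψ ∧ Rel p hle (ψ : ↥(K ⊔ A) → ℂ) (η : ↥(C ⊔ A) → ℂ)} := fun χ =>
      ⟨(huB χ.1 (hextinv χ.1 χ.2)).exists.choose, χ.1, χ.2, (huB χ.1 (hextinv χ.1 χ.2)).exists.choose_spec⟩
    refine Nat.card_le_card_of_injective F fun a b h => Subtype.ext ?_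
    have e : (huB a.1 (hextinv a.1 a.2)).exists.choose = (huB b.1 (hextinv b.1 b.2)).exists.choose :=
      congrArg Subtype.val h
    exact hinjB a.1 b.1 (hextinv a.1 a.2) (hextinv b.1 b.2) _ (huB a.1 (hextinv a.1 a.2)).exists.choose_spec
      (e ▸ (huB b.1 (hextinv b.1 b.2)).exists.choose_spec)
  have hbwd : ∀ η : IrrCharacter ↥(C ⊔ A), IsExtD η → ∀ ψ : IrrCharacter ↥(K ⊔ A),
      (∀ s ∈ P, Fix (K ⊔ A) s (ψ : ↥(K ⊔ A) → ℂ)) → Rel p hle (ψ : ↥(K ⊔ A) → ℂ) (η : ↥(C ⊔ A) → ℂ) →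
      IsExtB ψ := by
    intro η hη ψ hψs hψ
    let Q : IrrCharacter ↥(K ⊔ A) → Prop := fun ψ => (∀ s ∈ P, Fix (K ⊔ A) s (ψ : ↥(K ⊔ A) → ℂ)) ∧
      ∃ η : IrrCharacter ↥(C ⊔ A), IsExtD η ∧ Rel p hle (ψ : ↥(K ⊔ A) → ℂ) (η : ↥(C ⊔ A) → ℂ)
    refine eq_of_card_le (K.subgroupOf (K ⊔ A)) θB hθBinv Q ?_ ?_ ψ ⟨hψs, η, hη, hψ⟩
    · rintro ψ ⟨hs, η, hη, hrel⟩
      -- the restriction to the smaller subgroup pairs nontrivially
      have h1 := rel_trans (p := p) hle (le_sup_left : C ≤ C ⊔ A) ψ η δ fun η' hne => by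
        by_contra hd
        exact hne ((huB ψ hs).unique hd hrel)
      rw [show (fun c : C => (η : ↥(C ⊔ A) → ℂ) (Subgroup.inclusion le_sup_left c)) = (δ : C → ℂ) from
        funext fun c => (hconvD η).mp hη c, show mult (δ : C → ℂ) (δ : C → ℂ) = 1 by
          rw [mult, irr_inner_self δ.2]; simp, Nat.cast_one, mul_one] at h1
      obtain ⟨χ, hχs, hχ⟩ := exists_inv_below (conjAct (K ⊔ A) P hPB) (K.subgroupOf (K ⊔ A))
        (fun a x hx => hPK a.1 a.2 _ hx)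
        (by
          obtain ⟨i, hi⟩ := IsPGroup.iff_card.mp hP
          rw [hi]
          exact Nat.Coprime.pow_right _ ((hp.coprime_iff_not_dvd.mpr fun h => hBp (h.trans
            (Subgroup.index_dvd_card _))).symm))
        (Or.inr (Group.isSolvable_of_comm fun x y => by
          obtain ⟨a, rfl⟩ := QuotientGroup.mk_surjective x
          obtain ⟨b, rfl⟩ := QuotientGroup.mk_surjective y
          have h := (QuotientGroup.eq_one_iff _).mpr (habB a b)
          simp only [QuotientGroup.mk_mul, QuotientGroup.mk_inv] at h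
          exact mul_inv_eq_iff_eq_mul.mp (mul_inv_eq_one.mp h)))
        ψ ((inv_conjAct_iff (K ⊔ A) P hPB _).mp hs)
      let χK : IrrCharacter K := ⟨fun k => (χ : _ → ℂ) (eB.symm k),
        isIrrCharacter_comp eB.symm.toMonoidHom eB.symm.surjective χ.2⟩
      have hχK : ∀ s ∈ P, Fix K s (χK : K → ℂ) := fun s hsP k k' e => by
        show (χ : _ → ℂ) (eB.symm k') = (χ : _ → ℂ) (eB.symm k)
        rw [← hχs ⟨s, hsP⟩ (eB.symm k)]
        refine congrArg (χ : ↥(K.subgroupOf (K ⊔ A)) → ℂ) (Subtype.ext (Subtype.ext ?_))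
        first | exact e | exact e.symm
      by_contra h0
      -- every constituent is invariant and different from the given character
      let f : K → ℂ := fun k => (ψ : ↥(K ⊔ A) → ℂ) (Subgroup.inclusion le_sup_left k)
      have hf : IsCharacter K f := isCharacter_comp (Subgroup.inclusion le_sup_left) (isCharacter_of_isIrr ψ.2)
      have hconst : ∀ χ' : IrrCharacter K, mult f (χ' : K → ℂ) ≠ 0 →
          p ∣ mult (fun c : C => (χ' : K → ℂ) (Subgroup.inclusion hCK c)) (δ : C → ℂ) := by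
        intro χ' hne
        have hne' : classInner (fun x : ↥(K.subgroupOf (K ⊔ A)) => (ψ : ↥(K ⊔ A) → ℂ) x)
            (fun x => (χ' : K → ℂ) (eB x)) ≠ 0 := by
          rw [← Nat.cast_ne_zero (R := ℂ), ← mult_spec hf (isCharacter_of_isIrr χ'.2)] at hne
          convert hne using 1
          simp only [classInner]
          rw [Nat.card_congr eB.toEquiv]
          congr 1
          exact Fintype.sum_equiv eB.toEquiv _ _ fun x => rfl
        obtain ⟨w, hw⟩ := exists_conj_of_constituent (K.subgroupOf (K ⊔ A)) ψ.2 χ.2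
          (isIrrCharacter_comp eB.toMonoidHom eB.surjective χ'.2) hχ hne'
        have hleN : A ≤ Subgroup.normalizer (K : Set T) := fun a ha =>
          GoodCount.mem_normalizer_of_forall_conj (hAK a ha)
        have hz' : (w : T) ∈ (K : Set T) * (A : Set T) := by
          rw [← Subgroup.coe_mul_of_right_le_normalizer_left _ _ hleN]
          exact w.2
        obtain ⟨k0, hk0, a, ha, hw0⟩ := hz'
        have hχ'val : ∀ k : K, (χ' : K → ℂ) k = (χK : K → ℂ) ⟨a * k * a⁻¹, hAK a ha k k.2⟩ := by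
          intro k
          have h2 := congrFun hw (eB.symm k)
          rw [conjFun_eq_comp] at h2
          simp only [MulEquiv.coe_toMonoidHom, MulEquiv.toMonoidHom_eq_coe, MonoidHom.coe_coe, MulEquiv.apply_symm_apply] at h2
          rw [← h2]
          show (χK : K → ℂ) (eB (MulAut.conjNormal w (eB.symm k))) = _
          refine fix_of_mem (isClassFunction_of_isIrr χK.2) hk0 ⟨a * k * a⁻¹, hAK a ha k k.2⟩ _ ?_
          show ((MulAut.conjNormal w (eB.symm k) : ↥(K.subgroupOf (K ⊔ A))) : T) = _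
          rw [MulAut.conjNormal_apply, Subgroup.coe_mul, Subgroup.coe_mul, Subgroup.coe_inv, ← hw0]
          simp [eB, mul_assoc]
        have hχ's : ∀ s ∈ P, Fix K s (χ' : K → ℂ) := fun s hsP k k' e => by
          rw [hχ'val, hχ'val]
          refine hχK s hsP _ _ ?_
          show a * (k' : T) * a⁻¹ = s * (a * k * a⁻¹) * s⁻¹
          have h2 := hPA a ha s hsP
          rw [e]
          calc a * (s * k * s⁻¹) * a⁻¹ = (a * s) * k * (a * s)⁻¹ := by group
            _ = (s * a) * k * (s * a)⁻¹ := by rw [h2]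
            _ = _ := by group
        by_contra hd
        have heq : χ' = θ := hinjK χ' θ hχ's hθP δ hd hδ
        subst heq
        exact hne' h0
      have hsum : (mult (fun c : C => f (Subgroup.inclusion hCK c)) (δ : C → ℂ) : ZMod p) = 0 := by
        have key : (mult (fun c : C => f (Subgroup.inclusion hCK c)) (δ : C → ℂ) : ℕ) =
            ∑ χ' : IrrCharacter K, mult f (χ' : K → ℂ) *
              mult (fun c : C => (χ' : K → ℂ) (Subgroup.inclusion hCK c)) (δ : C → ℂ) := by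
          apply Nat.cast_injective (R := ℂ)
          rw [← mult_spec (isCharacter_comp (Subgroup.inclusion hCK) hf) (isCharacter_of_isIrr δ.2), Nat.cast_sum]
          have hexp : (fun c : C => f (Subgroup.inclusion hCK c)) =
              ∑ χ' : IrrCharacter K, (mult f (χ' : K → ℂ) : ℂ) • fun c : C => (χ' : K → ℂ) (Subgroup.inclusion hCK c) := by
            funext c
            conv_lhs => rw [character_eq_sum hf]
            simp only [Finset.sum_apply, Pi.smul_apply]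
          rw [hexp, classInner_sum_left]
          refine Finset.sum_congr rfl fun χ' _ => ?_
          rw [classInner_smul_left, mult_spec (isCharacter_comp (Subgroup.inclusion hCK) (isCharacter_of_isIrr χ'.2))
            (isCharacter_of_isIrr δ.2), Nat.cast_mul]
        rw [key, Nat.cast_sum, Finset.sum_eq_zero]
        intro χ' _
        by_cases hz : mult f (χ' : K → ℂ) = 0
        · rw [hz, zero_mul, Nat.cast_zero]
        · rw [Nat.cast_mul, (ZMod.natCast_eq_zero_iff _ _).mpr (hconst χ' hz), mul_zero]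
      rw [show (fun c : C => f (Subgroup.inclusion hCK c)) = fun c : C =>
        (ψ : ↥(K ⊔ A) → ℂ) (Subgroup.inclusion ((le_sup_left : C ≤ C ⊔ A).trans hle) c) from rfl, h1,
        ZMod.natCast_eq_zero_iff] at hsum
      exact hrel hsum
    · rw [← hidx]
      refine (ext_count _ hcomD δD η hη).trans ?_
      let F : {χ : IrrCharacter ↥(C ⊔ A) // IsExtD χ} → {ψ : IrrCharacter ↥(K ⊔ A) // Q ψ} := fun χ =>
        ⟨(hsurjB χ.1).choose, (hsurjB χ.1).choose_spec.1, χ.1, χ.2, (hsurjB χ.1).choose_spec.2⟩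
      refine Nat.card_le_card_of_injective F fun a b h => Subtype.ext ?_
      have e : (hsurjB a.1).choose = (hsurjB b.1).choose := congrArg Subtype.val h
      exact (huB _ (hsurjB a.1).choose_spec.1).unique (hsurjB a.1).choose_spec.2
        (e ▸ (hsurjB b.1).choose_spec.2)
  have hgB : ∀ b ∈ K ⊔ A, g * b * g⁻¹ ∈ K ⊔ A := fun b hb =>
    conj_sup_mem hgK (fun a ha => Subgroup.mem_sup_left (hgA a ha)) hb
  have hgCC : ∀ c ∈ C, g * c * g⁻¹ ∈ C := by
    intro c hc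
    rw [hC] at hc ⊢
    refine ⟨hgK c hc.1, Subgroup.mem_centralizer_iff.mpr fun s hs => ?_⟩
    have hgn : g ∈ Subgroup.normalizer (P : Set T) := GoodCount.mem_normalizer_of_forall_conj hgP
    have hs' : g⁻¹ * s * g ∈ P := (Subgroup.mem_normalizer_iff''.mp hgn s).mp hs
    have h1 := Subgroup.mem_centralizer_iff.mp hc.2 _ hs'
    calc s * (g * c * g⁻¹) = g * (g⁻¹ * s * g * c) * g⁻¹ := by group
      _ = g * (c * (g⁻¹ * s * g)) * g⁻¹ := by rw [h1]
      _ = g * c * g⁻¹ * s := by group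
  have hgD : ∀ b ∈ C ⊔ A, g * b * g⁻¹ ∈ C ⊔ A := fun b hb =>
    conj_sup_mem hgCC (fun a ha => Subgroup.mem_sup_left (hgA a ha)) hb
  constructor
  · rintro ⟨E, hE, hEres, hEg⟩
    let ψ : IrrCharacter ↥(K ⊔ A) := ⟨E, hE⟩
    have hψ : IsExtB ψ := (hconv ψ).mpr hEres
    obtain ⟨η, hη, -⟩ := huB ψ (hextinv ψ hψ)
    exact ⟨η, η.2, (hconvD η).mp (hfwd ψ hψ η hη),
      rel_fix (K ⊔ A) P hPB hP hBp (C ⊔ A) hD hle ψ (hextinv ψ hψ) η hη hgB hgD hEg⟩
  · rintro ⟨E, hE, hEres, hEg⟩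
    let η : IrrCharacter ↥(C ⊔ A) := ⟨E, hE⟩
    obtain ⟨ψ, hψs, hψ⟩ := hsurjB η
    have hext := hbwd η ((hconvD η).mpr hEres) ψ hψs hψ
    refine ⟨ψ, ψ.2, (hconv ψ).mp hext, ?_⟩
    -- the translate has the same correspondent
    let c0 : ↥(K ⊔ A) →* ↥(K ⊔ A) :=
      { toFun := fun b => ⟨g * b * g⁻¹, hgB b b.2⟩
        map_one' := Subtype.ext (by simp)
        map_mul' := fun a b => Subtype.ext (by simp [mul_assoc]) }
    have hinj : Function.Injective c0 := fun a b h => Subtype.ext (by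
      simpa [c0] using congrArg Subtype.val h)
    let ψ' : IrrCharacter ↥(K ⊔ A) := ⟨_, isIrrCharacter_comp c0 (Finite.surjective_of_injective hinj) ψ.2⟩
    have hψ's : ∀ s ∈ P, Fix (K ⊔ A) s (ψ' : ↥(K ⊔ A) → ℂ) := fun s hs k k' e =>
      hψs (g * s * g⁻¹) (hgP s hs) (c0 k) (c0 k') (by
        show g * (k' : T) * g⁻¹ = _
        rw [e]
        show g * (s * k * s⁻¹) * g⁻¹ = g * s * g⁻¹ * (g * k * g⁻¹) * (g * s * g⁻¹)⁻¹
        group)
    have hψ' : Rel p hle (ψ' : ↥(K ⊔ A) → ℂ) (η : ↥(C ⊔ A) → ℂ) := by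
      unfold Rel at hψ ⊢
      let c1 : ↥(C ⊔ A) →* ↥(C ⊔ A) :=
        { toFun := fun b => ⟨g * b * g⁻¹, hgD b b.2⟩
          map_one' := Subtype.ext (by simp)
          map_mul' := fun a b => Subtype.ext (by simp [mul_assoc]) }
      have hinj1 : Function.Injective c1 := fun a b h => Subtype.ext (by
        simpa [c1] using congrArg Subtype.val h)
      have e1 : classInner (fun c : ↥(C ⊔ A) => (ψ' : ↥(K ⊔ A) → ℂ) (Subgroup.inclusion hle c)) (η : ↥(C ⊔ A) → ℂ) =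
          classInner (fun c : ↥(C ⊔ A) => (ψ : ↥(K ⊔ A) → ℂ) (Subgroup.inclusion hle c)) (η : ↥(C ⊔ A) → ℂ) := by
        simp only [classInner]
        congr 1
        refine Fintype.sum_equiv (Equiv.ofBijective c1 ⟨hinj1, Finite.surjective_of_injective hinj1⟩) _ _ fun c => ?_
        show (ψ : ↥(K ⊔ A) → ℂ) (Subgroup.inclusion hle (c1 c)) * _ =
          (ψ : ↥(K ⊔ A) → ℂ) (Subgroup.inclusion hle (c1 c)) * conj (E (c1 c))
        rw [hEg c (c1 c) rfl]
      rwa [mult, e1, ← mult]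
    intro k k' e
    rw [show k' = c0 k from Subtype.ext e]
    exact congrFun (congrArg Subtype.val (hinjB ψ' ψ hψ's hψs η hψ' hψ)) k

/-! ### The main theorem -/

theorem exists_generator_of_faithful {V : Type u} [Group V] [Finite V] [Nontrivial V]
    {A : Type u} [Group A] [Finite A] (f : A →* MulAut V) (hab : ∀ a b, f (a * b) = f (b * a))
    (hirr : ∀ W : Subgroup V, (∀ a, ∀ w ∈ W, f a w ∈ W) → W = ⊥ ∨ W = ⊤) :
    ∃ g : A, ∀ a : A, ∃ i : ℤ, f a = f g ^ i := by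
  classical
  let R := f.range
  haveI : Finite R := inferInstance
  let G' := V ⋊[R.subtype] R
  haveI : Finite G' := Finite.of_equiv _ SemidirectProduct.equivProd.symm
  let Vs : Subgroup G' := (SemidirectProduct.inl : V →* G').range
  let Rs : Subgroup G' := (SemidirectProduct.inr : R →* G').range
  haveI : IsMulCommutative Rs := ⟨⟨by
    rintro ⟨_, ⟨⟨_, a, rfl⟩, rfl⟩⟩ ⟨_, ⟨⟨_, b, rfl⟩, rfl⟩⟩
    refine Subtype.ext ?_
    show SemidirectProduct.inr _ * SemidirectProduct.inr _ = SemidirectProduct.inr _ * SemidirectProduct.inr _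
    rw [← map_mul, ← map_mul]
    exact congrArg _ (Subtype.ext (by
      show f a * f b = f b * f a
      rw [← map_mul, ← map_mul, hab]))⟩⟩
  have hV : Vs ≠ ⊥ := by
    intro h
    obtain ⟨v, hv⟩ := exists_ne (1 : V)
    have : (SemidirectProduct.inl v : G') ∈ Vs := ⟨v, rfl⟩
    rw [h, Subgroup.mem_bot] at this
    exact hv (SemidirectProduct.inl_injective (this.trans (map_one _).symm))
  have hnorm : Rs ≤ Subgroup.normalizer (Vs : Set G') := fun x hx =>
    GoodCount.mem_normalizer_of_forall_conj fun y hy => by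
      obtain ⟨v, rfl⟩ := hy
      obtain ⟨r, rfl⟩ := hx
      exact ⟨R.subtype r v, (SemidirectProduct.inl_aut r v).trans (by rw [map_inv])⟩
  have hcyc : IsCyclic Rs := Basics.fpf_abelian_isCyclic Rs Vs hV hnorm fun x hx hx1 => by
    obtain ⟨r, rfl⟩ := hx
    let W : Subgroup V :=
      { carrier := {v | (r : MulAut V) v = v}
        one_mem' := map_one _
        mul_mem' := fun {a b} ha hb => by
          show (r : MulAut V) (a * b) = a * b
          rw [map_mul]; exact congrArg₂ (· * ·) ha hb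
        inv_mem' := fun {a} ha => by
          show (r : MulAut V) a⁻¹ = a⁻¹
          rw [map_inv]; exact congrArg _ ha }
    have hW : W = ⊥ := by
      refine (hirr W fun a w hw => ?_).resolve_right fun h => hx1 ?_
      · obtain ⟨b, hb⟩ := r.2
        show (r : MulAut V) (f a w) = f a w
        rw [← hb, show f b (f a w) = (f b * f a) w from rfl, ← map_mul, hab, map_mul]
        show f a (f b w) = f a w
        rw [show f b w = w from (hb ▸ hw : f b w = w)]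
      · have : r = 1 := Subtype.ext (MulEquiv.ext fun v => (h ▸ Subgroup.mem_top v : v ∈ W))
        rw [this, map_one]
    rw [Subgroup.eq_bot_iff_forall]
    rintro _ ⟨⟨v, rfl⟩, hc⟩
    have hcomm := Subgroup.mem_centralizer_singleton_iff.mp hc
    have h1 : (SemidirectProduct.inl ((r : MulAut V) v) : G') = SemidirectProduct.inl v := by
      show SemidirectProduct.inl (R.subtype r v) = _
      rw [SemidirectProduct.inl_aut, ← hcomm, map_inv, mul_inv_cancel_right]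
    have hv : v ∈ W := SemidirectProduct.inl_injective h1
    rw [hW, Subgroup.mem_bot] at hv
    rw [hv, map_one]
  obtain ⟨⟨_, ⟨_, g, rfl⟩, rfl⟩, hg⟩ := hcyc.exists_generator
  refine ⟨g, fun a => ?_⟩
  obtain ⟨i, hi⟩ := Subgroup.mem_zpowers_iff.mp (hg ⟨_, ⟨f a, a, rfl⟩, rfl⟩)
  refine ⟨i, ?_⟩
  have := congrArg Subtype.val hi
  rw [SubgroupClass.coe_zpow] at this
  rw [← map_zpow] at this
  have h2 := SemidirectProduct.inr_injective this
  exact (congrArg Subtype.val h2).symm.trans (SubgroupClass.coe_zpow _ _)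

theorem main_aux : ∀ (n : ℕ) (K S A C : Subgroup T) [Fintype C], Nat.card K ≤ n →
    (∀ s ∈ S, ∀ k ∈ K, s * k * s⁻¹ ∈ K) → IsPGroup p S → ¬ p ∣ Nat.card K →
    (∀ a ∈ A, ∀ k ∈ K, a * k * a⁻¹ ∈ K) → (∀ a ∈ A, ∀ s ∈ S, a * s * a⁻¹ ∈ S) →
    ¬ p ∣ Nat.card A → C = K ⊓ Subgroup.centralizer (S : Set T) → C ≤ A →
    (∀ a ∈ A, ∀ b ∈ A, a * b * a⁻¹ * b⁻¹ ∈ C) →
    ∀ (hCK : C ≤ K) (θ : IrrCharacter K), (∀ s ∈ S, Fix K s (θ : K → ℂ)) →
      (∀ a ∈ A, Fix K a (θ : K → ℂ)) → ∀ η : IrrCharacter C, Rel p hCK (θ : K → ℂ) (η : C → ℂ) →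
        (Ext K (θ : K → ℂ) (K ⊔ A) ↔ Ext C (η : C → ℂ) A) := by
  classical
  intro n
  induction n with
  | zero =>
    intro K S A C _ hn
    exact absurd (Nat.le_zero.mp hn) Nat.card_pos.ne'
  | succ n ih =>
  intro K S A C _ hn hSK hS hK hAK hAS hAp hC hCA hab hCK θ hθS hθA η hη
  have hp := (Fact.out : p.Prime)
  by_cases hcent : K ≤ Subgroup.centralizer (S : Set T)
  · -- trivial action
    have hCK' : C = K := hC.trans (inf_eq_left.mpr hcent)
    subst hCK'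
    have hθη : θ = η := by
      by_contra hne
      refine hη ?_
      have h0 : classInner (fun c : C => (θ : C → ℂ) (Subgroup.inclusion hCK c)) (η : C → ℂ) = 0 := by
        convert (irr_inner_subtype θ η).trans (if_neg hne) using 2 <;> rfl
      rw [mult, h0]
      simp
    subst hθη
    rw [sup_eq_right.mpr hCA]
  haveI := Fintype.ofFinite K
  -- the kernel of the action
  set S0 : Subgroup T := S ⊓ Subgroup.centralizer (K : Set T) with hS0
  have hS0lt : S0 ≠ S := fun h => hcent (fun k hk => Subgroup.mem_centralizer_iff.mpr fun s hs =>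
    (Subgroup.mem_centralizer_iff.mp (h.ge hs).2 k hk).symm)
  have hcentconj : ∀ (X : Subgroup T) (g : T), (∀ k ∈ X, g⁻¹ * k * g ∈ X) →
      ∀ z ∈ Subgroup.centralizer (X : Set T), g * z * g⁻¹ ∈ Subgroup.centralizer (X : Set T) := by
    intro X g hg z hz
    refine Subgroup.mem_centralizer_iff.mpr fun x hx => ?_
    have h1 := Subgroup.mem_centralizer_iff.mp hz _ (hg x hx)
    calc x * (g * z * g⁻¹) = g * (g⁻¹ * x * g * z) * g⁻¹ := by group
      _ = g * (z * (g⁻¹ * x * g)) * g⁻¹ := by rw [h1]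
      _ = g * z * g⁻¹ * x := by group
  have hSA : S ⊔ A ≤ Subgroup.normalizer (K : Set T) :=
    sup_le (fun s hs => GoodCount.mem_normalizer_of_forall_conj (hSK s hs))
      (fun a ha => GoodCount.mem_normalizer_of_forall_conj (hAK a ha))
  have hSAS : S ⊔ A ≤ Subgroup.normalizer (S : Set T) :=
    sup_le Subgroup.le_normalizer (fun a ha => GoodCount.mem_normalizer_of_forall_conj (hAS a ha))
  have hS0n : ∀ g ∈ S ⊔ A, ∀ z ∈ S0, g * z * g⁻¹ ∈ S0 := fun g hg z hz =>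
    ⟨(Subgroup.mem_normalizer_iff.mp (hSAS hg) z).mp hz.1,
      hcentconj K g (fun k hk => (Subgroup.mem_normalizer_iff''.mp (hSA hg) k).mp hk) z hz.2⟩
  -- a minimal intermediate subgroup
  let Cand : Set (Subgroup T) := {P | S0 < P ∧ P ≤ S ∧ (∀ g ∈ S ⊔ A, ∀ z ∈ P, g * z * g⁻¹ ∈ P) ∧
    (∀ x ∈ P, ∀ s ∈ S, s * x * s⁻¹ * x⁻¹ ∈ S0)}
  have hne : Cand.Nonempty := by
    -- the preimage of the centre
    let Z : Subgroup T :=
      { carrier := {x | x ∈ S ∧ ∀ s ∈ S, s * x * s⁻¹ * x⁻¹ ∈ S0}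
        one_mem' := ⟨S.one_mem, fun s hs => by simp [S0.one_mem]⟩
        mul_mem' := fun {x y} hx hy => ⟨S.mul_mem hx.1 hy.1, fun s hs => by
          rw [show s * (x * y) * s⁻¹ * (x * y)⁻¹ = (s * x * s⁻¹ * x⁻¹) * (x * (s * y * s⁻¹ * y⁻¹) * x⁻¹) by group]
          exact S0.mul_mem (hx.2 s hs) (hS0n x (Subgroup.mem_sup_left hx.1) _ (hy.2 s hs))⟩
        inv_mem' := fun {x} hx => ⟨S.inv_mem hx.1, fun s hs => by
          rw [show s * x⁻¹ * s⁻¹ * x⁻¹⁻¹ = x⁻¹ * (s * x * s⁻¹ * x⁻¹)⁻¹ * x⁻¹⁻¹ by group]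
          exact hS0n x⁻¹ (Subgroup.mem_sup_left (S.inv_mem hx.1)) _ (S0.inv_mem (hx.2 s hs))⟩ }
    have hZS0 : S0 ≤ Z := fun z hz => ⟨hz.1, fun s hs =>
      S0.mul_mem (hS0n s (Subgroup.mem_sup_left hs) z hz) (S0.inv_mem hz)⟩
    refine ⟨Z, lt_of_le_of_ne hZS0 fun hZ => hS0lt ?_, fun z hz => hz.1, fun g hg z hz => ?_,
      fun x hx => hx.2⟩
    · -- the centre of the quotient is nontrivial
      haveI : (S0.subgroupOf S).Normal := ⟨fun z hz g =>
        Subgroup.mem_subgroupOf.mpr (by simpa using hS0n g (Subgroup.mem_sup_left g.2) z (Subgroup.mem_subgroupOf.mp hz))⟩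
      by_contra hne'
      haveI : Nontrivial (↥S ⧸ S0.subgroupOf S) := by
        rw [← Finite.one_lt_card_iff_nontrivial, ← Subgroup.index_eq_card]
        rcases Nat.lt_or_ge 1 (S0.subgroupOf S).index with h | h
        · exact h
        · have h1 : (S0.subgroupOf S).index = 1 :=
            le_antisymm h (Nat.pos_of_ne_zero Subgroup.index_ne_zero_of_finite)
          rw [Subgroup.index_eq_one, Subgroup.subgroupOf_eq_top] at h1
          exact absurd (le_antisymm inf_le_left h1) hne'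
      haveI := (hS.to_quotient (S0.subgroupOf S)).center_nontrivial
      obtain ⟨⟨c, hc⟩, hc1⟩ := exists_ne (1 : Subgroup.center (↥S ⧸ S0.subgroupOf S))
      obtain ⟨x, rfl⟩ := QuotientGroup.mk_surjective c
      refine hc1 (Subtype.ext ((QuotientGroup.eq_one_iff x).mpr (Subgroup.mem_subgroupOf.mpr (hZ.ge ⟨x.2, fun s hs => ?_⟩))))
      have h := Subgroup.mem_center_iff.mp hc ((⟨s, hs⟩ : S) : ↥S ⧸ S0.subgroupOf S)
      have h2 : ((⟨s, hs⟩ * x * ⟨s, hs⟩⁻¹ * x⁻¹ : S) : ↥S ⧸ S0.subgroupOf S) = 1 := by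
        simp only [QuotientGroup.mk_mul, QuotientGroup.mk_inv]
        rw [h]; group
      exact Subgroup.mem_subgroupOf.mp ((QuotientGroup.eq_one_iff _).mp h2)
    · refine ⟨(Subgroup.mem_normalizer_iff.mp (hSAS hg) z).mp hz.1, fun s hs => ?_⟩
      have hs' : g⁻¹ * s * g ∈ S := (Subgroup.mem_normalizer_iff''.mp (hSAS hg) s).mp hs
      have := hS0n g hg _ (hz.2 _ hs')
      rwa [show g * ((g⁻¹ * s * g) * z * (g⁻¹ * s * g)⁻¹ * z⁻¹) * g⁻¹ =
        s * (g * z * g⁻¹) * s⁻¹ * (g * z * g⁻¹)⁻¹ by group] at this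
  obtain ⟨P1, hP1min⟩ := (Set.toFinite Cand).exists_minimal hne
  obtain ⟨⟨hlt, hP1S, hP1n, hP1c⟩, hmin⟩ := hP1min
  -- the centraliser of the quotient, and the part commuting with it
  let A1 : Subgroup T :=
    { carrier := {a | a ∈ A ∧ ∀ z ∈ P1, a * z * a⁻¹ * z⁻¹ ∈ S0}
      one_mem' := ⟨A.one_mem, fun z _ => by simp [S0.one_mem]⟩
      mul_mem' := fun {a b} ha hb => ⟨A.mul_mem ha.1 hb.1, fun z hz => by
        rw [show a * b * z * (a * b)⁻¹ * z⁻¹ = (a * (b * z * b⁻¹ * z⁻¹) * a⁻¹) * (a * z * a⁻¹ * z⁻¹) by group]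
        exact S0.mul_mem (hS0n a (Subgroup.mem_sup_right ha.1) _ (hb.2 z hz)) (ha.2 z hz)⟩
      inv_mem' := fun {a} ha => ⟨A.inv_mem ha.1, fun z hz => by
        rw [show a⁻¹ * z * a⁻¹⁻¹ * z⁻¹ = a⁻¹ * (a * z * a⁻¹ * z⁻¹)⁻¹ * a⁻¹⁻¹ by group]
        exact hS0n a⁻¹ (Subgroup.mem_sup_right (A.inv_mem ha.1)) _ (S0.inv_mem (ha.2 z hz))⟩ }
  have hA1A : A1 ≤ A := fun a ha => ha.1
  have hCcent : ∀ c ∈ C, ∀ s ∈ S, c * s = s * c := fun c hc s hs =>
    (Subgroup.mem_centralizer_iff.mp (hC.le hc).2 s hs).symm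
  have hCA1 : C ≤ A1 := fun c hc => ⟨hCA hc, fun z hz => by
    rw [hCcent c hc z (hP1S hz), mul_inv_cancel_right, mul_inv_cancel]; exact S0.one_mem⟩
  let P2 : Subgroup T := P1 ⊓ Subgroup.centralizer (A1 : Set T)
  have hP1p : IsPGroup p P1 := hS.to_le hP1S
  have hP1split : ∀ z ∈ P1, ∃ z0 ∈ S0, ∃ z2 ∈ P2, z = z2 * z0 := by
    intro z hz
    have hA1S0 : A1 ≤ Subgroup.normalizer (S0 : Set T) := fun a ha =>
      GoodCount.mem_normalizer_of_forall_conj (hS0n a (Subgroup.mem_sup_right ha.1))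
    have hcop : (Nat.card A1).Coprime (Nat.card S0) := by
      obtain ⟨i, hi⟩ := IsPGroup.iff_card.mp (hS.to_le (inf_le_left : S0 ≤ S))
      rw [hi]
      exact Nat.Coprime.pow_right _ ((hp.coprime_iff_not_dvd.mpr fun h =>
        hAp (h.trans (Subgroup.card_dvd_of_le hA1A))).symm)
    obtain ⟨c, hc, hc'⟩ := Basics.exists_centralizer_mem_coset A1 S0 hA1S0 hcop
      (Or.inr (by haveI := (hS.to_le (inf_le_left : S0 ≤ S)).isNilpotent; infer_instance)) z
      (GoodCount.mem_normalizer_of_forall_conj (hS0n z (Subgroup.mem_sup_left (hP1S hz))))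
      (fun a ha => ha.2 z hz)
    refine ⟨c⁻¹ * z, by simpa using S0.inv_mem hc', c, ⟨?_, hc⟩, by group⟩
    have := P1.mul_mem hz (hlt.le hc')
    rwa [mul_inv_cancel_left] at this
  let K1 : Subgroup T := K ⊓ Subgroup.centralizer (P2 : Set T)
  have hK1eq : ∀ k ∈ K, (k ∈ K1 ↔ ∀ z ∈ P1, z * k = k * z) := by
    intro k hk
    constructor
    · intro h z hz
      obtain ⟨z0, hz0, z2, hz2, rfl⟩ := hP1split z hz
      have h1 := Subgroup.mem_centralizer_iff.mp h.2 z2 hz2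
      have h2 := (Subgroup.mem_centralizer_iff.mp hz0.2 k hk).symm
      rw [mul_assoc, h2, ← mul_assoc, h1, mul_assoc]
    · intro h
      exact ⟨hk, Subgroup.mem_centralizer_iff.mpr fun z hz => h z hz.1⟩
  have hnK1 : ∀ g ∈ S ⊔ A, ∀ k ∈ K1, g * k * g⁻¹ ∈ K1 := by
    intro g hg k hk
    have hk' := (Subgroup.mem_normalizer_iff.mp (hSA hg) k).mp hk.1
    rw [hK1eq _ hk']
    intro z hz
    have hz' : g⁻¹ * z * g ∈ P1 := by simpa using hP1n g⁻¹ (Subgroup.inv_mem _ hg) z hz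
    have h1 := (hK1eq k hk.1).mp hk _ hz'
    calc z * (g * k * g⁻¹) = g * (g⁻¹ * z * g * k) * g⁻¹ := by group
      _ = g * (k * (g⁻¹ * z * g)) * g⁻¹ := by rw [h1]
      _ = g * k * g⁻¹ * z := by group
  have hK1lt : Nat.card K1 < Nat.card K := by
    refine lt_of_le_of_ne (Nat.le_of_dvd Nat.card_pos (Subgroup.card_dvd_of_le inf_le_left)) fun h => ?_
    have heq : K1 = K := Subgroup.eq_of_le_of_card_ge inf_le_left h.ge
    obtain ⟨z, hz, hz0⟩ := SetLike.exists_of_lt hlt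
    refine hz0 ⟨hP1S hz, Subgroup.mem_centralizer_iff.mpr fun k hk => ?_⟩
    exact ((hK1eq k hk).mp (heq.ge hk) z hz).symm
  have hC1 : C = K1 ⊓ Subgroup.centralizer (S : Set T) := by
    refine le_antisymm (fun c hc => ⟨(hK1eq c (hCK hc)).mpr fun z hz => (hCcent c hc z (hP1S hz)).symm,
      (hC.le hc).2⟩) fun c hc => hC.ge ⟨hc.1.1, hc.2⟩
  have hCK1 : C ≤ K1 := hC1.le.trans inf_le_left
  haveI := Fintype.ofFinite K1
  have hP2S : P2 ≤ S := inf_le_left.trans hP1S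
  have hP2K : ∀ s ∈ P2, ∀ k ∈ K, s * k * s⁻¹ ∈ K := fun s hs k hk => hSK s (hP2S hs) k hk
  have hP2p : IsPGroup p P2 := hS.to_le hP2S
  have hθP2 : ∀ s ∈ P2, Fix K s (θ : K → ℂ) := fun s hs => hθS s (hP2S hs)
  obtain ⟨hu1, hinj1, -⟩ := rel_data K P2 hP2K hP2p hK K1 rfl inf_le_left
  obtain ⟨θ1, hθ1, -⟩ := hu1 θ hθP2
  have hθ1fix : ∀ g ∈ S ⊔ A, Fix K g (θ : K → ℂ) → Fix K1 g (θ1 : K1 → ℂ) := fun g hg hgθ =>
    rel_fix K P2 hP2K hP2p hK K1 rfl inf_le_left θ hθP2 θ1 hθ1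
      (fun k hk => (Subgroup.mem_normalizer_iff.mp (hSA hg) k).mp hk) (hnK1 g hg) hgθ
  have hη1 : Rel p hCK1 (θ1 : K1 → ℂ) (η : C → ℂ) := fun hd => hη (by
    have h1 := rel_trans (p := p) (inf_le_left : K1 ≤ K) hCK1 θ θ1 η fun δ' hne => by
      by_contra hd'
      exact hne ((hu1 θ hθP2).unique hd' hθ1)
    rw [(ZMod.natCast_eq_zero_iff _ _).mpr hd, mul_zero, ZMod.natCast_eq_zero_iff] at h1
    exact h1)
  have hrec : Ext K1 (θ1 : K1 → ℂ) (K1 ⊔ A) ↔ Ext C (η : C → ℂ) A :=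
    ih K1 S A C (by omega) (fun s hs => hnK1 s (Subgroup.mem_sup_left hs)) hS
      (fun h => hK (h.trans (Subgroup.card_dvd_of_le inf_le_left)))
      (fun a ha => hnK1 a (Subgroup.mem_sup_right ha)) hAS hAp hC1 hCA hab hCK1 θ1
      (fun s hs => hθ1fix s (Subgroup.mem_sup_left hs) (hθS s hs))
      (fun a ha => hθ1fix a (Subgroup.mem_sup_right ha) (hθA a ha)) η hη1
  rw [← hrec]
  -- the quotient by the kernel is irreducible, so one element generates the complement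
  have hA1n : ∀ g ∈ A, ∀ a ∈ A1, g * a * g⁻¹ ∈ A1 := by
    intro g hg a ha
    refine ⟨A.mul_mem (A.mul_mem hg ha.1) (A.inv_mem hg), fun z hz => ?_⟩
    have hz' : g⁻¹ * z * g ∈ P1 := by
      simpa using hP1n g⁻¹ (Subgroup.mem_sup_right (A.inv_mem hg)) z hz
    have := hS0n g (Subgroup.mem_sup_right hg) _ (ha.2 _ hz')
    rwa [show g * (a * (g⁻¹ * z * g) * a⁻¹ * (g⁻¹ * z * g)⁻¹) * g⁻¹ =
      g * a * g⁻¹ * z * (g * a * g⁻¹)⁻¹ * z⁻¹ by group] at this
  haveI hNS0 : (S0.subgroupOf P1).Normal := ⟨fun z hz g =>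
    Subgroup.mem_subgroupOf.mpr (by simpa using hS0n g (Subgroup.mem_sup_left (hP1S g.2)) z (Subgroup.mem_subgroupOf.mp hz))⟩
  haveI : Nontrivial (↥P1 ⧸ S0.subgroupOf P1) := by
    obtain ⟨z, hz, hz0⟩ := SetLike.exists_of_lt hlt
    exact ⟨⟨((⟨z, hz⟩ : P1) : ↥P1 ⧸ S0.subgroupOf P1), 1, fun h =>
      hz0 (Subgroup.mem_subgroupOf.mp ((QuotientGroup.eq_one_iff _).mp h))⟩⟩
  let act : A →* MulAut (↥P1 ⧸ S0.subgroupOf P1) :=
    (RelCorr.quotAct (conjAct P1 A fun a ha z hz => hP1n a (Subgroup.mem_sup_right ha) z hz)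
      (S0.subgroupOf P1) fun a z hz => Subgroup.mem_subgroupOf.mpr
        (hS0n a.1 (Subgroup.mem_sup_right a.2) _ (Subgroup.mem_subgroupOf.mp hz)))
  have hact : ∀ (a : A) (z : P1), act a (z : ↥P1 ⧸ S0.subgroupOf P1) =
      ((⟨a * z * (a : T)⁻¹, hP1n a (Subgroup.mem_sup_right a.2) z z.2⟩ : P1) : ↥P1 ⧸ S0.subgroupOf P1) :=
    fun a z => rfl
  have hker : ∀ a : A, act a = 1 ↔ (a : T) ∈ A1 := by
    intro a
    constructor
    · intro h
      refine ⟨a.2, fun z hz => ?_⟩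
      have h1 := DFunLike.congr_fun h ((⟨z, hz⟩ : P1) : ↥P1 ⧸ S0.subgroupOf P1)
      rw [hact, MulAut.one_apply, ← mul_inv_eq_one, ← QuotientGroup.mk_inv, ← QuotientGroup.mk_mul,
        QuotientGroup.eq_one_iff] at h1
      exact Subgroup.mem_subgroupOf.mp h1
    · intro h
      refine MulEquiv.ext fun q => ?_
      obtain ⟨z, rfl⟩ := QuotientGroup.mk_surjective q
      rw [hact, MulAut.one_apply, ← mul_inv_eq_one, ← QuotientGroup.mk_inv, ← QuotientGroup.mk_mul,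
        QuotientGroup.eq_one_iff]
      exact Subgroup.mem_subgroupOf.mpr (h.2 z z.2)
  obtain ⟨g, hg⟩ := exists_generator_of_faithful act
    (fun a b => by
      have h1 : act (a * b * a⁻¹ * b⁻¹) = 1 := (hker _).mpr (hCA1 (hab a a.2 b b.2))
      rw [map_mul, map_mul, map_mul, map_inv, map_inv] at h1
      rw [map_mul, map_mul]
      exact mul_inv_eq_iff_eq_mul.mp (mul_inv_eq_one.mp h1))
    (fun W hW => by
      let Wp : Subgroup T := ((W.comap (QuotientGroup.mk' (S0.subgroupOf P1))).map P1.subtype)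
      have hWP : Wp ≤ P1 := Subgroup.map_subtype_le _
      have hS0W : S0 ≤ Wp := fun z hz => ⟨⟨z, hlt.le hz⟩, by
        show ((⟨z, hlt.le hz⟩ : P1) : ↥P1 ⧸ S0.subgroupOf P1) ∈ W
        rw [(QuotientGroup.eq_one_iff _).mpr (Subgroup.mem_subgroupOf.mpr hz)]
        exact W.one_mem, rfl⟩
      have hWc : ∀ x ∈ Wp, ∀ s ∈ S, s * x * s⁻¹ * x⁻¹ ∈ S0 := fun x hx => hP1c x (hWP hx)
      have hWA : ∀ a ∈ A, ∀ x ∈ Wp, a * x * a⁻¹ ∈ Wp := by
        rintro a ha _ ⟨⟨x, hx⟩, hxW, rfl⟩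
        exact ⟨⟨a * x * a⁻¹, hP1n a (Subgroup.mem_sup_right ha) x hx⟩,
          (hW ⟨a, ha⟩ _ hxW : act ⟨a, ha⟩ ((⟨x, hx⟩ : P1) : ↥P1 ⧸ S0.subgroupOf P1) ∈ W), rfl⟩
      rcases eq_or_lt_of_le hS0W with h | h
      · left
        rw [Subgroup.eq_bot_iff_forall]
        intro q hq
        obtain ⟨z, rfl⟩ := QuotientGroup.mk_surjective q
        exact (QuotientGroup.eq_one_iff z).mpr (Subgroup.mem_subgroupOf.mpr (h.ge ⟨z, hq, rfl⟩))
      · right
        have hWn : ∀ g ∈ S ⊔ A, ∀ z ∈ Wp, g * z * g⁻¹ ∈ Wp := by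
          have hle : S ⊔ A ≤ Subgroup.normalizer (Wp : Set T) := by
            refine sup_le (fun s hs => GoodCount.mem_normalizer_of_forall_conj fun x hx => ?_)
              fun a ha => GoodCount.mem_normalizer_of_forall_conj (hWA a ha)
            have := Wp.mul_mem (hS0W (hWc x hx s hs)) hx
            rwa [inv_mul_cancel_right] at this
          exact fun g hg z hz => (Subgroup.mem_normalizer_iff.mp (hle hg) z).mp hz
        have heq : Wp = P1 := le_antisymm hWP (hmin ⟨h, hWP.trans hP1S, hWn, hWc⟩ hWP)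
        rw [eq_top_iff]
        intro q _
        obtain ⟨z, rfl⟩ := QuotientGroup.mk_surjective q
        obtain ⟨z', hz', e⟩ := heq.ge z.2
        rw [show z = z' from Subtype.ext e.symm]
        exact hz')
  have hAgen : A ≤ A1 ⊔ Subgroup.zpowers (g : T) := by
    intro a ha
    obtain ⟨i, hi⟩ := hg ⟨a, ha⟩
    have h1 : act (⟨a, ha⟩ * (g ^ i)⁻¹) = 1 := by rw [map_mul, map_inv, map_zpow, hi, mul_inv_cancel]
    have h2 := (hker _).mp h1
    rw [Subgroup.coe_mul, Subgroup.coe_inv, SubgroupClass.coe_zpow] at h2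
    have := (A1 ⊔ Subgroup.zpowers (g : T)).mul_mem (Subgroup.mem_sup_left h2)
      (Subgroup.mem_sup_right (Subgroup.zpow_mem _ (Subgroup.mem_zpowers (g : T)) i))
    rwa [inv_mul_cancel_right] at this
  have hgA1 : ∀ a ∈ A1, (g : T) * a * (g : T)⁻¹ ∈ A1 := hA1n g g.2
  have hgP2 : ∀ s ∈ P2, (g : T) * s * (g : T)⁻¹ ∈ P2 := fun s hs =>
    ⟨hP1n g (Subgroup.mem_sup_right g.2) s hs.1, hcentconj A1 g
      (fun a ha => by simpa using hA1n _ (A.inv_mem g.2) a ha) s hs.2⟩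
  have hP2A1 : ∀ a ∈ A1, ∀ s ∈ P2, s * a = a * s := fun a ha s hs =>
    (Subgroup.mem_centralizer_iff.mp hs.2 a ha).symm
  have hstep := step (p := p) (K := K) (P := P2) (A := A1) (C := K1) hP2K hP2p hK
    (fun a ha => hAK a ha.1) hP2A1 (fun h => hAp (h.trans (Subgroup.card_dvd_of_le hA1A))) rfl
    (fun a ha b hb => hCK1 (hab a ha.1 b hb.1)) (g := (g : T)) (hAK g g.2) hgA1 hgP2 inf_le_left θ
    hθP2 (fun a ha => hθA a ha.1) θ1 hθ1
  -- passing between invariant extensions and extensions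
  have up : ∀ (X : Subgroup T) (χ : X → ℂ), (∀ a ∈ A, ∀ x ∈ X, a * x * a⁻¹ ∈ X) →
      ((∃ E : ↥(X ⊔ A1) → ℂ, IsIrrCharacter _ E ∧ (∀ x : X, E ⟨x, Subgroup.mem_sup_left x.2⟩ = χ x) ∧
          Fix (X ⊔ A1) (g : T) E) → Ext X χ (X ⊔ A)) ∧
        (IsIrrCharacter X χ → Ext X χ (X ⊔ A) →
          ∃ E : ↥(X ⊔ A1) → ℂ, IsIrrCharacter _ E ∧ (∀ x : X, E ⟨x, Subgroup.mem_sup_left x.2⟩ = χ x) ∧
            Fix (X ⊔ A1) (g : T) E) := by
    intro X χ hXA
    have hXg : ∀ y ∈ X ⊔ A1, (g : T)⁻¹ * y * (g : T) ∈ X ⊔ A1 := fun y hy => by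
      have := conj_sup_mem (g := (g : T)⁻¹) (hXA _ (A.inv_mem g.2))
        (fun a ha => Subgroup.mem_sup_left (hA1n _ (A.inv_mem g.2) a ha)) hy
      simpa using this
    have hXAeq : X ⊔ A = X ⊔ A1 ⊔ Subgroup.zpowers (g : T) := by
      refine le_antisymm (sup_le (le_sup_left.trans le_sup_left) (hAgen.trans (sup_le_sup_right le_sup_right _)))
        (sup_le (sup_le_sup_left hA1A X) (le_sup_of_le_right (Subgroup.zpowers_le.mpr g.2)))
    constructor
    · rintro ⟨E, hE, hres, hfix⟩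
      obtain ⟨E', hE', hres'⟩ := GoodCount.exists_ext_step (X ⊔ A1) (g : T) hXg hE fun y =>
        hfix.inv y _ (by rw [inv_inv])
      rw [hXAeq]
      exact ⟨E', hE', fun x hx => (hres' ⟨x, Subgroup.mem_sup_left x.2⟩).trans (hres x)⟩
    · intro hχ hex
      rw [hXAeq] at hex
      obtain ⟨E, hE, hres⟩ := hex
      refine ⟨fun y => E ⟨y, Subgroup.mem_sup_left y.2⟩, ?_, fun x => hres x _, fun y y' e => ?_⟩
      · obtain ⟨d, ρ, hρ, rfl⟩ := hE
        haveI := hρ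
        let ρA : Representation ℂ ↥(X ⊔ A1) (Fin d → ℂ) := ρ.comp (Subgroup.inclusion le_sup_left)
        let ρN : Representation ℂ X (Fin d → ℂ) := ρA.comp (Subgroup.inclusion le_sup_left)
        have hchar : ρN.character = χ := funext fun n => hres n _
        have hirr : ρN.IsIrreducible := isIrreducible_of_isIrrCharacter ρN (hchar ▸ hχ)
        obtain ⟨hV, hW⟩ := (isIrreducible_iff ρN).mp hirr
        exact ⟨d, ρA, (isIrreducible_iff ρA).mpr ⟨hV, fun U hU => hW U fun n v hv => hU _ v hv⟩, rfl⟩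
      · exact fix_of_mem (isClassFunction_of_isIrr hE) (Subgroup.mem_sup_right (Subgroup.mem_zpowers (g : T)))
          ⟨y, Subgroup.mem_sup_left y.2⟩ ⟨y', Subgroup.mem_sup_left y'.2⟩ e
  obtain ⟨hupK, hdownK⟩ := up K (θ : K → ℂ) hAK
  obtain ⟨hupK1, hdownK1⟩ := up K1 (θ1 : K1 → ℂ) (fun a ha => hnK1 a (Subgroup.mem_sup_right ha))
  exact ⟨fun h => hupK1 (hstep.mp (hdownK θ.2 h)), fun h => hupK (hstep.mpr (hdownK1 θ1.2 h))⟩

/-- Extendibility is preserved by the correspondence. -/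
theorem main (K S A C : Subgroup T) [Fintype C] (hSK : ∀ s ∈ S, ∀ k ∈ K, s * k * s⁻¹ ∈ K)
    (hS : IsPGroup p S) (hK : ¬ p ∣ Nat.card K) (hAK : ∀ a ∈ A, ∀ k ∈ K, a * k * a⁻¹ ∈ K)
    (hAS : ∀ a ∈ A, ∀ s ∈ S, a * s * a⁻¹ ∈ S) (hAp : ¬ p ∣ Nat.card A)
    (hC : C = K ⊓ Subgroup.centralizer (S : Set T)) (hCA : C ≤ A)
    (hab : ∀ a ∈ A, ∀ b ∈ A, a * b * a⁻¹ * b⁻¹ ∈ C) (hCK : C ≤ K) (θ : IrrCharacter K)
    (hθS : ∀ s ∈ S, Fix K s (θ : K → ℂ)) (hθA : ∀ a ∈ A, Fix K a (θ : K → ℂ)) (η : IrrCharacter C)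
    (hη : Rel p hCK (θ : K → ℂ) (η : C → ℂ)) :
    Ext K (θ : K → ℂ) (K ⊔ A) ↔ Ext C (η : C → ℂ) A :=
  main_aux (Nat.card K) K S A C le_rfl hSK hS hK hAK hAS hAp hC hCA hab hCK θ hθS hθA η hη

end Cfsg.Agent.CoprimeTriple
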