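import Cfsg.Agent.Lib.CT.Brauer
import Mathlib.RepresentationTheory.Character
import Mathlib.RepresentationTheory.Maschke
import Mathlib.LinearAlgebra.PID

/-!
# Representations over a field containing enough roots of unity
-/

set_option autoImplicit false
set_option linter.unusedSectionVars false

namespace Cfsg.Agent.CT.CyclotomicModel

open Module
open scoped ComplexConjugate

universe u v

variable {G : Type u} [Group G] (K : Subfield ℂ)

/-- The complex class function of a representation over `K`. -/
noncomputable def cchar {V : Type v} [AddCommGroup V] [Module K V]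
    (τ : Representation K G V) (g : G) : ℂ := ((τ.character g : K) : ℂ)

/-- Characters of irreducible representations over `K`. -/
def simpleChars : Set (G → ℂ) :=
  {f | ∃ (n : ℕ) (τ : Representation K G (Fin n → K)), τ.IsIrreducible ∧ f = cchar K τ}

/-- The complex representation with the same matrices. -/
noncomputable def extRep {n : ℕ} (τ : Representation K G (Fin n → K)) :
    Representation ℂ G (Fin n → ℂ) where
  toFun g := Matrix.toLin' ((LinearMap.toMatrix' (τ g)).map K.subtype)
  map_one' := by
    rw [map_one, Module.End.one_eq_id, LinearMap.toMatrix'_id, Matrix.map_one _ (map_zero _) (map_one _),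
      Matrix.toLin'_one]
    rfl
  map_mul' g h := by
    rw [map_mul, Module.End.mul_eq_comp, LinearMap.toMatrix'_comp, Matrix.map_mul,
      Matrix.toLin'_mul]
    rfl

theorem extRep_character {n : ℕ} (τ : Representation K G (Fin n → K)) :
    (extRep K τ).character = cchar K τ := by
  funext g
  show LinearMap.trace ℂ _ (Matrix.toLin' ((LinearMap.toMatrix' (τ g)).map K.subtype)) =
    K.subtype (LinearMap.trace K _ (τ g))
  rw [Matrix.trace_toLin'_eq, LinearMap.trace_eq_matrix_trace K (Pi.basisFun K (Fin n)),
    LinearMap.toMatrix_eq_toMatrix', ← AddMonoidHom.map_trace]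

theorem extRep_entries {n : ℕ} (τ : Representation K G (Fin n → K)) (g : G) (i j : Fin n) :
    LinearMap.toMatrix' (extRep K τ g) i j ∈ K := by
  show LinearMap.toMatrix' (Matrix.toLin' ((LinearMap.toMatrix' (τ g)).map K.subtype)) i j ∈ K
  rw [LinearMap.toMatrix'_toLin', Matrix.map_apply]
  exact SetLike.coe_mem _

/-- The representation in coordinates. -/
noncomputable def coords {V : Type v} [AddCommGroup V] [Module K V] [FiniteDimensional K V]
    (τ : Representation K G V) : Representation K G (Fin (finrank K V) → K) where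
  toFun g := (Module.finBasis K V).equivFun.conj (τ g)
  map_one' := by rw [map_one]; exact LinearEquiv.conj_id _
  map_mul' g h := by rw [map_mul]; exact (LinearEquiv.conj_comp _ _ _)

theorem coords_cchar {V : Type v} [AddCommGroup V] [Module K V] [FiniteDimensional K V]
    (τ : Representation K G V) : cchar K (coords K τ) = cchar K τ := by
  funext g
  exact congrArg (fun x : K => (x : ℂ)) (LinearMap.trace_conj' (τ g) _)

variable [Fintype G]

theorem invertible_card : (Nat.card G : K) ≠ 0 := Nat.cast_ne_zero.mpr Nat.card_pos.ne'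

theorem isCharacter_cchar {n : ℕ} (τ : Representation K G (Fin n → K)) :
    IsCharacter G (cchar K τ) := ⟨n, extRep K τ, extRep_character K τ⟩

/-- The inner product counts intertwining maps. -/
theorem inner_cchar {n m : ℕ} (σ : Representation K G (Fin n → K))
    (τ : Representation K G (Fin m → K)) :
    classInner (cchar K τ) (cchar K σ) = (finrank K (σ.IntertwiningMap τ) : ℂ) := by
  haveI := invertibleOfNonzero (invertible_card (G := G) K)
  have h := congrArg K.subtype (Representation.card_inv_mul_sum_char_mul_char_eq_finrank σ τ)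
  simp only [map_mul, map_inv₀, map_natCast, map_sum] at h
  rw [← h, classInner]
  congr 1
  refine Finset.sum_congr rfl fun g _ => ?_
  rw [← char_inv_eq_conj (isCharacter_cchar K σ) g]
  rfl

theorem inner_simple_ne {f f' : G → ℂ} (hf : f ∈ simpleChars K) (hf' : f' ∈ simpleChars K)
    (hne : f ≠ f') : classInner f f' = 0 := by
  obtain ⟨m, τ, hτ, rfl⟩ := hf
  obtain ⟨n, σ, hσ, rfl⟩ := hf'
  rw [inner_cchar]
  have h : ∀ e : σ.IntertwiningMap τ, e = 0 := by
    intro e
    refine ((Representation.IsIrreducible.bijective_or_eq_zero e).resolve_left fun hb => hne ?_)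
    funext g
    refine congrArg (fun x : K => (x : ℂ)) ?_
    exact (congrFun (Representation.char_iso (Representation.Equiv.mk
      (LinearEquiv.ofBijective e.toLinearMap hb)
      (fun g => LinearMap.ext fun v => e.isIntertwining σ τ g v))) g).symm
  haveI : Subsingleton (σ.IntertwiningMap τ) := ⟨fun a b => (h a).trans (h b).symm⟩
  rw [finrank_zero_of_subsingleton, Nat.cast_zero]

theorem inner_simple_self {f : G → ℂ} (hf : f ∈ simpleChars K) :
    ∃ N : ℕ, N ≠ 0 ∧ classInner f f = N := by
  obtain ⟨m, τ, hτ, rfl⟩ := hf
  refine ⟨_, ?_, inner_cchar K τ τ⟩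
  intro h
  obtain ⟨a, b, hab⟩ := hτ.toNontrivial
  haveI : Subsingleton (τ.IntertwiningMap τ) := Module.finrank_zero_iff.mp h
  have h1 : ∀ v : Fin m → K, v = 0 := fun v => congrArg (fun e : τ.IntertwiningMap τ => e v)
    (Subsingleton.elim (Representation.IntertwiningMap.id τ) 0)
  haveI : Subsingleton (Fin m → K) := ⟨fun v w => (h1 v).trans (h1 w).symm⟩
  exact hab (Subrepresentation.toSubmodule_injective (Subsingleton.elim _ _))

/-- The span of the simple characters. -/
def simpleSpan : AddSubgroup (G → ℂ) := AddSubgroup.closure (simpleChars K)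

theorem cchar_mem_span : ∀ (d : ℕ) {V : Type v} [AddCommGroup V] [Module K V] [FiniteDimensional K V]
    (τ : Representation K G V), finrank K V = d → cchar K τ ∈ simpleSpan (G := G) K := by
  intro d
  induction d using Nat.strong_induction_on with
  | _ d ih =>
    intro V _ _ _ τ hd
    haveI : NeZero (Nat.card G : K) := ⟨invertible_card K⟩
    by_cases hd0 : d = 0
    · have : cchar K τ = 0 := by
        funext g
        haveI : Subsingleton V := Module.finrank_zero_iff.mp (hd.trans hd0)
        simp [cchar, Representation.character, Subsingleton.elim (τ g) 0]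
      rw [this]; exact zero_mem _
    by_cases hred : ∃ W : Subrepresentation τ, W ≠ ⊥ ∧ W ≠ ⊤
    · obtain ⟨W, hWb, hWt⟩ := hred
      obtain ⟨W', hW'⟩ := ComplementedLattice.exists_isCompl W
      have hc : IsCompl W.toSubmodule W'.toSubmodule :=
        ⟨disjoint_iff.mpr (congrArg Subrepresentation.toSubmodule hW'.inf_eq_bot),
          codisjoint_iff.mpr (congrArg Subrepresentation.toSubmodule hW'.sup_eq_top)⟩
      have hsum := Submodule.finrank_add_eq_of_isCompl hc
      have h1 : finrank K W.toSubmodule ≠ 0 := fun h => hWb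
        (Subrepresentation.toSubmodule_injective (Submodule.finrank_eq_zero.mp h))
      have h2 : finrank K W'.toSubmodule ≠ 0 := fun h => hWt
        (Subrepresentation.toSubmodule_injective (Submodule.eq_top_of_finrank_eq (by omega)))
      have e : cchar K τ = cchar K W.toRepresentation + cchar K W'.toRepresentation := by
        funext g
        have e : (Submodule.prodEquivOfIsCompl _ _ hc).conj
            (LinearMap.prodMap (W.toRepresentation g) (W'.toRepresentation g)) = τ g := by
          refine LinearMap.ext fun v => ?_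
          obtain ⟨⟨a, b⟩, rfl⟩ := (Submodule.prodEquivOfIsCompl _ _ hc).surjective v
          rw [LinearEquiv.conj_apply_apply, LinearEquiv.symm_apply_apply]
          simp [Subrepresentation.toRepresentation, map_add]
        show ((LinearMap.trace K V (τ g) : K) : ℂ) = _
        rw [← e, LinearMap.trace_conj', LinearMap.trace_prodMap']
        rfl
      rw [e]
      exact add_mem (ih _ (by omega) _ rfl) (ih _ (by omega) _ rfl)
    · push Not at hred
      rw [← coords_cchar]
      refine AddSubgroup.subset_closure ⟨_, coords K τ, ?_, rfl⟩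
      set e := (Module.finBasis K V).equivFun
      have : Nontrivial (Subrepresentation (coords K τ)) := by
        refine ⟨⊥, ⊤, fun h => ?_⟩
        have h' : (⊥ : Submodule K (Fin (finrank K V) → K)) = ⊤ :=
          congrArg Subrepresentation.toSubmodule h
        have h2 := congrArg (fun W : Submodule K (Fin (finrank K V) → K) => finrank K W) h'
        simp only [finrank_bot, finrank_top, Module.finrank_fin_fun] at h2
        omega
      refine ⟨fun a => ?_⟩
      let W : Subrepresentation τ := ⟨a.toSubmodule.comap e.toLinearMap, fun g v hv => by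
        have h := a.apply_mem_toSubmodule g hv
        simp only [Submodule.mem_comap] at hv ⊢
        convert h using 1
        show e (τ g v) = e.conj (τ g) (e v)
        rw [LinearEquiv.conj_apply_apply, LinearEquiv.symm_apply_apply]⟩
      by_cases hW : W = ⊥
      · left
        refine Subrepresentation.toSubmodule_injective ?_
        refine Submodule.comap_injective_of_surjective (f := e.toLinearMap) e.surjective ?_
        show W.toSubmodule = _
        rw [hW]
        exact (LinearMap.ker_eq_bot.mpr e.injective).symm.trans (Submodule.comap_bot _).symm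
      · right
        refine Subrepresentation.toSubmodule_injective ?_
        refine Submodule.comap_injective_of_surjective (f := e.toLinearMap) e.surjective ?_
        show W.toSubmodule = _
        rw [hred W hW]
        exact (Submodule.comap_top _).symm

/-- A virtual character over `K` of norm one and positive degree is afforded over `K`. -/
theorem irr_of_mem_span {χ : G → ℂ} (hχ : IsIrrCharacter G χ) (h : χ ∈ simpleSpan (G := G) K) :
    χ ∈ simpleChars K := by
  classical
  rw [simpleSpan, ← Submodule.span_int_eq_addSubgroupClosure, Submodule.mem_toAddSubgroup,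
    Submodule.mem_span_set] at h
  obtain ⟨c, hcs, hc⟩ := h
  rw [Finsupp.sum] at hc
  have hmem : ∀ f ∈ c.support, f ∈ simpleChars K := fun f hf => hcs hf
  choose! N hN0 hN using fun f (hf : f ∈ c.support) => inner_simple_self K (hmem f hf)
  have hnorm : ((∑ f ∈ c.support, c f ^ 2 * (N f : ℤ) : ℤ) : ℂ) = ((1 : ℤ) : ℂ) := by
    rw [Int.cast_one, ← irr_inner_self hχ, ← hc, classInner_sum_left, Int.cast_sum]
    refine Finset.sum_congr rfl fun f hf => ?_
    rw [← Int.cast_smul_eq_zsmul ℂ, classInner_smul_left, classInner_sum_right,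
      Finset.sum_eq_single f]
    · rw [← Int.cast_smul_eq_zsmul ℂ, classInner_smul_right, hN f hf]
      push_cast
      simp
      ring
    · intro f' hf' hne
      rw [← Int.cast_smul_eq_zsmul ℂ, classInner_smul_right, inner_simple_ne K (hmem f hf)
        (hmem f' hf') hne.symm, mul_zero]
    · exact fun h => absurd hf h
  replace hnorm : ∑ f ∈ c.support, c f ^ 2 * (N f : ℤ) = 1 := Int.cast_injective hnorm
  have hge : ∀ f ∈ c.support, 1 ≤ c f ^ 2 * (N f : ℤ) := fun f hf => by
    have h1 : c f ≠ 0 := Finsupp.mem_support_iff.mp hf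
    exact one_le_mul_of_one_le_of_one_le (Int.add_one_le_iff.mpr (pow_two_pos_of_ne_zero h1)) (by exact_mod_cast Nat.one_le_iff_ne_zero.mpr (hN0 f hf))
  have hcard : c.support.card ≤ 1 := by
    have h1 : (c.support.card : ℤ) ≤ 1 := by
      rw [← hnorm, Finset.cast_card]
      exact Finset.sum_le_sum hge
    exact_mod_cast h1
  obtain ⟨f, hf⟩ : ∃ f, c.support = {f} := by
    rw [← Finset.card_eq_one]
    refine le_antisymm hcard (Finset.card_pos.mpr ?_)
    by_contra h
    rw [Finset.not_nonempty_iff_eq_empty] at h
    rw [h, Finset.sum_empty] at hnorm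
    exact zero_ne_one hnorm
  have hfs : f ∈ c.support := by rw [hf]; exact Finset.mem_singleton_self f
  rw [hf, Finset.sum_singleton] at hc hnorm
  have hsq : c f ^ 2 = 1 := by
    rcases Int.eq_one_or_neg_one_of_mul_eq_one hnorm with h | h
    · exact h
    · nlinarith [sq_nonneg (c f)]
  rcases sq_eq_one_iff.mp hsq with h1 | h1
  · rw [h1, one_zsmul] at hc
    exact hc ▸ hmem f hfs
  · exfalso
    rw [h1, neg_one_zsmul] at hc
    obtain ⟨m, τ, -, rfl⟩ := hmem f hfs
    have hd := congrFun hc 1
    obtain ⟨k, hk⟩ := exists_degree (isCharacter_of_isIrr hχ)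
    obtain ⟨l, hl⟩ := exists_degree (isCharacter_cchar K τ)
    rw [Pi.neg_apply, hl, hk] at hd
    have h0 : ((k + l : ℕ) : ℂ) = 0 := by push_cast; rw [← hd]; ring
    have : k = 0 := by have := Nat.cast_eq_zero.mp h0; omega
    exact irr_one_ne_zero hχ (by rw [hk, this, Nat.cast_zero])

/-- Induced linear characters are afforded over `K`. -/
theorem indFun_mem_span (hK : ∀ z : ℂ, z ^ Monoid.exponent G = 1 → z ∈ K) (E : Subgroup G)
    (lam : E →* ℂˣ) : indFun E (fun e => (lam e : ℂ)) ∈ simpleSpan (G := G) K := by
  classical
  have hval : ∀ e : E, ((lam e : ℂ)) ∈ K := fun e => hK _ (by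
    rw [← Units.val_pow_eq_pow_val, ← map_pow, show e ^ Monoid.exponent G = 1 from
      Subtype.ext (by rw [SubgroupClass.coe_pow, Monoid.pow_exponent_eq_one]; rfl), map_one, Units.val_one])
  let l : E → K := fun e => ⟨_, hval e⟩
  have hlmul : ∀ a b, l (a * b) = l a * l b := fun a b => Subtype.ext (by
    show ((lam (a * b) : ℂˣ) : ℂ) = _
    rw [map_mul, Units.val_mul]; rfl)
  have hl1 : l 1 = 1 := Subtype.ext (by show ((lam 1 : ℂˣ) : ℂ) = 1; rw [map_one, Units.val_one])
  let L : Representation K G (G → K) :=
    { toFun := fun g => LinearMap.funLeft K K (fun x => g⁻¹ * x)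
      map_one' := by ext f x; simp [LinearMap.funLeft]
      map_mul' := fun g h => by ext f x; simp [LinearMap.funLeft, mul_assoc] }
  let E0 : (G → K) →ₗ[K] (G → K) :=
    (Nat.card E : K)⁻¹ • ∑ e : E, l e • LinearMap.funLeft K K (fun x => x * (e : G))
  have hE0 : ∀ f x, E0 f x = (Nat.card E : K)⁻¹ * ∑ e : E, l e * f (x * (e : G)) := fun f x => by
    simp [E0, LinearMap.funLeft]
  have hcomm : ∀ g f, L g (E0 f) = E0 (L g f) := fun g f => by
    funext x
    show E0 f (g⁻¹ * x) = _
    rw [hE0, hE0]
    simp [L, LinearMap.funLeft, mul_assoc]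
  have hne : (Nat.card E : K) ≠ 0 := Nat.cast_ne_zero.mpr Nat.card_pos.ne'
  have hidem : ∀ f, E0 (E0 f) = E0 f := fun f => by
    funext x
    rw [hE0 (E0 f)]
    have h1 : ∀ e : E, l e * E0 f (x * (e : G)) = E0 f x := fun e => by
      rw [hE0, hE0, mul_left_comm, Finset.mul_sum]
      congr 1
      refine Fintype.sum_equiv (Equiv.mulLeft e) _ _ fun e' => ?_
      rw [Equiv.coe_mulLeft, hlmul, Subgroup.coe_mul, mul_assoc x, mul_assoc (l e)]
    rw [Finset.sum_congr rfl fun e _ => h1 e, Finset.sum_const, Finset.card_univ, nsmul_eq_mul,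
      ← Nat.card_eq_fintype_card, ← mul_assoc, inv_mul_cancel₀ hne, one_mul]
  let W : Subrepresentation L := ⟨LinearMap.range E0, fun g v hv => by
    obtain ⟨f, rfl⟩ := hv
    exact ⟨L g f, (hcomm g f).symm⟩⟩
  have key : indFun E (fun e => (lam e : ℂ)) = cchar K W.toRepresentation := by
    funext g
    have hmem : ∀ v, (L g ∘ₗ E0) v ∈ LinearMap.range E0 := fun v => ⟨L g v, (hcomm g v).symm⟩
    have hrest : W.toRepresentation g =
        (L g ∘ₗ E0).restrict (fun v (_ : v ∈ LinearMap.range E0) => hmem v) := by
      refine LinearMap.ext fun v => Subtype.ext ?_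
      obtain ⟨v, f, rfl⟩ := v
      show L g (E0 f) = L g (E0 (E0 f))
      rw [hidem]
    have htr : W.toRepresentation.character g = LinearMap.trace K _ (L g ∘ₗ E0) := by
      show LinearMap.trace K _ (W.toRepresentation g) = _
      rw [hrest]
      exact LinearMap.trace_restrict_eq_of_forall_mem _ _ hmem
    show _ = ((W.toRepresentation.character g : K) : ℂ)
    rw [htr, LinearMap.trace_eq_matrix_trace K (Pi.basisFun K G), Matrix.trace]
    have hd : ∀ x : G, ((Matrix.diag (LinearMap.toMatrix (Pi.basisFun K G) (Pi.basisFun K G)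
        (L g ∘ₗ E0)) x : K) : ℂ) =
        (Nat.card E : ℂ)⁻¹ * extendByZero E (fun e => (lam e : ℂ)) (x⁻¹ * g * x) := by
      intro x
      rw [Matrix.diag_apply, LinearMap.toMatrix_apply, Pi.basisFun_repr, Pi.basisFun_apply]
      show ((E0 (Pi.single x 1) (g⁻¹ * x) : K) : ℂ) = _
      rw [hE0]
      push_cast
      congr 1
      by_cases hx : x⁻¹ * g * x ∈ E
      · rw [extendByZero_mem _ _ hx, Finset.sum_eq_single ⟨_, hx⟩]
        · rw [show g⁻¹ * x * (x⁻¹ * g * x) = x by group, Pi.single_eq_same]
          simp [l]
        · intro e _ he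
          rw [Pi.single_eq_of_ne]
          · simp
          · intro h
            refine he (Subtype.ext ?_)
            show (e : G) = x⁻¹ * g * x
            rw [mul_assoc, eq_inv_mul_iff_mul_eq]
            calc x * (e : G) = g * (g⁻¹ * x * (e : G)) := by group
              _ = g * x := by rw [h]
        · exact fun h => absurd (Finset.mem_univ _) h
      · rw [extendByZero_not_mem _ _ hx]
        refine Finset.sum_eq_zero fun e _ => ?_
        rw [Pi.single_eq_of_ne]
        · simp
        · intro h
          refine hx ?_
          have : x⁻¹ * g * x = e := by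
            rw [mul_assoc, inv_mul_eq_iff_eq_mul]
            calc g * x = g * (g⁻¹ * x * (e : G)) := by rw [h]
              _ = x * (e : G) := by group
          rw [this]; exact e.2
    rw [AddSubmonoidClass.coe_finset_sum, Finset.sum_congr rfl fun x _ => hd x, indFun,
      Finset.mul_sum]
  rw [key]
  exact cchar_mem_span K _ W.toRepresentation rfl

theorem char_mem_span (hK : ∀ z : ℂ, z ^ Monoid.exponent G = 1 → z ∈ K) {χ : G → ℂ}
    (hχ : IsCharacter G χ) : χ ∈ simpleSpan (G := G) K := by
  refine (AddSubgroup.closure_le _).mpr ?_ (brauer_induction hχ)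
  rintro _ ⟨E, lam, -, -, -, rfl⟩
  exact indFun_mem_span K hK E lam

/-- Brauer: every character is afforded over `K`. -/
theorem realizable (hK : ∀ z : ℂ, z ^ Monoid.exponent G = 1 → z ∈ K) {χ : G → ℂ}
    (hχ : IsCharacter G χ) : ∃ (n : ℕ) (τ : Representation K G (Fin n → K)), cchar K τ = χ := by
  classical
  suffices h : ∀ (s : Finset (IrrCharacter G)) (m : IrrCharacter G → ℕ),
      ∃ (n : ℕ) (τ : Representation K G (Fin n → K)),
        cchar K τ = ∑ i ∈ s, (m i : ℂ) • (i : G → ℂ) by
    obtain ⟨n, τ, hτ⟩ := h Finset.univ (fun i => mult χ i)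
    exact ⟨n, τ, hτ.trans (character_eq_sum hχ).symm⟩
  have hadd : ∀ {f f' : G → ℂ}, (∃ (n : ℕ) (τ : Representation K G (Fin n → K)), cchar K τ = f) →
      (∃ (n : ℕ) (τ : Representation K G (Fin n → K)), cchar K τ = f') →
      ∃ (n : ℕ) (τ : Representation K G (Fin n → K)), cchar K τ = f + f' := by
    rintro _ _ ⟨a, s, rfl⟩ ⟨b, t, rfl⟩
    refine ⟨_, coords K (s.prod t), ?_⟩
    rw [coords_cchar]
    funext g
    exact (congrArg (fun x : K => (x : ℂ)) (LinearMap.trace_prodMap' (s g) (t g))).trans (by rfl)
  have hzero : ∃ (n : ℕ) (τ : Representation K G (Fin n → K)), cchar K τ = (0 : G → ℂ) :=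
    ⟨0, 1, funext fun g => by simp [cchar, Representation.character, Subsingleton.elim ((1 : Representation K G (Fin 0 → K)) g) 0]⟩
  intro s m
  induction s using Finset.induction_on with
  | empty => simpa using hzero
  | insert i s hi ih =>
    rw [Finset.sum_insert hi]
    refine hadd ?_ ih
    generalize m i = k
    induction k with
    | zero => simpa using hzero
    | succ k ihk =>
      rw [Nat.cast_succ, add_smul, one_smul]
      obtain ⟨n, τ, -, hτ⟩ := irr_of_mem_span K i.2 (char_mem_span K hK (isCharacter_of_isIrr i.2))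
      exact hadd ihk ⟨n, τ, hτ.symm⟩

end Cfsg.Agent.CT.CyclotomicModel
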