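import Mathlib
import Cfsg.Agent.Lib.CT.Induced
import Cfsg.Agent.Lib.CT.Kernel

/-!
# Primitive linear groups of degree two

A finite irreducible primitive linear group of degree two has central index 12, 24 or 60, by
counting the fixed points on the projective line.
-/

set_option autoImplicit false
set_option linter.all false

namespace Cfsg.Agent.CT

open scoped ComplexConjugate
open Representation Module

theorem klein_arith_sorted {n a b c sa sb sc : ℕ} (hab : a ≤ b) (hbc : b ≤ c) (ha2 : 2 ≤ a)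
    (hsa : sa * a = n) (hsb : sb * b = n) (hsc : sc * c = n) (hn : 0 < n)
    (hsum : sa + sb + sc = n + 2) (hc3 : 3 ≤ sc) : n = 12 ∨ n = 24 ∨ n = 60 := by
  have hb2 : 2 ≤ b := ha2.trans hab
  have hsba : sb ≤ sa := by
    by_contra h
    have h1 : (sa + 1) * a ≤ sb * b := Nat.mul_le_mul (by omega) hab
    nlinarith
  have hscb : sc ≤ sb := by
    by_contra h
    have h1 : (sb + 1) * b ≤ sc * c := Nat.mul_le_mul (by omega) hbc
    nlinarith
  have ha : a = 2 := by
    by_contra h
    have h3 : sa * 3 ≤ n := hsa ▸ Nat.mul_le_mul_left sa (by omega)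
    omega
  subst ha
  have hb : b = 2 ∨ b = 3 := by
    by_contra h
    have h4 : sb * 4 ≤ n := hsb ▸ Nat.mul_le_mul_left sb (by omega)
    omega
  rcases hb with rfl | rfl
  · omega
  · have h5 : n + 12 = 6 * sc := by omega
    have hc6 : c < 6 := by
      by_contra h
      have : sc * 6 ≤ n := hsc ▸ Nat.mul_le_mul_left sc (by omega)
      omega
    interval_cases c <;> omega

theorem klein_arith {n : ℕ} (e s : Fin 3 → ℕ) (he : ∀ i, 2 ≤ e i) (hs : ∀ i, s i * e i = n)
    (hn : 0 < n) (hsum : s 0 + s 1 + s 2 = n + 2) (h3 : ∀ i, 3 ≤ s i) :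
    n = 12 ∨ n = 24 ∨ n = 60 := by
  rcases le_total (e 0) (e 1) with h01 | h01 <;> rcases le_total (e 1) (e 2) with h12 | h12 <;>
    rcases le_total (e 0) (e 2) with h02 | h02
  all_goals first
    | exact klein_arith_sorted h01 h12 (he 0) (hs 0) (hs 1) (hs 2) hn hsum (h3 2)
    | exact klein_arith_sorted h02 h12 (he 0) (hs 0) (hs 2) (hs 1) hn (by omega) (h3 1)
    | exact klein_arith_sorted h01 h02 (he 1) (hs 1) (hs 0) (hs 2) hn (by omega) (h3 2)
    | exact klein_arith_sorted h12 h02 (he 1) (hs 1) (hs 2) (hs 0) hn (by omega) (h3 0)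
    | exact klein_arith_sorted h02 h01 (he 2) (hs 2) (hs 0) (hs 1) hn (by omega) (h3 1)
    | exact klein_arith_sorted h12 h01 (he 2) (hs 2) (hs 1) (hs 0) hn (by omega) (h3 0)

universe u

section Lines

variable {G : Type u} [Group G] [Fintype G] (ρ : Representation ℂ G (Fin 2 → ℂ))

/-- Lines of the plane fixed by some non-central element. -/
def Pole : Type :=
  {L : Submodule ℂ (Fin 2 → ℂ) // finrank ℂ L = 1 ∧
    ∃ g : G, g ∉ Subgroup.center G ∧ L.map (ρ g) = L}

variable {ρ}

theorem map_rep_one (L : Submodule ℂ (Fin 2 → ℂ)) : L.map (ρ 1) = L := by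
  rw [map_one]; exact Submodule.map_id L

theorem map_rep_mul (a b : G) (L : Submodule ℂ (Fin 2 → ℂ)) :
    L.map (ρ (a * b)) = (L.map (ρ b)).map (ρ a) := by
  rw [map_mul, Module.End.mul_eq_comp, Submodule.map_comp]

theorem rep_injective_lin (g : G) : Function.Injective (ρ g) := by
  intro v w h
  have := congrArg (ρ g⁻¹) h
  rwa [← Module.End.mul_apply, ← Module.End.mul_apply, ← map_mul, inv_mul_cancel, map_one] at this

theorem finrank_map_rep (g : G) (L : Submodule ℂ (Fin 2 → ℂ)) :
    finrank ℂ (L.map (ρ g)) = finrank ℂ L :=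
  (LinearEquiv.finrank_eq (Submodule.equivMapOfInjective _ (rep_injective_lin g) L)).symm

theorem conj_not_center {g : G} (a : G) (h : g ∉ Subgroup.center G) :
    a * g * a⁻¹ ∉ Subgroup.center G := fun hc => h (by
  have := Subgroup.mem_center_iff.mp hc a
  have e : a * g * a⁻¹ = g := by
    calc a * g * a⁻¹ = a⁻¹ * (a * (a * g * a⁻¹)) := by group
      _ = a⁻¹ * ((a * g * a⁻¹) * a) := by rw [this]
      _ = g := by group
  rwa [e] at hc)

noncomputable instance poleSMul : SMul G (Pole ρ) :=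
  ⟨fun a L => ⟨L.1.map (ρ a), (finrank_map_rep a L.1).trans L.2.1, by
    obtain ⟨g, hg, hgL⟩ := L.2.2
    refine ⟨a * g * a⁻¹, conj_not_center a hg, ?_⟩
    rw [← map_rep_mul, inv_mul_cancel_right, map_rep_mul, hgL]⟩⟩

noncomputable instance poleAction : MulAction G (Pole ρ) where
  one_smul L := Subtype.ext (map_rep_one L.1)
  mul_smul a b L := Subtype.ext (map_rep_mul a b L.1)

theorem center_scalar (hirr : ρ.IsIrreducible) {z : G} (hz : z ∈ Subgroup.center G) :
    ∃ c : ℂ, ∀ v, ρ z v = c • v := by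
  obtain ⟨hne, hW⟩ := (isIrreducible_iff ρ).mp hirr
  obtain ⟨c, hc⟩ := Module.End.exists_eigenvalue (ρ z)
  refine ⟨c, ?_⟩
  have hinv : ∀ g, ∀ v ∈ Module.End.eigenspace (ρ z) c, ρ g v ∈ Module.End.eigenspace (ρ z) c := by
    intro g v hv
    rw [Module.End.mem_eigenspace_iff] at hv ⊢
    rw [← Module.End.mul_apply, ← map_mul, ← Subgroup.mem_center_iff.mp hz g, map_mul,
      Module.End.mul_apply, hv, map_smul]
  rcases hW _ hinv with h | h
  · exact absurd h hc
  · intro v
    exact Module.End.mem_eigenspace_iff.mp (h ▸ Submodule.mem_top)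

theorem center_map (hirr : ρ.IsIrreducible) {z : G} (hz : z ∈ Subgroup.center G)
    (L : Submodule ℂ (Fin 2 → ℂ)) : L.map (ρ z) = L := by
  obtain ⟨c, hc⟩ := center_scalar hirr hz
  refine Submodule.eq_of_le_of_finrank_eq ?_ (finrank_map_rep z L)
  rintro _ ⟨v, hv, rfl⟩
  rw [hc]
  exact L.smul_mem c hv

/-- A non-central element of a faithful group fixes exactly two lines. -/
theorem two_fixed (hfaith : ∀ g, ρ g = 1 → g = 1) {g : G} (hg : g ∉ Subgroup.center G) :
    ∃ L₀ L₁ : Submodule ℂ (Fin 2 → ℂ), L₀ ≠ L₁ ∧ finrank ℂ L₀ = 1 ∧ finrank ℂ L₁ = 1 ∧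
      L₀.map (ρ g) = L₀ ∧ L₁.map (ρ g) = L₁ ∧
      ∀ L : Submodule ℂ (Fin 2 → ℂ), finrank ℂ L = 1 → L.map (ρ g) = L → L = L₀ ∨ L = L₁ := by
  classical
  obtain ⟨b₀, ω₀, hb₀, hω₀⟩ := exists_eigenbasis (ρ g) (m := orderOf g) (orderOf_pos g)
    (by rw [← map_pow, pow_orderOf_eq_one, map_one])
  have hd : finrank ℂ (Fin 2 → ℂ) = 2 := by simp
  set b := b₀.reindex (finCongr hd)
  obtain ⟨ω, hω⟩ : ∃ ω : Fin 2 → ℂ, ∀ i, ρ g (b i) = ω i • b i :=
    ⟨fun i => ω₀ ((finCongr hd).symm i), fun i => by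
      simp only [b, Basis.reindex_apply]; exact hb₀ _⟩
  have hne : ω 0 ≠ ω 1 := by
    intro e
    refine hg (Subgroup.mem_center_iff.mpr fun x => ?_)
    have hsc : ρ g = ω 0 • (1 : Module.End ℂ (Fin 2 → ℂ)) := b.ext fun i => by
      rw [hω]; fin_cases i <;> simp [e]
    have h1 : ρ ((x * g) * (g * x)⁻¹) = 1 := by
      have hcomm : ρ x * ρ g = ρ g * ρ x := by
        rw [hsc, mul_smul_comm, smul_mul_assoc, mul_one, one_mul]
      rw [map_mul, map_mul, hcomm, ← map_mul, ← map_mul, mul_inv_cancel, map_one]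
    exact mul_inv_eq_one.mp (hfaith _ h1)
  have hfix : ∀ i : Fin 2, (ℂ ∙ b i).map (ρ g) = ℂ ∙ b i := fun i => by
    refine Submodule.eq_of_le_of_finrank_eq ?_ (finrank_map_rep g _)
    rw [Submodule.map_span, Set.image_singleton, Submodule.span_singleton_le_iff_mem, hω]
    exact Submodule.smul_mem _ _ (Submodule.mem_span_singleton_self _)
  refine ⟨ℂ ∙ b 0, ℂ ∙ b 1, ?_, finrank_span_singleton (b.ne_zero 0), finrank_span_singleton (b.ne_zero 1),
    hfix 0, hfix 1, fun L hL hgL => ?_⟩
  · intro e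
    have h0 : b 0 ∈ (ℂ ∙ b 1) := e ▸ Submodule.mem_span_singleton_self _
    obtain ⟨c, hc⟩ := Submodule.mem_span_singleton.mp h0
    have := congrArg (fun v => b.repr v 0) hc
    simp at this
  · obtain ⟨v, hvL, hv0, hspan⟩ : ∃ v ∈ L, v ≠ 0 ∧ ∀ w ∈ L, ∃ c : ℂ, c • v = w := by
      obtain ⟨⟨v, hv⟩, hv0, hsp⟩ := finrank_eq_one_iff'.mp hL
      exact ⟨v, hv, fun e => hv0 (Subtype.ext e), fun w hw => by
        obtain ⟨c, hc⟩ := hsp ⟨w, hw⟩
        exact ⟨c, congrArg Subtype.val hc⟩⟩
    obtain ⟨c, hc⟩ := hspan (ρ g v) (hgL.le ⟨v, hvL, rfl⟩)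
    have hrepr : ∀ i, (c - ω i) * b.repr v i = 0 := by
      intro i
      have e : ρ g v = ∑ j, (b.repr v j * ω j) • b j := by
        conv_lhs => rw [← b.sum_repr v]
        rw [map_sum]
        exact Finset.sum_congr rfl fun j _ => by rw [map_smul, hω, smul_smul]
      have h1 := congrArg (fun w => b.repr w i) (hc.trans e)
      simp only [map_smul, Finsupp.smul_apply, smul_eq_mul, b.repr_sum_self] at h1
      linear_combination h1
    by_cases h0 : b.repr v 0 = 0
    · refine Or.inr (Submodule.eq_of_le_of_finrank_eq (fun w hw => ?_) ?_)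
      · obtain ⟨d, rfl⟩ := hspan w hw
        refine Submodule.smul_mem _ _ (Submodule.mem_span_singleton.mpr ⟨b.repr v 1, ?_⟩)
        conv_rhs => rw [← b.sum_repr v, Fin.sum_univ_two, h0, zero_smul, zero_add]
      · rw [hL, finrank_span_singleton (b.ne_zero 1)]
    · refine Or.inl (Submodule.eq_of_le_of_finrank_eq (fun w hw => ?_) ?_)
      · obtain ⟨d, rfl⟩ := hspan w hw
        have hc0 : c = ω 0 := sub_eq_zero.mp ((mul_eq_zero.mp (hrepr 0)).resolve_right h0)
        have h1 : b.repr v 1 = 0 :=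
          (mul_eq_zero.mp (hrepr 1)).resolve_left (sub_ne_zero.mpr (hc0 ▸ hne))
        refine Submodule.smul_mem _ _ (Submodule.mem_span_singleton.mpr ⟨b.repr v 0, ?_⟩)
        conv_rhs => rw [← b.sum_repr v, Fin.sum_univ_two, h1, zero_smul, add_zero]
      · rw [hL, finrank_span_singleton (b.ne_zero 0)]

theorem no_invariant_line (hirr : ρ.IsIrreducible) {L : Submodule ℂ (Fin 2 → ℂ)}
    (hL : finrank ℂ L = 1) : ∃ g : G, L.map (ρ g) ≠ L := by
  by_contra h
  push Not at h
  obtain ⟨-, hW⟩ := (isIrreducible_iff ρ).mp hirr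
  rcases hW L (fun g v hv => (h g).le ⟨v, hv, rfl⟩) with e | e
  · rw [e, finrank_bot] at hL; omega
  · rw [e, finrank_top] at hL; simp at hL

/-- A pair of lines permuted by the group gives an induction. -/
theorem induced_of_pair (hirr : ρ.IsIrreducible) {L L' : Submodule ℂ (Fin 2 → ℂ)}
    (hL : finrank ℂ L = 1) (hL' : finrank ℂ L' = 1) (hne : L ≠ L')
    (H : Subgroup G) (hH : ∀ g, g ∈ H ↔ L.map (ρ g) = L) (hH2 : H.index = 2)
    (hH' : ∀ g ∈ H, L'.map (ρ g) = L') :
    ∃ θ : H → ℂ, IsCharacter H θ ∧ ρ.character = indFun H θ := by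
  classical
  have hinf : L ⊓ L' = ⊥ := by
    by_contra h
    have h1 : 1 ≤ finrank ℂ ↥(L ⊓ L') := Submodule.one_le_finrank_iff.mpr h
    exact hne ((Submodule.eq_of_le_of_finrank_le inf_le_left (by omega)).symm.trans
      (Submodule.eq_of_le_of_finrank_le inf_le_right (by omega)))
  have hcompl : IsCompl L L' := by
    refine IsCompl.of_eq hinf (Submodule.eq_top_of_finrank_eq ?_)
    have h := Submodule.finrank_sup_add_finrank_inf_eq L L'
    rw [hinf, finrank_bot, hL, hL'] at h
    simpa using h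
  let ρH : Representation ℂ H (Fin 2 → ℂ) := ρ.comp H.subtype
  have hWL : ∀ g : H, ∀ v ∈ L, ρH g v ∈ L := fun g v hv => ((hH g).mp g.2).le ⟨v, hv, rfl⟩
  have hWL' : ∀ g : H, ∀ v ∈ L', ρH g v ∈ L' := fun g v hv => (hH' g g.2).le ⟨v, hv, rfl⟩
  obtain ⟨θ, hθdef⟩ : ∃ θ, θ = (restrictSub ρH L hWL).character := ⟨_, rfl⟩
  obtain ⟨θ', hθ'def⟩ : ∃ θ, θ = (restrictSub ρH L' hWL').character := ⟨_, rfl⟩
  have hθ : IsCharacter H θ := hθdef ▸ isCharacter_character _
  have hθ' : IsCharacter H θ' := hθ'def ▸ isCharacter_character _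
  have hsum : (fun g : H => ρ.character (g : G)) = θ + θ' := by
    rw [hθdef, hθ'def]
    exact char_isCompl ρH hcompl hWL hWL'
  refine ⟨θ, hθ, ?_⟩
  haveI := Fintype.ofFinite H
  have hχ : IsIrrCharacter G ρ.character := ⟨2, ρ, hirr, rfl⟩
  have hind := isCharacter_indFun H hθ
  have hθ1 : θ 1 = 1 := by rw [hθdef, Representation.char_one, hL]; simp
  obtain ⟨m, hm⟩ := classInner_character_nat (isCharacter_indFun H hθ) (isCharacter_of_isIrr hχ)
  have hm1 : 1 ≤ m := by
    have h1 := frobenius_reciprocity H θ (isClassFunction_of_isIrr hχ)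
    rw [hm, hsum, classInner_add_right] at h1
    obtain ⟨a, ha⟩ := classInner_character_nat hθ hθ
    obtain ⟨b, hb⟩ := classInner_character_nat hθ hθ'
    rw [ha, hb] at h1
    have ha0 : a ≠ 0 := by
      rintro rfl
      have := classInner_self_eq_zero (φ := θ) (by simpa using ha)
      rw [this] at hθ1
      simp at hθ1
    have : m = a + b := by exact_mod_cast h1
    omega
  have hdeg : indFun H θ (1 : G) = 2 := by rw [indFun_one_eval, hθ1, hH2]; norm_num
  have hexp := character_eq_sum hind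
  funext g
  have hχ1 : ρ.character (1 : G) = 2 := by rw [Representation.char_one]; simp
  set χ₀ : IrrCharacter G := ⟨ρ.character, hχ⟩
  have hnat : ∀ ψ : IrrCharacter G, ∃ k : ℕ, classInner (indFun H θ) ψ = k :=
    fun ψ => classInner_character_nat hind (isCharacter_of_isIrr ψ.2)
  choose k hk using hnat
  have hexp' : indFun H θ = ∑ ψ : IrrCharacter G, (k ψ : ℂ) • (ψ : G → ℂ) := by
    conv_lhs => rw [classFunction_eq_sum (isClassFunction_indFun H θ)]
    simp only [hk]
  have hk0 : k χ₀ = m := by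
    have : (k χ₀ : ℂ) = m := (hk χ₀).symm.trans hm
    exact_mod_cast this
  have h2 : ∑ ψ : IrrCharacter G, k ψ * deg (ψ : G → ℂ) = 2 := by
    have h := congrFun hexp' 1
    rw [hdeg] at h
    simp only [Finset.sum_apply, Pi.smul_apply, smul_eq_mul,
      deg_eq (isCharacter_of_isIrr (Subtype.prop _))] at h
    exact_mod_cast h.symm
  have hd0 : deg (χ₀ : G → ℂ) = 2 := by
    have := deg_eq (isCharacter_of_isIrr hχ)
    rw [hχ1] at this
    exact_mod_cast this.symm
  rw [← Finset.add_sum_erase _ _ (Finset.mem_univ χ₀), hk0, hd0] at h2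
  have hm1' : m = 1 := by nlinarith [Nat.zero_le (∑ x ∈ Finset.univ.erase χ₀, k x * deg (x : G → ℂ))]
  have hrest : ∑ x ∈ Finset.univ.erase χ₀, k x * deg (x : G → ℂ) = 0 := by omega
  rw [hexp', ← Finset.add_sum_erase _ _ (Finset.mem_univ χ₀), hk0, hm1', Finset.sum_eq_zero]
  · simp [χ₀]
  · intro ψ hψ
    have h := (Finset.sum_eq_zero_iff.mp hrest) ψ hψ
    rcases mul_eq_zero.mp h with h | h
    · simp [h]
    · exact absurd h (deg_pos ψ.2).ne'

theorem index_center (hirr : ρ.IsIrreducible) (hfaith : ∀ g, ρ g = 1 → g = 1)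
    (hprim : ∀ H : Subgroup G, H ≠ ⊤ → ∀ θ : H → ℂ, IsCharacter H θ → ρ.character ≠ indFun H θ) :
    (Subgroup.center G).index = 12 ∨ (Subgroup.center G).index = 24 ∨
      (Subgroup.center G).index = 60 := by
  classical
  set Z := Subgroup.center G with hZdef
  set n := Z.index with hn
  have two : ∀ g : {g : G // g ∉ Z}, ∃ P Q : Pole ρ, P ≠ Q ∧
      ∀ R : Pole ρ, (g : G) • R = R ↔ R = P ∨ R = Q := by
    rintro ⟨g, hg⟩
    obtain ⟨L₀, L₁, hne, h0, h1, hf0, hf1, hall⟩ := two_fixed hfaith hg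
    refine ⟨⟨L₀, h0, g, hg, hf0⟩, ⟨L₁, h1, g, hg, hf1⟩, fun e => hne (congrArg Subtype.val e),
      fun R => ⟨fun h => ?_, ?_⟩⟩
    · rcases hall R.1 R.2.1 (congrArg Subtype.val h) with e | e
      · exact Or.inl (Subtype.ext e)
      · exact Or.inr (Subtype.ext e)
    · rintro (rfl | rfl)
      · exact Subtype.ext hf0
      · exact Subtype.ext hf1
  haveI : Finite (Pole ρ) := by
    have hpick : ∀ g : {g : G // g ∉ Z}, ∃ f : Bool → Pole ρ,
        ∀ R : Pole ρ, (g : G) • R = R → R ∈ Set.range f := fun g => by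
      obtain ⟨P, Q, -, h⟩ := two g
      exact ⟨fun b => if b then P else Q, fun R hR => ((h R).mp hR).elim
        (fun e => ⟨true, e.symm⟩) (fun e => ⟨false, e.symm⟩)⟩
    choose f hf using hpick
    refine Finite.of_surjective (fun x : {g : G // g ∉ Z} × Bool => f x.1 x.2) ?_
    intro R
    obtain ⟨g, hg, hgR⟩ := R.2.2
    obtain ⟨b, hb⟩ := hf ⟨g, hg⟩ R (Subtype.ext hgR)
    exact ⟨(⟨g, hg⟩, b), hb⟩
  haveI := Fintype.ofFinite (Pole ρ)
  have hZstab : ∀ R : Pole ρ, Z ≤ MulAction.stabilizer G R := fun R z hz =>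
    Subtype.ext (center_map hirr hz R.1)
  set e : Pole ρ → ℕ := fun R => Z.relIndex (MulAction.stabilizer G R) with he
  have hcard : ∀ R : Pole ρ, e R * Nat.card Z = Nat.card (MulAction.stabilizer G R) := fun R => by
    simp only [he, Subgroup.relIndex]
    rw [← Nat.card_congr (Subgroup.subgroupOfEquivOfLe (hZstab R)).toEquiv]
    exact Subgroup.index_mul_card _
  have hZ0 : 0 < Nat.card Z := Nat.card_pos
  have hGn : n * Nat.card Z = Nat.card G := Z.index_mul_card
  have horb : ∀ R : Pole ρ, Nat.card (MulAction.orbit G R) * e R = n := fun R => by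
    refine Nat.eq_of_mul_eq_mul_right hZ0 ?_
    rw [mul_assoc, hcard, hGn, Nat.card_eq_fintype_card, Nat.card_eq_fintype_card,
      Nat.card_eq_fintype_card]
    exact MulAction.card_orbit_mul_card_stabilizer_eq_card_group G R
  have he2 : ∀ R : Pole ρ, 2 ≤ e R := by
    intro R
    obtain ⟨g, hg, hgR⟩ := R.2.2
    by_contra h
    have hle : Nat.card (MulAction.stabilizer G R) ≤ Nat.card Z := by
      rw [← hcard]; nlinarith
    exact hg (le_of_eq (Subgroup.eq_of_le_of_card_ge (hZstab R) hle).symm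
      (Subtype.ext hgR : g • R = R))
  have hs3 : ∀ R : Pole ρ, 3 ≤ Nat.card (MulAction.orbit G R) := by
    intro R
    by_contra h
    push Not at h
    obtain ⟨a, ha⟩ := no_invariant_line hirr R.2.1
    have hne : a • R ≠ R := fun e => ha (congrArg Subtype.val e)
    have hidx : (MulAction.stabilizer G R).index = Nat.card (MulAction.orbit G R) := by
      rw [MulAction.index_stabilizer]; rfl
    have hcase : ∀ x : G, x • R = R ∨ x • R = a • R := by
      intro x
      by_contra hc
      push Not at hc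
      have hinj : Function.Injective (![⟨R, MulAction.mem_orbit_self R⟩,
          ⟨a • R, MulAction.mem_orbit R a⟩, ⟨x • R, MulAction.mem_orbit R x⟩] :
          Fin 3 → MulAction.orbit G R) := by
        intro i j hij
        have hij' := congrArg Subtype.val hij
        fin_cases i <;> fin_cases j <;> simp at hij' <;>
          first
          | rfl
          | exact absurd hij' hne | exact absurd hij'.symm hne
          | exact absurd hij' hc.1 | exact absurd hij'.symm hc.1
          | exact absurd hij' hc.2 | exact absurd hij'.symm hc.2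
      have := Nat.card_le_card_of_injective _ hinj
      rw [Nat.card_fin] at this
      omega
    have h2 : Nat.card (MulAction.orbit G R) = 2 := by
      have hinj : Function.Injective (![⟨R, MulAction.mem_orbit_self R⟩,
          ⟨a • R, MulAction.mem_orbit R a⟩] : Fin 2 → MulAction.orbit G R) := by
        intro i j hij
        have hij' := congrArg Subtype.val hij
        fin_cases i <;> fin_cases j <;> simp at hij' <;>
          first | rfl | exact absurd hij' hne | exact absurd hij'.symm hne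
      have := Nat.card_le_card_of_injective _ hinj
      rw [Nat.card_fin] at this
      omega
    obtain ⟨θ, hθ, hχ⟩ := induced_of_pair hirr R.2.1 (a • R).2.1
      (fun e => hne (Subtype.ext e).symm) (MulAction.stabilizer G R)
      (fun g => ⟨fun hg => congrArg Subtype.val hg, fun hg => Subtype.ext hg⟩) (hidx.trans h2)
      (fun g hg => by
        refine congrArg Subtype.val (show g • (a • R) = a • R from ?_)
        rcases hcase (g * a) with e | e
        · exfalso
          refine hne ((MulAction.injective g) ?_)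
          show g • a • R = g • R
          rw [← mul_smul, e]
          exact (MulAction.mem_stabilizer_iff.mp hg).symm
        · rwa [← mul_smul])
    exact hprim _ (fun e => by rw [e, Subgroup.index_top] at hidx; omega) θ hθ hχ
  -- double counting
  have hsum : ∑ R : Pole ρ, (e R - 1) = 2 * (n - 1) := by
    refine Nat.eq_of_mul_eq_mul_right hZ0 ?_
    have h1 : ∀ R : Pole ρ, (e R - 1) * Nat.card Z =
        Nat.card {g : {g : G // g ∉ Z} // (g : G) • R = R} := by
      intro R
      have e1 : MulAction.stabilizer G R ≃ Z ⊕ {g : {g : G // g ∉ Z} // (g : G) • R = R} :=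
        { toFun := fun x => if h : (x : G) ∈ Z then Sum.inl ⟨x, h⟩ else Sum.inr ⟨⟨x, h⟩, x.2⟩
          invFun := fun y => y.elim (fun z : Z => ⟨(z : G), hZstab R z.2⟩)
            (fun g : {g : {g : G // g ∉ Z} // (g : G) • R = R} => ⟨(g.1 : G), g.2⟩)
          left_inv := fun x => by by_cases h : (x : G) ∈ Z <;> simp [h]
          right_inv := fun y => by
            rcases y with z | g
            · simp [z.2]
            · simp [g.1.2] }
      rw [Nat.sub_mul, one_mul, hcard, Nat.card_congr e1, Nat.card_sum]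
      omega
    rw [Finset.sum_mul, Finset.sum_congr rfl fun R _ => h1 R, mul_assoc, Nat.sub_mul, one_mul, hGn,
      ← Nat.card_sigma]
    have e2 : (Σ R : Pole ρ, {g : {g : G // g ∉ Z} // (g : G) • R = R}) ≃
        Σ g : {g : G // g ∉ Z}, {R : Pole ρ // (g : G) • R = R} :=
      { toFun := fun p => ⟨p.2.1, p.1, p.2.2⟩
        invFun := fun p => ⟨p.2.1, p.1, p.2.2⟩
        left_inv := fun p => rfl
        right_inv := fun p => rfl }
    rw [Nat.card_congr e2, Nat.card_sigma]
    have h2 : ∀ g : {g : G // g ∉ Z}, Nat.card {R : Pole ρ // (g : G) • R = R} = 2 := by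
      intro g
      obtain ⟨P, Q, hPQ, h⟩ := two g
      rw [Nat.card_eq_fintype_card, Fintype.card_subtype,
        show (Finset.univ.filter fun R : Pole ρ => (g : G) • R = R) = {P, Q} by
          ext R; simp [h R],
        Finset.card_pair hPQ]
    rw [Finset.sum_congr rfl fun g _ => h2 g, Finset.sum_const, Finset.card_univ, smul_eq_mul,
      Fintype.card_subtype_compl, ← Nat.card_eq_fintype_card, ← Nat.card_eq_fintype_card,
      mul_comm]
  -- orbit decomposition
  let Ω := MulAction.orbitRel.Quotient G (Pole ρ)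
  haveI : Fintype Ω := Fintype.ofFinite _
  set E : Ω → ℕ := fun ω => e ω.out
  set S : Ω → ℕ := fun ω => Nat.card (MulAction.orbit G ω.out)
  have hES : ∀ ω, S ω * E ω = n := fun ω => horb ω.out
  have hsum2 : ∑ ω : Ω, (n - S ω) = 2 * (n - 1) := by
    rw [← hsum, ← Equiv.sum_comp (MulAction.selfEquivSigmaOrbits G (Pole ρ)).symm
      (fun R => e R - 1), Fintype.sum_sigma]
    refine Finset.sum_congr rfl fun ω _ => ?_
    have hval : ∀ x : MulAction.orbit G ω.out,
        e ((MulAction.selfEquivSigmaOrbits G (Pole ρ)).symm ⟨ω, x⟩) - 1 = E ω - 1 := by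
      intro x
      have hx : (MulAction.selfEquivSigmaOrbits G (Pole ρ)).symm ⟨ω, x⟩ = x.1 := rfl
      rw [hx]
      have h1 := horb x.1
      have h2 : MulAction.orbit G x.1 = MulAction.orbit G ω.out := MulAction.orbit_eq_iff.mpr x.2
      rw [h2, ← horb ω.out] at h1
      have h3 : 0 < Nat.card (MulAction.orbit G ω.out) := by have := hs3 ω.out; omega
      rw [Nat.eq_of_mul_eq_mul_left h3 h1]
    rw [Finset.sum_congr rfl fun x _ => hval x, Finset.sum_const, Finset.card_univ, smul_eq_mul,
      ← Nat.card_eq_fintype_card, Nat.mul_sub_one]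
    show n - S ω = S ω * E ω - S ω
    rw [hES]
  have hn0 : 0 < n := Nat.pos_of_ne_zero Subgroup.index_ne_zero_of_finite
  have hhalf : ∀ ω, 2 * S ω ≤ n := fun ω => by
    calc 2 * S ω ≤ E ω * S ω := Nat.mul_le_mul_right _ (he2 _)
      _ = n := by rw [mul_comm, hES]
  -- the group is not abelian
  have hn1 : n ≠ 1 := by
    intro h1
    rw [hn, Subgroup.index_eq_one] at h1
    have hχ : IsIrrCharacter G ρ.character := ⟨2, ρ, hirr, rfl⟩
    have h := irr_degree_one_of_comm (fun a b => Subgroup.mem_center_iff.mp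
      (show b ∈ Z from h1.symm ▸ Subgroup.mem_top b) a) hχ
    rw [Representation.char_one] at h
    simp at h
  have hk : Fintype.card Ω = 3 := by
    have h1 : ∑ ω : Ω, n ≤ 2 * ∑ ω : Ω, (n - S ω) := by
      rw [Finset.mul_sum]
      exact Finset.sum_le_sum fun ω _ => by have := hhalf ω; omega
    rw [hsum2, Finset.sum_const, Finset.card_univ, smul_eq_mul] at h1
    have h4 : Fintype.card Ω < 4 := Nat.lt_of_mul_lt_mul_right (a := n) (by omega)
    have h5 : ∑ ω : Ω, (n - S ω + 3) ≤ ∑ ω : Ω, n :=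
      Finset.sum_le_sum fun ω _ => by
        have := hhalf ω
        have : 3 ≤ S ω := hs3 ω.out
        omega
    rw [Finset.sum_add_distrib, hsum2, Finset.sum_const, Finset.sum_const, Finset.card_univ,
      smul_eq_mul, smul_eq_mul] at h5
    interval_cases Fintype.card Ω <;> omega
  let σ : Fin 3 ≃ Ω := (Fintype.equivFinOfCardEq hk).symm
  refine klein_arith (fun i => E (σ i)) (fun i => S (σ i)) (fun i => he2 _) (fun i => hES _) hn0 ?_
    (fun i => hs3 _)
  rw [← Equiv.sum_comp σ, Fin.sum_univ_three] at hsum2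
  have := hhalf (σ 0); have := hhalf (σ 1); have := hhalf (σ 2)
  omega

end Lines

end Cfsg.Agent.CT
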