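import Cfsg.Agent.Lib.CT.Tables
import Mathlib.GroupTheory.CommutingProbability

/-!
# Characters of Frobenius groups
-/

namespace Cfsg.Agent.CT

open scoped ComplexConjugate

universe u

variable {G : Type u} [Group G] (K H : Subgroup G) [hK : K.Normal]

theorem exists_kh (hKH' : K ⊔ H = ⊤) (g : G) : ∃ k ∈ K, ∃ h ∈ H, g = k * h := by
  obtain ⟨k, hk, h, hh, e⟩ :=
    Subgroup.mem_sup_of_normal_left.mp (show g ∈ K ⊔ H by rw [hKH']; trivial)
  exact ⟨k, hk, h, hh, e.symm⟩

include hK in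
/-- Every element of the coset `K h` is a conjugate of `h`. -/
theorem exists_conj_of_fpf [Finite G]
    (hfpf : ∀ h ∈ H, h ≠ 1 → ∀ k ∈ K, h * k = k * h → k = 1) {h : G} (hh : h ∈ H) (h1 : h ≠ 1)
    {k : G} (hk : k ∈ K) : ∃ y ∈ K, y * h * y⁻¹ = k * h := by
  let φ : K → K := fun y => ⟨(y : G) * (h * (y : G)⁻¹ * h⁻¹),
    K.mul_mem y.2 (hK.conj_mem _ (K.inv_mem y.2) h)⟩
  have hinj : Function.Injective φ := by
    intro a b e
    have e' : (a : G) * (h * (a : G)⁻¹ * h⁻¹) = b * (h * (b : G)⁻¹ * h⁻¹) := congrArg Subtype.val e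
    have e2 : (b : G)⁻¹ * a * h = h * ((b : G)⁻¹ * a) := by
      calc (b : G)⁻¹ * a * h = (b : G)⁻¹ * ((a : G) * (h * (a : G)⁻¹ * h⁻¹)) * (h * a) := by group
        _ = (b : G)⁻¹ * (b * (h * (b : G)⁻¹ * h⁻¹)) * (h * a) := by rw [e']
        _ = h * ((b : G)⁻¹ * a) := by group
    exact Subtype.ext
      (inv_mul_eq_one.mp (hfpf h hh h1 _ (K.mul_mem (K.inv_mem b.2) a.2) e2.symm)).symm
  obtain ⟨y, hy⟩ := Finite.injective_iff_surjective.mp hinj ⟨k, hk⟩
  refine ⟨y, y.2, ?_⟩
  have h2 : (y : G) * (h * (y : G)⁻¹ * h⁻¹) = k := congrArg Subtype.val hy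
  rw [← h2]; group

variable [Fintype G]

theorem inertia_eq_of_fpf (hKH' : K ⊔ H = ⊤)
    (hfpf : ∀ h ∈ H, h ≠ 1 → ∀ k ∈ K, h * k = k * h → k = 1) {τ : K → ℂ}
    (hτ : IsIrrCharacter K τ) (hτ1 : τ ≠ fun _ => 1) : inertia K τ = K := by
  classical
  refine le_antisymm (fun g hg => ?_) (le_inertia K (isClassFunction_of_isIrr hτ))
  obtain ⟨k, hk, h, hh, rfl⟩ := exists_kh K H hKH' g
  by_contra hne
  have h1 : h ≠ 1 := fun e => hne (by rw [e, mul_one]; exact hk)
  have hfix : conjFun K h τ = τ := by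
    have e : conjFun K h (conjFun K k τ) = τ := by rw [← conjFun_mul]; exact hg
    rwa [conjFun_of_mem K (isClassFunction_of_isIrr hτ) hk] at e
  let α : K ≃* K := MulAut.conjNormal h
  have hσinj : Function.Injective fun χ : IrrCharacter K =>
      (⟨fun x => (χ : K → ℂ) (α.symm x),
        isIrrCharacter_comp α.symm.toMonoidHom α.symm.surjective χ.2⟩ : IrrCharacter K) := by
    intro a b e
    apply Subtype.ext
    funext x
    have := congrFun (congrArg Subtype.val e) (α x)
    simpa using this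
  haveI := Fintype.ofFinite K
  let σ : IrrCharacter K ≃ IrrCharacter K :=
    Equiv.ofBijective _ (Finite.injective_iff_bijective.mp hσinj)
  have hperm := brauer_permutation σ (ConjClasses.map α.toMonoidHom) fun χ x x' e => by
    show (χ : K → ℂ) (α.symm x') = (χ : K → ℂ) x
    rw [show ConjClasses.map α.toMonoidHom (ConjClasses.mk x) = ConjClasses.mk (α x) from rfl] at e
    obtain ⟨c, hc⟩ := isConj_iff.mp (ConjClasses.mk_eq_mk_iff_isConj.mp e)
    refine (isClassFunction_isConj (isClassFunction_of_isIrr χ.2) ?_)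
    refine isConj_iff.mpr ⟨α.symm c, ?_⟩
    apply α.injective
    simp [← hc]
  have hone : Nat.card {C : ConjClasses K // ConjClasses.map α.toMonoidHom C = C} ≤ 1 := by
    haveI : Finite (ConjClasses K) := Finite.of_surjective _ ConjClasses.mk_surjective
    rw [Finite.card_le_one_iff_subsingleton]
    suffices ∀ C : ConjClasses K, ConjClasses.map α.toMonoidHom C = C → C = ConjClasses.mk 1 from
      ⟨fun a b => Subtype.ext ((this a.1 a.2).trans (this b.1 b.2).symm)⟩
    intro C hC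
    obtain ⟨x, rfl⟩ := ConjClasses.mk_surjective C
    rw [show ConjClasses.map α.toMonoidHom (ConjClasses.mk x) = ConjClasses.mk (α x) from rfl] at hC
    obtain ⟨c, hc⟩ := isConj_iff.mp (ConjClasses.mk_eq_mk_iff_isConj.mp hC)
    have hc' : (c : G) * (h * x * h⁻¹) * (c : G)⁻¹ = x := by
      simpa [α] using congrArg Subtype.val hc
    obtain ⟨y, hy, hyh⟩ := exists_conj_of_fpf K H hfpf hh h1 c.2
    have hcx : (c : G) * h * x = x * ((c : G) * h) := by
      conv_rhs => rw [← hc']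
      group
    rw [← hyh] at hcx
    have h3 : h * (y⁻¹ * x * y) = y⁻¹ * x * y * h := by
      calc h * (y⁻¹ * x * y) = y⁻¹ * (y * h * y⁻¹ * x) * y := by group
        _ = y⁻¹ * (x * (y * h * y⁻¹)) * y := by rw [hcx]
        _ = y⁻¹ * x * y * h := by group
    have h4 := hfpf h hh h1 _ (by simpa using hK.conj_mem (x : G) x.2 y⁻¹) h3
    have h5 : (x : G) = 1 := by
      calc (x : G) = y * (y⁻¹ * x * y) * y⁻¹ := by group
        _ = 1 := by rw [h4]; group
    exact congrArg ConjClasses.mk (Subtype.ext h5)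
  rw [← hperm, Finite.card_le_one_iff_subsingleton] at hone
  have ht : σ (⟨τ, hτ⟩ : IrrCharacter K) = ⟨τ, hτ⟩ := by
    apply Subtype.ext
    funext x
    show τ (α.symm x) = τ x
    have h' := congrFun hfix (α.symm x)
    rw [conjFun_eq_comp] at h'
    rw [← h']
    simp [α]
  have htr : σ (trivIrr K) = trivIrr K := Subtype.ext (funext fun x => rfl)
  have := congrArg Subtype.val (@Subsingleton.elim _ hone ⟨_, ht⟩ ⟨_, htr⟩)
  exact hτ1 (congrArg Subtype.val this)

theorem card_mul_inner_indFun (N : Subgroup G) [hN : N.Normal] {θ : N → ℂ}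
    (hθ : IsIrrCharacter N θ) :
    (Nat.card N : ℂ) * classInner (indFun N θ) (indFun N θ) = Nat.card (inertia N θ) := by
  classical
  haveI := Fintype.ofFinite N
  rw [frobenius_reciprocity N θ (isClassFunction_indFun N θ), restrict_indFun, classInner_smul_right,
    classInner_sum_right, map_inv₀, map_natCast, ← mul_assoc,
    mul_inv_cancel₀ (Nat.cast_ne_zero.mpr Nat.card_pos.ne'), one_mul,
    Finset.sum_congr rfl fun g _ => irr_inner hθ (isIrrCharacter_conjFun N g hθ),
    Finset.sum_boole, Nat.card_eq_fintype_card, Fintype.card_subtype]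
  congr 1
  refine congrArg Finset.card (Finset.filter_congr fun g _ => ?_)
  exact eq_comm

theorem isIrr_indFun_of_inertia (N : Subgroup G) [hN : N.Normal] {θ : N → ℂ}
    (hθ : IsIrrCharacter N θ) (h : inertia N θ = N) : IsIrrCharacter G (indFun N θ) := by
  refine isIrr_of_inner_self (isCharacter_indFun N (isCharacter_of_isIrr hθ)) ?_
  have h1 := card_mul_inner_indFun N hθ
  rw [h] at h1
  exact mul_left_cancel₀ (Nat.cast_ne_zero.mpr Nat.card_pos.ne') (h1.trans (mul_one _).symm)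

/-- Class number of a Frobenius group. -/
theorem frobenius_class_number (hKH : K ⊓ H = ⊥) (hKH' : K ⊔ H = ⊤)
    (hfpf : ∀ h ∈ H, h ≠ 1 → ∀ k ∈ K, h * k = k * h → k = 1) :
    Nat.card H * Nat.card (ConjClasses G) + 1 =
      Nat.card H * Nat.card (ConjClasses H) + Nat.card (ConjClasses K) := by
  classical
  have hsum : ∀ (X : Type u) [Group X] [Fintype X],
      ∑ x : X, Nat.card (Subgroup.centralizer ({x} : Set X)) =
        Nat.card (ConjClasses X) * Nat.card X := by
    intro X _ _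
    rw [← card_comm_eq_card_conjClasses_mul_card, ← Nat.card_sigma]
    exact Nat.card_congr
      { toFun := fun p => ⟨(p.1, (p.2 : X)),
          (Subgroup.mem_centralizer_singleton_iff.mp p.2.2).symm⟩
        invFun := fun p => ⟨p.1.1, ⟨p.1.2,
          Subgroup.mem_centralizer_singleton_iff.mpr p.2.symm⟩⟩
        left_inv := fun p => rfl
        right_inv := fun p => rfl }
  have hnotK : ∀ h ∈ H, h ≠ 1 → h ∉ K := fun h hh h1 hk =>
    h1 (Subgroup.mem_bot.mp (hKH ▸ ⟨hk, hh⟩))
  -- elements outside `K`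
  let X := K × {h : H // h ≠ 1}
  let Φ : X → {g : G // g ∉ K} := fun p => ⟨(p.1 : G) * ((p.2.1 : H) : G) * (p.1 : G)⁻¹, fun hk =>
    hnotK _ p.2.1.2 (fun e => p.2.2 (Subtype.ext e))
      (by simpa [mul_assoc] using hK.conj_mem _ hk (p.1 : G)⁻¹)⟩
  have hΦs : Function.Surjective Φ := by
    rintro ⟨g, hg⟩
    obtain ⟨k, hk, h, hh, rfl⟩ := exists_kh K H hKH' g
    have h1 : h ≠ 1 := fun e => hg (by rw [e, mul_one]; exact hk)
    obtain ⟨y, hy, hyh⟩ := exists_conj_of_fpf K H hfpf hh h1 hk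
    exact ⟨(⟨y, hy⟩, ⟨⟨h, hh⟩, fun e => h1 (congrArg Subtype.val e)⟩), Subtype.ext hyh⟩
  have hΦi : Function.Injective Φ := by
    rintro ⟨y, h, hh⟩ ⟨y', h', hh'⟩ e
    have e' : (y : G) * (h : G) * (y : G)⁻¹ = y' * (h' : G) * (y' : G)⁻¹ := congrArg Subtype.val e
    have hz : (h' : G) * (h : G)⁻¹ ∈ K := by
      have e2 : (h' : G) * (h : G)⁻¹ = ((y' : G)⁻¹ * y) *
          ((h : G) * ((y' : G)⁻¹ * y)⁻¹ * (h : G)⁻¹) := by
        calc (h' : G) * (h : G)⁻¹ = (y' : G)⁻¹ * (y' * (h' : G) * (y' : G)⁻¹) * y' * (h : G)⁻¹ := by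
              group
          _ = (y' : G)⁻¹ * (y * (h : G) * (y : G)⁻¹) * y' * (h : G)⁻¹ := by rw [e']
          _ = _ := by group
      rw [e2]
      exact K.mul_mem (K.mul_mem (K.inv_mem y'.2) y.2)
        (hK.conj_mem _ (K.inv_mem (K.mul_mem (K.inv_mem y'.2) y.2)) h)
    have hhh : (h' : G) = h :=
      mul_inv_eq_one.mp (Subgroup.mem_bot.mp (hKH ▸ ⟨hz, H.mul_mem h'.2 (H.inv_mem h.2)⟩))
    obtain rfl : h = h' := Subtype.ext hhh.symm
    have h2 : (h : G) * ((y' : G)⁻¹ * y) = (y' : G)⁻¹ * y * h := by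
      calc (h : G) * ((y' : G)⁻¹ * y) = (y' : G)⁻¹ * (y' * (h : G) * (y' : G)⁻¹) * y := by group
        _ = (y' : G)⁻¹ * (y * (h : G) * (y : G)⁻¹) * y := by rw [e']
        _ = (y' : G)⁻¹ * y * h := by group
    have h3 := hfpf h h.2 (fun e => hh (Subtype.ext e)) _ (K.mul_mem (K.inv_mem y'.2) y.2) h2
    exact Prod.ext (Subtype.ext (inv_mul_eq_one.mp h3).symm) rfl
  have hCh : ∀ h : H, h ≠ 1 → Nat.card (Subgroup.centralizer ({(h : G)} : Set G)) =
      Nat.card (Subgroup.centralizer ({h} : Set H)) := by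
    intro h h1
    have hmemH : ∀ x ∈ Subgroup.centralizer ({(h : G)} : Set G), x ∈ H := by
      intro x hx
      rw [Subgroup.mem_centralizer_singleton_iff] at hx
      obtain ⟨k, hk, a, ha, rfl⟩ := exists_kh K H hKH' x
      have e1 : (h : G) * k * (h : G)⁻¹ * k⁻¹ ∈ H := by
        have e : (h : G) * k * (h : G)⁻¹ * k⁻¹ =
            k * ((a * (h : G) * a⁻¹ * (h : G)⁻¹) * k⁻¹) := by
          calc (h : G) * k * (h : G)⁻¹ * k⁻¹
              = ((h : G) * (k * a)) * a⁻¹ * (h : G)⁻¹ * k⁻¹ := by group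
            _ = ((k * a) * (h : G)) * a⁻¹ * (h : G)⁻¹ * k⁻¹ := by rw [hx]
            _ = _ := by group
        have hK1 : (h : G) * k * (h : G)⁻¹ * k⁻¹ ∈ K :=
          K.mul_mem (hK.conj_mem k hk h) (K.inv_mem hk)
        have hm : a * (h : G) * a⁻¹ * (h : G)⁻¹ ∈ K := by
          have e2 : a * (h : G) * a⁻¹ * (h : G)⁻¹ =
              k⁻¹ * ((h : G) * k * (h : G)⁻¹ * k⁻¹) * k := by
            rw [e]; group
          rw [e2]
          exact K.mul_mem (K.mul_mem (K.inv_mem hk) hK1) hk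
        have hm1 : a * (h : G) * a⁻¹ * (h : G)⁻¹ = 1 :=
          Subgroup.mem_bot.mp (hKH ▸ ⟨hm, H.mul_mem (H.mul_mem (H.mul_mem ha h.2) (H.inv_mem ha))
            (H.inv_mem h.2)⟩)
        rw [e, hm1]
        simp
      have e3 : (h : G) * k = k * h := by
        have h0 : (h : G) * k * (h : G)⁻¹ * k⁻¹ = 1 := Subgroup.mem_bot.mp
          (hKH ▸ ⟨K.mul_mem (hK.conj_mem k hk h) (K.inv_mem hk), e1⟩)
        calc (h : G) * k = ((h : G) * k * (h : G)⁻¹ * k⁻¹) * (k * h) := by group
          _ = k * h := by rw [h0, one_mul]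
      rw [hfpf h h.2 (fun e => h1 (Subtype.ext e)) k hk e3, one_mul]
      exact ha
    refine Nat.card_congr
      { toFun := fun x => ⟨⟨x, hmemH x x.2⟩, Subgroup.mem_centralizer_singleton_iff.mpr
          (Subtype.ext (Subgroup.mem_centralizer_singleton_iff.mp x.2))⟩
        invFun := fun x => ⟨((x : H) : G), Subgroup.mem_centralizer_singleton_iff.mpr
          (congrArg Subtype.val (Subgroup.mem_centralizer_singleton_iff.mp x.2))⟩
        left_inv := fun x => rfl
        right_inv := fun x => rfl }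
  have hCconj : ∀ y h : G, Nat.card (Subgroup.centralizer ({y * h * y⁻¹} : Set G)) =
      Nat.card (Subgroup.centralizer ({h} : Set G)) := by
    intro y h
    refine Nat.card_congr ((MulAut.conj y⁻¹).toEquiv.subtypeEquiv fun x => ?_)
    simp only [Subgroup.mem_centralizer_singleton_iff, MulEquiv.toEquiv_eq_coe, EquivLike.coe_coe,
      MulAut.conj_apply, inv_inv]
    constructor <;> intro e
    · calc y⁻¹ * x * y * h = y⁻¹ * (x * (y * h * y⁻¹)) * y := by group
        _ = y⁻¹ * (y * h * y⁻¹ * x) * y := by rw [e]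
        _ = h * (y⁻¹ * x * y) := by group
    · calc x * (y * h * y⁻¹) = y * (y⁻¹ * x * y * h) * y⁻¹ := by group
        _ = y * (h * (y⁻¹ * x * y)) * y⁻¹ := by rw [e]
        _ = y * h * y⁻¹ * x := by group
  have hCk : ∀ k : K, k ≠ 1 → Nat.card (Subgroup.centralizer ({(k : G)} : Set G)) =
      Nat.card (Subgroup.centralizer ({k} : Set K)) := by
    intro k k1
    have hmemK : ∀ x ∈ Subgroup.centralizer ({(k : G)} : Set G), x ∈ K := by
      intro x hx
      by_contra hxK
      obtain ⟨⟨y, h, hh⟩, e⟩ := hΦs ⟨x, hxK⟩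
      have e' : (y : G) * (h : G) * (y : G)⁻¹ = x := congrArg Subtype.val e
      rw [Subgroup.mem_centralizer_singleton_iff, ← e'] at hx
      have h2 : (h : G) * ((y : G)⁻¹ * k * y) = (y : G)⁻¹ * k * y * h := by
        calc (h : G) * ((y : G)⁻¹ * k * y)
            = (y : G)⁻¹ * ((y : G) * (h : G) * (y : G)⁻¹ * k) * y := by group
          _ = (y : G)⁻¹ * ((k : G) * ((y : G) * (h : G) * (y : G)⁻¹)) * y := by rw [hx]
          _ = _ := by group
      have h3 := hfpf h h.2 (fun e => hh (Subtype.ext e)) _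
        (K.mul_mem (K.mul_mem (K.inv_mem y.2) k.2) y.2) h2
      refine k1 (Subtype.ext ?_)
      calc (k : G) = y * ((y : G)⁻¹ * k * y) * (y : G)⁻¹ := by group
        _ = 1 := by rw [h3]; group
    refine Nat.card_congr
      { toFun := fun x => ⟨⟨x, hmemK x x.2⟩, Subgroup.mem_centralizer_singleton_iff.mpr
          (Subtype.ext (Subgroup.mem_centralizer_singleton_iff.mp x.2))⟩
        invFun := fun x => ⟨((x : K) : G), Subgroup.mem_centralizer_singleton_iff.mpr
          (congrArg Subtype.val (Subgroup.mem_centralizer_singleton_iff.mp x.2))⟩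
        left_inv := fun x => rfl
        right_inv := fun x => rfl }
  have h0 : ∀ (Y : Type u) [Group Y], Nat.card (Subgroup.centralizer ({1} : Set Y)) = Nat.card Y := by
    intro Y _
    have : Subgroup.centralizer ({1} : Set Y) = ⊤ := by
      ext x; simp [Subgroup.mem_centralizer_singleton_iff]
    rw [this, Nat.card_congr Subgroup.topEquiv.toEquiv]
  have hG := hsum G
  have hKs := hsum K
  have hHs := hsum H
  rw [← Finset.sum_filter_add_sum_filter_not Finset.univ (fun g => g ∈ K),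
    Finset.sum_subtype (Finset.univ.filter fun g => g ∈ K) (p := fun g => g ∈ K) (by simp),
    Finset.sum_subtype (Finset.univ.filter fun g => ¬g ∈ K) (p := fun g => g ∉ K) (by simp),
    ← Fintype.sum_bijective Φ ⟨hΦi, hΦs⟩
      (fun p : X => Nat.card (Subgroup.centralizer ({((p.2.1 : H) : G)} : Set G))) _
      (fun p => (hCconj _ _).symm)] at hG
  simp only [X, Fintype.sum_prod_type, Finset.sum_const, Finset.card_univ, smul_eq_mul] at hG
  rw [Finset.sum_congr rfl (g := fun h : {h : H // h ≠ 1} =>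
      Nat.card (Subgroup.centralizer ({h.1} : Set H))) (fun h _ => hCh h.1 h.2),
    ← Finset.add_sum_erase (Finset.univ : Finset K) _ (Finset.mem_univ (1 : K)),
    Finset.sum_congr rfl (g := fun k : K => Nat.card (Subgroup.centralizer ({k} : Set K)))
      (fun k hk => hCk k (Finset.mem_erase.mp hk).1), OneMemClass.coe_one, h0 G,
    ← Nat.card_eq_fintype_card] at hG
  rw [← Finset.add_sum_erase _ _ (Finset.mem_univ (1 : K)), h0 K] at hKs
  rw [← Finset.add_sum_erase _ _ (Finset.mem_univ (1 : H)), h0 H,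
    Finset.sum_subtype (Finset.univ.erase (1 : H)) (p := fun h : H => h ≠ 1) (by simp)] at hHs
  have hcard : Nat.card G = Nat.card K * Nat.card H := by
    rw [← Nat.card_prod]
    refine (Nat.card_eq_of_bijective (fun p : K × H => (p.1 : G) * p.2)
      ⟨?_, fun g => ?_⟩).symm
    · rintro ⟨a, b⟩ ⟨c, d⟩ e
      simp only at e
      have hm : (c : G)⁻¹ * a = d * (b : G)⁻¹ := by
        calc (c : G)⁻¹ * a = (c : G)⁻¹ * ((a : G) * b) * (b : G)⁻¹ := by group
          _ = (c : G)⁻¹ * ((c : G) * d) * (b : G)⁻¹ := by rw [e]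
          _ = d * (b : G)⁻¹ := by group
      have hm1 : (c : G)⁻¹ * a = 1 := Subgroup.mem_bot.mp (hKH ▸
        ⟨K.mul_mem (K.inv_mem c.2) a.2, hm ▸ H.mul_mem d.2 (H.inv_mem b.2)⟩)
      have hac : (a : G) = c := (inv_mul_eq_one.mp hm1).symm
      refine Prod.ext (Subtype.ext hac) (Subtype.ext ?_)
      rw [hac] at e
      exact mul_left_cancel e
    · obtain ⟨k, hk, h, hh, rfl⟩ := exists_kh K H hKH' g
      exact ⟨(⟨k, hk⟩, ⟨h, hh⟩), rfl⟩
  rw [hcard] at hG
  refine Nat.eq_of_mul_eq_mul_left (Nat.card_pos (α := K)) ?_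
  nlinarith [hG, hKs, hHs]

end Cfsg.Agent.CT
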