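import Cfsg.Agent.Lib.CT.NormalizerExtend
import Cfsg.Agent.Lib.OddChar.CliffordExtra
import Cfsg.Agent.Lib.Coprime23.PSolv
import Cfsg.Agent.Lib.Basics.Cores
import Cfsg.Agent.Lib.FGB.Basic

/-!
# The theorem of Ito and Michler for `p`-solvable groups
-/

set_option autoImplicit false
set_option linter.all false

namespace Cfsg.Agent.ItoMichler

open Cfsg Cfsg.Agent.CT

universe u

variable {p : ℕ} [Fact p.Prime]

/-- A normal `p'`-subgroup `N` with `T = PN` having all degrees prime to `p` is centralized by `P`. -/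
theorem le_centralizer_of_degrees {T : Type u} [Group T] [Finite T] (P : Sylow p T)
    (N : Subgroup T) [hN : N.Normal] (hp : ¬ p ∣ Nat.card N) (hsup : (P : Subgroup T) ⊔ N = ⊤)
    (hdeg : ∀ χ : IrrCharacter T, ¬ p ∣ deg (χ : T → ℂ)) :
    (P : Subgroup T) ≤ Subgroup.centralizer (N : Set T) := by
  classical
  haveI := Fintype.ofFinite T
  haveI := Fintype.ofFinite N
  have hinv : ∀ (θ : IrrCharacter N) (a : T), conjFun N a (θ : N → ℂ) = θ := by
    intro θ a
    obtain ⟨χ, hχ⟩ := exists_irr_over N θ.2
    obtain ⟨k, hk, hki⟩ := deg_ratio_dvd_index N χ.2 θ.2 hχ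
    have hi : N.index ∣ Nat.card (P : Subgroup T) := by
      rw [← N.relIndex_top_right, ← hsup, Subgroup.relIndex_sup_right]
      exact Subgroup.relIndex_dvd_card N _
    obtain ⟨m, hm⟩ := IsPGroup.iff_card.mp P.2
    obtain ⟨i, -, hi'⟩ := (Nat.dvd_prime_pow Fact.out).mp (hki.trans (hm ▸ hi))
    have hk1 : k = 1 := by
      rcases Nat.eq_zero_or_pos i with rfl | hpos
      · simpa using hi'
      · exact absurd ((dvd_pow_self p hpos.ne').trans (hi' ▸ Dvd.intro _ hk.symm)) (hdeg χ)
    rw [hk1, one_mul] at hk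
    have hres := eq_of_deg_le (isCharacter_restrict N (isCharacter_of_isIrr χ.2)) θ.2 hχ (le_of_eq hk)
    rw [← hres]
    exact conjFun_restrict N a (isClassFunction_of_isIrr χ.2)
  intro a ha
  rw [Subgroup.mem_centralizer_iff]
  -- every class of `N` meets the fixed points of `P`
  let A := (P : Subgroup T)
  let φ : A →* MulAut N := MulAut.conjNormal.comp A.subtype
  have hconj : ∀ (x : N) (b : A), IsConj (φ b x) x := by
    intro x b
    rw [isConj_iff_forall_irr]
    intro θ
    have := congrFun (hinv θ (b : T)) x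
    rw [CT.conjFun_eq_comp] at this
    exact this
  let C : Subgroup N := (Subgroup.centralizer (A : Set T)).subgroupOf N
  have hC : C = ⊤ := by
    refine FGB.eq_top_of_conj_cover fun x => ?_
    letI : MulAction A {y : N // IsConj y x} :=
      { smul := fun b y => ⟨φ b y.1, (hconj y.1 b).trans y.2⟩
        one_smul := fun y => Subtype.ext (by show φ 1 y.1 = y.1; rw [map_one]; rfl)
        mul_smul := fun b c y => Subtype.ext (by
          show φ (b * c) y.1 = φ b (φ c y.1); rw [map_mul]; rfl) }
    have hnd : ¬ p ∣ Nat.card {y : N // IsConj y x} := by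
      intro hd
      apply hp
      refine hd.trans ?_
      have e : Nat.card {y : N // IsConj y x} = (Subgroup.centralizer ({x} : Set N)).index := by
        rw [← CT.card_conj_class x]
        exact Nat.card_congr (Equiv.subtypeEquivRight fun y => ⟨IsConj.symm, IsConj.symm⟩)
      rw [e]
      exact Subgroup.index_dvd_card _
    obtain ⟨y, hy⟩ := P.2.nonempty_fixed_point_of_prime_not_dvd_card _ hnd
    obtain ⟨c, hc⟩ := isConj_iff.mp y.2.symm
    refine ⟨c, ?_⟩
    rw [hc]
    show ((y.1 : N) : T) ∈ Subgroup.centralizer (A : Set T)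
    rw [Subgroup.mem_centralizer_iff]
    intro b hb
    have h := congrArg (fun z : {y : N // IsConj y x} => ((z.1 : N) : T)) (hy ⟨b, hb⟩)
    change ((φ ⟨b, hb⟩ y.1 : N) : T) = _ at h
    simp only [φ, MonoidHom.comp_apply, Subgroup.coe_subtype, MulAut.conjNormal_apply] at h
    exact mul_inv_eq_iff_eq_mul.mp h
  intro n hn
  have h1 : (⟨n, hn⟩ : N) ∈ C := hC ▸ Subgroup.mem_top _
  exact ((Subgroup.mem_centralizer_iff.mp h1) a ha).symm

theorem sylow_normal (N0 : ℕ) : ∀ (G : Type u) [Group G] [Finite G], Nat.card G = N0 →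
    IsPSolvable p G → (∀ χ : IrrCharacter G, ¬ p ∣ deg (χ : G → ℂ)) →
    ∀ P : Sylow p G, (P : Subgroup G).Normal := by
  induction N0 using Nat.strong_induction_on with
  | _ N0 ih =>
    intro G _ _ hcard hsolv hdeg P
    classical
    haveI := Fintype.ofFinite G
    rcases subsingleton_or_nontrivial G with hG | hG
    · exact ⟨fun n hn g => by rwa [Subsingleton.elim (g * n * g⁻¹) n]⟩
    obtain ⟨N, hN, hN0, hN'⟩ : ∃ N : Subgroup G, N.Normal ∧ N ≠ ⊥ ∧
        (IsPGroup p N ∨ ¬ p ∣ Nat.card N) := by
      rcases Coprime23.exists_core_ne_bot hsolv with h | h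
      · exact ⟨_, inferInstance, h, Or.inl (Basics.pCore_isPGroup p)⟩
      · exact ⟨_, inferInstance, h, Or.inr (Basics.not_dvd_card_pPrimeCore p)⟩
    haveI := hN
    haveI := Fintype.ofFinite N
    let mk := QuotientGroup.mk' N
    have hmk : Function.Surjective mk := QuotientGroup.mk'_surjective N
    haveI : Nontrivial N := by rwa [Subgroup.nontrivial_iff_ne_bot]
    have h2 : Nat.card (G ⧸ N) < N0 := by
      rw [← hcard, N.card_eq_card_quotient_mul_card_subgroup]
      exact lt_mul_of_one_lt_right Nat.card_pos Finite.one_lt_card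
    have hPb := ih _ h2 (G ⧸ N) rfl (Coprime23.isPSolvable_map mk hmk hsolv)
      (fun ψ hd => hdeg ⟨_, isIrr_inflate N ψ.2 (fun g => rfl)⟩ hd) (P.mapSurjective hmk)
    haveI hTn : ((P : Subgroup G) ⊔ N).Normal := by
      have : (P : Subgroup G) ⊔ N = ((P.mapSurjective hmk : Subgroup (G ⧸ N))).comap mk := by
        rw [Sylow.coe_mapSurjective, Subgroup.comap_map_eq, QuotientGroup.ker_mk']
      rw [this]
      exact hPb.comap mk
    rcases hN' with hNp | hNp
    · have : (P : Subgroup G) ⊔ N = P := by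
        rw [sup_comm]
        exact P.is_maximal' (hNp.to_sup_of_normal_left P.2) le_sup_right
      rwa [this] at hTn
    · let T := (P : Subgroup G) ⊔ N
      haveI := Fintype.ofFinite T
      have hPT : (P : Subgroup G) ≤ T := le_sup_left
      have hNT : N ≤ T := le_sup_right
      let PT : Sylow p T := P.subtype hPT
      let NT : Subgroup T := N.subgroupOf T
      haveI : NT.Normal := Subgroup.normal_subgroupOf
      haveI := Fintype.ofFinite NT
      have hc := le_centralizer_of_degrees PT NT
        (by rw [Nat.card_congr (Subgroup.subgroupOfEquivOfLe hNT).toEquiv]; exact hNp)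
        (by
          show (P : Subgroup G).subgroupOf T ⊔ N.subgroupOf T = ⊤
          rw [← Subgroup.subgroupOf_sup hPT hNT, Subgroup.subgroupOf_self])
        (fun θ hd => by
          obtain ⟨χ, hχ⟩ := exists_irr_over T θ.2
          obtain ⟨k, hk, -⟩ := deg_ratio_dvd_index T χ.2 θ.2 hχ
          exact hdeg χ (hd.trans (Dvd.intro_left k hk.symm)))
      have hle : T ≤ Subgroup.normalizer ((P : Subgroup G) : Set G) := by
        refine sup_le Subgroup.le_normalizer fun n hn => ?_
        rw [Subgroup.mem_normalizer_iff]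
        intro y
        constructor
        · intro hy
          have h1 := congrArg Subtype.val
            (Subgroup.mem_centralizer_iff.mp (hc (show (⟨y, hPT hy⟩ : T) ∈ PT from hy))
              ⟨n, hNT hn⟩ hn)
          simp only [Subgroup.coe_mul] at h1
          rw [h1, mul_inv_cancel_right]
          exact hy
        · intro hy
          have h1 := congrArg Subtype.val
            (Subgroup.mem_centralizer_iff.mp
              (hc (show (⟨n * y * n⁻¹, hPT hy⟩ : T) ∈ PT from hy)) ⟨n, hNT hn⟩ hn)
          simp only [Subgroup.coe_mul] at h1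
          have : y = n * y * n⁻¹ := by
            refine mul_left_cancel (a := n) ?_
            rw [h1]; group
          rw [this]; exact hy
      have htop := Sylow.normalizer_sup_eq_top' P hPT
      replace htop : Subgroup.normalizer ((P : Subgroup G) : Set G) ⊔ T = ⊤ := htop
      rw [sup_eq_left.mpr hle] at htop
      exact Subgroup.normalizer_eq_top_iff.mp htop

theorem sylow_comm {G : Type u} [Group G] [Finite G] (P : Sylow p G) [(P : Subgroup G).Normal]
    (hdeg : ∀ χ : IrrCharacter G, ¬ p ∣ deg (χ : G → ℂ)) : IsMulCommutative ↥(P : Subgroup G) := by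
  classical
  haveI := Fintype.ofFinite G
  haveI := Fintype.ofFinite (P : Subgroup G)
  refine ⟨⟨(CT.comm_iff_all_linear (G := ↥(P : Subgroup G))).mpr fun θ => ?_⟩⟩
  obtain ⟨χ, hχ⟩ := exists_irr_over (P : Subgroup G) θ.2
  obtain ⟨k, hk, -⟩ := deg_ratio_dvd_index (P : Subgroup G) χ.2 θ.2 hχ
  obtain ⟨m, hm⟩ := IsPGroup.iff_card.mp P.2
  obtain ⟨n, ρ, hρ, hρθ⟩ := θ.2
  have hd : deg (θ : ↥(P : Subgroup G) → ℂ) ∣ p ^ m := by
    rw [← hm, ← hρθ, deg_eq_finrank]
    exact finrank_dvd_card ρ
  obtain ⟨i, -, hi⟩ := (Nat.dvd_prime_pow Fact.out).mp hd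
  rw [deg_eq (isCharacter_of_isIrr θ.2)]
  rcases Nat.eq_zero_or_pos i with rfl | hpos
  · simp [hi]
  · exact absurd ((dvd_pow_self p hpos.ne').trans (hi ▸ Dvd.intro_left k hk.symm)) (hdeg χ)

theorem not_dvd_deg {G : Type u} [Group G] [Finite G] (P : Sylow p G) [(P : Subgroup G).Normal]
    (hab : IsMulCommutative ↥(P : Subgroup G)) (χ : IrrCharacter G) : ¬ p ∣ deg (χ : G → ℂ) := by
  classical
  haveI := Fintype.ofFinite G
  haveI := Fintype.ofFinite (P : Subgroup G)
  exact fun hd => P.not_dvd_index (hd.trans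
    (deg_dvd_index_of_comm (P : Subgroup G) χ.2 fun a b => hab.is_comm.comm a b))

end Cfsg.Agent.ItoMichler
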