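import Cfsg.Agent.Lib.CT.Clifford
import Cfsg.Agent.Lib.CT.Degree
import Cfsg.Agent.Lib.CT.NormalizerExtend
import Cfsg.Agent.Lib.CT.Kernel
import Cfsg.Agent.Lib.CT.Chief
import Cfsg.Agent.Lib.CT.GaloisFixed
import Cfsg.Agent.Lib.CT.RationalPBound
import Cfsg.Agent.Lib.CT.ItoMichlerPSolv
import Cfsg.Agent.Lib.CoprimeExt.CoprimeDegree
import Cfsg.Agent.Lib.Blocks.DefectOnePrincipal
import Cfsg.Agent.S0144

/-!
# Groups with all character degrees below a prime `p`: the Sylow `p`-subgroup is normal and abelian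
-/

set_option autoImplicit false
set_option linter.all false
set_option maxHeartbeats 1000000

namespace Cfsg.Agent.CT.DegreesBelow

open Cfsg Cfsg.Agent
open scoped ComplexConjugate Classical

universe u

variable {p : ℕ} [hp : Fact p.Prime]

/-- All irreducible character degrees are below `p`. -/
def Below (p : ℕ) (G : Type u) [Group G] : Prop :=
  ∀ χ : IrrCharacter G, CT.deg (χ : G → ℂ) < p

theorem orderOf_conj_eq {G : Type u} [Group G] {a b : G} (hab : IsConj a b) :
    orderOf a = orderOf b := by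
  obtain ⟨c, rfl⟩ := isConj_iff.mp hab
  exact (orderOf_injective (MulAut.conj c).toMonoidHom (MulAut.conj c).injective a).symm

theorem below_subgroup {G : Type u} [Group G] [Finite G] (h : Below p G) (H : Subgroup G) :
    Below p H := by
  intro θ
  haveI := Fintype.ofFinite G
  haveI := Fintype.ofFinite H
  have hi := CT.isCharacter_indFun H (CT.isCharacter_of_isIrr θ.2)
  obtain ⟨χ, hχ⟩ := CT.exists_constituent hi fun h0 => by
    have := congrFun h0 1
    rw [CT.indFun_one_eval, Pi.zero_apply] at this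
    exact mul_ne_zero (Nat.cast_ne_zero.mpr Subgroup.index_ne_zero_of_finite)
      (CT.irr_one_ne_zero θ.2) this
  rw [CT.frobenius_reciprocity H _ (CT.isClassFunction_of_isIrr χ.2)] at hχ
  have hres := CT.isCharacter_restrict H (CT.isCharacter_of_isIrr χ.2)
  rw [CT.classInner_comm_of_char (CT.isCharacter_of_isIrr θ.2) hres] at hχ
  refine lt_of_le_of_lt ?_ (h χ)
  refine le_trans ?_ (CT.constituent_deg_le hres θ)
  refine Nat.le_mul_of_pos_left _ (Nat.pos_of_ne_zero fun h0 => hχ ?_)
  rw [CT.mult_spec hres (CT.isCharacter_of_isIrr θ.2), h0, Nat.cast_zero]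

theorem below_quotient {G : Type u} [Group G] (h : Below p G) (N : Subgroup G) [N.Normal] :
    Below p (G ⧸ N) := fun ψ => by
  have := h ⟨_, CT.isIrr_inflate N ψ.2 (fun g => rfl)⟩
  simpa [CT.deg] using this

/-- The `p`-subgroups are abelian. -/
theorem comm_of_isPGroup {G : Type u} [Group G] [Finite G] (h : Below p G) {P : Subgroup G}
    (hP : IsPGroup p P) (a b : P) : a * b = b * a := by
  haveI := Fintype.ofFinite P
  refine CT.comm_iff_all_linear.mpr (fun θ => ?_) a b
  obtain ⟨n, hn⟩ := hP.exists_card_eq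
  obtain ⟨i, -, hi⟩ := (Nat.dvd_prime_pow hp.out).mp (hn ▸ Glauberman.deg_dvd_card θ)
  have hlt := below_subgroup h P θ
  rcases i with _ | i
  · rw [CT.deg_eq (CT.isCharacter_of_isIrr θ.2), hi]; norm_num
  · have : p ≤ p ^ (i + 1) := Nat.le_self_pow i.succ_ne_zero p
    omega

/-- The sum of the squared moduli of a character of degree `d` over a commutative `p`-group is at
least the group order times `d`. -/
theorem sum_sq_ge {A : Type u} [Group A] [Fintype A] (hc : ∀ a b : A, a * b = b * a) {f : A → ℂ}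
    (hf : IsCharacter A f) :
    ∃ N : ℕ, CT.deg f ≤ N ∧ ∑ a, f a * conj (f a) = (Nat.card A : ℂ) * N := by
  refine ⟨∑ θ : IrrCharacter A, CT.mult f θ ^ 2, ?_, ?_⟩
  · have h := congrFun (CT.character_eq_sum hf) 1
    rw [CT.deg_eq hf, Finset.sum_apply] at h
    simp only [Pi.smul_apply, smul_eq_mul,
      CT.irr_degree_one_of_comm hc (Subtype.prop _), mul_one] at h
    have h' : CT.deg f = ∑ θ : IrrCharacter A, CT.mult f θ := by exact_mod_cast h
    rw [h']
    exact Finset.sum_le_sum fun θ _ => Nat.le_self_pow two_ne_zero _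
  · rw [← CT.classInner_self_eq_sum, CT.classInner_eq_sum (CT.isClassFunction_of_isCharacter hf)]
    congr 1
    push_cast
    refine Finset.sum_congr rfl fun θ _ => ?_
    rw [CT.mult_spec hf (CT.isCharacter_of_isIrr θ.2), map_natCast]
    ring

section Simple

variable {G : Type u} [Group G] [Finite G] [IsSimpleGroup G]
  (hnc : ¬ ∀ a b : G, a * b = b * a) (h : Below p G)
  (hsub : ∀ H : Subgroup G, H ≠ ⊤ → ∀ Q : Sylow p H, (Q : Subgroup H).Normal)
  (P : Sylow p G) (hpG : p ∣ Nat.card G)

include hnc in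
theorem eq_trivIrr_of_deg {χ : IrrCharacter G} (hd : CT.deg (χ : G → ℂ) = 1) :
    χ = CT.trivIrr G := by
  refine Subtype.ext (funext fun g => ?_)
  have hc : _root_.commutator G = ⊤ := by
    rcases (inferInstance : (_root_.commutator G).Normal).eq_bot_or_eq_top with h1 | h1
    · exfalso
      refine hnc fun a b => ?_
      have hm : a * b * a⁻¹ * b⁻¹ ∈ (⊥ : Subgroup G) := by
        rw [← h1]
        exact Subgroup.commutator_mem_commutator (Subgroup.mem_top a) (Subgroup.mem_top b)
      calc a * b = (a * b * a⁻¹ * b⁻¹) * (b * a) := by group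
        _ = b * a := by rw [Subgroup.mem_bot.mp hm, one_mul]
    · exact h1
  have h1 : (χ : G → ℂ) 1 = 1 := by
    rw [CT.deg_eq (CT.isCharacter_of_isIrr χ.2), hd, Nat.cast_one]
  rw [CT.linear_trivial_on_commutator (CT.isCharacter_of_isIrr χ.2) h1 g (hc ▸ Subgroup.mem_top g),
    h1, CT.trivIrr_apply]

include hpG in
theorem sylow_ne_bot : (P : Subgroup G) ≠ ⊥ := by
  intro hb
  exact P.not_dvd_index (by rwa [hb, Subgroup.index_bot])

include hpG in
theorem exists_ne_one : ∃ x, x ∈ (P : Subgroup G) ∧ x ≠ 1 :=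
  ((Subgroup.bot_or_exists_ne_one (P : Subgroup G)).resolve_left (sylow_ne_bot P hpG))

include hnc hsub h in
theorem centralizer_le {x : G} (hx : x ∈ (P : Subgroup G)) (hx1 : x ≠ 1) :
    Subgroup.centralizer ({x} : Set G) ≤ Subgroup.normalizer ((P : Subgroup G) : Set G) := by
  have hPC : (P : Subgroup G) ≤ Subgroup.centralizer ({x} : Set G) := fun y hy =>
    Subgroup.mem_centralizer_singleton_iff.mpr
      (congrArg Subtype.val (comm_of_isPGroup h P.isPGroup' ⟨y, hy⟩ ⟨x, hx⟩))
  have hne : Subgroup.centralizer ({x} : Set G) ≠ ⊤ := by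
    intro ht
    have hxZ : x ∈ Subgroup.center G := Subgroup.mem_center_iff.mpr fun g =>
      Subgroup.mem_centralizer_singleton_iff.mp (ht ▸ Subgroup.mem_top g)
    rcases (inferInstance : (Subgroup.center G).Normal).eq_bot_or_eq_top with h1 | h1
    · exact hx1 (Subgroup.mem_bot.mp (h1 ▸ hxZ))
    · exact hnc fun a b => Subgroup.mem_center_iff.mp (h1 ▸ Subgroup.mem_top b) a
  have hn := hsub _ hne (P.subtype hPC)
  intro c hc
  have key : ∀ c ∈ Subgroup.centralizer ({x} : Set G), ∀ w ∈ (P : Subgroup G),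
      c * w * c⁻¹ ∈ (P : Subgroup G) :=
    fun c hc w hw => hn.conj_mem ⟨w, hPC hw⟩ (by exact hw) ⟨c, hc⟩
  rw [Subgroup.mem_normalizer_iff]
  refine fun w => ⟨key c hc w, fun hw => ?_⟩
  have := key c⁻¹ (Subgroup.inv_mem _ hc) _ hw
  simpa [mul_assoc] using this

include hnc hsub h in
theorem eq_of_common {x : G} (hx1 : x ≠ 1) {Q R : Sylow p G} (hQ : x ∈ (Q : Subgroup G))
    (hR : x ∈ (R : Subgroup G)) : Q = R := by
  have hQN : (Q : Subgroup G) ≤ Subgroup.normalizer ((R : Subgroup G) : Set G) :=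
    le_trans (fun y hy => Subgroup.mem_centralizer_singleton_iff.mpr
      (congrArg Subtype.val (comm_of_isPGroup h Q.isPGroup' ⟨y, hy⟩ ⟨x, hQ⟩)))
      (centralizer_le hnc h hsub R hR hx1)
  have hle : (Q : Subgroup G) ≤ (R : Subgroup G) :=
    ((inf_eq_left.mpr hQN).symm.trans (Q.isPGroup'.inf_normalizer_sylow R)).le.trans inf_le_right
  exact Sylow.ext (Q.is_maximal' R.isPGroup' hle).symm

include hnc hsub h in
theorem mem_normalizer_of_conj {x u : G} (hx : x ∈ (P : Subgroup G)) (hx1 : x ≠ 1)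
    (hu : u * x * u⁻¹ ∈ (P : Subgroup G)) :
    u ∈ Subgroup.normalizer ((P : Subgroup G) : Set G) := by
  have h1 : u * x * u⁻¹ ≠ 1 := fun h0 => hx1 (conj_eq_one_iff.mp h0)
  have h2 : u * x * u⁻¹ ∈ ((u • P : Sylow p G) : Subgroup G) := by
    rw [Sylow.coe_subgroup_smul]
    exact Subgroup.smul_mem_pointwise_smul x (MulAut.conj u) _ hx
  exact Sylow.smul_eq_iff_mem_normalizer.mp (eq_of_common hnc h hsub h1 h2 hu)

include hnc hsub h hpG in
theorem card_sylow_gt : Nat.card (P : Subgroup G) + 1 ≤ Nat.card (Sylow p G) := by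
  obtain ⟨Q, hQ⟩ : ∃ Q : Sylow p G, Q ≠ P := by
    by_contra hcon
    push Not at hcon
    haveI : Subsingleton (Sylow p G) := ⟨fun a b => (hcon a).trans (hcon b).symm⟩
    rcases (P.normal_of_subsingleton).eq_bot_or_eq_top with h1 | h1
    · exact sylow_ne_bot P hpG h1
    · exact hnc fun a b => congrArg Subtype.val (comm_of_isPGroup h P.isPGroup'
        ⟨a, h1 ▸ Subgroup.mem_top a⟩ ⟨b, h1 ▸ Subgroup.mem_top b⟩)
  let f : Option (P : Subgroup G) → Sylow p G := fun o => o.elim P fun y => (y : G) • Q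
  have hne : ∀ y : (P : Subgroup G), (y : G) • Q ≠ P := by
    intro y hy
    refine hQ ?_
    calc Q = (y : G)⁻¹ • ((y : G) • Q) := (inv_smul_smul _ _).symm
      _ = P := by
        rw [hy]
        exact Sylow.smul_eq_iff_mem_normalizer.mpr
          (Subgroup.le_normalizer ((P : Subgroup G).inv_mem y.2))
  have hf : Function.Injective f := by
    rintro (_ | a) (_ | b) hab
    · rfl
    · exact absurd hab.symm (hne b)
    · exact absurd hab (hne a)
    · have hz : ((b : G)⁻¹ * a) • Q = Q := by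
        rw [mul_smul, show (a : G) • Q = (b : G) • Q from hab, inv_smul_smul]
      have hzN := Sylow.smul_eq_iff_mem_normalizer.mp hz
      set z : G := (b : G)⁻¹ * a with hzdef
      have hzP : z ∈ (P : Subgroup G) := (P : Subgroup G).mul_mem ((P : Subgroup G).inv_mem b.2) a.2
      have hzQ : z ∈ (Q : Subgroup G) := by
        have hp' : IsPGroup p (Subgroup.zpowers z) :=
          P.isPGroup'.to_le (Subgroup.zpowers_le.mpr hzP)
        have h3 := ((inf_eq_left.mpr (Subgroup.zpowers_le.mpr hzN)).symm.trans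
          (hp'.inf_normalizer_sylow Q)).le (Subgroup.mem_zpowers z)
        exact h3.2
      by_cases hz1 : z = 1
      · exact congrArg some (Subtype.ext (inv_mul_eq_one.mp hz1).symm)
      · exact absurd (eq_of_common hnc h hsub hz1 hzQ hzP) hQ
  have := Nat.card_le_card_of_injective f hf
  rwa [Finite.card_option] at this

include h in
theorem value_ne_zero {x : G} (hx : ∃ b, x ^ p ^ b = 1) (χ : IrrCharacter G) :
    (χ : G → ℂ) x ≠ 0 := by
  intro h0
  obtain ⟨b, hb⟩ := hx
  obtain ⟨m, ρ, -, hρ⟩ := χ.2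
  obtain ⟨ω, hω, he⟩ := CT.exists_eigenvalues ρ x
  have h1 := he 1
  simp only [pow_one] at h1
  rw [hρ, h0] at h1
  have hd := CT.RationalP.dvd_sub_deg hp.out (b := b) (ω := ω)
    (fun i => orderOf_dvd_iff_pow_eq_one.mp
      ((orderOf_dvd_of_pow_eq_one (hω i)).trans (orderOf_dvd_of_pow_eq_one hb)))
    (z := 0) (by rw [← h1]; simp)
  have hdeg : CT.deg (χ : G → ℂ) = Module.finrank ℂ (Fin m → ℂ) := by
    rw [← hρ]; exact CT.deg_eq_finrank ρ
  rw [zero_sub, Int.dvd_neg, Int.natCast_dvd_natCast, ← hdeg] at hd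
  exact absurd (Nat.le_of_dvd (CT.deg_pos χ.2) hd) (not_le.mpr (h χ))

include hnc hsub h hpG in
theorem card_sylow_eq : Nat.card (P : Subgroup G) = p := by
  haveI := Fintype.ofFinite G
  obtain ⟨a, ha⟩ := P.isPGroup'.exists_card_eq
  obtain ⟨x, hx, hx1⟩ := exists_ne_one P hpG
  have hk := (CT.GaloisFixed.card_le_centralizer (g := x)
    (value_ne_zero h (by
      obtain ⟨b, hb⟩ := P.isPGroup' ⟨x, hx⟩
      exact ⟨b, congrArg Subtype.val hb⟩))).1
  have hG : Nat.card G ≤ Nat.card (IrrCharacter G) * (p - 1) ^ 2 := by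
    have hs := CT.sum_degree_sq (G := G)
    rw [Finset.sum_congr rfl fun χ _ => by
      rw [CT.deg_eq (CT.isCharacter_of_isIrr (Subtype.prop χ))]] at hs
    have hs' : (∑ χ : IrrCharacter G, CT.deg (χ : G → ℂ) ^ 2) = Nat.card G := by exact_mod_cast hs
    rw [← hs', Nat.card_eq_fintype_card, ← Finset.card_univ, ← smul_eq_mul]
    refine Finset.sum_le_card_nsmul _ _ _ fun χ _ => Nat.pow_le_pow_left ?_ 2
    have := h χ
    omega
  have hi : (Subgroup.centralizer ({x} : Set G)).index ≤ (p - 1) ^ 2 := by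
    have e := (Subgroup.centralizer ({x} : Set G)).card_mul_index
    refine Nat.le_of_mul_le_mul_left ?_ (Nat.card_pos (α := Subgroup.centralizer ({x} : Set G)))
    rw [e]
    exact hG.trans (Nat.mul_le_mul_right _ hk)
  have hN : (Subgroup.normalizer ((P : Subgroup G) : Set G)).index ≤
      (Subgroup.centralizer ({x} : Set G)).index :=
    Nat.le_of_dvd (Nat.pos_of_ne_zero Subgroup.index_ne_zero_of_finite)
      (Subgroup.index_dvd_of_le (centralizer_le hnc h hsub P hx hx1))
  have hgt := card_sylow_gt hnc h hsub P hpG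
  rw [P.card_eq_index_normalizer, ha] at hgt
  have hgt' : p ^ a + 1 ≤ (Subgroup.normalizer ((P : Subgroup G) : Set G)).index := hgt
  have hlt : p ^ a < p ^ 2 := by
    have : (p - 1) ^ 2 ≤ p ^ 2 := Nat.pow_le_pow_left (Nat.sub_le p 1) 2
    omega
  have ha2 : a < 2 := (Nat.pow_lt_pow_iff_right hp.out.one_lt).mp hlt
  rcases a with _ | a
  · exact absurd (Subgroup.card_eq_one.mp (by rwa [pow_zero] at ha)) (sylow_ne_bot P hpG)
  · rw [ha, show a = 0 by omega, zero_add, pow_one]

include hnc hsub h P hpG in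
theorem simple_false : False := by
  haveI := Fintype.ofFinite G
  have hP := card_sylow_eq hnc h hsub P hpG
  have hp2 : p ≠ 2 := by
    rintro rfl
    refine hnc (CT.comm_iff_all_linear.mpr fun χ => ?_)
    have := CT.deg_pos χ.2
    have := h χ
    rw [CT.deg_eq (CT.isCharacter_of_isIrr χ.2), show CT.deg (χ : G → ℂ) = 1 by omega, Nat.cast_one]
  obtain ⟨M, hM⟩ := Blocks.exists_isPModular (hp.out)
  haveI := hM.2.1.isPrime
  set e := (Subgroup.centralizer ((P : Subgroup G) : Set G)).relIndex
    (Subgroup.normalizer ((P : Subgroup G) : Set G)) with he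
  obtain ⟨X, Y, εX, ε, hed, hXY, hdis, hXc, hYc, hX, hε, hY, hag, hrel⟩ :=
    Blocks.D1.exists_principal_structure (e := e) hM P hP he.symm
  have hp3 : 3 ≤ p := by have := hp.out.two_le; omega
  have he0 : e ≠ 0 := fun h0 => by
    rw [h0, Nat.zero_dvd] at hed
    omega
  have hYne : (p - 1) / e ≠ 0 :=
    (Nat.div_pos (Nat.le_of_dvd (by omega) hed) (Nat.pos_of_ne_zero he0)).ne'
  obtain ⟨⟨ψ, hψ⟩⟩ : Nonempty Y := (Nat.card_pos_iff.mp (hYc ▸ Nat.pos_of_ne_zero hYne)).1
  have htr : CT.trivIrr G ∈ X ∪ Y := hXY ▸ Blocks.trivIrr_mem_principalBlock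
  have hdeg1 : CT.deg ((CT.trivIrr G : IrrCharacter G) : G → ℂ) = 1 := by simp [CT.deg]
  have hXdeg : ∀ χ ∈ X, (εX χ : ℤ) * CT.deg (χ : G → ℂ) =
      if χ = CT.trivIrr G then 1 else -((p : ℤ) - 1) := by
    intro χ hχ
    obtain ⟨hs, hm, -⟩ := hX χ hχ
    change ((CT.deg (χ : G → ℂ)) : ℤ) ≡ εX χ [ZMOD p] at hm
    have hd0 := CT.deg_pos χ.2
    have hdlt := h χ
    split_ifs with h1
    · subst h1
      rw [hdeg1] at hm ⊢
      rcases hs with e1 | e1
      · rw [e1]; rfl
      · exfalso
        rw [e1] at hm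
        have h2 := Int.le_of_dvd (by norm_num) (by simpa using hm.symm.dvd : (p : ℤ) ∣ 2)
        omega
    · have hne : CT.deg (χ : G → ℂ) ≠ 1 := fun h2 => h1 (eq_trivIrr_of_deg hnc h2)
      rcases hs with e1 | e1
      · exfalso
        rw [e1] at hm
        have h2 := Int.le_of_dvd (by omega) hm.symm.dvd
        omega
      · rw [e1] at hm ⊢
        have h3 : (p : ℤ) ∣ (CT.deg (χ : G → ℂ) : ℤ) + 1 := by simpa using hm.symm.dvd
        have h2 := Int.le_of_dvd (by omega) h3
        omega
  have hsum : (ε : ℤ) * CT.deg (ψ : G → ℂ) =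
      ∑ χ ∈ X.toFinset, (εX χ : ℤ) * CT.deg (χ : G → ℂ) := by
    have h1 := hrel ψ hψ 1 (by rw [orderOf_one, Nat.dvd_one]; exact hp.out.ne_one)
    rw [finsum_mem_eq_toFinset_sum] at h1
    simp only [CT.deg_eq (CT.isCharacter_of_isIrr (Subtype.prop _))] at h1
    exact_mod_cast h1
  have hXcard : X.toFinset.card = e := by rw [← hXc, Nat.card_coe_set_eq, Set.ncard_eq_toFinset_card']
  rw [Finset.sum_congr rfl fun χ hχ => hXdeg χ (Set.mem_toFinset.mp hχ)] at hsum
  have hψd0 := CT.deg_pos ψ.2
  have hψlt := h ψ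
  have htrX : CT.trivIrr G ∈ X := by
    rcases htr with h1 | h1
    · exact h1
    exfalso
    rw [Finset.sum_congr rfl fun χ hχ => if_neg (fun e1 : χ = CT.trivIrr G =>
      Set.disjoint_left.mp hdis (e1 ▸ Set.mem_toFinset.mp hχ) h1), Finset.sum_const, hXcard,
      nsmul_eq_mul] at hsum
    have hψ1 : CT.deg (ψ : G → ℂ) = 1 := by
      have h2 := hag ψ hψ _ h1 1 (by rw [orderOf_one, Nat.dvd_one]; exact hp.out.ne_one)
      rw [CT.trivIrr_apply, CT.deg_eq (CT.isCharacter_of_isIrr ψ.2)] at h2
      exact_mod_cast h2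
    rw [hψ1] at hsum
    have : (1 : ℤ) ≤ e := by omega
    have hp3' : (3 : ℤ) ≤ p := by exact_mod_cast hp3
    have h6 := mul_le_mul this (show (2 : ℤ) ≤ (p : ℤ) - 1 by omega) (by norm_num) (by omega)
    rcases hε with e1 | e1 <;> rw [e1] at hsum <;> push_cast at hsum <;> linarith
  have hψne : CT.deg (ψ : G → ℂ) ≠ 1 := fun h2 =>
    Set.disjoint_left.mp hdis htrX (eq_trivIrr_of_deg hnc h2 ▸ hψ)
  rw [← Finset.add_sum_erase _ _ (Set.mem_toFinset.mpr htrX), if_pos rfl,
    Finset.sum_congr rfl fun χ hχ => if_neg (Finset.ne_of_mem_erase hχ), Finset.sum_const,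
    Finset.card_erase_of_mem (Set.mem_toFinset.mpr htrX), hXcard, nsmul_eq_mul] at hsum
  obtain ⟨he2, hψd⟩ : e = 2 ∧ CT.deg (ψ : G → ℂ) + 2 = p := by
    obtain ⟨e', he'⟩ : ∃ e', e = e' + 1 := ⟨e - 1, by omega⟩
    rw [he', Nat.add_sub_cancel] at hsum
    rcases hε with e1 | e1 <;> rw [e1] at hsum
    · exfalso
      rcases e' with _ | e'
      · push_cast at hsum; omega
      · push_cast at hsum; nlinarith
    · rcases e' with _ | _ | e'
      · push_cast at hsum; omega
      · exact ⟨he', by push_cast at hsum; omega⟩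
      · exfalso; push_cast at hsum; nlinarith
  have hp5 : 5 ≤ p := by
    rcases hp.out.eq_two_or_odd with h2 | h2 <;> omega
  -- the other member of `X`
  obtain ⟨χ, hχX, hχne⟩ : ∃ χ ∈ X, χ ≠ CT.trivIrr G := by
    have : (X.toFinset.erase (CT.trivIrr G)).Nonempty := by
      rw [← Finset.card_pos, Finset.card_erase_of_mem (Set.mem_toFinset.mpr htrX), hXcard, he2]
      norm_num
    obtain ⟨χ, hχ⟩ := this
    exact ⟨χ, Set.mem_toFinset.mp (Finset.mem_of_mem_erase hχ), Finset.ne_of_mem_erase hχ⟩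
  obtain ⟨hs, -, hval⟩ := hX χ hχX
  have hχd : εX χ = -1 ∧ CT.deg (χ : G → ℂ) + 1 = p := by
    have h1 := hXdeg χ hχX
    rw [if_neg hχne] at h1
    have := CT.deg_pos χ.2
    rcases hs with e1 | e1 <;> rw [e1] at h1
    · omega
    · exact ⟨e1, by omega⟩
  -- the centralizer of `P` is `P`
  set C := Subgroup.centralizer ((P : Subgroup G) : Set G) with hC
  have hPC : (P : Subgroup G) ≤ C := fun y hy =>
    Subgroup.mem_centralizer_iff.mpr fun w hw =>
      congrArg Subtype.val (comm_of_isPGroup h P.isPGroup' ⟨w, hw⟩ ⟨y, hy⟩)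
  haveI := Fintype.ofFinite (P : Subgroup G)
  have hreg : ∀ y ∈ C, ¬ p ∣ orderOf y → y = 1 := by
    intro y hy hyr
    obtain ⟨m, ρ, hirr, hρ⟩ := χ.2
    let S : Module.End ℂ (Fin m → ℂ) := ∑ u : (P : Subgroup G), ρ (u : G)
    have htrS : ∀ z : G, z ∈ C → ¬ p ∣ orderOf z →
        LinearMap.trace ℂ _ (S * ρ z) = (χ : G → ℂ) z - ((p : ℂ) - 1) := by
      intro z hz hzr
      rw [Finset.sum_mul, map_sum]
      have e1 : ∀ u : (P : Subgroup G), LinearMap.trace ℂ _ (ρ (u : G) * ρ z) =
          if u = 1 then (χ : G → ℂ) z else -1 := by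
        intro u
        rw [← map_mul, ← hρ]
        split_ifs with hu
        · rw [hu, OneMemClass.coe_one, one_mul]; rfl
        · have := hval u u.2 (fun h0 => hu (Subtype.ext h0)) z hz hzr
          rw [hχd.1] at this
          rw [← hρ] at this
          simpa [Representation.character] using this
      rw [Finset.sum_congr rfl fun u _ => e1 u, Finset.sum_ite, Finset.filter_eq',
        if_pos (Finset.mem_univ _), Finset.sum_singleton, Finset.filter_ne', Finset.sum_const,
        Finset.card_erase_of_mem (Finset.mem_univ _), Finset.card_univ, ← Nat.card_eq_fintype_card,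
        hP, nsmul_eq_mul, Nat.cast_sub hp.out.one_le]
      push_cast
      ring
    have hχ1 : (χ : G → ℂ) 1 = (p : ℂ) - 1 := by
      rw [CT.deg_eq (CT.isCharacter_of_isIrr χ.2), eq_sub_iff_add_eq]
      exact_mod_cast hχd.2
    have hSS : S * S = (p : ℂ) • S := by
      rw [Finset.sum_mul]
      have e1 : ∀ u : (P : Subgroup G), ρ (u : G) * S = S := by
        intro u
        rw [Finset.mul_sum]
        exact Fintype.sum_equiv (Equiv.mulLeft u) _ _ fun v => by simp
      rw [Finset.sum_congr rfl fun u _ => e1 u, Finset.sum_const, Finset.card_univ,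
        ← Nat.card_eq_fintype_card, hP, Nat.cast_smul_eq_nsmul]
    have hp0 : (p : ℂ) ≠ 0 := Nat.cast_ne_zero.mpr hp.out.ne_zero
    set E : Module.End ℂ (Fin m → ℂ) := (p : ℂ)⁻¹ • S with hE
    have hidem : IsIdempotentElem E := by
      show E * E = E
      rw [hE, smul_mul_smul_comm, hSS, smul_smul]
      congr 1
      field_simp
    have htr1 : LinearMap.trace ℂ _ E = 0 := by
      have e1 := htrS 1 (Subgroup.one_mem _) (by rw [orderOf_one, Nat.dvd_one]; exact hp.out.ne_one)
      rw [map_one, mul_one, hχ1, sub_self] at e1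
      rw [hE, map_smul, e1, smul_zero]
    have hE0 : E = 0 := by
      have := LinearMap.IsProj.trace (LinearMap.IsIdempotentElem.isProj_range E hidem)
      rw [htr1] at this
      have h0 : Module.finrank ℂ (LinearMap.range E) = 0 := by exact_mod_cast this.symm
      exact LinearMap.range_eq_bot.mp (Submodule.finrank_eq_zero.mp h0)
    have hS0 : S = 0 := by
      rw [hE, smul_eq_zero] at hE0
      exact hE0.resolve_left (inv_ne_zero hp0)
    have e2 := htrS y hy hyr
    rw [hS0, zero_mul, map_zero] at e2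
    have hyk : (χ : G → ℂ) y = (χ : G → ℂ) 1 := by rw [hχ1]; linear_combination e2.symm
    haveI hKn := NormExt.kerChar_normal (CT.isCharacter_of_isIrr χ.2)
    have hy' : y ∈ CT.kerChar (χ : G → ℂ) := (CT.mem_kerChar_iff (CT.isCharacter_of_isIrr χ.2)).mpr hyk
    rcases hKn.eq_bot_or_eq_top with hb | ht
    · exact Subgroup.mem_bot.mp (hb ▸ hy')
    · exfalso
      obtain ⟨x, hx, hx1⟩ := exists_ne_one P hpG
      have h1 := (CT.mem_kerChar_iff (CT.isCharacter_of_isIrr χ.2)).mp
        (ht ▸ Subgroup.mem_top x : x ∈ CT.kerChar (χ : G → ℂ))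
      have h2 := hval x hx hx1 1 (Subgroup.one_mem _) (by rw [orderOf_one, Nat.dvd_one]; exact hp.out.ne_one)
      rw [mul_one, h1, hχ1, hχd.1] at h2
      push_cast at h2
      exact hp0 (by linear_combination h2)
  have hCP : C = (P : Subgroup G) := by
    refine le_antisymm (fun c hc => ?_) hPC
    have hcp : orderOf c ∣ p := by
      refine orderOf_dvd_of_pow_eq_one (hreg _ (Subgroup.pow_mem _ hc p) fun hd => ?_)
      have h1 : p * p ∣ orderOf c := by
        rw [orderOf_pow' c hp.out.ne_zero] at hd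
        by_cases hpc : p ∣ orderOf c
        · rw [Nat.gcd_eq_right hpc] at hd
          exact Nat.mul_dvd_of_dvd_div hpc hd
        · exact absurd (hd.trans (Nat.div_dvd_of_dvd (Nat.gcd_dvd_left _ _))) hpc
      have h2 : p ^ 2 ∣ Nat.card G := by rw [pow_two]; exact h1.trans (orderOf_dvd_natCard c)
      rw [← (P : Subgroup G).card_mul_index, hP, pow_two] at h2
      exact P.not_dvd_index (Nat.dvd_of_mul_dvd_mul_left hp.out.pos h2)
    have hcz : IsPGroup p (Subgroup.zpowers c) := by
      obtain ⟨i, -, hi⟩ := (Nat.dvd_prime_pow hp.out).mp (by rwa [pow_one] : orderOf c ∣ p ^ 1)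
      exact IsPGroup.of_card (n := i) (by rw [Nat.card_zpowers, hi])
    have hcN : Subgroup.zpowers c ≤ Subgroup.normalizer ((P : Subgroup G) : Set G) :=
      Subgroup.zpowers_le.mpr (Subgroup.centralizer_le_normalizer _ hc)
    exact (((inf_eq_left.mpr hcN).symm.trans (hcz.inf_normalizer_sylow P)).le
      (Subgroup.mem_zpowers c)).2
  set N := Subgroup.normalizer ((P : Subgroup G) : Set G) with hN
  have hCN : C ≤ N := Subgroup.centralizer_le_normalizer _
  have hindex : (C.subgroupOf N).index = 2 := by rw [← he2, he]; rfl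
  -- centralizers of the nontrivial elements of `P`
  have hcent : ∀ u ∈ (P : Subgroup G), u ≠ 1 → Subgroup.centralizer ({u} : Set G) = (P : Subgroup G) := by
    intro u hu hu1
    have hz : Subgroup.zpowers u = (P : Subgroup G) := by
      refine Subgroup.eq_of_le_of_card_ge (Subgroup.zpowers_le.mpr hu) ?_
      rw [hP, Nat.card_zpowers]
      exact (Nat.le_of_dvd (orderOf_pos u)
        (((Nat.dvd_prime hp.out).mp (hP ▸ Subgroup.orderOf_dvd_natCard _ hu)).resolve_left
          (fun h0 => hu1 (orderOf_eq_one_iff.mp h0))).symm.dvd)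
    rw [← hCP, hC]
    refine le_antisymm (fun c hc => ?_) (Subgroup.centralizer_le (Set.singleton_subset_iff.mpr hu))
    rw [Subgroup.mem_centralizer_singleton_iff] at hc
    rw [Subgroup.mem_centralizer_iff]
    intro w hw
    rw [← hz] at hw
    obtain ⟨i, rfl⟩ := Subgroup.mem_zpowers_iff.mp hw
    exact ((show Commute c u from hc).zpow_right i).eq.symm
  -- the principal block exhausts the characters
  have hcol : ∀ χ : IrrCharacter G, ∃ D : ℕ, CT.deg (χ : G → ℂ) ≤ D ∧
      ∑ u : (P : Subgroup G), (χ : G → ℂ) u * conj ((χ : G → ℂ) u) = (p : ℂ) * D := by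
    intro χ
    obtain ⟨D, hD, hDs⟩ := sum_sq_ge (comm_of_isPGroup h P.isPGroup')
      (CT.isCharacter_restrict (P : Subgroup G) (CT.isCharacter_of_isIrr χ.2))
    refine ⟨D, le_trans (le_of_eq rfl) hD, ?_⟩
    rw [hDs, hP]
  choose D hD hDs using hcol
  have htot : (∑ χ : IrrCharacter G, ((p : ℤ) * D χ - (CT.deg (χ : G → ℂ) : ℤ) ^ 2)) =
      ((p : ℤ) - 1) * p := by
    have hA : ∑ u : (P : Subgroup G), ∑ χ : IrrCharacter G,
        (χ : G → ℂ) u * conj ((χ : G → ℂ) u) = (Nat.card G : ℂ) + ((p : ℂ) - 1) * p := by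
      rw [Finset.sum_congr rfl fun u _ => by rw [CT.column_orthogonality, if_pos (IsConj.refl _)],
        ← Finset.add_sum_erase _ _ (Finset.mem_univ (1 : (P : Subgroup G)))]
      congr 1
      · rw [show Subgroup.centralizer ({((1 : (P : Subgroup G)) : G)} : Set G) = ⊤ from
          top_le_iff.mp fun g _ => Subgroup.mem_centralizer_singleton_iff.mpr (by simp),
          Subgroup.card_top]
      · rw [Finset.sum_congr rfl fun u hu => by
            rw [hcent u u.2 (fun h0 => Finset.ne_of_mem_erase hu (Subtype.ext h0))],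
          Finset.sum_const, Finset.card_erase_of_mem (Finset.mem_univ _), Finset.card_univ,
          ← Nat.card_eq_fintype_card, hP, nsmul_eq_mul, Nat.cast_sub hp.out.one_le, Nat.cast_one]
    rw [Finset.sum_comm, Finset.sum_congr rfl fun χ _ => hDs χ] at hA
    have hs := CT.sum_degree_sq (G := G)
    rw [Finset.sum_congr rfl fun χ _ => by
      rw [CT.deg_eq (CT.isCharacter_of_isIrr (Subtype.prop χ))]] at hs
    have hA' : (((∑ χ : IrrCharacter G, (p : ℤ) * D χ) : ℤ) : ℂ) =
        ((((Nat.card G : ℤ) + ((p : ℤ) - 1) * p) : ℤ) : ℂ) := by push_cast; exact hA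
    have hs' : (((∑ χ : IrrCharacter G, (CT.deg (χ : G → ℂ) : ℤ) ^ 2) : ℤ) : ℂ) =
        (((Nat.card G : ℤ)) : ℂ) := by push_cast; exact hs
    rw [Finset.sum_sub_distrib, Int.cast_inj.mp hA', Int.cast_inj.mp hs']
    ring
  have hge : ∀ χ : IrrCharacter G, (p : ℤ) - 1 ≤
      (p : ℤ) * D χ - (CT.deg (χ : G → ℂ) : ℤ) ^ 2 := by
    intro χ
    have h1 : (1 : ℤ) ≤ (CT.deg (χ : G → ℂ) : ℤ) := by exact_mod_cast CT.deg_pos χ.2
    have h2 : (CT.deg (χ : G → ℂ) : ℤ) ≤ (p : ℤ) - 1 := by have := h χ; omega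
    have h3 : (CT.deg (χ : G → ℂ) : ℤ) ≤ D χ := by exact_mod_cast hD χ
    nlinarith
  have hgeY : ∀ θ ∈ Y, 2 * ((p : ℤ) - 2) ≤ (p : ℤ) * D θ - (CT.deg (θ : G → ℂ) : ℤ) ^ 2 := by
    intro θ hθ
    have h0 := hag θ hθ ψ hψ 1 (by rw [orderOf_one, Nat.dvd_one]; exact hp.out.ne_one)
    rw [CT.deg_eq (CT.isCharacter_of_isIrr θ.2), CT.deg_eq (CT.isCharacter_of_isIrr ψ.2)] at h0
    have h2 : (CT.deg (θ : G → ℂ) : ℤ) = (p : ℤ) - 2 := by
      rw [show CT.deg (θ : G → ℂ) = CT.deg (ψ : G → ℂ) by exact_mod_cast h0]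
      omega
    have h3 : (CT.deg (θ : G → ℂ) : ℤ) ≤ D θ := by exact_mod_cast hD θ
    nlinarith
  have hYcard : Y.toFinset.card = (p - 1) / 2 := by
    rw [← Set.ncard_eq_toFinset_card', ← Nat.card_coe_set_eq, hYc, he2]
  have huniv : X.toFinset ∪ Y.toFinset = Finset.univ := by
    by_contra hne
    obtain ⟨θ, hθ⟩ : ∃ θ, θ ∉ X.toFinset ∪ Y.toFinset := by
      by_contra hcon
      push Not at hcon
      exact hne (Finset.eq_univ_iff_forall.mpr hcon)
    have hd : Disjoint X.toFinset Y.toFinset := Set.disjoint_toFinset.mpr hdis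
    have h1 := Finset.sum_le_sum_of_subset_of_nonneg
      (f := fun χ : IrrCharacter G => (p : ℤ) * D χ - (CT.deg (χ : G → ℂ) : ℤ) ^ 2)
      (Finset.subset_univ (insert θ (X.toFinset ∪ Y.toFinset)))
      (fun χ _ _ => le_trans (by omega) (hge χ))
    rw [htot, Finset.sum_insert hθ, Finset.sum_union hd] at h1
    have hx2 := Finset.card_nsmul_le_sum X.toFinset _ _ fun χ _ => hge χ
    have hy2 := Finset.card_nsmul_le_sum Y.toFinset _ _ fun χ hχ => hgeY χ (Set.mem_toFinset.mp hχ)
    rw [hXcard, he2, nsmul_eq_mul] at hx2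
    rw [hYcard, nsmul_eq_mul] at hy2
    have hθ' := hge θ
    obtain ⟨t, ht⟩ : ∃ t, p = 2 * t + 1 := by
      rcases hp.out.eq_two_or_odd with h2 | h2
      · omega
      · exact ⟨p / 2, by omega⟩
    rw [show (p - 1) / 2 = t by omega] at hy2
    have hpt : (p : ℤ) = 2 * t + 1 := by exact_mod_cast ht
    simp only [hpt] at h1 hx2 hy2 hθ'
    push_cast at hx2 hy2
    nlinarith
  have hk : Nat.card (ConjClasses G) = 2 + (p - 1) / 2 := by
    rw [← CT.card_irr_eq_card_conjClasses, Nat.card_eq_fintype_card, ← Finset.card_univ, ← huniv,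
      Finset.card_union_of_disjoint (Set.disjoint_toFinset.mpr hdis), hXcard, hYcard, he2]
  -- an involution of `N` outside `C`
  obtain ⟨s, hs2⟩ : ∃ s : N, orderOf s = 2 := by
    refine exists_prime_orderOf_dvd_card' 2 ?_
    rw [← (C.subgroupOf N).card_mul_index, hindex]
    exact dvd_mul_left 2 _
  haveI := Fintype.ofFinite (ConjClasses G)
  let f : ↥(P : Subgroup G) → ConjClasses G := fun u => ConjClasses.mk (u : G)
  set U := (Finset.univ.erase (1 : (P : Subgroup G))) with hU
  have hs2' : orderOf (s : G) = 2 := by rw [Subgroup.orderOf_coe]; exact hs2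
  have hsC : s ∉ C.subgroupOf N := by
    intro hsC
    have h1 : orderOf (s : G) ∣ p := hP ▸ Subgroup.orderOf_dvd_natCard _ (hCP.le hsC)
    rw [hs2', Nat.prime_dvd_prime_iff_eq Nat.prime_two hp.out] at h1
    exact hp2 h1.symm
  have hfib : ∀ c ∈ U.image f, (U.filter fun u => f u = c).card ≤ 2 := by
    intro c hc
    obtain ⟨u, hu, rfl⟩ := Finset.mem_image.mp hc
    have hu1 : (u : G) ≠ 1 := fun h0 => Finset.ne_of_mem_erase hu (Subtype.ext h0)
    have hsu : (s : G) * u * (s : G)⁻¹ ∈ (P : Subgroup G) :=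
      (Subgroup.mem_normalizer_iff.mp s.2 _).mp u.2
    refine (Finset.card_le_card (t := {u, ⟨_, hsu⟩}) fun v hv => ?_).trans Finset.card_le_two
    obtain ⟨-, hv⟩ := Finset.mem_filter.mp hv
    obtain ⟨g, hg⟩ := isConj_iff.mp (ConjClasses.mk_eq_mk_iff_isConj.mp hv.symm)
    have hgN : g ∈ N := mem_normalizer_of_conj hnc h hsub P u.2 hu1 (hg ▸ v.2)
    have hfixc : ∀ c : G, c ∈ C → c * u * c⁻¹ = u := fun c hc => by
      rw [← (Subgroup.mem_centralizer_iff.mp hc) u u.2, mul_inv_cancel_right]
    rw [Finset.mem_insert, Finset.mem_singleton]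
    by_cases hgC : (⟨g, hgN⟩ : N) ∈ C.subgroupOf N
    · left
      exact Subtype.ext (by rw [← hg, hfixc g hgC])
    · right
      have hm : (s⁻¹ * ⟨g, hgN⟩ : N) ∈ C.subgroupOf N :=
        (Subgroup.mul_mem_iff_of_index_two hindex).mpr
          (iff_of_false (fun hh => hsC (inv_mem_iff.mp hh)) hgC)
      have hc' := hfixc _ (Subgroup.mem_subgroupOf.mp hm)
      refine Subtype.ext ?_
      show (v : G) = (s : G) * u * (s : G)⁻¹
      calc (v : G) = g * u * g⁻¹ := hg.symm
        _ = (s : G) * (((s : G)⁻¹ * g) * u * ((s : G)⁻¹ * g)⁻¹) * (s : G)⁻¹ := by group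
        _ = (s : G) * u * (s : G)⁻¹ := by
          rw [show ((s⁻¹ * ⟨g, hgN⟩ : N) : G) = (s : G)⁻¹ * g from rfl] at hc'
          rw [hc']
  have hUcard : p - 1 ≤ (U.image f).card * 2 := by
    have h1 := Finset.card_le_mul_card_image (s := U) (f := f) 2 hfib
    rw [hU, Finset.card_erase_of_mem (Finset.mem_univ _), Finset.card_univ,
      ← Nat.card_eq_fintype_card, hP] at h1
    rw [hU]; omega
  have hord : ∀ c ∈ U.image f, ∀ g : G, ConjClasses.mk g = c → orderOf g = p := by
    intro c hc g hg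
    obtain ⟨u, hu, rfl⟩ := Finset.mem_image.mp hc
    rw [orderOf_conj_eq (ConjClasses.mk_eq_mk_iff_isConj.mp hg)]
    have hd : orderOf (u : G) ∣ p := (Subgroup.orderOf_dvd_natCard (P : Subgroup G) u.2).trans hP.dvd
    refine ((Nat.dvd_prime hp.out).mp hd).resolve_left
      fun h0 => Finset.ne_of_mem_erase hu (Subtype.ext (orderOf_eq_one_iff.mp h0))
  let c1 : ConjClasses G := ConjClasses.mk 1
  let cs : ConjClasses G := ConjClasses.mk (s : G)
  have hc1 : c1 ∉ U.image f := fun hc => by
    have := hord _ hc 1 rfl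
    rw [orderOf_one] at this
    exact hp.out.ne_one this.symm
  have hcs : cs ∉ U.image f := fun hc => by
    have := hord _ hc (s : G) rfl
    omega
  have hne1s : c1 ≠ cs := fun hh => by
    have := orderOf_conj_eq (ConjClasses.mk_eq_mk_iff_isConj.mp hh)
    rw [orderOf_one, hs2'] at this
    omega
  have hall : insert c1 (insert cs (U.image f)) = Finset.univ := by
    refine Finset.eq_univ_of_card _ ?_
    rw [Finset.card_insert_of_notMem (by
        rw [Finset.mem_insert]; exact fun hh => hh.elim hne1s hc1),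
      Finset.card_insert_of_notMem hcs, ← Nat.card_eq_fintype_card]
    have h3 := Finset.card_le_univ (insert c1 (insert cs (U.image f)))
    rw [Finset.card_insert_of_notMem (by
        rw [Finset.mem_insert]; exact fun hh => hh.elim hne1s hc1),
      Finset.card_insert_of_notMem hcs, ← Nat.card_eq_fintype_card, hk] at h3
    rw [hk]
    omega
  have hprimes : ∀ r : ℕ, r.Prime → r ∣ Nat.card G → r = 2 ∨ r = p := by
    intro r hr hrd
    haveI := Fact.mk hr
    obtain ⟨g, hg⟩ := exists_prime_orderOf_dvd_card' r hrd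
    have hm : ConjClasses.mk g ∈ insert c1 (insert cs (U.image f)) := hall ▸ Finset.mem_univ _
    rw [Finset.mem_insert, Finset.mem_insert] at hm
    rcases hm with hm | hm | hm
    · exfalso
      have := orderOf_conj_eq (ConjClasses.mk_eq_mk_iff_isConj.mp hm)
      rw [orderOf_one, hg] at this
      exact hr.ne_one this
    · left
      rw [← hg, orderOf_conj_eq (ConjClasses.mk_eq_mk_iff_isConj.mp hm), hs2']
    · exact Or.inr (hg ▸ hord _ hm g rfl)
  have hsolv : Group.IsSolvable G := S0144.result 2 p ((Nat.card G).factorization 2)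
    ((Nat.card G).factorization p) Nat.prime_two hp.out (by
      refine Nat.eq_of_factorization_eq Nat.card_pos.ne'
        (mul_ne_zero (pow_ne_zero _ two_ne_zero) (pow_ne_zero _ hp.out.ne_zero)) fun r => ?_
      rw [Nat.factorization_mul (pow_ne_zero _ two_ne_zero) (pow_ne_zero _ hp.out.ne_zero),
        Nat.Prime.factorization_pow Nat.prime_two, hp.out.factorization_pow, Finsupp.add_apply,
        Finsupp.single_apply, Finsupp.single_apply]
      by_cases hr2 : 2 = r
      · subst hr2; rw [if_pos rfl, if_neg hp2, add_zero]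
      by_cases hrp : p = r
      · subst hrp; rw [if_neg hr2, if_pos rfl, zero_add]
      rw [if_neg hr2, if_neg hrp, add_zero]
      by_cases hr : r.Prime
      · by_cases hrd : r ∣ Nat.card G
        · rcases hprimes r hr hrd with h2 | h2
          · exact absurd h2.symm hr2
          · exact absurd h2.symm hrp
        · exact Nat.factorization_eq_zero_of_not_dvd hrd
      · exact Nat.factorization_eq_zero_of_not_prime _ hr)
  exact hnc (IsSimpleGroup.comm_iff_isSolvable.mpr hsolv)

end Simple

theorem sylow_normal (n : ℕ) : ∀ (G : Type u) [Group G] [Finite G], Nat.card G < n → Below p G →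
    ∀ P : Sylow p G, (P : Subgroup G).Normal := by
  induction n with
  | zero => intro G _ _ h; exact absurd h (Nat.not_lt_zero _)
  | succ n ih =>
    intro G _ _ hcard h P
    haveI := Fintype.ofFinite G
    have hltH : ∀ H : Subgroup G, H ≠ ⊤ → Nat.card H < n := fun H hH => by
      refine lt_of_lt_of_le (lt_of_le_of_ne (Nat.le_of_dvd Nat.card_pos
        (Subgroup.card_subgroup_dvd_card H)) fun h0 => hH ((Subgroup.card_eq_iff_eq_top H).mp h0))
        (by omega)
    by_cases hcomm : ∀ a b : G, a * b = b * a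
    · exact ⟨fun x hx g => by rwa [hcomm g x, mul_inv_cancel_right]⟩
    by_cases hN : ∃ N : Subgroup G, N.Normal ∧ N ≠ ⊥ ∧ N ≠ ⊤
    · obtain ⟨N, hNn, hNb, hNt⟩ := hN
      haveI := hNn
      let mk := QuotientGroup.mk' N
      have hmk := QuotientGroup.mk'_surjective N
      have hquot : ∀ (L : Subgroup G) [L.Normal], L ≠ ⊥ → Nat.card (G ⧸ L) < n := by
        intro L _ hL
        have : Nat.card (G ⧸ L) < Nat.card G := by
          haveI : Nontrivial L := (Subgroup.nontrivial_iff_ne_bot L).mpr hL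
          rw [L.card_eq_card_quotient_mul_card_subgroup]
          exact lt_mul_of_one_lt_right Nat.card_pos Finite.one_lt_card
        omega
      obtain ⟨QN⟩ : Nonempty (Sylow p N) := inferInstance
      have hQn := ih N (hltH N hNt) (below_subgroup h N) QN
      by_cases hpN : p ∣ Nat.card N
      · have hQb : (QN : Subgroup N) ≠ ⊥ := fun hb => QN.not_dvd_index (by
          rw [hb, Subgroup.index_bot]; exact hpN)
        haveI : Subsingleton (Sylow p N) := Sylow.unique_of_normal QN hQn |>.instSubsingleton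
        haveI hQc : (QN : Subgroup N).Characteristic := QN.characteristic_of_subsingleton
        set R := (QN : Subgroup N).map N.subtype with hR
        haveI hRn : R.Normal := ConjAct.normal_of_characteristic_of_normal
        have hRb : R ≠ ⊥ := fun hb => hQb
          ((Subgroup.map_eq_bot_iff_of_injective _ N.subtype_injective).mp hb)
        have hq := ih (G ⧸ R) (hquot R hRb) (below_quotient h R)
          (P.mapSurjective (QuotientGroup.mk'_surjective R))
        have hRP : R ≤ (P : Subgroup G) := le_sup_left.trans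
          (P.is_maximal' ((QN.isPGroup'.map N.subtype).to_sup_of_normal_left P.isPGroup')
            le_sup_right).le
        have : ((P : Subgroup G).map (QuotientGroup.mk' R)).comap (QuotientGroup.mk' R) =
            (P : Subgroup G) := by
          rw [Subgroup.comap_map_eq, QuotientGroup.ker_mk', sup_eq_left.mpr hRP]
        rw [← this]
        exact (hq : ((P : Subgroup G).map (QuotientGroup.mk' R)).Normal).comap _
      · have hq := ih (G ⧸ N) (hquot N hNb) (below_quotient h N) (P.mapSurjective hmk)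
        haveI hTn : ((P : Subgroup G) ⊔ N).Normal := by
          have : (P : Subgroup G) ⊔ N = ((P : Subgroup G).map mk).comap mk := by
            rw [Subgroup.comap_map_eq, QuotientGroup.ker_mk']
          rw [this]
          exact (hq : ((P : Subgroup G).map mk).Normal).comap mk
        by_cases hT : (P : Subgroup G) ⊔ N = ⊤
        · have hc := ItoMichler.le_centralizer_of_degrees P N hpN hT
            (fun χ hd => absurd (Nat.le_of_dvd (CT.deg_pos χ.2) hd) (not_le.mpr (h χ)))
          refine Subgroup.normalizer_eq_top_iff.mp (top_le_iff.mp ?_)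
          rw [← hT]
          refine sup_le Subgroup.le_normalizer (le_trans ?_ (Subgroup.centralizer_le_normalizer _))
          exact fun z hz => Subgroup.mem_centralizer_iff.mpr fun w hw =>
            (Subgroup.mem_centralizer_iff.mp (hc hw) z hz).symm
        · let PT : Sylow p ↥((P : Subgroup G) ⊔ N) := P.subtype le_sup_left
          have hPT := ih _ (hltH _ hT) (below_subgroup h _) PT
          haveI : Subsingleton (Sylow p ↥((P : Subgroup G) ⊔ N)) :=
            Sylow.unique_of_normal PT hPT |>.instSubsingleton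
          haveI : (PT : Subgroup ↥((P : Subgroup G) ⊔ N)).Characteristic :=
            PT.characteristic_of_subsingleton
          have hn : ((PT : Subgroup ↥((P : Subgroup G) ⊔ N)).map
              ((P : Subgroup G) ⊔ N).subtype).Normal :=
            ConjAct.normal_of_characteristic_of_normal
          rwa [show (PT : Subgroup ↥((P : Subgroup G) ⊔ N)) = (P : Subgroup G).subgroupOf _ from rfl,
            Subgroup.map_subgroupOf_eq_of_le le_sup_left] at hn
    · push Not at hN
      haveI : Nontrivial G := by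
        by_contra hnt
        rw [not_nontrivial_iff_subsingleton] at hnt
        exact hcomm fun a b => Subsingleton.elim _ _
      haveI : IsSimpleGroup G := ⟨fun N hN' => or_iff_not_imp_left.mpr (hN N hN')⟩
      by_cases hpG : p ∣ Nat.card G
      · exact (simple_false hcomm h (fun H hH Q => ih H (hltH H hH) (below_subgroup h H) Q) P hpG).elim
      · have : (P : Subgroup G) = ⊥ := by
          obtain ⟨a, ha⟩ := P.isPGroup'.exists_card_eq
          rcases a with _ | a
          · exact Subgroup.card_eq_one.mp ha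
          · exact absurd ((dvd_pow_self p a.succ_ne_zero).trans
              (ha ▸ Subgroup.card_subgroup_dvd_card _)) hpG
        rw [this]; infer_instance

end Cfsg.Agent.CT.DegreesBelow
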