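import Cfsg.Agent.Lib.CT.TI
import Cfsg.Agent.Lib.CT.Orthogonality
import Cfsg.Agent.Lib.OddChar.Lattice

/-!
# The isometry lemma behind exceptional characters
-/

set_option autoImplicit false

namespace Cfsg.Agent.CT.Exceptional

universe u

variable {G : Type u} [Group G] [Fintype G]

theorem exists_sub_of_norm_two {a : G → ℂ} (ha : IsGeneralizedCharacter G a) (h1 : a 1 = 0)
    (h2 : classInner a a = 2) : ∃ x y : IrrCharacter G, x ≠ y ∧ a = (x : G → ℂ) - (y : G → ℂ) := by
  obtain ⟨x, y, hx, hy, hxy, rfl⟩ := OddChar.gen_norm_two ha h2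
  have key : ∀ {f g : G → ℂ}, IsIrrCharacter G f → IsIrrCharacter G g → f 1 + g 1 ≠ 0 := by
    intro f g hf hg h
    rw [deg_eq (isCharacter_of_isIrr hf), deg_eq (isCharacter_of_isIrr hg)] at h
    have h' : deg f + deg g = 0 := by exact_mod_cast h
    have := deg_pos hf
    omega
  simp only [Pi.add_apply] at h1
  rcases hx with hx | hx <;> rcases hy with hy | hy
  · exact absurd h1 (key hx hy)
  · refine ⟨⟨x, hx⟩, ⟨-y, hy⟩, fun e => ?_, by simp⟩
    have e' : x = -y := congrArg Subtype.val e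
    rw [e', classInner_neg_left, neg_eq_zero] at hxy
    simpa [OddChar.isSigned_norm (Or.inr hy : OddChar.IsSigned y)] using hxy
  · refine ⟨⟨y, hy⟩, ⟨-x, hx⟩, fun e => ?_, by simp [add_comm]⟩
    have e' : y = -x := congrArg Subtype.val e
    rw [e', classInner_neg_right, neg_eq_zero] at hxy
    simpa [OddChar.isSigned_norm (Or.inr hx : OddChar.IsSigned x)] using hxy
  · exact absurd (by simp only [Pi.neg_apply]; linear_combination -h1) (key hx hy)

theorem inner_pair [DecidableEq (IrrCharacter G)] (x y z w : IrrCharacter G) :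
    classInner ((x : G → ℂ) - (y : G → ℂ)) ((z : G → ℂ) - (w : G → ℂ)) =
      (((if x = z then (1 : ℤ) else 0) + (if y = w then 1 else 0) - (if x = w then 1 else 0) -
        (if y = z then 1 else 0) : ℤ) : ℂ) := by
  simp only [classInner_sub_left, classInner_sub_right, irr_inner_subtype]
  push_cast
  ring

/-- The isometry lemma. -/
theorem isometry {n : ℕ} (i₀ : Fin n) (τ : Fin n → (G → ℂ)) (h0 : τ i₀ = 0)
    (hgen : ∀ i, IsGeneralizedCharacter G (τ i)) (hone : ∀ i, τ i 1 = 0)
    (hgram : ∀ i j, i ≠ i₀ → j ≠ i₀ → classInner (τ i) (τ j) = if i = j then 2 else 1) :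
    ∃ ε : ℂ, (ε = 1 ∨ ε = -1) ∧ ∃ μ : Fin n → (G → ℂ), (∀ i, IsIrrCharacter G (μ i)) ∧
      Function.Injective μ ∧ ∀ i, τ i = ε • (μ i - μ i₀) := by
  classical
  have hsplit : ∀ i : {i // i ≠ i₀}, ∃ x y : IrrCharacter G, x ≠ y ∧ τ i = (x : G → ℂ) - (y : G → ℂ) :=
    fun i => exists_sub_of_norm_two (hgen _) (hone _) (by rw [hgram _ _ i.2 i.2, if_pos rfl])
  choose a b hab hτ using hsplit
  have share : ∀ i j : {i // i ≠ i₀}, i ≠ j →
      (a i = a j ∨ b i = b j) ∧ ¬ (a i = a j ∧ b i = b j) := by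
    intro i j hij
    have h := hgram _ _ i.2 j.2
    rw [if_neg fun e => hij (Subtype.ext e), hτ i, hτ j, inner_pair] at h
    have h' : (if a i = a j then (1 : ℤ) else 0) + (if b i = b j then 1 else 0) -
        (if a i = b j then 1 else 0) - (if b i = a j then 1 else 0) = 1 := by exact_mod_cast h
    have hne := hab i
    have hne' := hab j
    refine ⟨?_, ?_⟩
    · by_contra hh
      push Not at hh
      rw [if_neg hh.1, if_neg hh.2] at h'
      split_ifs at h' <;> omega
    · rintro ⟨ea, eb⟩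
      rw [if_pos ea, if_pos eb, if_neg (fun e => hne' (ea.symm.trans e)),
        if_neg (fun e => hne' (e.symm.trans eb))] at h'
      omega
  -- either all first or all second components agree
  have dicho : (∀ i j, a i = a j) ∨ (∀ i j, b i = b j) := by
    by_contra hh
    push Not at hh
    obtain ⟨⟨i, k, hik⟩, ⟨p, q, hpq⟩⟩ := hh
    have hb : b i = b k := ((share i k (by rintro rfl; exact hik rfl)).1).resolve_left hik
    -- some index disagrees with the common second component of `i` and `k`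
    obtain ⟨j, hj⟩ : ∃ j, b j ≠ b i := by
      by_contra hall
      push Not at hall
      exact hpq ((hall p).trans (hall q).symm)
    have h1 : a j = a i := ((share j i (by rintro rfl; exact hj rfl)).1).resolve_right hj
    have h2 : a j = a k :=
      ((share j k (by rintro rfl; exact hj hb.symm)).1).resolve_right fun e => hj (e.trans hb.symm)
    exact hik (h1.symm.trans h2)
  by_cases hex : Nonempty {i // i ≠ i₀}
  swap
  · refine ⟨1, Or.inl rfl, fun _ _ => 1, fun _ => isIrrCharacter_one, fun i j _ => ?_, fun i => ?_⟩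
    · have hi : i = i₀ := by_contra fun h => hex ⟨⟨i, h⟩⟩
      have hj : j = i₀ := by_contra fun h => hex ⟨⟨j, h⟩⟩
      rw [hi, hj]
    · have hi : i = i₀ := by_contra fun h => hex ⟨⟨i, h⟩⟩
      subst hi
      simp [h0]
  obtain ⟨i₁⟩ := hex
  have main : ∀ (c d : {i // i ≠ i₀} → IrrCharacter G) (ε : ℂ), (∀ i j, d i = d j) →
      (∀ i j, c i = c j → i = j) → (∀ i, c i ≠ d i) →
      (∀ i : {i // i ≠ i₀}, τ i = ε • ((c i : G → ℂ) - (d i : G → ℂ))) →
      ∃ μ : Fin n → (G → ℂ), (∀ i, IsIrrCharacter G (μ i)) ∧ Function.Injective μ ∧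
        ∀ i, τ i = ε • (μ i - μ i₀) := by
    intro c d ε hd hc hcd hτ'
    set f : Fin n → IrrCharacter G := fun i => if h : i = i₀ then d i₁ else c ⟨i, h⟩ with hf
    have hf0 : f i₀ = d i₁ := dif_pos rfl
    have hfne : ∀ (i : Fin n) (h : i ≠ i₀), f i = c ⟨i, h⟩ := fun i h => dif_neg h
    refine ⟨fun i => (f i : G → ℂ), fun i => (f i).2, fun i j h => ?_, fun i => ?_⟩
    · have h' : f i = f j := Subtype.ext h
      by_cases hi : i = i₀ <;> by_cases hj : j = i₀
      · rw [hi, hj]
      · rw [hi, hf0, hfne j hj, hd i₁ ⟨j, hj⟩] at h'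
        exact absurd h'.symm (hcd _)
      · rw [hj, hf0, hfne i hi, hd i₁ ⟨i, hi⟩] at h'
        exact absurd h' (hcd _)
      · rw [hfne i hi, hfne j hj] at h'
        exact congrArg Subtype.val (hc _ _ h')
    · by_cases hi : i = i₀
      · subst hi
        simp [h0]
      · simp only [hf0, hfne i hi]
        rw [hd i₁ ⟨i, hi⟩]
        exact hτ' ⟨i, hi⟩
  rcases dicho with hA | hB
  · refine ⟨-1, Or.inr rfl, main b a (-1) hA (fun i j h => ?_) (fun i => (hab i).symm)
      fun i => by rw [hτ i]; simp⟩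
    exact by_contra fun hne => (share i j hne).2 ⟨hA i j, h⟩
  · refine ⟨1, Or.inl rfl, main a b 1 hB (fun i j h => ?_) hab fun i => by rw [hτ i, one_smul]⟩
    exact by_contra fun hne => (share i j hne).2 ⟨h, hB i j⟩

/-- Exceptional characters from a trivial-intersection set. -/
theorem exceptional_of_TI {S : Set G} {N : Subgroup G} [Fintype N] (hTI : IsTI N S) {n : ℕ}
    (hn : 2 ≤ n) (χ : Fin n → (N → ℂ)) (hirr : ∀ i, IsIrrCharacter N (χ i))
    (hinj : Function.Injective χ) (hvan : ∀ i, ∀ x : N, (x : G) ∉ S → χ i x = 0)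
    (hdeg : ∀ i j, χ i 1 = χ j 1) :
    ∃ ε : ℂ, (ε = 1 ∨ ε = -1) ∧ ∃ θ : Fin n → (G → ℂ), (∀ i, IsIrrCharacter G (θ i)) ∧
      Function.Injective θ ∧ ∀ i j, indFun N (χ i) - indFun N (χ j) = ε • (θ i - θ j) := by
  classical
  set i₀ : Fin n := ⟨0, by omega⟩
  set τ : Fin n → (G → ℂ) := fun i => indFun N (χ i - χ i₀) with hτdef
  have hgen : ∀ i, IsGeneralizedCharacter G (τ i) := fun i =>
    isGen_indFun N (isGen_sub (isGen_of_isIrr (hirr i)) (isGen_of_isIrr (hirr i₀)))
  obtain ⟨ε, hε, μ, hμ, hμi, hμτ⟩ := isometry i₀ τ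
    (by
      show indFun N (χ i₀ - χ i₀) = 0
      rw [indFun_sub, sub_self]) hgen
    (fun i => by simp [τ, indFun_one_eval, hdeg i i₀])
    (fun i j hi hj => by
      simp only [τ]
      rw [classInner_indFun_TI hTI
        (isClassFunction_of_isGen (isGen_sub (isGen_of_isIrr (hirr j)) (isGen_of_isIrr (hirr i₀))))
        (fun x hx => by simp [hvan i x hx, hvan i₀ x hx])
        (fun x hx => by simp [hvan j x hx, hvan i₀ x hx]) (by simp [hdeg i i₀]),
        classInner_sub_left, classInner_sub_right, classInner_sub_right, irr_inner_self (hirr i₀),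
        irr_inner_of_ne (hirr i₀) (hirr j) (fun e => hj (hinj e).symm),
        irr_inner_of_ne (hirr i) (hirr i₀) (fun e => hi (hinj e))]
      split_ifs with h
      · subst h
        rw [irr_inner_self (hirr i)]
        ring
      · rw [irr_inner_of_ne (hirr i) (hirr j) (fun e => h (hinj e))]
        ring)
  refine ⟨ε, hε, μ, hμ, hμi, fun i j => ?_⟩
  have e1 := hμτ i
  have e2 := hμτ j
  simp only [τ, indFun_sub] at e1 e2
  calc indFun N (χ i) - indFun N (χ j)
      = (indFun N (χ i) - indFun N (χ i₀)) - (indFun N (χ j) - indFun N (χ i₀)) := by abel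
    _ = ε • (μ i - μ i₀) - ε • (μ j - μ i₀) := by rw [e1, e2]
    _ = ε • (μ i - μ j) := by rw [← smul_sub]; congr 1; abel

end Cfsg.Agent.CT.Exceptional
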