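import Cfsg.Agent.Lib.CT.Induced
import Cfsg.Agent.Lib.CT.Integral
import Cfsg.Agent.Lib.CT.Kernel
import Cfsg.Prelude.Def_Transfer

/-!
# Nonlinear characters of extraspecial groups
-/

set_option autoImplicit false
set_option linter.unusedSectionVars false

namespace Cfsg.Agent.CT.ExtraspecialChar

open scoped ComplexConjugate

universe u

variable {P : Type u} [Group P] [Fintype P] {p : ℕ} [hp : Fact p.Prime]

/-- A class function which is multiplied by a nontrivial scalar along each nontrivial central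
element vanishes off the centre. -/
theorem eq_zero_of_shift (hP : IsExtraspecial p P) {f : P → ℂ} (hf : IsClassFunction P f)
    (hshift : ∀ z ∈ Subgroup.center P, z ≠ 1 → ∃ c : ℂ, c ≠ 1 ∧ ∀ x, f (z * x) = c * f x)
    {x : P} (hx : x ∉ Subgroup.center P) : f x = 0 := by
  obtain ⟨y, hy⟩ : ∃ y, y * x ≠ x * y := by
    by_contra hcon
    push Not at hcon
    exact hx (Subgroup.mem_center_iff.mpr hcon)
  have hz : y * x * y⁻¹ * x⁻¹ ∈ Subgroup.center P := by
    rw [← hP.1.2.2, commutator_def]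
    exact Subgroup.commutator_mem_commutator (Subgroup.mem_top y) (Subgroup.mem_top x)
  obtain ⟨c, hc, hcs⟩ := hshift _ hz (fun h => hy (by
    rw [mul_inv_eq_one, mul_inv_eq_iff_eq_mul] at h; exact h))
  have h1 := hcs x
  rw [inv_mul_cancel_right, hf x y] at h1
  by_contra hne
  exact hc (mul_right_cancel₀ hne (by rw [← h1, one_mul]))

/-- Sum of `|f|²` for a function supported on the centre. -/
theorem sum_normSq (hP : IsExtraspecial p P) {f : P → ℂ}
    (hvan : ∀ x, x ∉ Subgroup.center P → f x = 0) {d : ℂ}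
    (hd : ∀ z ∈ Subgroup.center P, f z * conj (f z) = d) :
    ∑ x, f x * conj (f x) = p * d := by
  classical
  have h : ∀ x, f x * conj (f x) = if x ∈ Subgroup.center P then d else 0 := fun x => by
    split_ifs with hx
    · exact hd x hx
    · rw [hvan x hx, zero_mul]
  rw [Finset.sum_congr rfl fun x _ => h x, Finset.sum_ite, Finset.sum_const_zero, add_zero,
    Finset.sum_const, nsmul_eq_mul, ← Fintype.card_subtype, ← Nat.card_eq_fintype_card]
  exact congrArg (fun m : ℕ => (m : ℂ) * d) hP.2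

theorem induced (hP : IsExtraspecial p P) {n : ℕ} (hcard : Nat.card P = p ^ (2 * n + 1))
    (A : Subgroup P) (hA : Nat.card A = p ^ (n + 1)) {lam : A → ℂ}
    (hlam : IsCharacter A lam ∧ lam 1 = 1)
    (hZ : ∃ a : A, (a : P) ∈ Subgroup.center P ∧ lam a ≠ 1) :
    IsIrrCharacter P (indFun A lam) ∧ ∀ x : P, x ∉ Subgroup.center P → indFun A lam x = 0 := by
  classical
  obtain ⟨l, rfl⟩ := exists_hom_of_degree_one hlam.1 hlam.2
  obtain ⟨a, haZ, hla⟩ := hZ
  let L : A → ℂ := fun g => (l g : ℂ)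
  have ha1 : (⟨a, haZ⟩ : Subgroup.center P) ≠ 1 := fun h => hla (by
    simp [show a = 1 from Subtype.ext (congrArg Subtype.val h :)])
  have hgen : ∀ z ∈ Subgroup.center P, ∃ k : ℤ, z = (a : P) ^ k := fun z hz => by
    obtain ⟨k, hk⟩ := Subgroup.mem_zpowers_iff.mp
      (mem_zpowers_of_prime_card (g' := (⟨z, hz⟩ : Subgroup.center P)) hP.2 ha1)
    exact ⟨k, (congrArg Subtype.val hk).symm.trans (by simp)⟩
  have hZA : ∀ z ∈ Subgroup.center P, z ∈ A := fun z hz => by
    obtain ⟨k, rfl⟩ := hgen z hz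
    exact A.zpow_mem a.2 k
  have hshift : ∀ (z : P) (hz : z ∈ Subgroup.center P) (x : P),
      indFun A L (z * x) = L ⟨z, hZA z hz⟩ * indFun A L x := by
    intro z hz x
    have h : ∀ w : P, extendByZero A L (z * w) = L ⟨z, hZA z hz⟩ * extendByZero A L w := by
      intro w
      by_cases hw : w ∈ A
      · rw [extendByZero_mem A L hw, extendByZero_mem A L (A.mul_mem (hZA z hz) hw)]
        show (l _ : ℂ) = (l _ : ℂ) * (l _ : ℂ)
        rw [← Units.val_mul, ← map_mul]
        rfl
      · rw [extendByZero_not_mem A L hw, extendByZero_not_mem A L, mul_zero]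
        exact fun hm => hw ((A.mul_mem_cancel_left (hZA z hz)).mp hm)
    have hc : ∀ g : P, g⁻¹ * (z * x) * g = z * (g⁻¹ * x * g) := fun g => by
      rw [← mul_assoc, Subgroup.mem_center_iff.mp hz g⁻¹]; group
    simp only [indFun, hc, h, ← Finset.mul_sum]
    ring
  have hne : ∀ (z : P) (hz : z ∈ Subgroup.center P), z ≠ 1 → L ⟨z, hZA z hz⟩ ≠ 1 := by
    intro z hz hz1 hL
    have hzz : (⟨z, hz⟩ : Subgroup.center P) ≠ 1 := fun h => hz1 (congrArg Subtype.val h)
    obtain ⟨k, hk⟩ := Subgroup.mem_zpowers_iff.mp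
      (mem_zpowers_of_prime_card (g' := (⟨a, haZ⟩ : Subgroup.center P)) hP.2 hzz)
    apply hla
    have hk' : (⟨z, hZA z hz⟩ : A) ^ k = a := Subtype.ext (by
      simpa using congrArg Subtype.val hk)
    show (l a : ℂ) = 1
    rw [← hk', map_zpow, show l ⟨z, hZA z hz⟩ = 1 from Units.ext hL, one_zpow, Units.val_one]
  have hvan : ∀ x : P, x ∉ Subgroup.center P → indFun A L x = 0 := fun x hx =>
    eq_zero_of_shift hP (isClassFunction_indFun A L)
      (fun z hz hz1 => ⟨_, hne z hz hz1, hshift z hz⟩) hx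
  have hidx : A.index = p ^ n := by
    have h := A.index_mul_card
    rw [hA, hcard, show 2 * n + 1 = n + (n + 1) from by omega, pow_add p n (n + 1)] at h
    exact Nat.eq_of_mul_eq_mul_right (pow_pos hp.out.pos _) h
  have h1 : indFun A L 1 = (p : ℂ) ^ n := by
    rw [indFun_one_eval, hidx]
    simp [L]
  have hsum := sum_normSq hP hvan (d := ((p : ℂ) ^ n) ^ 2) fun z hz => by
    have h := hshift z hz 1
    rw [mul_one] at h
    have hn : L ⟨z, hZA z hz⟩ * conj (L ⟨z, hZA z hz⟩) = 1 := by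
      have hpow : L ⟨z, hZA z hz⟩ ^ orderOf (⟨z, hZA z hz⟩ : A) = 1 := by
        show (l _ : ℂ) ^ _ = 1
        rw [← Units.val_pow_eq_pow_val, ← map_pow, pow_orderOf_eq_one, map_one, Units.val_one]
      rw [Complex.mul_conj, Complex.normSq_eq_norm_sq,
        Complex.norm_eq_one_of_pow_eq_one hpow (orderOf_pos _).ne']
      simp
    rw [h, h1, map_mul, map_pow, map_natCast]
    linear_combination ((p : ℂ) ^ n) ^ 2 * hn
  have hchar : IsCharacter P (indFun A L) := isCharacter_indFun A hlam.1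
  refine ⟨isIrr_of_isGen_norm_one (isGen_of_isCharacter hchar) ?_ ?_, hvan⟩
  · show classInner (indFun A L) (indFun A L) = 1
    unfold classInner
    rw [hsum, hcard, Nat.cast_pow]
    have : (p : ℂ) ≠ 0 := Nat.cast_ne_zero.mpr hp.out.ne_zero
    field_simp
    ring
  · show 0 < (indFun A L 1).re
    rw [h1, ← Nat.cast_pow, Complex.natCast_re]
    exact_mod_cast pow_pos hp.out.pos n

theorem degrees (hP : IsExtraspecial p P) {n : ℕ} (hcard : Nat.card P = p ^ (2 * n + 1)) :
    (∀ χ : IrrCharacter P, (χ : P → ℂ) 1 = 1 ∨ (χ : P → ℂ) 1 = (p : ℂ) ^ n) ∧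
      Nat.card {χ : IrrCharacter P // (χ : P → ℂ) 1 = (p : ℂ) ^ n} = p - 1 := by
  classical
  have hdeg : ∀ χ : IrrCharacter P, (χ : P → ℂ) 1 ≠ 1 → (χ : P → ℂ) 1 = (p : ℂ) ^ n := by
    intro χ hχ1
    obtain ⟨m, ρ, hρ, hχ⟩ := χ.2
    haveI := hρ
    have hcc := isClassFunction_of_isIrr χ.2
    have hscal : ∀ z ∈ Subgroup.center P, ∃ ω : ℂ, ‖ω‖ = 1 ∧
        ∀ x, (χ : P → ℂ) (z * x) = ω * (χ : P → ℂ) x := by
      intro z hz
      obtain ⟨ω, hω, hω1⟩ := central_scalar ρ hz
      refine ⟨ω, hω1, fun x => ?_⟩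
      rw [← hχ]
      simp only [Representation.character, map_mul, hω]
      rw [show (ω • LinearMap.id) * ρ x = ω • ρ x from LinearMap.ext fun v => rfl, map_smul,
        smul_eq_mul]
    have hvan : ∀ x, x ∉ Subgroup.center P → (χ : P → ℂ) x = 0 := fun x hx => by
      refine eq_zero_of_shift hP hcc (fun z hz hz1 => ?_) hx
      obtain ⟨ω, -, hω⟩ := hscal z hz
      refine ⟨ω, fun h1 => hχ1 ?_, hω⟩
      have hker : ∀ w ∈ Subgroup.center P, ∀ y, (χ : P → ℂ) (w * y) = (χ : P → ℂ) y := by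
        intro w hw y
        obtain ⟨k, hk⟩ := (Submonoid.mem_powers_iff _ _).mp
          (mem_powers_of_prime_card (g := (⟨z, hz⟩ : Subgroup.center P))
            (g' := (⟨w, hw⟩ : Subgroup.center P)) hP.2 fun h => hz1 (congrArg Subtype.val h))
        rw [show w = z ^ k from (congrArg Subtype.val hk).symm]
        clear hk
        induction k with
        | zero => simp
        | succ k ih => rw [pow_succ', mul_assoc, hω, h1, one_mul, ih]
      obtain ⟨ψ, hψ, hψe⟩ := exists_quotient_irr χ.2 (commutator P) fun g hg => by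
        have := hker g (hP.1.2.2 ▸ hg) 1
        rwa [mul_one] at this
      have hc : ∀ a b : P ⧸ commutator P, a * b = b * a := fun a b =>
        (inferInstance : CommGroup (Abelianization P)).mul_comm a b
      rw [← hψe 1, QuotientGroup.mk_one]
      exact irr_degree_one_of_comm hc hψ
    have hsum := sum_normSq hP hvan (d := ((χ : P → ℂ) 1) ^ 2) fun z hz => by
      obtain ⟨ω, hω1, hω⟩ := hscal z hz
      have h := hω 1
      rw [mul_one] at h
      have hn : ω * conj ω = 1 := by rw [Complex.mul_conj, Complex.normSq_eq_norm_sq, hω1]; simp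
      rw [h, map_mul, deg_eq (isCharacter_of_isIrr χ.2), map_natCast]
      linear_combination ((deg (χ : P → ℂ) : ℂ) ^ 2) * hn
    have h1 := irr_inner_self χ.2
    rw [classInner, hsum, inv_mul_eq_one₀ (Nat.cast_ne_zero.mpr Nat.card_pos.ne'), hcard,
      deg_eq (isCharacter_of_isIrr χ.2)] at h1
    rw [deg_eq (isCharacter_of_isIrr χ.2), ← Nat.cast_pow]
    have h2 : p * deg (χ : P → ℂ) ^ 2 = p * (p ^ n) ^ 2 := by
      rw [← pow_mul, ← pow_succ']
      rw [show n * 2 + 1 = 2 * n + 1 from by omega]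
      exact_mod_cast h1.symm
    exact congrArg Nat.cast (Nat.pow_left_injective two_ne_zero
      (Nat.eq_of_mul_eq_mul_left hp.out.pos h2))
  refine ⟨fun χ => or_iff_not_imp_left.mpr (hdeg χ), ?_⟩
  have hn0 : n ≠ 0 := by
    rintro rfl
    have htop : Subgroup.center P = ⊤ :=
      Subgroup.eq_top_of_card_eq _ (by rw [hP.2, hcard, Nat.mul_zero, zero_add, pow_one])
    have hbot : commutator P = ⊥ := by
      rw [commutator_def, eq_bot_iff, Subgroup.commutator_le]
      intro a _ b _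
      rw [Subgroup.mem_bot, commutatorElement_eq_one_iff_mul_comm]
      exact (Subgroup.mem_center_iff.mp (htop ▸ Subgroup.mem_top b) a)
    rw [hP.1.2.2, Subgroup.eq_bot_iff_card, hP.2] at hbot
    exact hp.out.ne_one hbot
  have hne : (p : ℂ) ^ n ≠ 1 := by
    rw [← Nat.cast_pow]
    exact_mod_cast (Nat.one_lt_pow hn0 hp.out.one_lt).ne'
  have hidx : (commutator P).index = p ^ (2 * n) := by
    have h := (commutator P).index_mul_card
    have hcc : Nat.card (commutator P) = p := by rw [hP.1.2.2]; exact hP.2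
    rw [hcc, hcard, pow_succ] at h
    exact Nat.eq_of_mul_eq_mul_right hp.out.pos h
  have hlin := card_linear_irr (G := P)
  rw [hidx, Nat.card_eq_fintype_card, Fintype.card_subtype] at hlin
  have hS := sum_degree_sq (G := P)
  have e1 : ∑ χ ∈ Finset.univ.filter (fun χ : IrrCharacter P => (χ : P → ℂ) 1 = 1),
      (χ : P → ℂ) 1 ^ 2 = ((p ^ (2 * n) : ℕ) : ℂ) := by
    rw [Finset.sum_congr rfl (g := fun _ => (1 : ℂ)) fun χ hχ => by
      rw [(Finset.mem_filter.mp hχ).2, one_pow], Finset.sum_const, nsmul_eq_mul, mul_one, hlin]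
  have e2 : ∑ χ ∈ Finset.univ.filter (fun χ : IrrCharacter P => ¬(χ : P → ℂ) 1 = 1),
      (χ : P → ℂ) 1 ^ 2 = ((Finset.univ.filter fun χ : IrrCharacter P =>
        ¬(χ : P → ℂ) 1 = 1).card : ℂ) * ((p : ℂ) ^ n) ^ 2 := by
    rw [Finset.sum_congr rfl (g := fun _ => ((p : ℂ) ^ n) ^ 2) fun χ hχ => by
      rw [hdeg χ (Finset.mem_filter.mp hχ).2], Finset.sum_const, nsmul_eq_mul]
  rw [← Finset.sum_filter_add_sum_filter_not _ (fun χ : IrrCharacter P => (χ : P → ℂ) 1 = 1),
    e1, e2, hcard] at hS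
  have hS' : p ^ (2 * n) * (1 + (Finset.univ.filter fun χ : IrrCharacter P =>
      ¬(χ : P → ℂ) 1 = 1).card) = p ^ (2 * n) * p := by
    rw [← pow_succ]
    have : (p : ℂ) ^ (2 * n) * (1 + ((Finset.univ.filter fun χ : IrrCharacter P =>
      ¬(χ : P → ℂ) 1 = 1).card : ℂ)) = (p : ℂ) ^ (2 * n + 1) := by
      push_cast at hS
      rw [← hS]; ring
    exact_mod_cast this
  have := Nat.eq_of_mul_eq_mul_left (pow_pos hp.out.pos _) hS'
  rw [Nat.card_eq_fintype_card, Fintype.card_subtype]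
  rw [show (Finset.univ.filter fun χ : IrrCharacter P => (χ : P → ℂ) 1 = (p : ℂ) ^ n) =
    Finset.univ.filter fun χ : IrrCharacter P => ¬(χ : P → ℂ) 1 = 1 from
    Finset.filter_congr fun χ _ => ⟨fun h h1 => hne (h ▸ h1), hdeg χ⟩]
  omega

end Cfsg.Agent.CT.ExtraspecialChar
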