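import Cfsg.Agent.Lib.CT.Clifford
import Mathlib.LinearAlgebra.PID

/-!
# The degree bound of Feit and Thompson for a subgroup with small centraliser overlap
-/

set_option autoImplicit false
set_option linter.unusedSectionVars false

namespace Cfsg.Agent.CT.FTDegree

open scoped ComplexConjugate
open Module Subgroup

universe u

variable {G : Type u} [Group G] [Fintype G] (H : Subgroup G) [Fintype H]

/-- The average over the cosets of `H`. -/
noncomputable def avg (χ : G → ℂ) (g : G) : ℂ := (Nat.card H : ℂ)⁻¹ * ∑ h : H, χ ((h : G) * g)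

theorem avg_mul_left (χ : G → ℂ) {h : G} (hh : h ∈ H) (g : G) : avg H χ (h * g) = avg H χ g := by
  unfold avg
  congr 1
  exact Fintype.sum_equiv (Equiv.mulRight ⟨h, hh⟩) _ _ fun k => by simp [mul_assoc]

theorem avg_one (χ : G → ℂ) :
    avg H χ 1 = classInner (fun h : H => χ h) (fun _ => 1) := by
  simp [avg, classInner]

/-- If `g` normalises `H` and fixes only the identity of `H`, the average is the value at `g`. -/
theorem avg_eq_self {χ : G → ℂ} (hχ : IsClassFunction G χ) (hab : ∀ a ∈ H, ∀ b ∈ H, a * b = b * a)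
    {g : G} (hg : g ∈ normalizer (H : Set G)) (hfix : ∀ h ∈ H, h * g = g * h → h = 1) :
    avg H χ g = χ g := by
  classical
  let f : H → H := fun h => ⟨h * g * (h : G)⁻¹ * g⁻¹, by
    rw [show (h : G) * g * (h : G)⁻¹ * g⁻¹ = h * (g * (h : G)⁻¹ * g⁻¹) by group]
    exact mul_mem h.2 ((mem_normalizer_iff.mp hg _).mp (inv_mem h.2))⟩
  have hinj : Function.Injective f := by
    intro a b e
    have e' : (a : G) * g * (a : G)⁻¹ * g⁻¹ = b * g * (b : G)⁻¹ * g⁻¹ := congrArg Subtype.val e
    have h1 : ((b : G)⁻¹ * a) * g = g * ((b : G)⁻¹ * a) := by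
      calc ((b : G)⁻¹ * a) * g = (b : G)⁻¹ * (a * g * (a : G)⁻¹ * g⁻¹) * g * a := by group
        _ = (b : G)⁻¹ * (b * g * (b : G)⁻¹ * g⁻¹) * g * a := by rw [e']
        _ = g * ((b : G)⁻¹ * a) := by group
    exact Subtype.ext (inv_mul_eq_one.mp (hfix _ (mul_mem (inv_mem b.2) a.2) h1)).symm
  have hsurj := Finite.injective_iff_surjective.mp hinj
  have hval : ∀ h : H, χ ((h : G) * g) = χ g := by
    intro h
    obtain ⟨k, rfl⟩ := hsurj h
    show χ ((k : G) * g * (k : G)⁻¹ * g⁻¹ * g) = χ g
    rw [inv_mul_cancel_right, hχ]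
  rw [avg, Finset.sum_congr rfl fun h _ => hval h, Finset.sum_const, Finset.card_univ, nsmul_eq_mul,
    ← Nat.card_eq_fintype_card, ← mul_assoc, inv_mul_cancel₀ (Nat.cast_ne_zero.mpr Nat.card_pos.ne'),
    one_mul]

variable {d : ℕ} (ρ : Representation ℂ G (Fin d → ℂ))

/-- The projection onto the vectors fixed by `H`. -/
noncomputable def proj : Module.End ℂ (Fin d → ℂ) := (Nat.card H : ℂ)⁻¹ • ∑ h : H, ρ (h : G)

theorem rho_proj {h : G} (hh : h ∈ H) : ρ h * proj H ρ = proj H ρ := by
  rw [proj, mul_smul_comm, Finset.mul_sum]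
  congr 1
  exact Fintype.sum_equiv (Equiv.mulLeft ⟨h, hh⟩) _ _ fun k => by simp [map_mul]

theorem proj_idem : proj H ρ * proj H ρ = proj H ρ := by
  nth_rw 1 [proj]
  rw [smul_mul_assoc, Finset.sum_mul, Finset.sum_congr rfl fun h _ => rho_proj H ρ h.2,
    Finset.sum_const, Finset.card_univ, ← Nat.cast_smul_eq_nsmul ℂ, smul_smul,
    ← Nat.card_eq_fintype_card, inv_mul_cancel₀ (Nat.cast_ne_zero.mpr Nat.card_pos.ne'), one_smul]

theorem proj_comm {g : G} (hg : g ∈ normalizer (H : Set G)) :
    ρ g * proj H ρ = proj H ρ * ρ g := by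
  rw [proj, mul_smul_comm, smul_mul_assoc, Finset.mul_sum, Finset.sum_mul]
  congr 1
  let f : H → H := fun h => ⟨g * h * g⁻¹, (mem_normalizer_iff.mp hg _).mp h.2⟩
  have hinj : Function.Injective f := fun a b e => Subtype.ext (by
    have e' : g * (a : G) * g⁻¹ = g * b * g⁻¹ := congrArg Subtype.val e
    exact mul_left_cancel (mul_right_cancel e'))
  refine Fintype.sum_bijective f ⟨hinj, Finite.injective_iff_surjective.mp hinj⟩ _ _ fun h => ?_
  rw [← map_mul, ← map_mul]
  congr 1
  show g * h = g * h * g⁻¹ * g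
  group

theorem avg_eq_trace (g : G) :
    avg H ρ.character g = LinearMap.trace ℂ _ (proj H ρ * ρ g) := by
  rw [proj, smul_mul_assoc, map_smul, Finset.sum_mul, map_sum, smul_eq_mul, avg]
  congr 1
  refine Finset.sum_congr rfl fun h _ => ?_
  rw [← map_mul]
  rfl

/-- The part of the restriction to the normaliser with no constituent trivial on `H`. -/
theorem rest_isCharacter :
    IsCharacter (normalizer (H : Set G)) (fun n : normalizer (H : Set G) =>
      ρ.character (n : G) - avg H ρ.character n) := by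
  set N := normalizer (H : Set G)
  let τ : Representation ℂ N (Fin d → ℂ) := ρ.comp N.subtype
  set P := proj H ρ with hP
  have hW : ∀ n : N, ∀ v ∈ LinearMap.ker P, τ n v ∈ LinearMap.ker P := by
    intro n v hv
    rw [LinearMap.mem_ker] at hv ⊢
    show (P * ρ (n : G)) v = 0
    rw [← proj_comm H ρ n.2, Module.End.mul_apply, hv, map_zero]
  have hW' : ∀ n : N, ∀ v ∈ LinearMap.range P, τ n v ∈ LinearMap.range P := by
    rintro n _ ⟨w, rfl⟩
    exact ⟨ρ (n : G) w, (LinearMap.congr_fun (proj_comm H ρ n.2) w).symm⟩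
  have hc : IsCompl (LinearMap.ker P) (LinearMap.range P) :=
    (LinearMap.isProj_range_iff_isIdempotentElem P).mpr (proj_idem H ρ) |>.isCompl.symm
  have key : (fun n : N => ρ.character (n : G) - avg H ρ.character n) =
      (restrictSub τ _ hW).character := by
    funext n
    have h1 := congrFun (char_isCompl τ hc hW hW') n
    rw [Pi.add_apply] at h1
    have h2 : (restrictSub τ _ hW').character n = avg H ρ.character n := by
      rw [avg_eq_trace]
      have hmem : ∀ v, (P * ρ (n : G)) v ∈ LinearMap.range P := fun v => ⟨_, rfl⟩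
      rw [← LinearMap.trace_restrict_eq_of_forall_mem _ (P * ρ (n : G)) hmem]
      show LinearMap.trace ℂ _ (restrictSub τ _ hW' n) = _
      congr 1
      refine LinearMap.ext fun v => Subtype.ext ?_
      obtain ⟨v, w, rfl⟩ := v
      show ρ (n : G) (P w) = P (ρ (n : G) (P w))
      rw [← Module.End.mul_apply (ρ (n : G)), proj_comm H ρ n.2, Module.End.mul_apply,
        ← Module.End.mul_apply P P, proj_idem]
    rw [← h2]
    change ρ.character (n : G) = _ at h1
    rw [h1]
    ring
  rw [key]
  exact isCharacter_character _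

variable (hab : ∀ a ∈ H, ∀ b ∈ H, a * b = b * a) (hZ : H ⊓ center G = ⊥)
  (hone : ∀ g : G, g ∉ center G → ∀ a b : G,
    centralizer ({g} : Set G) ⊓ H.map (MulAut.conj a).toMonoidHom ≠ ⊥ →
    centralizer ({g} : Set G) ⊓ H.map (MulAut.conj b).toMonoidHom ≠ ⊥ →
    H.map (MulAut.conj a).toMonoidHom = H.map (MulAut.conj b).toMonoidHom)

/-- The non-central elements commuting with a nontrivial element of `H`. -/
def overlap : Set G := {g | g ∉ center G ∧ ∃ h ∈ H, h ≠ 1 ∧ h * g = g * h}

theorem conj_meet {g : G} (hg : g ∈ overlap H) (a : G) :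
    centralizer ({a * g * a⁻¹} : Set G) ⊓ H.map (MulAut.conj a).toMonoidHom ≠ ⊥ := by
  obtain ⟨-, h, hh, hh1, hc⟩ := hg
  intro e
  refine hh1 (conj_eq_one_iff.mp (mem_bot.mp (e.le ⟨?_, h, hh, rfl⟩) : a * h * a⁻¹ = 1))
  show a * h * a⁻¹ ∈ centralizer ({a * g * a⁻¹} : Set G)
  refine mem_centralizer_iff.mpr ?_
  rintro _ rfl
  calc a * g * a⁻¹ * (a * h * a⁻¹) = a * (g * h) * a⁻¹ := by group
    _ = a * (h * g) * a⁻¹ := by rw [hc]
    _ = a * h * a⁻¹ * (a * g * a⁻¹) := by group

include hone in
theorem mem_normalizer_of_conj_eq {g g' a b : G} (hg : g ∈ overlap H) (hg' : g' ∈ overlap H)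
    (e : a * g * a⁻¹ = b * g' * b⁻¹) : b⁻¹ * a ∈ normalizer (H : Set G) := by
  have hnc : a * g * a⁻¹ ∉ center G := fun hz => hg.1 (by
    have := (inferInstance : (center G).Normal).conj_mem _ hz a⁻¹
    simpa [mul_assoc] using this)
  have h1 := hone _ hnc a b (conj_meet H hg a) (e ▸ conj_meet H hg' b)
  rw [mem_normalizer_iff]
  intro x
  constructor
  · intro hx
    obtain ⟨y, hy, hxy⟩ := h1.le ⟨x, hx, rfl⟩
    change b * y * b⁻¹ = a * x * a⁻¹ at hxy
    have : b⁻¹ * a * x * (b⁻¹ * a)⁻¹ = y := by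
      calc b⁻¹ * a * x * (b⁻¹ * a)⁻¹ = b⁻¹ * (a * x * a⁻¹) * b := by group
        _ = y := by rw [← hxy]; group
    rw [this]; exact hy
  · intro hx
    obtain ⟨y, hy, hxy⟩ := h1.ge ⟨_, hx, rfl⟩
    change a * y * a⁻¹ = b * (b⁻¹ * a * x * (b⁻¹ * a)⁻¹) * b⁻¹ at hxy
    have : y = x := by
      calc y = a⁻¹ * (a * y * a⁻¹) * a := by group
        _ = x := by rw [hxy]; group
    exact this ▸ hy

include hone in
theorem overlap_subset {g : G} (hg : g ∈ overlap H) : g ∈ normalizer (H : Set G) := by
  have := mem_normalizer_of_conj_eq H hone (a := g) (b := 1) hg hg (by group)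
  simpa using this

variable [hirr : ρ.IsIrreducible]

theorem char_center_mul {z : G} (hz : z ∈ center G) :
    ∃ ω : ℂ, ‖ω‖ = 1 ∧ ∀ g, ρ.character (g * z) = ω * ρ.character g := by
  have hc : ∀ g, ρ g * ρ z = ρ z * ρ g := fun g => by
    rw [← map_mul, ← map_mul, mem_center_iff.mp hz g]
  have h1 := eq_scalar_of_commute ρ (ρ z) fun g => (hc g).symm
  set ω := LinearMap.trace ℂ _ (ρ z) / (finrank ℂ (Fin d → ℂ) : ℂ) with hω
  refine ⟨ω, ?_, fun g => ?_⟩
  · have h2 : ρ z ^ orderOf z = 1 := by rw [← map_pow, pow_orderOf_eq_one, map_one]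
    rw [h1, smul_pow, show (LinearMap.id : Module.End ℂ (Fin d → ℂ)) = 1 from rfl, one_pow] at h2
    obtain ⟨hV, -⟩ := (isIrreducible_iff ρ).mp hirr
    obtain ⟨v, hv⟩ := exists_ne (0 : Fin d → ℂ)
    have h3 := LinearMap.congr_fun h2 v
    simp only [LinearMap.smul_apply, Module.End.one_apply] at h3
    have h4 : ω ^ orderOf z = 1 := by
      by_contra h5
      have : (ω ^ orderOf z - 1) • v = 0 := by rw [sub_smul, h3, one_smul, sub_self]
      rcases smul_eq_zero.mp this with h6 | h6
      · exact h5 (sub_eq_zero.mp h6)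
      · exact hv h6
    exact Complex.norm_eq_one_of_pow_eq_one h4 (orderOf_pos z).ne'
  · show LinearMap.trace ℂ _ (ρ (g * z)) = ω * LinearMap.trace ℂ _ (ρ g)
    conv_lhs => rw [map_mul, h1, show (LinearMap.id : Module.End ℂ (Fin d → ℂ)) = 1 from rfl,
      mul_smul_comm, mul_one, map_smul, smul_eq_mul]

theorem sum_normSq_eq_card : ∑ g : G, Complex.normSq (ρ.character g) = Nat.card G := by
  have h := irr_inner_self (isIrrCharacter_character ρ)
  rw [classInner_eq_finsum, finsum_eq_sum_of_fintype, inv_mul_eq_one₀ card_ne_zero] at h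
  simp only [Complex.mul_conj] at h
  exact_mod_cast h.symm

open Classical in
include hone in
theorem overlap_sum_lt :
    ∑ g ∈ Finset.univ.filter (· ∈ overlap H), Complex.normSq (ρ.character g) <
      Nat.card (normalizer (H : Set G)) := by
  set N := normalizer (H : Set G)
  set T := Finset.univ.filter fun g => g ∈ overlap H
  set f : G → ℝ := fun g => Complex.normSq (ρ.character g)
  have hpair : ∑ p ∈ (Finset.univ : Finset G) ×ˢ T, f (p.1 * p.2 * p.1⁻¹) =
      (Nat.card G : ℝ) * ∑ g ∈ T, f g := by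
    rw [Finset.sum_product]
    have : ∀ a : G, ∀ g, f (a * g * a⁻¹) = f g := fun a g => by
      simp only [f, Representation.char_conj]
    simp only [this, Finset.sum_const, Finset.card_univ, nsmul_eq_mul, Nat.card_eq_fintype_card]
  have hfib : ∀ y : G, (((Finset.univ : Finset G) ×ˢ T).filter fun p => p.1 * p.2 * p.1⁻¹ = y).card ≤
      Nat.card N := by
    intro y
    set F := ((Finset.univ : Finset G) ×ˢ T).filter fun p => p.1 * p.2 * p.1⁻¹ = y with hF
    by_cases hne : F.Nonempty
    · obtain ⟨q, hq⟩ := hne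
      rw [Nat.card_eq_fintype_card, ← Finset.card_univ]
      have hmem : ∀ p ∈ F, q.1⁻¹ * p.1 ∈ N := fun p hp => by
        simp only [hF, T, Finset.mem_filter, Finset.mem_product, Finset.mem_univ, true_and] at hp hq
        exact mem_normalizer_of_conj_eq H hone hp.1 hq.1 (hp.2.trans hq.2.symm)
      refine Finset.card_le_card_of_injOn (fun p => if h : q.1⁻¹ * p.1 ∈ N then ⟨_, h⟩ else 1)
        (fun p _ => Finset.mem_univ _) fun p hp p' hp' e => ?_
      simp only [dif_pos (hmem p hp), dif_pos (hmem p' hp')] at e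
      have h1 : p.1 = p'.1 := mul_left_cancel (congrArg Subtype.val e)
      have e1 := (Finset.mem_filter.mp hp).2
      have e2 := (Finset.mem_filter.mp hp').2
      rw [h1] at e1
      exact Prod.ext h1 (mul_left_cancel (mul_right_cancel (e1.trans e2.symm)))
    · rw [Finset.not_nonempty_iff_eq_empty.mp hne, Finset.card_empty]
      exact Nat.zero_le _
  have hle : ∑ p ∈ (Finset.univ : Finset G) ×ˢ T, f (p.1 * p.2 * p.1⁻¹) ≤
      (Nat.card N : ℝ) * ∑ y ∈ Finset.univ.filter (fun y => y ∉ center G), f y := by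
    rw [← Finset.sum_fiberwise_of_maps_to (g := fun p : G × G => p.1 * p.2 * p.1⁻¹)
      (t := Finset.univ.filter fun y => y ∉ center G), Finset.mul_sum]
    · refine Finset.sum_le_sum fun y _ => ?_
      calc ∑ p ∈ ((Finset.univ : Finset G) ×ˢ T).filter (fun p => p.1 * p.2 * p.1⁻¹ = y),
            f (p.1 * p.2 * p.1⁻¹)
          = ∑ p ∈ ((Finset.univ : Finset G) ×ˢ T).filter (fun p => p.1 * p.2 * p.1⁻¹ = y), f y :=
            Finset.sum_congr rfl fun p hp => by rw [(Finset.mem_filter.mp hp).2]
        _ ≤ Nat.card N * f y := by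
            rw [Finset.sum_const, nsmul_eq_mul]
            exact mul_le_mul_of_nonneg_right (by exact_mod_cast hfib y) (Complex.normSq_nonneg _)
    · intro p hp
      simp only [T, Finset.mem_filter, Finset.mem_product, Finset.mem_univ, true_and] at hp ⊢
      exact fun hz => hp.1 (by
        have := (inferInstance : (center G).Normal).conj_mem _ hz p.1⁻¹
        simpa [mul_assoc] using this)
  have hlt : ∑ y ∈ Finset.univ.filter (fun y => y ∉ center G), f y < (Nat.card G : ℝ) := by
    rw [← sum_normSq_eq_card ρ, ← Finset.sum_filter_add_sum_filter_not Finset.univ (fun y => y ∉ center G)]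
    refine lt_add_of_pos_right _ (Finset.sum_pos' (fun y _ => Complex.normSq_nonneg _)
      ⟨1, by simp [one_mem], Complex.normSq_pos.mpr ?_⟩)
    exact irr_one_ne_zero (isIrrCharacter_character ρ)
  rw [hpair] at hle
  have h1 : (Nat.card G : ℝ) * ∑ g ∈ T, f g < (Nat.card G : ℝ) * Nat.card N :=
    hle.trans_lt (by
      rw [mul_comm (Nat.card G : ℝ)]
      exact mul_lt_mul_of_pos_left hlt (by exact_mod_cast Nat.card_pos))
  exact lt_of_mul_lt_mul_left h1 (Nat.cast_nonneg _)

open Classical in
include hab hZ hone in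
/-- The first inequality. -/
theorem sq_degree_gt (hker : ∃ h ∈ H, ρ.character h ≠ ρ.character 1) :
    (Nat.card H : ℝ) * Complex.normSq (classInner (fun h : H => ρ.character h) (fun _ => 1)) <
      Complex.normSq (ρ.character 1) := by
  set N := normalizer (H : Set G)
  set χ := ρ.character
  set f : G → ℝ := fun g => Complex.normSq (χ g)
  set f₀ : G → ℝ := fun g => Complex.normSq (avg H χ g)
  set θ : N → ℂ := fun n => χ (n : G) - avg H χ n
  have hθ : IsCharacter N θ := rest_isCharacter H ρ
  -- the norm of the rest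
  have hθ1 : (Nat.card N : ℝ) ≤ ∑ n : N, Complex.normSq (θ n) := by
    obtain ⟨k, hk⟩ := classInner_character_nat hθ hθ
    have hk0 : k ≠ 0 := by
      rintro rfl
      have h0 := classInner_self_eq_zero (hk.trans Nat.cast_zero)
      obtain ⟨h, hh, hne⟩ := hker
      have e1 := congrFun h0 ⟨h, le_normalizer hh⟩
      have e2 := congrFun h0 1
      simp only [θ, Pi.zero_apply, OneMemClass.coe_one, sub_eq_zero] at e1 e2
      exact hne (by rw [e1, e2]; simpa using avg_mul_left H χ hh 1)
    rw [classInner_eq_finsum, finsum_eq_sum_of_fintype, inv_mul_eq_iff_eq_mul₀ card_ne_zero] at hk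
    simp only [Complex.mul_conj] at hk
    have hk' : ∑ n : N, Complex.normSq (θ n) = (Nat.card N : ℝ) * k := by exact_mod_cast hk
    rw [hk']
    exact le_mul_of_one_le_right (Nat.cast_nonneg _) (by exact_mod_cast Nat.one_le_iff_ne_zero.mpr hk0)
  -- orthogonality of the two parts
  have horth : ∑ n : N, θ n * conj (avg H χ (n : G)) = 0 := by
    have h1 : ∀ h : H, ∑ n : N, χ ((h : G) * n) * conj (avg H χ (n : G)) =
        ∑ n : N, χ (n : G) * conj (avg H χ (n : G)) := fun h => by
      refine Fintype.sum_equiv (Equiv.mulLeft ⟨h, le_normalizer h.2⟩) _ _ fun n => ?_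
      show _ = χ ((h : G) * n) * conj (avg H χ ((h : G) * n))
      rw [avg_mul_left H χ h.2]
    have h2 : ∑ n : N, avg H χ (n : G) * conj (avg H χ (n : G)) =
        ∑ n : N, χ (n : G) * conj (avg H χ (n : G)) := by
      calc ∑ n : N, avg H χ (n : G) * conj (avg H χ (n : G))
          = ∑ n : N, ∑ h : H, (Nat.card H : ℂ)⁻¹ * (χ ((h : G) * n) * conj (avg H χ (n : G))) := by
            refine Finset.sum_congr rfl fun n _ => ?_
            conv_lhs => arg 1; rw [avg]
            rw [Finset.mul_sum, Finset.sum_mul]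
            exact Finset.sum_congr rfl fun h _ => mul_assoc _ _ _
        _ = (Nat.card H : ℂ)⁻¹ * ∑ h : H, ∑ n : N, χ ((h : G) * n) * conj (avg H χ (n : G)) := by
            rw [Finset.sum_comm, Finset.mul_sum]
            exact Finset.sum_congr rfl fun h _ => (Finset.mul_sum _ _ _).symm
        _ = _ := by
            rw [Finset.sum_congr rfl fun h _ => h1 h, Finset.sum_const, Finset.card_univ,
              nsmul_eq_mul, ← Nat.card_eq_fintype_card, ← mul_assoc,
              inv_mul_cancel₀ (Nat.cast_ne_zero.mpr Nat.card_pos.ne'), one_mul]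
    simp only [θ, sub_mul, Finset.sum_sub_distrib, h2, sub_self]
  have hsplit : ∑ n : N, f (n : G) = ∑ n : N, Complex.normSq (θ n) + ∑ n : N, f₀ (n : G) := by
    have h : ∀ n : N, f (n : G) =
        Complex.normSq (θ n) + f₀ (n : G) + 2 * (θ n * conj (avg H χ (n : G))).re := fun n => by
      show Complex.normSq (χ (n : G)) = _
      rw [show χ (n : G) = θ n + avg H χ n by simp [θ], Complex.normSq_add]
    rw [Finset.sum_congr rfl fun n _ => h n, Finset.sum_add_distrib, Finset.sum_add_distrib,
      ← Finset.mul_sum, ← Complex.re_sum, horth, Complex.zero_re, mul_zero, add_zero]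
  have hsum : ∀ F : G → ℝ, ∑ n : N, F (n : G) = ∑ g ∈ Finset.univ.filter (· ∈ N), F g := fun F =>
    (Finset.sum_subtype _ (fun x => by simp) F).symm
  set A := Finset.univ.filter (fun g : G => g ∈ N) with hA
  set B := A.filter (fun g => g ∈ overlap H ∨ g ∈ center G) with hB
  have hrest : ∀ g ∈ A.filter (fun g => ¬ (g ∈ overlap H ∨ g ∈ center G)), f g = f₀ g := by
    intro g hg
    simp only [hA, Finset.mem_filter, Finset.mem_univ, true_and, not_or] at hg
    show _ = Complex.normSq (avg H χ g)
    rw [avg_eq_self H (isClassFunction_of_isCharacter (isCharacter_character ρ)) hab hg.1 fun h hh hc => by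
      by_contra h1
      exact hg.2.1 ⟨hg.2.2, h, hh, h1, hc⟩]
  have hBle : ∑ g ∈ B, f₀ g + (Nat.card N : ℝ) ≤ ∑ g ∈ B, f g := by
    have h1 := hsplit
    rw [hsum f, hsum f₀, ← Finset.sum_filter_add_sum_filter_not A (fun g => g ∈ overlap H ∨ g ∈ center G),
      ← Finset.sum_filter_add_sum_filter_not A (fun g => g ∈ overlap H ∨ g ∈ center G),
      Finset.sum_congr rfl hrest] at h1
    linarith
  -- the two parts of `B`
  have hBsum : ∑ g ∈ B, f g =
      ∑ g ∈ Finset.univ.filter (· ∈ overlap H), f g + (Nat.card (center G) : ℝ) * f 1 := by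
    rw [← Finset.sum_filter_add_sum_filter_not B (fun g => g ∈ overlap H)]
    congr 1
    · refine Finset.sum_congr ?_ fun _ _ => rfl
      ext g
      simp only [hB, hA, Finset.mem_filter, Finset.mem_univ, true_and]
      exact ⟨fun h => h.2, fun h => ⟨⟨overlap_subset H hone h, Or.inl h⟩, h⟩⟩
    · have e : B.filter (fun g => g ∉ overlap H) = Finset.univ.filter (fun g => g ∈ center G) := by
        ext g
        simp only [hB, hA, Finset.mem_filter, Finset.mem_univ, true_and]
        exact ⟨fun h => h.1.2.resolve_left h.2, fun h =>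
          ⟨⟨Subgroup.center_le_normalizer (H : Set G) h, Or.inr h⟩, fun ho => ho.1 h⟩⟩
      rw [e]
      have hval : ∀ g ∈ Finset.univ.filter (fun g => g ∈ center G), f g = f 1 := fun g hg => by
        obtain ⟨ω, hω, hωg⟩ := char_center_mul ρ (Finset.mem_filter.mp hg).2
        have := hωg 1
        rw [one_mul] at this
        show Complex.normSq (χ g) = Complex.normSq (χ 1)
        rw [show χ g = ω * χ 1 from this, map_mul, Complex.normSq_eq_norm_sq ω, hω, one_pow, one_mul]
      rw [Finset.sum_congr rfl hval, Finset.sum_const, nsmul_eq_mul, Nat.card_eq_fintype_card,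
        Fintype.card_subtype]
  -- `H Z` inside `B`
  have hB0 : (Nat.card H : ℝ) * Nat.card (center G) * f₀ 1 ≤ ∑ g ∈ B, f₀ g := by
    have hinj : Function.Injective fun p : H × center G => (p.1 : G) * p.2 := by
      rintro ⟨h, z⟩ ⟨h', z'⟩ e
      have e' : (h' : G)⁻¹ * h = (z' : G) * (z : G)⁻¹ := by
        rw [inv_mul_eq_iff_eq_mul, ← mul_assoc, eq_mul_inv_iff_mul_eq]; exact e
      have h1 : (h' : G)⁻¹ * h = 1 := mem_bot.mp (hZ.le ⟨H.mul_mem (H.inv_mem h'.2) h.2,
        e' ▸ (center G).mul_mem z'.2 ((center G).inv_mem z.2)⟩)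
      rw [h1, eq_comm, mul_inv_eq_one] at e'
      exact Prod.ext (Subtype.ext (inv_mul_eq_one.mp h1).symm) (Subtype.ext e'.symm)
    have hval : ∀ p : H × center G, f₀ ((p.1 : G) * p.2) = f₀ 1 := fun p => by
      show Complex.normSq (avg H χ _) = Complex.normSq (avg H χ 1)
      rw [avg_mul_left H χ p.1.2]
      obtain ⟨ω, hω, hωg⟩ := char_center_mul ρ p.2.2
      have : avg H χ (p.2 : G) = ω * avg H χ 1 := by
        simp only [avg, mul_one]
        simp only [show ∀ g : G, χ (g * p.2) = ω * χ g from hωg, ← Finset.mul_sum]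
        ring
      rw [this, map_mul, Complex.normSq_eq_norm_sq ω, hω, one_pow, one_mul]
    calc (Nat.card H : ℝ) * Nat.card (center G) * f₀ 1
        = ∑ p : H × center G, f₀ ((p.1 : G) * p.2) := by
          rw [Finset.sum_congr rfl fun p _ => hval p, Finset.sum_const, Finset.card_univ,
            nsmul_eq_mul, Fintype.card_prod, Nat.card_eq_fintype_card, Nat.card_eq_fintype_card]
          push_cast
          ring
      _ = ∑ g ∈ Finset.univ.map ⟨_, hinj⟩, f₀ g := by rw [Finset.sum_map]; rfl
      _ ≤ ∑ g ∈ B, f₀ g := by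
          refine Finset.sum_le_sum_of_subset_of_nonneg ?_ fun _ _ _ => Complex.normSq_nonneg _
          intro g hg
          obtain ⟨⟨h, z⟩, -, rfl⟩ := Finset.mem_map.mp hg
          simp only [hB, hA, Finset.mem_filter, Finset.mem_univ, true_and, Function.Embedding.coeFn_mk]
          refine ⟨mul_mem (le_normalizer h.2) (Subgroup.center_le_normalizer (H : Set G) z.2), ?_⟩
          by_cases hh : (h : G) = 1
          · exact Or.inr (by rw [hh, one_mul]; exact z.2)
          · refine Or.inl ⟨fun hc => hh (mem_bot.mp (hZ.le ⟨h.2, ?_⟩)), h, h.2, hh, ?_⟩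
            · have := mul_mem hc (inv_mem z.2)
              rwa [mul_inv_cancel_right] at this
            · rw [mul_assoc, (mem_center_iff.mp z.2 (h : G)).symm]
  have hlt := overlap_sum_lt H ρ hone
  have hz : (0 : ℝ) < Nat.card (center G) := by exact_mod_cast Nat.card_pos
  have key : (Nat.card (center G) : ℝ) * ((Nat.card H : ℝ) * f₀ 1) < Nat.card (center G) * f 1 := by
    have : (Nat.card H : ℝ) * Nat.card (center G) * f₀ 1 =
      (Nat.card (center G) : ℝ) * ((Nat.card H : ℝ) * f₀ 1) := by ring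
    rw [this] at hB0
    rw [hBsum] at hBle
    linarith
  have := lt_of_mul_lt_mul_left key hz.le
  rwa [show f₀ 1 = Complex.normSq (classInner (fun h : H => χ h) (fun _ => 1)) by
    show Complex.normSq _ = _; rw [avg_one]] at this

end Cfsg.Agent.CT.FTDegree
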