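import Cfsg.Agent.Lib.CT.RealRep

/-!
A subgroup fixes an even-dimensional space in a representation carrying a nondegenerate alternating form.
-/

set_option autoImplicit false
set_option linter.all false

namespace Cfsg.Agent.CT

open scoped ComplexConjugate Matrix
open Cfsg.Agent

universe u

variable {G : Type u} [Group G] [Fintype G]

/-- For indicator `-1` the trivial multiplicity in every restriction is even. -/
theorem even_fixed_of_fsInd_neg {χ : G → ℂ} (hχ : IsIrrCharacter G χ) (hfs : fsInd χ = -1)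
    (H : Subgroup G) [Fintype H] :
    ∃ d : ℕ, Even d ∧ (Nat.card H : ℂ)⁻¹ * ∑ h : H, χ h = d := by
  classical
  have hχ0 := hχ
  obtain ⟨n, ρ, hρ, rfl⟩ := hχ
  have hreal : ∀ g, (ρ.character g).im = 0 := by
    intro g
    by_contra h
    obtain ⟨-, h2⟩ := fsInd_irr hχ0
    rw [hfs] at h2
    exact (neg_ne_zero.mpr one_ne_zero : (-1 : ℂ) ≠ 0) (h2.mpr ⟨g, h⟩)
  obtain ⟨M, hM0, hMinv, hMsym⟩ := RealRep.exists_form ρ hreal
  rw [hfs, neg_one_smul] at hMsym
  have hdet := RealRep.det_ne_zero ρ hMinv hM0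
  set π : Matrix (Fin n) (Fin n) ℂ := (Nat.card H : ℂ)⁻¹ • ∑ h : H, RealRep.X ρ (h : G) with hπ
  have hHc : (Nat.card H : ℂ) ≠ 0 := Nat.cast_ne_zero.mpr Nat.card_pos.ne'
  have hππ : π * π = π := by
    have h1 : ∀ h : H, RealRep.X ρ (h : G) * (∑ k : H, RealRep.X ρ (k : G)) = ∑ k : H, RealRep.X ρ (k : G) := by
      intro h
      rw [Finset.mul_sum]
      refine Fintype.sum_bijective _ (Group.mulLeft_bijective h) _ _ fun k => ?_
      rw [← RealRep.X_mul, Subgroup.coe_mul]
    simp only [π, Matrix.smul_mul, Matrix.mul_smul, Finset.sum_mul, h1, Finset.sum_const,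
      Finset.card_univ, ← Nat.card_eq_fintype_card, smul_smul, ← Nat.cast_smul_eq_nsmul ℂ]
    congr 1
    field_simp
  have hMπ : M * π = πᵀ * M := by
    simp only [π, Matrix.mul_smul, Matrix.transpose_smul, Matrix.smul_mul, Matrix.transpose_sum,
      Matrix.mul_sum, Matrix.sum_mul]
    congr 1
    refine Fintype.sum_equiv (Equiv.inv H) _ _ fun h => ?_
    rw [hMinv.intertwine ρ, Equiv.inv_apply, Subgroup.coe_inv]
  let f := Matrix.toLin' π
  have hf : IsIdempotentElem f := by
    show (Matrix.toLin' π).comp (Matrix.toLin' π) = Matrix.toLin' π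
    rw [← Matrix.toLin'_mul, hππ]
  obtain ⟨W, hW⟩ := (LinearMap.isProj_iff_isIdempotentElem f).mpr hf
  refine ⟨Module.finrank ℂ W, ?_, ?_⟩
  · let b := Module.finBasis ℂ W
    let C : Matrix (Fin n) (Fin (Module.finrank ℂ W)) ℂ := fun i k => (b k).1 i
    have hC : ∀ c, C *ᵥ c = ((∑ k, c k • b k : W) : Fin n → ℂ) := by
      intro c
      funext i
      simp only [Submodule.coe_sum, Submodule.coe_smul, Finset.sum_apply, Pi.smul_apply, smul_eq_mul,
        Matrix.mulVec, dotProduct, C]
      exact Finset.sum_congr rfl fun k _ => mul_comm _ _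
    let A := Cᵀ * M * C
    have hAsym : Aᵀ = -A := by
      simp only [A, Matrix.transpose_mul, Matrix.transpose_transpose, hMsym, Matrix.neg_mul,
        Matrix.mul_neg, Matrix.mul_assoc]
    by_contra hev
    have hd : A.det = 0 := by
      have h2 := congrArg Matrix.det hAsym
      rw [Matrix.det_transpose, Matrix.det_neg, Fintype.card_fin,
        (Nat.not_even_iff_odd.mp hev).neg_one_pow, neg_one_mul] at h2
      linear_combination (1 / 2 : ℂ) * h2
    obtain ⟨u, hu0, hu⟩ := Matrix.exists_vecMul_eq_zero_iff.mpr hd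
    have hw : C *ᵥ u = 0 := by
      have hCu : (C *ᵥ u) ∈ W := by rw [hC]; exact SetLike.coe_mem _
      have hzero : ∀ v, (C *ᵥ u) ⬝ᵥ (M *ᵥ v) = 0 := by
        intro v
        have h3 : (C *ᵥ u) ⬝ᵥ (M *ᵥ v) = (C *ᵥ u) ⬝ᵥ (M *ᵥ (π *ᵥ v)) := by
          rw [Matrix.mulVec_mulVec, hMπ, ← Matrix.mulVec_mulVec, Matrix.dotProduct_mulVec (C *ᵥ u) πᵀ,
            Matrix.vecMul_transpose]
          have := hW.map_id _ hCu
          rw [Matrix.toLin'_apply] at this
          rw [this]
        rw [h3]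
        have hv : π *ᵥ v ∈ W := by rw [← Matrix.toLin'_apply]; exact hW.map_mem v
        have h4 : C *ᵥ (fun k => b.repr ⟨π *ᵥ v, hv⟩ k) = π *ᵥ v := by
          rw [hC, b.sum_repr]
        rw [← h4, Matrix.mulVec_mulVec, Matrix.dotProduct_mulVec, Matrix.vecMul_mulVec,
          show u ᵥ* (Cᵀ * (M * C)) = u ᵥ* A by simp only [A, Matrix.mul_assoc], hu, zero_dotProduct]
      have h5 : (C *ᵥ u) ᵥ* M = 0 := by
        funext i
        have := hzero (Pi.single i 1)
        rw [Matrix.dotProduct_mulVec, dotProduct_single, mul_one] at this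
        exact this
      exact Matrix.vecMul_injective_of_isUnit ((Matrix.isUnit_iff_isUnit_det M).mpr (Ne.isUnit hdet))
        (h5.trans (Matrix.zero_vecMul M).symm)
    refine hu0 (funext fun k => ?_)
    rw [hC, ← Submodule.coe_zero (p := W)] at hw
    exact Fintype.linearIndependent_iff.mp b.linearIndependent u (Subtype.ext hw) k
  · have h6 := (Matrix.trace_toLin'_eq π).symm.trans (LinearMap.IsProj.trace hW)
    rw [← h6]
    simp only [π, Matrix.trace_smul, Matrix.trace_sum, RealRep.X_trace, smul_eq_mul]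

end Cfsg.Agent.CT
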