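import Cfsg.Agent.Lib.OddChar.FrobFamily
import Cfsg.Agent.Lib.CT.Exceptional
import Cfsg.Agent.Lib.CT.FrobeniusGroup
import Cfsg.Agent.Lib.CT.Induced

/-!
# Characters of a Frobenius group nontrivial on the kernel
-/

set_option autoImplicit false
set_option linter.unusedSectionVars false

namespace Cfsg.Agent.CT.FrobKernel

open scoped ComplexConjugate

universe u

variable {M : Type u} [Group M] [Fintype M] (N : Subgroup M) [hN : N.Normal]

/-- A function is nontrivial on `N`. -/
def NT (χ : M → ℂ) : Prop := ∃ k ∈ N, χ k ≠ χ 1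

variable (hC : ∀ n ∈ N, n ≠ 1 → Subgroup.centralizer ({n} : Set M) ≤ N)

theorem restrict_eq_of_not_nt {χ : M → ℂ} (h : ¬ NT N χ) (k : N) : χ k = χ 1 :=
  not_not.mp fun hne => h ⟨k, k.2, hne⟩

include hC

theorem exists_eq_indFun {χ : M → ℂ} (hχ : IsIrrCharacter M χ) (hnt : NT N χ) :
    ∃ θ : IrrCharacter N, (θ : N → ℂ) ≠ (fun _ => 1) ∧ χ = indFun N (θ : N → ℂ) := by
  classical
  haveI := Fintype.ofFinite N
  set r : N → ℂ := fun n => χ n with hr
  have hrc : IsCharacter N r := isCharacter_restrict N (isCharacter_of_isIrr hχ)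
  obtain ⟨θ, hθ, hin⟩ : ∃ θ : IrrCharacter N, (θ : N → ℂ) ≠ (fun _ => 1) ∧
      classInner r (θ : N → ℂ) ≠ 0 := by
    by_contra hcon
    push Not at hcon
    obtain ⟨k, hk, hne⟩ := hnt
    have hexp := classFunction_eq_sum (isClassFunction_of_isCharacter hrc)
    rw [Finset.sum_eq_single (trivIrr N) (fun θ _ hne' => by
      rw [hcon θ (fun e => hne' (Subtype.ext e)), zero_smul]) (fun h => absurd (Finset.mem_univ _) h)]
      at hexp
    apply hne
    have h1 := congrFun hexp ⟨k, hk⟩
    have h2 := congrFun hexp 1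
    simp only [Pi.smul_apply] at h1 h2
    show r ⟨k, hk⟩ = r 1
    rw [h1, h2]
    rfl
  refine ⟨θ, hθ, ?_⟩
  have hirr := isIrr_indFun_of_inertia N θ.2 (OddChar.frob_inertia N hC θ.2 hθ)
  by_contra hne
  refine hin ?_
  have h := frobenius_reciprocity' N (isClassFunction_of_isIrr hχ) (θ : N → ℂ)
  rw [irr_inner_of_ne hχ hirr hne] at h
  exact h.symm

theorem vanish {χ : M → ℂ} (hχ : IsIrrCharacter M χ) (hnt : NT N χ) {x : M} (hx : x ∉ N) :
    χ x = 0 := by
  obtain ⟨θ, -, rfl⟩ := exists_eq_indFun N hC hχ hnt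
  exact indFun_eq_zero_of_not_mem N _ hx

theorem exists_nt_of_irr (θ : IrrCharacter N) (hθ : (θ : N → ℂ) ≠ fun _ => 1) :
    ∃ χ : IrrCharacter M, NT N (χ : M → ℂ) ∧ (χ : M → ℂ) = indFun N (θ : N → ℂ) := by
  classical
  haveI := Fintype.ofFinite N
  have hirr := isIrr_indFun_of_inertia N θ.2 (OddChar.frob_inertia N hC θ.2 hθ)
  refine ⟨⟨_, hirr⟩, ?_, rfl⟩
  by_contra hnt
  have h := frobenius_reciprocity' N (isClassFunction_of_isIrr hirr) (θ : N → ℂ)
  rw [irr_inner_self hirr, show (fun n : N => indFun N (θ : N → ℂ) n) =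
    (indFun N (θ : N → ℂ) 1) • fun _ : N => (1 : ℂ) from funext fun k => by
      simp only [Pi.smul_apply, smul_eq_mul, mul_one]
      exact restrict_eq_of_not_nt N hnt k, classInner_smul_left,
    irr_inner_of_ne isIrrCharacter_one θ.2 (Ne.symm hθ), mul_zero] at h
  exact one_ne_zero h

open Classical in
/-- The sum of squared degrees of the characters nontrivial on `N`. -/
theorem sum_sq_nt :
    (∑ χ ∈ Finset.univ.filter (fun χ : IrrCharacter M => NT N (χ : M → ℂ)), (χ : M → ℂ) 1 ^ 2) =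
      (Nat.card M : ℂ) - N.index := by
  classical
  haveI := Fintype.ofFinite N
  have h1 := OddChar.norm_indFun_one N
  rw [classInner_eq_sum (isClassFunction_indFun N _)] at h1
  have hc : ∀ χ : IrrCharacter M, classInner (indFun N fun _ => (1 : ℂ)) (χ : M → ℂ) =
      if NT N (χ : M → ℂ) then 0 else (χ : M → ℂ) 1 := by
    intro χ
    rw [frobenius_reciprocity N _ (isClassFunction_of_isIrr χ.2)]
    split_ifs with hnt
    · obtain ⟨θ, hθ, he⟩ := exists_eq_indFun N hC χ.2 hnt
      have hin := isIrr_indFun_of_inertia N θ.2 (OddChar.frob_inertia N hC θ.2 hθ)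
      -- the restriction has no trivial constituent
      by_contra hne
      have h := frobenius_reciprocity N (fun _ : N => (1 : ℂ)) (isClassFunction_of_isIrr χ.2)
      rw [← h, he, frobenius_reciprocity' N (isClassFunction_indFun N _) (θ : N → ℂ)] at hne
      refine hne ?_
      rw [show (fun n : N => indFun N (fun _ : N => (1 : ℂ)) n) = (N.index : ℂ) • fun _ : N => (1 : ℂ) from
        funext fun k => by
          rw [OddChar.indFun_one_apply, if_pos k.2]; simp,
        classInner_smul_left, irr_inner_of_ne isIrrCharacter_one θ.2 (Ne.symm hθ), mul_zero]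
    · rw [show (fun n : N => (χ : M → ℂ) n) = ((χ : M → ℂ) 1) • fun _ : N => (1 : ℂ) from
        funext fun k => by
          simp only [Pi.smul_apply, smul_eq_mul, mul_one]; exact restrict_eq_of_not_nt N hnt k,
        classInner_smul_right, irr_inner_self isIrrCharacter_one, mul_one,
        deg_eq (isCharacter_of_isIrr χ.2), map_natCast]
  have h2 := sum_degree_sq (G := M)
  rw [← Finset.sum_filter_add_sum_filter_not _ (fun χ : IrrCharacter M => NT N (χ : M → ℂ))] at h2
  have e : ∑ χ ∈ Finset.univ.filter (fun χ : IrrCharacter M => ¬ NT N (χ : M → ℂ)), (χ : M → ℂ) 1 ^ 2 =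
      (N.index : ℂ) := by
    rw [← h1, Finset.sum_filter]
    refine Finset.sum_congr rfl fun χ _ => ?_
    rw [hc χ]
    split_ifs <;> simp [deg_eq (isCharacter_of_isIrr χ.2), pow_two]
  rw [e] at h2
  linear_combination h2

open Classical in
theorem sum_deg_mul {k : M} (hk : k ∈ N) (hk1 : k ≠ 1) :
    ∑ χ ∈ Finset.univ.filter (fun χ : IrrCharacter M => NT N (χ : M → ℂ)),
      (χ : M → ℂ) 1 * (χ : M → ℂ) k = -(N.index : ℂ) := by
  classical
  have h := column_orthogonality k 1
  rw [if_neg (fun hc => hk1 (isConj_one_left.mp hc))] at h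
  rw [← Finset.sum_filter_add_sum_filter_not _ (fun χ : IrrCharacter M => NT N (χ : M → ℂ))] at h
  have e : ∀ χ : IrrCharacter M, (χ : M → ℂ) k * conj ((χ : M → ℂ) 1) = (χ : M → ℂ) 1 * (χ : M → ℂ) k := by
    intro χ; rw [deg_eq (isCharacter_of_isIrr χ.2), map_natCast, mul_comm]
  simp only [e] at h
  rw [Finset.sum_congr rfl (g := fun χ : IrrCharacter M => (χ : M → ℂ) 1 ^ 2) (fun χ hχ => by
    rw [show (χ : M → ℂ) k = (χ : M → ℂ) 1 from
      restrict_eq_of_not_nt N (Finset.mem_filter.mp hχ).2 ⟨k, hk⟩, pow_two])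
    (s₁ := Finset.univ.filter fun χ : IrrCharacter M => ¬ NT N (χ : M → ℂ))] at h
  have h2 := sum_degree_sq (G := M)
  rw [← Finset.sum_filter_add_sum_filter_not _ (fun χ : IrrCharacter M => NT N (χ : M → ℂ))] at h2
  have h3 := sum_sq_nt N hC
  linear_combination h - h2 + h3

open Classical in
/-- If the multiplicities on the nontrivial part are proportional to the degrees, the function is
constant on `N \ {1}`. -/
theorem const_of_proportional {f : M → ℂ} (hf : IsClassFunction M f) (t : ℂ)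
    (ht : ∀ χ : IrrCharacter M, NT N (χ : M → ℂ) → classInner f (χ : M → ℂ) = t * (χ : M → ℂ) 1)
    {k : M} (hk : k ∈ N) (hk1 : k ≠ 1) :
    f k = (∑ χ ∈ Finset.univ.filter (fun χ : IrrCharacter M => ¬ NT N (χ : M → ℂ)),
      classInner f (χ : M → ℂ) * (χ : M → ℂ) 1) - t * N.index := by
  classical
  have h := congrFun (classFunction_eq_sum hf) k
  rw [h, Finset.sum_apply,
    ← Finset.sum_filter_add_sum_filter_not _ (fun χ : IrrCharacter M => NT N (χ : M → ℂ))]
  have e1 : ∑ χ ∈ Finset.univ.filter (fun χ : IrrCharacter M => NT N (χ : M → ℂ)),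
      (classInner f (χ : M → ℂ) • (χ : M → ℂ)) k = -(t * N.index) := by
    rw [← mul_neg, ← sum_deg_mul N hC hk hk1, Finset.mul_sum]
    refine Finset.sum_congr rfl fun χ hχ => ?_
    rw [Pi.smul_apply, smul_eq_mul, ht χ (Finset.mem_filter.mp hχ).2]
    ring
  have e2 : ∑ χ ∈ Finset.univ.filter (fun χ : IrrCharacter M => ¬ NT N (χ : M → ℂ)),
      (classInner f (χ : M → ℂ) • (χ : M → ℂ)) k =
      ∑ χ ∈ Finset.univ.filter (fun χ : IrrCharacter M => ¬ NT N (χ : M → ℂ)),
        classInner f (χ : M → ℂ) * (χ : M → ℂ) 1 := by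
    refine Finset.sum_congr rfl fun χ hχ => ?_
    rw [Pi.smul_apply, smul_eq_mul,
      show (χ : M → ℂ) k = (χ : M → ℂ) 1 from
        restrict_eq_of_not_nt N (Finset.mem_filter.mp hχ).2 ⟨k, hk⟩]
  rw [e1, e2]
  ring

/-- A function constant on `N \ {1}` has multiplicities proportional to the degrees. -/
theorem proportional_of_const {f : M → ℂ} {c : ℂ} (hc : ∀ k ∈ N, k ≠ 1 → f k = c)
    {χ : M → ℂ} (hχ : IsIrrCharacter M χ) (hnt : NT N χ) :
    classInner f χ = (Nat.card M : ℂ)⁻¹ * (f 1 - c) * χ 1 := by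
  classical
  have h0 : classInner (fun _ : M => (1 : ℂ)) χ = 0 := irr_inner_of_ne isIrrCharacter_one hχ (by
    rintro rfl
    obtain ⟨k, -, hk⟩ := hnt
    exact hk rfl)
  simp only [classInner, one_mul] at h0 ⊢
  have h0' : ∑ x, conj (χ x) = 0 :=
    (mul_eq_zero.mp h0).resolve_left (inv_ne_zero (Nat.cast_ne_zero.mpr Nat.card_pos.ne'))
  have e : ∀ x, f x * conj (χ x) = c * conj (χ x) + if x = 1 then (f 1 - c) * χ 1 else 0 := by
    intro x
    split_ifs with hx
    · subst hx
      rw [deg_eq (isCharacter_of_isIrr hχ), map_natCast]; ring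
    · by_cases hxN : x ∈ N
      · rw [hc x hxN hx, add_zero]
      · rw [vanish N hC hχ hnt hxN, map_zero, mul_zero, mul_zero, add_zero]
  rw [Finset.sum_congr rfl fun x _ => e x, Finset.sum_add_distrib, ← Finset.mul_sum, h0',
    mul_zero, zero_add, Finset.sum_ite_eq' Finset.univ (1 : M), if_pos (Finset.mem_univ _)]
  ring

end Cfsg.Agent.CT.FrobKernel

namespace Cfsg.Agent.CT.FrobKernel

open scoped ComplexConjugate

universe u

variable {M : Type u} [Group M] [Fintype M] (N : Subgroup M) [hN : N.Normal]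
  (hC : ∀ n ∈ N, n ≠ 1 → Subgroup.centralizer ({n} : Set M) ≤ N)

include hC

theorem deg_of_comm (hab : ∀ a b : N, a * b = b * a) {χ : M → ℂ} (hχ : IsIrrCharacter M χ)
    (hnt : NT N χ) : χ 1 = (N.index : ℂ) := by
  obtain ⟨θ, -, rfl⟩ := exists_eq_indFun N hC hχ hnt
  rw [indFun_one_eval, irr_degree_one_of_comm hab θ.2, mul_one]

/-- A single character nontrivial on an abelian kernel forces one class of nonidentity elements. -/
theorem single_class (hab : ∀ a b : N, a * b = b * a) (χ₀ : IrrCharacter M)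
    (h₀ : NT N (χ₀ : M → ℂ)) (honly : ∀ χ : IrrCharacter M, NT N (χ : M → ℂ) → χ = χ₀) :
    Nat.card N = N.index + 1 ∧ ∀ a ∈ N, ∀ b ∈ N, a ≠ 1 → b ≠ 1 → IsConj a b := by
  classical
  have hfilt : Finset.univ.filter (fun χ : IrrCharacter M => NT N (χ : M → ℂ)) = {χ₀} := by
    ext χ
    simp only [Finset.mem_filter, Finset.mem_univ, true_and, Finset.mem_singleton]
    exact ⟨honly χ, fun h => h ▸ h₀⟩
  have he : (N.index : ℂ) ≠ 0 := Nat.cast_ne_zero.mpr Subgroup.index_ne_zero_of_finite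
  have h1 := sum_sq_nt N hC
  rw [hfilt, Finset.sum_singleton, deg_of_comm N hC hab χ₀.2 h₀, ← N.card_mul_index,
    Nat.cast_mul] at h1
  have hcard : (Nat.card N : ℂ) = N.index + 1 := by
    refine mul_right_cancel₀ he ?_
    linear_combination -h1
  refine ⟨by exact_mod_cast hcard, fun a ha b hb ha1 hb1 => ?_⟩
  have hval : ∀ k ∈ N, k ≠ 1 → (χ₀ : M → ℂ) k = -1 := by
    intro k hk hk1
    have := sum_deg_mul N hC hk hk1
    rw [hfilt, Finset.sum_singleton, deg_of_comm N hC hab χ₀.2 h₀] at this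
    refine mul_left_cancel₀ he ?_
    linear_combination this
  by_contra hne
  have hcol := column_orthogonality a b
  rw [if_neg hne, ← Finset.sum_filter_add_sum_filter_not _ (fun χ : IrrCharacter M => NT N (χ : M → ℂ)),
    hfilt, Finset.sum_singleton, hval a ha ha1, hval b hb hb1, map_neg, map_one] at hcol
  rw [Finset.sum_congr rfl (g := fun χ : IrrCharacter M => (χ : M → ℂ) 1 ^ 2) fun χ hχ => by
    rw [show (χ : M → ℂ) a = (χ : M → ℂ) 1 from restrict_eq_of_not_nt N (Finset.mem_filter.mp hχ).2 ⟨a, ha⟩,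
      show (χ : M → ℂ) b = (χ : M → ℂ) 1 from restrict_eq_of_not_nt N (Finset.mem_filter.mp hχ).2 ⟨b, hb⟩,
      deg_eq (isCharacter_of_isIrr χ.2), map_natCast, pow_two]] at hcol
  have h2 := sum_degree_sq (G := M)
  have h3 := sum_sq_nt N hC
  rw [← Finset.sum_filter_add_sum_filter_not _ (fun χ : IrrCharacter M => NT N (χ : M → ℂ))] at h2
  have : ((N.index + 1 : ℕ) : ℂ) = 0 := by
    push_cast
    linear_combination hcol - h2 + h3
  exact Nat.succ_ne_zero N.index (by exact_mod_cast this)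

end Cfsg.Agent.CT.FrobKernel
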