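import Cfsg.Agent.Lib.CT.FrobKernelChars

/-!
# Exceptional characters of a trivial-intersection subgroup with Frobenius normalizer
-/

set_option autoImplicit false
set_option linter.unusedSectionVars false

namespace Cfsg.Agent.CT.FrobTI

open scoped ComplexConjugate
open FrobKernel

universe u

variable {G : Type u} [Group G] [Fintype G] (K : Subgroup G)


theorem cent (hC : ∀ k ∈ K, k ≠ 1 → Subgroup.centralizer ({k} : Set G) ≤ K) :
    ∀ n ∈ (K.subgroupOf (Subgroup.normalizer (K : Set G))), n ≠ 1 → Subgroup.centralizer ({n} : Set (Subgroup.normalizer (K : Set G))) ≤ (K.subgroupOf (Subgroup.normalizer (K : Set G))) := by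
  intro n hn hn1 y hy
  rw [Subgroup.mem_subgroupOf]
  refine hC _ hn (fun h => hn1 (Subtype.ext h)) ?_
  rw [Subgroup.mem_centralizer_singleton_iff] at hy ⊢
  exact congrArg Subtype.val hy

theorem nt_iff (χ : (Subgroup.normalizer (K : Set G)) → ℂ) : NT (K.subgroupOf (Subgroup.normalizer (K : Set G))) χ ↔ ∃ k : (Subgroup.normalizer (K : Set G)), (k : G) ∈ K ∧ χ k ≠ χ 1 := Iff.rfl

variable [Fintype (Subgroup.normalizer (K : Set G))]

theorem isTI (hTI : ∀ g : G, g ∉ Subgroup.normalizer (K : Set G) → ∀ k ∈ K, g * k * g⁻¹ ∈ K → k = 1) :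
    IsTI (Subgroup.normalizer (K : Set G)) (K : Set G) := hTI

theorem ind_apply (hTI : ∀ g : G, g ∉ Subgroup.normalizer (K : Set G) → ∀ k ∈ K, g * k * g⁻¹ ∈ K → k = 1)
    {α : (Subgroup.normalizer (K : Set G)) → ℂ} (hα : IsClassFunction (Subgroup.normalizer (K : Set G)) α) (hv : ∀ x : (Subgroup.normalizer (K : Set G)), (x : G) ∉ K → α x = 0)
    {k : (Subgroup.normalizer (K : Set G))} (hk : (k : G) ∈ K) (hk1 : k ≠ 1) :
    indFun (Subgroup.normalizer (K : Set G)) α k = α k :=
  indFun_eq_on_TI (isTI K hTI) hα (fun x hx => hv x hx) hk hk1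

section star

variable (hC : ∀ k ∈ K, k ≠ 1 → Subgroup.centralizer ({k} : Set G) ≤ K)
  (S : Set ((Subgroup.normalizer (K : Set G)) → ℂ)) (hS : S = {χ : (Subgroup.normalizer (K : Set G)) → ℂ | IsIrrCharacter (Subgroup.normalizer (K : Set G)) χ ∧ ∃ k : (Subgroup.normalizer (K : Set G)), (k : G) ∈ K ∧ χ k ≠ χ 1})
  (star : ((Subgroup.normalizer (K : Set G)) → ℂ) → (G → ℂ)) (hstar : IsLinearIsometryOn (zspan S) star)
  (hext : ∀ α ∈ zspanOn S ({1}ᶜ : Set (Subgroup.normalizer (K : Set G))), star α = indFun (Subgroup.normalizer (K : Set G)) α)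

/-- The combination of two members of `S` vanishing at the identity. -/
noncomputable def comb (χ ξ : (Subgroup.normalizer (K : Set G)) → ℂ) : (Subgroup.normalizer (K : Set G)) → ℂ :=
  (deg ξ : ℤ) • χ - (deg χ : ℤ) • ξ

include hS

theorem comb_mem {χ ξ : (Subgroup.normalizer (K : Set G)) → ℂ} (hχ : χ ∈ S) (hξ : ξ ∈ S) : comb K χ ξ ∈ zspanOn S ({1}ᶜ : Set (Subgroup.normalizer (K : Set G))) := by
  refine ⟨OddChar.zspan_sub (OddChar.zspan_smul _ (OddChar.zspan_self hχ))
    (OddChar.zspan_smul _ (OddChar.zspan_self hξ)), fun x hx => ?_⟩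
  rw [Set.mem_compl_iff, Set.mem_singleton_iff, not_not] at hx
  subst hx
  have h1 := deg_eq (isCharacter_of_isIrr (hS ▸ hχ : χ ∈ {f | IsIrrCharacter (Subgroup.normalizer (K : Set G)) f ∧ _}).1)
  have h2 := deg_eq (isCharacter_of_isIrr (hS ▸ hξ : ξ ∈ {f | IsIrrCharacter (Subgroup.normalizer (K : Set G)) f ∧ _}).1)
  simp only [comb, Pi.sub_apply, Pi.smul_apply, zsmul_eq_mul, Int.cast_natCast, Pi.mul_apply, Pi.natCast_apply, h1, h2]
  ring

theorem irr_of_mem {χ : (Subgroup.normalizer (K : Set G)) → ℂ} (hχ : χ ∈ S) : IsIrrCharacter (Subgroup.normalizer (K : Set G)) χ := by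
  rw [hS] at hχ; exact hχ.1

theorem nt_of_mem {χ : (Subgroup.normalizer (K : Set G)) → ℂ} (hχ : χ ∈ S) : NT (K.subgroupOf (Subgroup.normalizer (K : Set G))) χ := by
  rw [hS] at hχ; exact hχ.2

theorem mem_of_nt {χ : IrrCharacter (Subgroup.normalizer (K : Set G))} (hχ : NT (K.subgroupOf (Subgroup.normalizer (K : Set G))) (χ : (Subgroup.normalizer (K : Set G)) → ℂ)) : (χ : (Subgroup.normalizer (K : Set G)) → ℂ) ∈ S := by
  rw [hS]; exact ⟨χ.2, hχ⟩

include hstar

theorem star_comb {χ ξ : (Subgroup.normalizer (K : Set G)) → ℂ} (hχ : χ ∈ S) (hξ : ξ ∈ S) :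
    star (comb K χ ξ) = (deg ξ : ℂ) • star χ - (deg χ : ℂ) • star ξ := by
  rw [comb, OddChar.iso_zspan_sub hstar (OddChar.zspan_smul _ (OddChar.zspan_self hχ))
    (OddChar.zspan_smul _ (OddChar.zspan_self hξ)),
    hstar.2.1 _ (OddChar.zspan_self hχ), hstar.2.1 _ (OddChar.zspan_self hξ)]
  funext x
  simp [zsmul_eq_mul]

theorem star_orth {χ ξ : (Subgroup.normalizer (K : Set G)) → ℂ} (hχ : χ ∈ S) (hξ : ξ ∈ S) :
    classInner (star χ) (star ξ) = classInner χ ξ :=
  hstar.2.2.1 _ (OddChar.zspan_self hχ) _ (OddChar.zspan_self hξ)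

theorem star_signed {χ : (Subgroup.normalizer (K : Set G)) → ℂ} (hχ : χ ∈ S) : OddChar.IsSigned (star χ) :=
  OddChar.isSigned_of_norm_one (hstar.2.2.2 _ (OddChar.zspan_self hχ))
    ((star_orth K S hS star hstar hχ hχ).trans (irr_inner_self (irr_of_mem K S hS hχ)))

include hext

/-- Multiplicities of a restriction along the combinations. -/
theorem inner_comb {f : G → ℂ} (hf : IsClassFunction G f) {χ ξ : (Subgroup.normalizer (K : Set G)) → ℂ} (hχ : χ ∈ S) (hξ : ξ ∈ S) :
    (deg ξ : ℂ) * classInner (fun x : (Subgroup.normalizer (K : Set G)) => f x) χ - (deg χ : ℂ) * classInner (fun x : (Subgroup.normalizer (K : Set G)) => f x) ξ =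
      (deg ξ : ℂ) * classInner f (star χ) - (deg χ : ℂ) * classInner f (star ξ) := by
  have h := frobenius_reciprocity' (Subgroup.normalizer (K : Set G)) hf (comb K χ ξ)
  rw [← hext _ (comb_mem K S hS hχ hξ), star_comb K S hS star hstar hχ hξ,
    classInner_sub_right, classInner_smul_right, classInner_smul_right, map_natCast, map_natCast] at h
  rw [h]
  have : comb K χ ξ = (deg ξ : ℂ) • χ - (deg χ : ℂ) • ξ := by
    funext x; simp [comb, zsmul_eq_mul]
  rw [this, classInner_sub_right, classInner_smul_right, classInner_smul_right, map_natCast, map_natCast]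

include hC

theorem nonconstant_iff (htwo : ∃ χ ∈ S, ∃ ξ ∈ S, χ ≠ ξ) {ψ : G → ℂ} (hψ : IsIrrCharacter G ψ) :
    (∃ χ ∈ S, ψ = star χ ∨ ψ = -star χ) ↔ ∃ a ∈ K, ∃ b ∈ K, a ≠ 1 ∧ b ≠ 1 ∧ ψ a ≠ ψ b := by
  classical
  obtain ⟨χ₁, hχ₁, ξ₁, hξ₁, hne⟩ := htwo
  have hC' := cent K hC
  have hcf := isClassFunction_of_isIrr hψ
  have hcM : IsClassFunction (Subgroup.normalizer (K : Set G)) (fun x : (Subgroup.normalizer (K : Set G)) => ψ x) := fun g h => hcf g h
  have hKM : ∀ a ∈ K, a ∈ Subgroup.normalizer (K : Set G) := fun a ha => Subgroup.le_normalizer ha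
  constructor
  · rintro ⟨χ, hχ, hsgn⟩
    by_contra hcon
    push Not at hcon
    obtain ⟨k₀, hk₀, hk₀1⟩ := nt_of_mem K S hS hχ
    have hk₀' : (k₀ : G) ≠ 1 := fun h => hk₀1 (by rw [show k₀ = 1 from Subtype.ext h])
    have hconst : ∀ k ∈ (K.subgroupOf (Subgroup.normalizer (K : Set G))), k ≠ 1 → ψ (k : G) = ψ k₀ := fun k hk hk1 =>
      hcon k hk k₀ hk₀ (fun h => hk1 (Subtype.ext h)) hk₀'
    obtain ⟨ξ, hξ, hne'⟩ : ∃ ξ ∈ S, χ ≠ ξ := by
      by_cases h : χ = χ₁
      · exact ⟨ξ₁, hξ₁, h ▸ hne⟩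
      · exact ⟨χ₁, hχ₁, h⟩
    have h := inner_comb K S hS star hstar hext hcf hχ hξ
    rw [proportional_of_const (K.subgroupOf (Subgroup.normalizer (K : Set G))) hC' hconst (irr_of_mem K S hS hχ) (nt_of_mem K S hS hχ),
      proportional_of_const (K.subgroupOf (Subgroup.normalizer (K : Set G))) hC' hconst (irr_of_mem K S hS hξ) (nt_of_mem K S hS hξ),
      deg_eq (isCharacter_of_isIrr (irr_of_mem K S hS hχ)),
      deg_eq (isCharacter_of_isIrr (irr_of_mem K S hS hξ))] at h
    have hd : (deg ξ : ℂ) ≠ 0 := Nat.cast_ne_zero.mpr (deg_pos (irr_of_mem K S hS hξ)).ne'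
    have h0 : classInner χ ξ = 0 :=
      irr_inner_of_ne (irr_of_mem K S hS hχ) (irr_of_mem K S hS hξ) hne'
    have h1 := irr_inner_self (irr_of_mem K S hS hχ)
    rcases hsgn with e | e <;>
    · rw [e] at h
      try simp only [classInner_neg_left] at h
      rw [star_orth K S hS star hstar hχ hχ, star_orth K S hS star hstar hχ hξ, h0, h1] at h
      apply hd
      first
        | linear_combination -h
        | linear_combination h
  · rintro ⟨a, ha, b, hb, ha1, hb1, hab⟩
    by_contra hcon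
    push Not at hcon
    have horth : ∀ χ ∈ S, classInner ψ (star χ) = 0 := fun χ hχ => by
      rcases star_signed K S hS star hstar hχ with hi | hi
      · exact irr_inner_of_ne hψ hi (hcon χ hχ).1
      · have := irr_inner_of_ne hψ hi (hcon χ hχ).2
        rwa [classInner_neg_right, neg_eq_zero] at this
    obtain ⟨χ₀, hχ₀⟩ : ∃ χ₀, χ₀ ∈ S := ⟨χ₁, hχ₁⟩
    have hd : (deg χ₀ : ℂ) ≠ 0 := Nat.cast_ne_zero.mpr (deg_pos (irr_of_mem K S hS hχ₀)).ne'
    have ht : ∀ χ : IrrCharacter (Subgroup.normalizer (K : Set G)), NT (K.subgroupOf (Subgroup.normalizer (K : Set G))) (χ : (Subgroup.normalizer (K : Set G)) → ℂ) →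
        classInner (fun x : (Subgroup.normalizer (K : Set G)) => ψ x) (χ : (Subgroup.normalizer (K : Set G)) → ℂ) =
          (classInner (fun x : (Subgroup.normalizer (K : Set G)) => ψ x) χ₀ / deg χ₀) * (χ : (Subgroup.normalizer (K : Set G)) → ℂ) 1 := by
      intro χ hχ
      have h := inner_comb K S hS star hstar hext hcf (mem_of_nt K S hS hχ) hχ₀
      rw [horth _ (mem_of_nt K S hS hχ), horth _ hχ₀] at h
      rw [deg_eq (isCharacter_of_isIrr χ.2)]
      field_simp
      linear_combination h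
    apply hab
    have ea := const_of_proportional (K.subgroupOf (Subgroup.normalizer (K : Set G))) hC' hcM _ ht (k := (⟨a, hKM a ha⟩ : (Subgroup.normalizer (K : Set G)))) ha
      (fun h => ha1 (congrArg Subtype.val h))
    have eb := const_of_proportional (K.subgroupOf (Subgroup.normalizer (K : Set G))) hC' hcM _ ht (k := (⟨b, hKM b hb⟩ : (Subgroup.normalizer (K : Set G)))) hb
      (fun h => hb1 (congrArg Subtype.val h))
    exact ea.trans eb.symm

theorem exists_int_m (hTI : ∀ g : G, g ∉ Subgroup.normalizer (K : Set G) → ∀ k ∈ K, g * k * g⁻¹ ∈ K → k = 1)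
    (hlt : K < Subgroup.normalizer (K : Set G)) :
    ∃ m : ℤ, ∀ χ ∈ S, ∀ k : (Subgroup.normalizer (K : Set G)), (k : G) ∈ K → k ≠ 1 →
      star χ k - χ k = (m : ℂ) * χ 1 / (((K.subgroupOf (Subgroup.normalizer (K : Set G)))).index : ℂ) := by
  classical
  have hC' := cent K hC
  rcases eq_or_ne K ⊥ with hbot | hbot
  · refine ⟨0, fun χ _ k hk hk1 => absurd (Subtype.ext ?_) hk1⟩
    exact (Subgroup.eq_bot_iff_forall K).mp hbot _ hk
  have hNbot : (K.subgroupOf (Subgroup.normalizer (K : Set G))) ≠ ⊥ := fun h => by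
    rw [Subgroup.subgroupOf_eq_bot, disjoint_iff, inf_eq_left.mpr hlt.le] at h
    exact hbot h
  have hNtop : (K.subgroupOf (Subgroup.normalizer (K : Set G))) ≠ ⊤ := fun h => hlt.not_ge (Subgroup.subgroupOf_eq_top.mp h)
  haveI := OddChar.frob_nilpotent (K.subgroupOf (Subgroup.normalizer (K : Set G))) hC' hNbot hNtop
  haveI : Nontrivial (K.subgroupOf (Subgroup.normalizer (K : Set G))) := (Subgroup.nontrivial_iff_ne_bot _).mpr hNbot
  haveI := Fintype.ofFinite (K.subgroupOf (Subgroup.normalizer (K : Set G)))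
  -- a character of degree equal to the index
  obtain ⟨θ, hθ1, hθne⟩ : ∃ θ : IrrCharacter (K.subgroupOf (Subgroup.normalizer (K : Set G))), (θ : (K.subgroupOf (Subgroup.normalizer (K : Set G))) → ℂ) 1 = 1 ∧ (θ : (K.subgroupOf (Subgroup.normalizer (K : Set G))) → ℂ) ≠ fun _ => 1 := by
    by_contra hcon
    push Not at hcon
    have h1 : Nat.card {χ : IrrCharacter (K.subgroupOf (Subgroup.normalizer (K : Set G))) // (χ : (K.subgroupOf (Subgroup.normalizer (K : Set G))) → ℂ) 1 = 1} ≤ 1 := by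
      rw [Finite.card_le_one_iff_subsingleton]
      exact ⟨fun x y => Subtype.ext (Subtype.ext ((hcon _ x.2).trans (hcon _ y.2).symm))⟩
    rw [card_linear_irr] at h1
    have h2 : (commutator (K.subgroupOf (Subgroup.normalizer (K : Set G)))).index = 1 :=
      le_antisymm h1 (Nat.one_le_iff_ne_zero.mpr Subgroup.index_ne_zero_of_finite)
    exact (Group.IsSolvable.commutator_lt_top_of_nontrivial (G := (K.subgroupOf (Subgroup.normalizer (K : Set G))))).ne (Subgroup.index_eq_one.mp h2)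
  obtain ⟨χ₀, hnt₀, he₀⟩ := exists_nt_of_irr (K.subgroupOf (Subgroup.normalizer (K : Set G))) hC' θ hθne
  have hχ₀ := mem_of_nt K S hS hnt₀
  have hd₀ : (χ₀ : (Subgroup.normalizer (K : Set G)) → ℂ) 1 = (((K.subgroupOf (Subgroup.normalizer (K : Set G)))).index : ℂ) := by rw [he₀, indFun_one_eval, hθ1, mul_one]
  have he : (((K.subgroupOf (Subgroup.normalizer (K : Set G)))).index : ℂ) ≠ 0 := Nat.cast_ne_zero.mpr Subgroup.index_ne_zero_of_finite
  have hdd : (deg (χ₀ : (Subgroup.normalizer (K : Set G)) → ℂ) : ℂ) = (((K.subgroupOf (Subgroup.normalizer (K : Set G)))).index : ℂ) := (deg_eq (isCharacter_of_isIrr χ₀.2)).symm.trans hd₀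
  -- the difference at the distinguished character is a constant integer
  set f : G → ℂ := star (χ₀ : (Subgroup.normalizer (K : Set G)) → ℂ) with hf
  have hfg : IsGeneralizedCharacter G f := hstar.2.2.2 _ (OddChar.zspan_self hχ₀)
  set r : (Subgroup.normalizer (K : Set G)) → ℂ := (fun x : (Subgroup.normalizer (K : Set G)) => f x) - (χ₀ : (Subgroup.normalizer (K : Set G)) → ℂ) with hr
  have hrg : IsGeneralizedCharacter (Subgroup.normalizer (K : Set G)) r := isGen_sub (isGen_restrict _ hfg) (isGen_of_isIrr χ₀.2)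
  have hrcf := isClassFunction_of_isGen hrg
  set t : ℂ := classInner r (χ₀ : (Subgroup.normalizer (K : Set G)) → ℂ) / deg (χ₀ : (Subgroup.normalizer (K : Set G)) → ℂ)
  have ht : ∀ χ : IrrCharacter (Subgroup.normalizer (K : Set G)), NT (K.subgroupOf (Subgroup.normalizer (K : Set G))) (χ : (Subgroup.normalizer (K : Set G)) → ℂ) →
      classInner r (χ : (Subgroup.normalizer (K : Set G)) → ℂ) = t * (χ : (Subgroup.normalizer (K : Set G)) → ℂ) 1 := by
    intro χ hχ
    have h := inner_comb K S hS star hstar hext (isClassFunction_of_isGen hfg) (mem_of_nt K S hS hχ) hχ₀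
    rw [star_orth K S hS star hstar hχ₀ (mem_of_nt K S hS hχ),
      star_orth K S hS star hstar hχ₀ hχ₀] at h
    simp only [t, hr, classInner_sub_left]
    rw [deg_eq (isCharacter_of_isIrr χ.2)]
    have hd : (deg (χ₀ : (Subgroup.normalizer (K : Set G)) → ℂ) : ℂ) ≠ 0 := by rw [hdd]; exact he
    field_simp
    linear_combination h
  set c : ℂ := (∑ χ ∈ Finset.univ.filter (fun χ : IrrCharacter (Subgroup.normalizer (K : Set G)) => ¬ NT (K.subgroupOf (Subgroup.normalizer (K : Set G))) (χ : (Subgroup.normalizer (K : Set G)) → ℂ)),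
      classInner r (χ : (Subgroup.normalizer (K : Set G)) → ℂ) * (χ : (Subgroup.normalizer (K : Set G)) → ℂ) 1) - t * ((K.subgroupOf (Subgroup.normalizer (K : Set G)))).index
  have hval : ∀ k : (Subgroup.normalizer (K : Set G)), (k : G) ∈ K → k ≠ 1 → r k = c := fun k hk hk1 =>
    const_of_proportional (K.subgroupOf (Subgroup.normalizer (K : Set G))) hC' hrcf t ht (k := k) hk hk1
  have hcq : ∃ q : ℤ, c = (q : ℂ) := by
    obtain ⟨-, hm⟩ := isGen_iff.mp hrg
    choose mm hmm using hm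
    refine ⟨(∑ χ ∈ Finset.univ.filter (fun χ : IrrCharacter (Subgroup.normalizer (K : Set G)) => ¬ NT (K.subgroupOf (Subgroup.normalizer (K : Set G))) (χ : (Subgroup.normalizer (K : Set G)) → ℂ)),
      mm χ * deg (χ : (Subgroup.normalizer (K : Set G)) → ℂ)) - mm χ₀, ?_⟩
    simp only [c, t, hmm, Int.cast_sub, Int.cast_sum, Int.cast_mul, Int.cast_natCast, hdd]
    congr 1
    · exact Finset.sum_congr rfl fun χ _ => by rw [deg_eq (isCharacter_of_isIrr χ.2)]
    · rw [div_mul_cancel₀ _ he]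
  obtain ⟨q, hq⟩ := hcq
  refine ⟨q, fun χ hχ k hk hk1 => ?_⟩
  have hv : ∀ x : (Subgroup.normalizer (K : Set G)), (x : G) ∉ K → comb K χ χ₀ x = 0 := fun x hx => by
    simp [comb, vanish (K.subgroupOf (Subgroup.normalizer (K : Set G))) hC' (irr_of_mem K S hS hχ) (nt_of_mem K S hS hχ) (x := x) hx,
      vanish (K.subgroupOf (Subgroup.normalizer (K : Set G))) hC' χ₀.2 hnt₀ (x := x) hx]
  have hcls : IsClassFunction (Subgroup.normalizer (K : Set G)) (comb K χ χ₀) := by
    intro g x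
    simp [comb, isClassFunction_of_isIrr (irr_of_mem K S hS hχ) g x, isClassFunction_of_isIrr χ₀.2 g x]
  have h := ind_apply K hTI hcls hv hk hk1
  rw [← hext _ (comb_mem K S hS hχ hχ₀), star_comb K S hS star hstar hχ hχ₀] at h
  simp only [comb, Pi.sub_apply, Pi.smul_apply, smul_eq_mul, zsmul_eq_mul, Int.cast_natCast, Pi.mul_apply, Pi.natCast_apply, hdd] at h
  have h0 := hval k hk hk1
  rw [hq] at h0
  simp only [hr, Pi.sub_apply, hf] at h0
  rw [deg_eq (isCharacter_of_isIrr (irr_of_mem K S hS hχ))]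
  field_simp
  linear_combination h + (deg χ : ℂ) * h0

end star

end Cfsg.Agent.CT.FrobTI
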