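import Cfsg.Agent.Lib.CT.FrobeniusSchur

/-!
# The Frobenius–Schur indicator of an irreducible induced character
-/

set_option linter.all false

namespace Cfsg.Agent.CT

open scoped ComplexConjugate Kronecker

universe u

variable {G : Type u} [Group G]

theorem eq_zero_of_idem_trace_zero {ι : Type*} [Fintype ι] [DecidableEq ι]
    (E : Matrix ι ι ℂ) (h : E * E = E) (h0 : E.trace = 0) : E = 0 := by
  let f := Matrix.toLin' E
  have hf : IsIdempotentElem f := by
    show (Matrix.toLin' E).comp (Matrix.toLin' E) = Matrix.toLin' E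
    rw [← Matrix.toLin'_mul, h]
  obtain ⟨p, hp⟩ := (LinearMap.isProj_iff_isIdempotentElem f).mpr hf
  have htr := (Matrix.trace_toLin'_eq E).symm.trans (LinearMap.IsProj.trace hp)
  rw [h0] at htr
  have hfr : Module.finrank ℂ p = 0 := by exact_mod_cast htr.symm
  have hbot : p = ⊥ := Submodule.finrank_eq_zero.mp hfr
  have hz : f = 0 := LinearMap.ext fun v => by
    have := hp.map_mem v
    rw [hbot, Submodule.mem_bot] at this
    exact this
  exact Matrix.toLin'.injective (by rw [map_zero]; exact hz)

/-- If an irreducible character has indicator `≠ 1`, no symmetric tensor is invariant. -/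
theorem sym_sum_eq_zero [Fintype G] {ι : Type*} [Fintype ι] [DecidableEq ι]
    (B : G → Matrix ι ι ℂ) (hB : ∀ g h, B (g * h) = B g * B h) {χ : G → ℂ}
    (hχ : IsIrrCharacter G χ) (htr : ∀ g, (B g).trace = χ g) (hfs : fsInd χ ≠ 1) (i a j b : ι) :
    ∑ g : G, (B g i a * B g j b + B g j a * B g i b) = 0 := by
  classical
  let K : G → Matrix (ι × ι) (ι × ι) ℂ := fun g => B g ⊗ₖ B g
  have hK : ∀ g h, K g * K h = K (g * h) := fun g h => by
    simp only [K, hB, Matrix.mul_kronecker_mul]
  let T : Matrix (ι × ι) (ι × ι) ℂ := fun x y => if x = (y.2, y.1) then 1 else 0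
  have hTl : ∀ (M : Matrix (ι × ι) (ι × ι) ℂ) (x y : ι × ι), (T * M) x y = M (x.2, x.1) y := by
    intro M x y
    rw [Matrix.mul_apply, Finset.sum_eq_single (x.2, x.1)]
    · simp [T]
    · intro c _ hc
      have : x ≠ (c.2, c.1) := fun e => hc (by rw [e])
      simp [T, this]
    · simp
  have hTr : ∀ (M : Matrix (ι × ι) (ι × ι) ℂ) (x y : ι × ι), (M * T) x y = M x (y.2, y.1) := by
    intro M x y
    rw [Matrix.mul_apply, Finset.sum_eq_single (y.2, y.1)]
    · simp [T]
    · intro c _ hc
      simp [T, hc]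
    · simp
  have hTK : ∀ g, T * K g = K g * T := by
    intro g
    ext x y
    rw [hTl, hTr]
    simp [K, Matrix.kroneckerMap_apply, mul_comm]
  let S : Matrix (ι × ι) (ι × ι) ℂ := (Nat.card G : ℂ)⁻¹ • ∑ g : G, K g
  have hG : (Nat.card G : ℂ) ≠ 0 := card_ne_zero
  have hSS : S * S = S := by
    have h1 : ∀ g, K g * (∑ h : G, K h) = ∑ h : G, K h := fun g => by
      rw [Finset.mul_sum]
      simp only [hK]
      exact Fintype.sum_bijective _ (Group.mulLeft_bijective g) _ _ (fun _ => rfl)
    simp only [S, Matrix.smul_mul, Matrix.mul_smul, Finset.sum_mul, h1, Finset.sum_const,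
      Finset.card_univ, ← Nat.card_eq_fintype_card, smul_smul, ← Nat.cast_smul_eq_nsmul ℂ]
    congr 1
    field_simp
  have hTS : T * S = S * T := by
    simp only [S, Matrix.mul_smul, Matrix.smul_mul, Finset.mul_sum, Finset.sum_mul, hTK]
  have hTT : T * T = 1 := by
    ext x y
    rw [hTl]
    simp only [T, Matrix.one_apply]
    by_cases h : x = y
    · simp [h]
    · rw [if_neg h, if_neg]
      intro e
      exact h (Prod.ext (congrArg Prod.snd e) (congrArg Prod.fst e))
  have e1 : S * (T * S) = T * S := by rw [← mul_assoc, ← hTS, mul_assoc, hSS]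
  have e2 : T * S * S = T * S := by rw [mul_assoc, hSS]
  have e3 : T * S * (T * S) = S := by rw [mul_assoc, e1, ← mul_assoc, hTT, one_mul]
  let E := (2 : ℂ)⁻¹ • (S + T * S)
  have hEE : E * E = E := by
    simp only [E, Matrix.smul_mul, Matrix.mul_smul, add_mul, mul_add, hSS, e1, e2, e3, smul_smul]
    module
  have htT : ∀ g, (T * K g).trace = χ (g * g) := by
    intro g
    rw [← htr, hB]
    simp only [Matrix.trace, Matrix.diag, hTl, K, Matrix.kroneckerMap_apply, Matrix.mul_apply,
      Fintype.sum_prod_type]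
    exact Finset.sum_congr rfl fun i _ => Finset.sum_congr rfl fun j _ => mul_comm _ _
  have hS1 : S.trace = classInner χ (fun g => conj (χ g)) := by
    simp only [classInner, S, Matrix.trace_smul, Matrix.trace_sum, smul_eq_mul, K,
      Matrix.trace_kronecker, htr, Complex.conj_conj]
  have hS2 : (T * S).trace = fsInd χ := by
    simp only [fsInd, S, Matrix.mul_smul, Matrix.trace_smul, Finset.mul_sum, Matrix.trace_sum,
      htT, smul_eq_mul]
  have hE0 : E.trace = 0 := by
    rw [show E.trace = (2 : ℂ)⁻¹ * (S.trace + (T * S).trace) by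
      simp [E, Matrix.trace_smul, Matrix.trace_add, mul_add], hS1, hS2]
    obtain ⟨m, k, hmk, hmk'⟩ := fsInd_split (isCharacter_of_isIrr hχ)
    have hle : m + k ≤ 1 := by
      by_cases he : χ = fun g => conj (χ g)
      · rw [← he, irr_inner_self hχ] at hmk'
        have : m + k = 1 := by exact_mod_cast hmk'.symm
        omega
      · rw [irr_inner_of_ne hχ (conj_irr hχ) he] at hmk'
        have : m + k = 0 := by exact_mod_cast hmk'.symm
        omega
    have hm : m = 0 := by
      by_contra h
      obtain ⟨rfl, rfl⟩ : m = 1 ∧ k = 0 := by omega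
      exact hfs (by rw [hmk]; simp)
    rw [hmk, hmk', hm]
    simp
  have hE := congrFun (congrFun (eq_zero_of_idem_trace_zero E hEE hE0) (i, j)) (a, b)
  simp only [E, Matrix.smul_apply, Matrix.add_apply, hTl, Matrix.zero_apply, smul_eq_mul,
    mul_eq_zero, inv_eq_zero, OfNat.ofNat_ne_zero, false_or] at hE
  simp only [S, Matrix.smul_apply, Matrix.sum_apply, K, Matrix.kroneckerMap_apply, smul_eq_mul,
    ← mul_add, mul_eq_zero, inv_eq_zero, hG, false_or, ← Finset.sum_add_distrib] at hE
  exact hE

/-- An irreducible character induced from a character with indicator `1` has indicator `1`. -/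
theorem fsInd_indFun_eq_one [Fintype G] (H : Subgroup G) [Fintype H] {θ : H → ℂ}
    (hθ : IsCharacter H θ) (h1 : fsInd θ = 1) (hirr : IsIrrCharacter G (indFun H θ)) :
    fsInd (indFun H θ) = 1 := by
  classical
  by_contra hfs
  obtain ⟨m, k, hm, hm'⟩ := fsInd_split hθ
  obtain ⟨n, ρ, hρ⟩ := hθ
  obtain ⟨A, hA, hAtr⟩ : ∃ A : H → Matrix (Fin n) (Fin n) ℂ,
      (∀ g h, A (g * h) = A g * A h) ∧ ∀ g, (A g).trace = θ g := by
    refine ⟨fun g => LinearMap.toMatrix' (ρ g), fun g h => ?_, fun g => ?_⟩
    · simp only [map_mul, Module.End.mul_eq_comp, LinearMap.toMatrix'_comp]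
    · rw [← hρ]
      show _ = LinearMap.trace ℂ _ (ρ g)
      rw [LinearMap.trace_eq_matrix_trace ℂ (Pi.basisFun ℂ (Fin n)),
        LinearMap.toMatrix_eq_toMatrix']
  haveI := Fintype.ofFinite (G ⧸ H)
  let x₀ : G ⧸ H := ((1 : G) : G ⧸ H)
  let t : G ⧸ H → G := fun x => if x = x₀ then 1 else Quotient.out x
  have ht : ∀ x, (t x : G ⧸ H) = x := fun x => by
    simp only [t]
    split_ifs with h
    · exact h.symm
    · exact QuotientGroup.out_eq' x
  have hmemH : ∀ (g : G) (x y : G ⧸ H), g • y = x → (t x)⁻¹ * g * t y ∈ H := fun g x y h => by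
    rw [mul_assoc, ← QuotientGroup.eq, ht, ← smul_eq_mul, ← MulAction.Quotient.smul_coe, ht, h]
  let B : G → Matrix ((G ⧸ H) × Fin n) ((G ⧸ H) × Fin n) ℂ := fun g p q =>
    if h : g • q.1 = p.1 then A ⟨_, hmemH g p.1 q.1 h⟩ p.2 q.2 else 0
  have hBmul : ∀ g g', B (g * g') = B g * B g' := by
    intro g g'
    ext ⟨x, i⟩ ⟨y, j⟩
    rw [Matrix.mul_apply, Fintype.sum_prod_type, Finset.sum_eq_single (g' • y)]
    · simp only [B]
      by_cases h : g • g' • y = x
      · rw [dif_pos ((mul_smul g g' y).trans h)]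
        simp only [dif_pos h, dite_true]
        have e := congrFun (congrFun
          (hA ⟨_, hmemH g x (g' • y) h⟩ ⟨_, hmemH g' (g' • y) y rfl⟩) i) j
        rw [Matrix.mul_apply] at e
        rw [← e]
        exact congrArg (fun z => A z i j) (Subtype.ext (by simp [mul_assoc]))
      · rw [dif_neg (fun e => h ((mul_smul g g' y).symm.trans e))]
        simp [dif_neg h]
    · intro z _ hz
      refine Finset.sum_eq_zero fun l _ => ?_
      simp [B, dif_neg (Ne.symm hz)]
    · simp
  have hext : ∀ (x : G) (h : H) (g : G),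
      extendByZero H θ ((x * h)⁻¹ * g * (x * h)) = extendByZero H θ (x⁻¹ * g * x) := by
    intro x h g
    rw [show (x * h : G)⁻¹ * g * (x * h) = (h : G)⁻¹ * (x⁻¹ * g * x) * h by group]
    by_cases hz : x⁻¹ * g * x ∈ H
    · rw [extendByZero_mem H θ hz,
        extendByZero_mem H θ (H.mul_mem (H.mul_mem (H.inv_mem h.2) hz) h.2)]
      have := isClassFunction_of_isCharacter (⟨n, ρ, hρ⟩ : IsCharacter H θ) ⟨_, hz⟩ h⁻¹
      rw [← this]
      exact congrArg θ (Subtype.ext (by simp))
    · rw [extendByZero_not_mem H θ hz, extendByZero_not_mem H θ (fun h' => hz ?_)]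
      have := H.mul_mem (H.mul_mem h.2 h') (H.inv_mem h.2)
      simpa [mul_assoc] using this
  have hBtr : ∀ g, (B g).trace = indFun H θ g := by
    intro g
    have hdiag : (B g).trace = ∑ x : G ⧸ H, extendByZero H θ ((t x)⁻¹ * g * t x) := by
      rw [Matrix.trace, Fintype.sum_prod_type]
      refine Finset.sum_congr rfl fun x _ => ?_
      by_cases h : g • x = x
      · rw [extendByZero_mem H θ (hmemH g x x h), ← hAtr]
        refine Finset.sum_congr rfl fun i _ => ?_
        simp only [Matrix.diag, B, dif_pos h]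
      · rw [extendByZero_not_mem H θ]
        · refine Finset.sum_eq_zero fun i _ => ?_
          simp only [Matrix.diag, B, dif_neg h]
        · intro h'
          apply h
          rw [← ht x, MulAction.Quotient.smul_coe, smul_eq_mul, QuotientGroup.eq]
          simpa [mul_assoc] using H.inv_mem h'
    rw [hdiag, indFun]
    let e : (G ⧸ H) × H ≃ G :=
      { toFun := fun p => t p.1 * p.2
        invFun := fun g => ((g : G ⧸ H), ⟨(t g)⁻¹ * g, by rw [← QuotientGroup.eq, ht]⟩)
        left_inv := fun p => by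
          have h1 : ((t p.1 * p.2 : G) : G ⧸ H) = p.1 := by
            rw [QuotientGroup.mk_mul_of_mem _ p.2.2, ht]
          refine Prod.ext h1 (Subtype.ext ?_)
          simp [h1]
        right_inv := fun g => by simp }
    rw [← e.sum_comp, Fintype.sum_prod_type]
    simp only [e, Equiv.coe_fn_mk, hext, Finset.sum_const, Finset.card_univ, nsmul_eq_mul,
      ← Finset.mul_sum, ← Nat.card_eq_fintype_card]
    rw [inv_mul_cancel_left₀ card_ne_zero]
  have hblock : ∀ (g : G) (i j : Fin n), B g (x₀, i) (x₀, j) =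
      if h : g ∈ H then A ⟨g, h⟩ i j else 0 := by
    intro g i j
    simp only [B]
    by_cases h : g ∈ H
    · have h' : g • x₀ = x₀ := by
        rw [MulAction.Quotient.smul_coe, smul_eq_mul, mul_one, QuotientGroup.eq, mul_one]
        exact H.inv_mem h
      rw [dif_pos h', dif_pos h]
      exact congrArg (fun z => A z i j) (Subtype.ext (by simp [t]))
    · rw [dif_neg h, dif_neg]
      intro h'
      rw [MulAction.Quotient.smul_coe, smul_eq_mul, mul_one, QuotientGroup.eq, mul_one] at h'
      exact h (by simpa using h')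
  have key : ∀ i a j b : Fin n,
      ∑ h : H, (A h i a * A h j b + A h j a * A h i b) = 0 := by
    intro i a j b
    have := sym_sum_eq_zero B hBmul hirr hBtr hfs (x₀, i) (x₀, a) (x₀, j) (x₀, b)
    rw [← Finset.sum_subset (Finset.subset_univ (Finset.univ.filter fun g => g ∈ H))
      (fun g _ hg => by
        rw [Finset.mem_filter] at hg
        simp [hblock, show g ∉ H from fun h => hg ⟨Finset.mem_univ g, h⟩]),
      Finset.sum_subtype (Finset.univ.filter fun g => g ∈ H) (p := fun g => g ∈ H) (by simp)]
      at this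
    rw [← this]
    exact Finset.sum_congr rfl fun h _ => by simp [hblock, h.2]
  have hsum : ∑ h : H, (θ h * θ h + θ (h * h)) = 0 := by
    calc ∑ h : H, (θ h * θ h + θ (h * h))
        = ∑ h : H, ∑ i : Fin n, ∑ j : Fin n, (A h i i * A h j j + A h j i * A h i j) := by
          refine Finset.sum_congr rfl fun h _ => ?_
          rw [← hAtr, ← hAtr, hA, Matrix.trace, Matrix.trace]
          simp only [Matrix.diag, Matrix.mul_apply, Finset.sum_add_distrib, Finset.sum_mul_sum]
          congr 1
          exact Finset.sum_congr rfl fun i _ => Finset.sum_congr rfl fun j _ => mul_comm _ _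
      _ = ∑ i : Fin n, ∑ j : Fin n, ∑ h : H, (A h i i * A h j j + A h j i * A h i j) := by
          rw [Finset.sum_comm]
          exact Finset.sum_congr rfl fun i _ => Finset.sum_comm
      _ = 0 := Finset.sum_eq_zero fun i _ => Finset.sum_eq_zero fun j _ => key i i j j
  have h2 : classInner θ (fun h => conj (θ h)) + fsInd θ = 0 := by
    rw [classInner, fsInd, ← mul_add, ← Finset.sum_add_distrib]
    simp only [Complex.conj_conj]
    rw [hsum, mul_zero]
  rw [hm', hm] at h2
  rw [hm] at h1
  have hm0 : m = 0 := by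
    have h3 : (m : ℂ) = 0 := by linear_combination h2 / 2
    exact_mod_cast h3
  rw [hm0, Nat.cast_zero, zero_sub, neg_eq_iff_eq_neg] at h1
  have h4 := congrArg Complex.re h1
  simp at h4
  linarith [(Nat.cast_nonneg k : (0 : ℝ) ≤ k)]

end Cfsg.Agent.CT
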