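import Cfsg.Agent.Lib.CT.Tables
import Cfsg.Agent.Lib.CT.TI

/-!
# Class functions on a subgroup controlling fusion, and pairs of involutions
-/

set_option autoImplicit false

namespace Cfsg.Agent.CT

open scoped ComplexConjugate

universe u

variable {G : Type u} [Group G] [Fintype G] (H : Subgroup G)

/-- Values at elements squaring to one are integers. -/
theorem exists_int_value_of_sq {t : G} (ht : t * t = 1) (χ : IrrCharacter G) :
    ∃ z : ℤ, (χ : G → ℂ) t = z := by
  obtain ⟨χ, n, ρ, -, rfl⟩ := χ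
  obtain ⟨ω, hω, he⟩ := exists_eigenvalues ρ t
  have hsq : ∀ i, ∃ z : ℤ, ω i = z := fun i => by
    have h2 : ω i ^ 2 = 1 := by
      obtain ⟨k, hk⟩ := orderOf_dvd_of_pow_eq_one (show t ^ 2 = 1 by rw [pow_two]; exact ht)
      rw [hk, pow_mul, hω i, one_pow]
    rcases sq_eq_one_iff.mp h2 with h' | h'
    · exact ⟨1, by rw [h']; norm_num⟩
    · exact ⟨-1, by rw [h']; norm_num⟩
  choose z hz using hsq
  refine ⟨∑ i, z i, ?_⟩
  have h1 := he 1
  simp only [pow_one] at h1
  show ρ.character t = _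
  rw [h1]
  push_cast
  exact Finset.sum_congr rfl fun i _ => hz i

variable {H}

/-- An induced function vanishes where the function vanishes on all conjugates in the subgroup. -/
theorem indFun_eq_zero_of_forall {θ : H → ℂ} {g : G}
    (h : ∀ (x : G) (hx : x⁻¹ * g * x ∈ H), θ ⟨_, hx⟩ = 0) : indFun H θ g = 0 := by
  simp only [indFun]
  rw [Finset.sum_eq_zero fun x _ => ?_, mul_zero]
  by_cases hx : x⁻¹ * g * x ∈ H
  · rw [extendByZero_mem H θ hx, h x hx]
  · exact extendByZero_not_mem H θ hx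

variable [Fintype H]

/-- Inner products of induced functions, when fusion of the support is controlled by `H`. -/
theorem classInner_indFun_fusion {θ ψ : H → ℂ} (hψ : IsClassFunction H ψ) (D : H → Prop)
    (hfus : ∀ h, D h → ∀ g : G, g * (h : G) * g⁻¹ ∈ H → g ∈ H)
    (hθD : ∀ h, ¬ D h → θ h = 0) (hψD : ∀ h, ¬ D h → ψ h = 0) (hD1 : ¬ D 1) :
    classInner (indFun H θ) (indFun H ψ) = classInner θ ψ := by
  have hS : ∀ x : H, (x : G) ∉ Subtype.val '' {h : H | D h} → ¬ D x :=
    fun x hx hD => hx ⟨x, hD, rfl⟩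
  refine classInner_indFun_TI (S := Subtype.val '' {h : H | D h}) ?_ hψ
    (fun x hx => hθD x (hS x hx)) (fun x hx => hψD x (hS x hx)) (hθD 1 hD1)
  rintro g hg _ ⟨h, hh, rfl⟩ ⟨h', -, e⟩
  exact absurd (hfus h hh g (e ▸ h'.2)) hg

open Classical in
/-- Pairs of conjugate involutions with product in the support. -/
theorem involution_pair_sum {u : G} (hu : u * u = 1) {θ : H → ℂ}
    (hfus : ∀ h, θ h ≠ 0 → ∀ g : G, g * (h : G) * g⁻¹ ∈ H → g ∈ H) :
    (Nat.card {x : G // IsConj u x} : ℂ) * (Nat.card {x : G // IsConj u x} : ℂ) /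
        (Nat.card G : ℂ) * ∑ χ : IrrCharacter G,
          classInner (indFun H θ) χ * ((χ : G → ℂ) u * (χ : G → ℂ) u) / (χ : G → ℂ) 1 =
      (Nat.card H : ℂ)⁻¹ * ∑ y ∈ Finset.univ.filter (fun y : H => IsConj u (y : G)),
        ∑ z ∈ Finset.univ.filter (fun z : H => IsConj u (z : G)), θ (y * z) := by
  set κ : ℂ := (Nat.card {x : G // IsConj u x} : ℂ) * (Nat.card {x : G // IsConj u x} : ℂ) /
    (Nat.card G : ℂ) with hκ
  have h1 : κ * ∑ χ : IrrCharacter G,
      classInner (indFun H θ) χ * ((χ : G → ℂ) u * (χ : G → ℂ) u) / (χ : G → ℂ) 1 =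
      (Nat.card H : ℂ)⁻¹ * ∑ h : H, θ h *
        (Nat.card {p : G × G // IsConj u p.1 ∧ IsConj u p.2 ∧ p.1 * p.2 = (h : G)} : ℂ) := by
    calc κ * ∑ χ : IrrCharacter G,
        classInner (indFun H θ) χ * ((χ : G → ℂ) u * (χ : G → ℂ) u) / (χ : G → ℂ) 1
        = ∑ χ : IrrCharacter G, ∑ h : H, κ * ((Nat.card H : ℂ)⁻¹ * (θ h * conj ((χ : G → ℂ) h)) *
            ((χ : G → ℂ) u * (χ : G → ℂ) u) / (χ : G → ℂ) 1) := by
          rw [Finset.mul_sum]
          refine Finset.sum_congr rfl fun χ _ => ?_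
          rw [frobenius_reciprocity H θ (isClassFunction_of_isIrr χ.2)]
          simp only [classInner, Finset.mul_sum, Finset.sum_mul, Finset.sum_div]
      _ = _ := by
          rw [Finset.sum_comm, Finset.mul_sum]
          refine Finset.sum_congr rfl fun h _ => ?_
          rw [class_mul_formula u u (h : G), ← hκ]
          simp only [Finset.mul_sum]
          refine Finset.sum_congr rfl fun χ _ => ?_
          ring
  rw [h1]
  congr 1
  have hinv : ∀ x : G, IsConj u x → x⁻¹ = x := by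
    intro x hx
    obtain ⟨c, rfl⟩ := isConj_iff.mp hx
    rw [inv_eq_iff_mul_eq_one, show c * u * c⁻¹ * (c * u * c⁻¹) = c * (u * u) * c⁻¹ by group, hu,
      mul_one, mul_inv_cancel]
  have key : ∀ h : H, θ h *
      (Nat.card {p : G × G // IsConj u p.1 ∧ IsConj u p.2 ∧ p.1 * p.2 = (h : G)} : ℂ) =
      ∑ y ∈ Finset.univ.filter (fun y : H => IsConj u (y : G)),
        ∑ z ∈ Finset.univ.filter (fun z : H => IsConj u (z : G)),
          if y * z = h then θ (y * z) else 0 := by
    intro h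
    rw [← Finset.sum_product', ← Finset.sum_filter,
      Finset.sum_congr rfl (g := fun _ => θ h) (fun p hp => by rw [(Finset.mem_filter.mp hp).2]),
      Finset.sum_const, nsmul_eq_mul, mul_comm]
    by_cases hh : θ h = 0
    · simp [hh]
    congr 2
    rw [Nat.card_eq_fintype_card, Fintype.card_subtype]
    symm
    refine Finset.card_bij (fun p _ => ((p.1 : G), (p.2 : G))) ?_ ?_ ?_
    · intro p hp
      simp only [Finset.mem_filter, Finset.mem_product, Finset.mem_univ, true_and] at hp ⊢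
      exact ⟨hp.1.1, hp.1.2, by rw [← hp.2, Subgroup.coe_mul]⟩
    · intro p _ q _ e
      exact Prod.ext (Subtype.ext (congrArg Prod.fst e)) (Subtype.ext (congrArg Prod.snd e))
    · intro p hp
      simp only [Finset.mem_filter, Finset.mem_univ, true_and] at hp
      obtain ⟨hy, hz, e⟩ := hp
      have hyH : p.1 ∈ H := by
        refine hfus h hh p.1 ?_
        have e2 : p.1 * (h : G) * p.1⁻¹ = (h : G)⁻¹ := by
          rw [← e, mul_inv_rev, hinv _ hy, hinv _ hz, ← mul_assoc p.1,
            show p.1 * p.1 = 1 from inv_eq_iff_mul_eq_one.mp (hinv _ hy), one_mul]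
        rw [e2]
        exact H.inv_mem h.2
      have hzH : p.2 ∈ H := by
        have e' : p.2 = p.1⁻¹ * (h : G) := by rw [← e, inv_mul_cancel_left]
        rw [e']
        exact H.mul_mem (H.inv_mem hyH) h.2
      refine ⟨(⟨p.1, hyH⟩, ⟨p.2, hzH⟩), ?_, rfl⟩
      simp only [Finset.mem_filter, Finset.mem_product, Finset.mem_univ, true_and]
      exact ⟨⟨hy, hz⟩, Subtype.ext e⟩
  rw [Finset.sum_congr rfl fun h _ => key h, Finset.sum_comm]
  refine Finset.sum_congr rfl fun y _ => ?_
  rw [Finset.sum_comm]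
  refine Finset.sum_congr rfl fun z _ => ?_
  simp

end Cfsg.Agent.CT
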