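import Cfsg.Agent.Lib.CT.Clifford
import Cfsg.Agent.Lib.CT.Degree
import Cfsg.Agent.Lib.CT.Kernel
import Cfsg.Agent.Lib.CoprimeExt.Basic
import Cfsg.Agent.Lib.OddChar.AbelianQuotient
import Mathlib.GroupTheory.FiniteAbelian.Duality

/-!
# Groups with two character degrees

The action of a group on the linear characters of an abelian normal subgroup, and the structure
of a group with degrees `1, m` over a coprime abelian normal subgroup with nilpotent quotient.
-/

set_option autoImplicit false
set_option linter.all false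

universe u

namespace Cfsg.Agent.TwoDeg

open Cfsg

variable {G : Type u} [Group G]

section act

variable (M : Subgroup G) [M.Normal]

/-- Conjugation of linear characters of a normal subgroup. -/
def act (g : G) (l : M →* ℂˣ) : M →* ℂˣ := l.comp (MulAut.conjNormal g).toMonoidHom

theorem act_apply (g : G) (l : M →* ℂˣ) (n : M) :
    act M g l n = l ⟨g * n * g⁻¹, Subgroup.Normal.conj_mem inferInstance (n : G) n.2 g⟩ := rfl

theorem act_one (l : M →* ℂˣ) : act M 1 l = l := by
  ext n
  simp [act]

theorem act_mul (g h : G) (l : M →* ℂˣ) : act M (g * h) l = act M h (act M g l) := by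
  ext n
  simp [act, map_mul]

theorem act_hom_mul (g : G) (a b : M →* ℂˣ) : act M g (a * b) = act M g a * act M g b := rfl

theorem act_hom_div (g : G) (a b : M →* ℂˣ) : act M g (a / b) = act M g a / act M g b := rfl

/-- The stabiliser of a linear character. -/
def St (l : M →* ℂˣ) : Subgroup G where
  carrier := {g | act M g l = l}
  one_mem' := act_one M l
  mul_mem' {a b} (ha : act M a l = l) (hb : act M b l = l) := by
    show act M (a * b) l = l
    rw [act_mul, ha, hb]
  inv_mem' {a} (ha : act M a l = l) := by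
    show act M a⁻¹ l = l
    conv_lhs => rw [← ha]
    rw [← act_mul, mul_inv_cancel, act_one]

theorem mem_St {l : M →* ℂˣ} {g : G} : g ∈ St M l ↔ act M g l = l := Iff.rfl

theorem inertia_eq_St (l : M →* ℂˣ) : CT.inertia M (fun n => (l n : ℂ)) = St M l := by
  ext g
  rw [CT.mem_inertia_iff, mem_St]
  constructor
  · intro h
    ext n
    exact h n
  · intro h n
    rw [← act_apply, h]

theorem le_St (hcomm : ∀ a b : M, a * b = b * a) (l : M →* ℂˣ) : M ≤ St M l := by
  intro g hg
  rw [mem_St]
  ext n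
  rw [act_apply]
  congr 2
  apply Subtype.ext
  have := congrArg Subtype.val (hcomm ⟨g, hg⟩ n)
  simp only [Subgroup.coe_mul] at this
  show g * n * g⁻¹ = n
  rw [this, mul_inv_cancel_right]

theorem centralizer_le_St (l : M →* ℂˣ) : Subgroup.centralizer (M : Set G) ≤ St M l := by
  intro g hg
  rw [mem_St]
  ext n
  rw [act_apply]
  congr 2
  apply Subtype.ext
  have := Subgroup.mem_centralizer_iff.mp hg n n.2
  show g * n * g⁻¹ = n
  rw [← this, mul_inv_cancel_right]

theorem mem_centralizer_of_forall [Finite G] (hcomm : ∀ a b : M, a * b = b * a) {g : G}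
    (h : ∀ l : M →* ℂˣ, g ∈ St M l) : g ∈ Subgroup.centralizer (M : Set G) := by
  letI : CommGroup M := { (inferInstance : Group M) with mul_comm := hcomm }
  rw [Subgroup.mem_centralizer_iff]
  intro n hn
  by_contra hne
  let x : M := ⟨g * n * g⁻¹, Subgroup.Normal.conj_mem inferInstance n hn g⟩
  have hx : x / ⟨n, hn⟩ ≠ 1 := by
    rw [Ne, div_eq_one]
    intro e
    have e' : g * n * g⁻¹ = n := congrArg Subtype.val e
    apply hne
    conv_lhs => rw [← e']
    rw [inv_mul_cancel_right]
  obtain ⟨l, hl⟩ := CommGroup.exists_apply_ne_one_of_hasEnoughRootsOfUnity M ℂ hx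
  apply hl
  rw [map_div, div_eq_one]
  exact DFunLike.congr_fun (h l) ⟨n, hn⟩

end act

/-- An extension by a central subgroup of coprime order with commutators in it is abelian. -/
theorem comm_of_central [Finite G] (M S : Subgroup G) [M.Normal]
    (hcop : (Nat.card M).Coprime M.index) (hcent : S ≤ Subgroup.centralizer (M : Set G))
    (hc : ∀ a ∈ S, ∀ b ∈ S, a * b * a⁻¹ * b⁻¹ ∈ M) :
    ∀ a ∈ S, ∀ b ∈ S, a * b = b * a := by
  intro a ha b hb
  set c := a * b * a⁻¹ * b⁻¹ with hcdef
  have hcM : c ∈ M := hc a ha b hb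
  have hca : a * c * a⁻¹ = c := by
    rw [← Subgroup.mem_centralizer_iff.mp (hcent ha) c hcM, mul_inv_cancel_right]
  have hj : ∀ j : ℕ, a ^ j * b * (a ^ j)⁻¹ * b⁻¹ = c ^ j := by
    intro j
    induction j with
    | zero => simp
    | succ j ih =>
      calc a ^ (j + 1) * b * (a ^ (j + 1))⁻¹ * b⁻¹
          = a * (a ^ j * b * (a ^ j)⁻¹ * b⁻¹) * a⁻¹ * (a * b * a⁻¹ * b⁻¹) := by
            rw [pow_succ']; group
        _ = (a * c * a⁻¹) ^ j * c := by rw [ih, ← hcdef, conj_pow]
        _ = c ^ (j + 1) := by rw [hca, pow_succ]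
  have h1 : c ^ M.index = 1 := by
    rw [← hj]
    have hk : a ^ M.index ∈ M := Subgroup.pow_index_mem M a
    rw [Subgroup.mem_centralizer_iff.mp (hcent hb) _ hk]
    group
  have h2 : c ^ Nat.card M = 1 := by
    have h : (⟨c, hcM⟩ : M) ^ Nat.card M = 1 := pow_card_eq_one'
    exact congrArg Subtype.val h
  have h3 : c = 1 := by
    have := pow_gcd_eq_one.mpr ⟨h2, h1⟩
    rwa [Nat.coprime_iff_gcd_eq_one.mp hcop, pow_one] at this
  calc a * b = c * (b * a) := by rw [hcdef]; group
    _ = b * a := by rw [h3, one_mul]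

theorem deg_le_index_of_comm [Finite G] (H : Subgroup G) (hH : ∀ a b : H, a * b = b * a)
    {χ : G → ℂ} (hχ : IsIrrCharacter G χ) : CT.deg χ ≤ H.index := by
  classical
  letI := Fintype.ofFinite G
  letI := Fintype.ofFinite H
  obtain ⟨η, hη⟩ := CT.exists_constituent_restrict H hχ
  have hind := CT.isCharacter_indFun H (CT.isCharacter_of_isIrr η.2)
  have hd : CT.deg (indFun H (η : H → ℂ)) = H.index := by
    have h := CT.deg_eq hind
    rw [CT.indFun_one_eval, CT.irr_degree_one_of_comm hH η.2, mul_one] at h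
    exact_mod_cast h.symm
  refine le_trans ?_ (le_trans (CT.constituent_deg_le hind ⟨χ, hχ⟩) hd.le)
  refine Nat.le_mul_of_pos_left _ (Nat.pos_of_ne_zero fun h0 => hη ?_)
  rw [CT.classInner_comm_of_char (CT.isCharacter_restrict H (CT.isCharacter_of_isIrr hχ))
      (CT.isCharacter_of_isIrr η.2),
    ← CT.frobenius_reciprocity H _ (CT.isClassFunction_of_isIrr hχ),
    CT.mult_spec hind (CT.isCharacter_of_isIrr hχ), h0, Nat.cast_zero]

section core

variable (M : Subgroup G) [M.Normal] (m : ℕ)

/-- A moved linear character has an abelian-mod-`M` stabiliser of index `m`. -/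
theorem stab_facts [Finite G] (hcomm : ∀ a b : M, a * b = b * a)
    (hcop : (Nat.card M).Coprime M.index)
    (hcd : ∀ χ : G → ℂ, IsIrrCharacter G χ → CT.deg χ = 1 ∨ CT.deg χ = m)
    (l : M →* ℂˣ) (hne : St M l ≠ ⊤) :
    (St M l).index = m ∧ ∀ a ∈ St M l, ∀ b ∈ St M l, a * b * a⁻¹ * b⁻¹ ∈ M := by
  classical
  letI := Fintype.ofFinite G
  set T := St M l with hT
  have hMT : M ≤ T := le_St M hcomm l
  letI := Fintype.ofFinite T
  letI := Fintype.ofFinite M
  let L : Subgroup T := M.subgroupOf T
  let lamL : L →* ℂˣ := l.comp (Subgroup.subgroupOfEquivOfLe hMT).toMonoidHom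
  have hinv : ∀ (g : T) (n : L),
      lamL ⟨g * n * g⁻¹, Subgroup.Normal.conj_mem inferInstance (n : T) n.2 g⟩ = lamL n := by
    intro g n
    have h : act M (g : G) l = l := g.2
    exact DFunLike.congr_fun h (Subgroup.subgroupOfEquivOfLe hMT n)
  have hcop' : Nat.Coprime L.index (orderOf lamL) := by
    refine Nat.Coprime.coprime_dvd_right ?_ (Nat.Coprime.coprime_dvd_left ?_ hcop.symm)
    · refine orderOf_dvd_of_pow_eq_one (MonoidHom.ext fun x => ?_)
      rw [MonoidHom.pow_apply, MonoidHom.one_apply]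
      show (l _) ^ Nat.card M = 1
      rw [← map_pow, pow_card_eq_one', map_one]
    · exact Subgroup.relIndex_dvd_index_of_normal M T
  obtain ⟨μ, hμ, -⟩ := CoprimeExt.exists_lin_ext L lamL hinv hcop'
  have hφ : IsIrrCharacter M (fun n => (l n : ℂ)) := CT.isIrrCharacter_lin l
  have hI : T = CT.inertia M (fun n => (l n : ℂ)) := (inertia_eq_St M l).symm
  have hidx : 1 < T.index := by
    rcases Nat.lt_or_ge 1 T.index with h | h
    · exact h
    · exfalso
      have h0 : T.index ≠ 0 := Subgroup.index_ne_zero_of_finite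
      exact hne (Subgroup.index_eq_one.mp (by omega))
  have key : ∀ β : IrrCharacter (T ⧸ L), T.index * CT.deg (β : T ⧸ L → ℂ) = m := by
    intro β
    have hβ0 : IsIrrCharacter T (fun t => (β : T ⧸ L → ℂ) (QuotientGroup.mk t)) :=
      CT.isIrr_inflate L β.2 fun g => rfl
    let ψ : T → ℂ := (fun t => (β : T ⧸ L → ℂ) (QuotientGroup.mk t)) * fun t => (μ t : ℂ)
    have hψ : IsIrrCharacter T ψ :=
      OddChar.isIrr_mul_linear hβ0 (CT.isCharacter_lin μ) (by simp)
    have hres : CT.resTo M T hMT ψ = (β : T ⧸ L → ℂ) 1 • fun n => (l n : ℂ) := by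
      funext n
      have hn : (⟨(n : G), hMT n.2⟩ : T) ∈ L := n.2
      have e1 : (QuotientGroup.mk (⟨(n : G), hMT n.2⟩ : T) : T ⧸ L) = 1 :=
        (QuotientGroup.eq_one_iff _).mpr hn
      have e2 : μ ⟨(n : G), hMT n.2⟩ = l n := hμ ⟨⟨(n : G), hMT n.2⟩, hn⟩
      show (β : T ⧸ L → ℂ) (QuotientGroup.mk ⟨(n : G), hMT n.2⟩) *
        (μ ⟨(n : G), hMT n.2⟩ : ℂ) = (β : T ⧸ L → ℂ) 1 * (l n : ℂ)
      rw [e1, e2]
    have hne0 : classInner (CT.resTo M T hMT ψ) (fun n => (l n : ℂ)) ≠ 0 := by
      rw [hres, CT.classInner_smul_left, CT.irr_inner_self hφ, mul_one]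
      exact CT.irr_one_ne_zero β.2
    have hirr := CT.isIrr_indFun_of_over M hφ T hI hMT hψ hne0
    have hd : CT.deg (indFun T ψ) = T.index * CT.deg (β : T ⧸ L → ℂ) := by
      have h := CT.deg_eq (CT.isCharacter_of_isIrr hirr)
      have h1 : ψ 1 = (β : T ⧸ L → ℂ) 1 := by
        show (β : T ⧸ L → ℂ) (QuotientGroup.mk 1) * (μ 1 : ℂ) = _
        simp
      rw [CT.indFun_one_eval, h1, CT.deg_eq (CT.isCharacter_of_isIrr β.2)] at h
      exact_mod_cast h.symm
    rcases hcd _ hirr with h | h
    · rw [hd] at h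
      have := Nat.eq_one_of_mul_eq_one_right h
      omega
    · rw [← hd]; exact h
  have h1 := key (CT.trivIrr (T ⧸ L))
  have htriv : CT.deg (CT.trivIrr (T ⧸ L) : T ⧸ L → ℂ) = 1 := by simp [CT.deg]
  rw [htriv, mul_one] at h1
  refine ⟨h1, fun a ha b hb => ?_⟩
  have hq : ∀ x y : T ⧸ L, x * y = y * x := by
    rw [CT.comm_iff_all_linear]
    intro β
    have h := key β
    rw [h1] at h
    have hd1 : CT.deg (β : T ⧸ L → ℂ) = 1 := Nat.eq_of_mul_eq_mul_left (by omega) (h.trans (mul_one m).symm)
    rw [CT.deg_eq (CT.isCharacter_of_isIrr β.2), hd1, Nat.cast_one]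
  have h := hq (QuotientGroup.mk (⟨a, ha⟩ : T)) (QuotientGroup.mk (⟨b, hb⟩ : T))
  have h' : ((⟨a, ha⟩ * ⟨b, hb⟩ * (⟨a, ha⟩ : T)⁻¹ * (⟨b, hb⟩ : T)⁻¹ : T) : T ⧸ L) = 1 := by
    simp only [QuotientGroup.mk_mul, QuotientGroup.mk_inv]
    rw [h]
    group
  have h'' := (QuotientGroup.eq_one_iff _).mp h'
  exact h''

/-- A coprime iterate fixing a commutator-like element fixes the character. -/
theorem act_eq_of_fix_div [Finite G] (hcomm : ∀ a b : M, a * b = b * a)
    (hcop : (Nat.card M).Coprime M.index) (t : G) (x : M →* ℂˣ)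
    (hfix : act M t (act M t x / x) = act M t x / x) : act M t x = x := by
  set a := act M t x / x with ha
  have e : act M t x = x * a := MonoidHom.ext fun n => by
    rw [ha, MonoidHom.mul_apply, MonoidHom.div_apply, mul_div_cancel]
  have hj : ∀ j : ℕ, act M (t ^ j) x = x * a ^ j := by
    intro j
    induction j with
    | zero =>
      ext n
      simp [act_one]
    | succ j ih =>
      have hp : ∀ i : ℕ, act M t (a ^ i) = a ^ i := fun i => MonoidHom.ext fun n => by
        rw [act_apply, MonoidHom.pow_apply, MonoidHom.pow_apply, ← act_apply, hfix]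
      rw [pow_succ, act_mul, ih, act_hom_mul, hp, e]
      ext n
      simp [pow_succ', mul_assoc]
  have h1 : a ^ M.index = 1 := by
    have h := hj M.index
    rw [show act M (t ^ M.index) x = x from le_St M hcomm x (Subgroup.pow_index_mem M t)] at h
    exact MonoidHom.ext fun n => left_eq_mul.mp (DFunLike.congr_fun h n)
  have h2 : a ^ Nat.card M = 1 := MonoidHom.ext fun n => by
    rw [MonoidHom.pow_apply, ← map_pow, pow_card_eq_one', map_one, MonoidHom.one_apply]
  have h3 : a = 1 := by
    refine MonoidHom.ext fun n => ?_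
    have := pow_gcd_eq_one.mpr ⟨(MonoidHom.pow_apply a _ n).symm.trans (DFunLike.congr_fun h2 n),
      (MonoidHom.pow_apply a _ n).symm.trans (DFunLike.congr_fun h1 n)⟩
    rwa [Nat.coprime_iff_gcd_eq_one.mp hcop, pow_one] at this
  rw [e, h3]
  ext n
  simp

/-- Main dichotomy. -/
theorem dichotomy [Finite G] (hcomm : ∀ a b : M, a * b = b * a)
    (hcop : (Nat.card M).Coprime M.index) [hnil : Group.IsNilpotent (G ⧸ M)]
    (hcd : ∀ χ : G → ℂ, IsIrrCharacter G χ → CT.deg χ = 1 ∨ CT.deg χ = m) :
    M ≤ Subgroup.center G ∨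
      ∃ A : Subgroup G, A.Normal ∧ (∀ a ∈ A, ∀ b ∈ A, a * b = b * a) ∧ A.index = m := by
  classical
  set C := Subgroup.centralizer (M : Set G) with hCdef
  by_cases hall : ∀ l : M →* ℂˣ, St M l = ⊤
  · left
    intro n hn
    rw [Subgroup.mem_center_iff]
    intro g
    have hg : g ∈ C := mem_centralizer_of_forall M hcomm fun l => by rw [hall l]; trivial
    exact (Subgroup.mem_centralizer_iff.mp hg n hn).symm
  right
  push Not at hall
  obtain ⟨l0, hl0⟩ := hall
  have hMC : M ≤ C := by
    intro n hn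
    rw [hCdef, Subgroup.mem_centralizer_iff]
    intro k hk
    exact congrArg Subtype.val (hcomm ⟨k, hk⟩ ⟨n, hn⟩)
  haveI hCn : C.Normal := Subgroup.normal_centralizer
  -- commutators centralise `M`
  have hcc : ∀ a b : G, a * b * a⁻¹ * b⁻¹ ∈ C := by
    by_contra hne
    push Not at hne
    obtain ⟨a0, b0, hab⟩ := hne
    haveI : Group.IsNilpotent (G ⧸ C) :=
      Group.nilpotent_of_surjective (QuotientGroup.map M C (MonoidHom.id G) hMC) (by
        intro q
        induction q using QuotientGroup.induction_on with | _ g => exact ⟨g, rfl⟩)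
    have hncomm : ¬ ∀ x y : G ⧸ C, x * y = y * x := by
      intro h
      apply hab
      rw [← QuotientGroup.eq_one_iff]
      simp only [QuotientGroup.mk_mul, QuotientGroup.mk_inv]
      rw [h (a0 : G ⧸ C)]
      group
    rw [CT.comm_iff_all_linear] at hncomm
    push Not at hncomm
    obtain ⟨β, hβ⟩ := hncomm
    have hdeg : CT.deg (β : G ⧸ C → ℂ) = m := by
      rcases hcd _ (CT.isIrr_inflate C (χ := fun g => (β : G ⧸ C → ℂ) (QuotientGroup.mk g))
          β.2 fun g => rfl) with h | h
      · exfalso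
        apply hβ
        rw [CT.deg_eq (CT.isCharacter_of_isIrr β.2)]
        exact_mod_cast h
      · exact h
    haveI : Nontrivial (G ⧸ C) := ⟨⟨((a0 * b0 * a0⁻¹ * b0⁻¹ : G) : G ⧸ C), 1,
      fun h => hab ((QuotientGroup.eq_one_iff _).mp h)⟩⟩
    obtain ⟨z, hzc, hz1⟩ := (Subgroup.ne_bot_iff_exists_ne_one.mp
      (Group.IsNilpotent.center_ne_bot (G := G ⧸ C))) |>.elim fun z hz =>
        (⟨z.1, z.2, fun h => hz (Subtype.ext h)⟩ : ∃ z, z ∈ Subgroup.center (G ⧸ C) ∧ z ≠ 1)
    obtain ⟨z0, rfl⟩ := QuotientGroup.mk_surjective z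
    obtain ⟨l, hl⟩ : ∃ l : M →* ℂˣ, z0 ∉ St M l := by
      by_contra h
      push Not at h
      exact hz1 ((QuotientGroup.eq_one_iff _).mpr (mem_centralizer_of_forall M hcomm h))
    obtain ⟨hTi, hTc⟩ := stab_facts M m hcomm hcop hcd l (fun h => hl (h ▸ Subgroup.mem_top z0))
    let Tb : Subgroup (G ⧸ C) := (St M l).map (QuotientGroup.mk' C)
    let S : Subgroup (G ⧸ C) := Tb ⊔ Subgroup.zpowers (z0 : G ⧸ C)
    have hTT : Tb ≤ Subgroup.centralizer (Tb : Set (G ⧸ C)) := by
      rintro _ ⟨x, hx, rfl⟩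
      rw [Subgroup.mem_centralizer_iff]
      rintro _ ⟨y, hy, rfl⟩
      have h1 : ((y * x * y⁻¹ * x⁻¹ : G) : G ⧸ C) = 1 :=
        (QuotientGroup.eq_one_iff _).mpr (hMC (hTc y hy x hx))
      calc (QuotientGroup.mk' C) y * (QuotientGroup.mk' C) x
          = ((y * x * y⁻¹ * x⁻¹ : G) : G ⧸ C) * ((QuotientGroup.mk' C) x * (QuotientGroup.mk' C) y) := by
            simp only [QuotientGroup.mk'_apply, ← QuotientGroup.mk_mul]
            congr 1
            group
        _ = _ := by rw [h1, one_mul]
    have hzC : Subgroup.zpowers (z0 : G ⧸ C) ≤ Subgroup.center (G ⧸ C) :=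
      Subgroup.zpowers_le.mpr hzc
    have hST : S ≤ Subgroup.centralizer (Tb : Set (G ⧸ C)) :=
      sup_le hTT (hzC.trans (Subgroup.center_le_centralizer _))
    have hSS : S ≤ Subgroup.centralizer (S : Set (G ⧸ C)) :=
      sup_le (Subgroup.le_centralizer_iff.mp hST) (hzC.trans (Subgroup.center_le_centralizer _))
    have hlt : Tb < S := by
      refine lt_of_le_of_ne le_sup_left fun h => hl ?_
      have : (z0 : G ⧸ C) ∈ Tb := h ▸ (le_sup_right : _ ≤ S) (Subgroup.mem_zpowers _)
      obtain ⟨x, hx, hxz⟩ := this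
      have h2 : x⁻¹ * z0 ∈ C := QuotientGroup.eq.mp hxz
      have h3 := (St M l).mul_mem hx (centralizer_le_St M l h2)
      rwa [mul_inv_cancel_left] at h3
    have hTbi : Tb.index = m := by
      rw [Subgroup.index_map_eq _ (QuotientGroup.mk'_surjective C)
        (by rw [QuotientGroup.ker_mk']; exact centralizer_le_St M l), hTi]
    have h1 := deg_le_index_of_comm S
      (fun a b => Subtype.ext (Subgroup.mem_centralizer_iff.mp (hSS b.2) a a.2)) β.2
    have h2 := Subgroup.index_strictAnti hlt
    omega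
  -- conjugations commute on linear characters
  have hswap : ∀ (g h : G) (l : M →* ℂˣ), act M g (act M h l) = act M h (act M g l) := by
    intro g h l
    rw [← act_mul, ← act_mul, show h * g = h * g * h⁻¹ * g⁻¹ * (g * h) by group, act_mul,
      show act M (h * g * h⁻¹ * g⁻¹) l = l from centralizer_le_St M l (hcc h g)]
  have heq : ∀ l1 l2 : M →* ℂˣ, St M l1 ≠ ⊤ → St M l2 ≠ ⊤ → St M l1 = St M l2 := by
    intro l1 l2 h1 h2
    have i1 := (stab_facts M m hcomm hcop hcd l1 h1).1
    have i2 := (stab_facts M m hcomm hcop hcd l2 h2).1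
    by_contra hne
    obtain ⟨t, ht1, ht2⟩ : ∃ t, t ∈ St M l1 ∧ t ∉ St M l2 := by
      by_contra h
      push Not at h
      rcases lt_or_eq_of_le (show St M l1 ≤ St M l2 from h) with hlt | he
      · have := Subgroup.index_strictAnti hlt; omega
      · exact hne he
    set a := act M t l2 / l2 with ha
    have hta : t ∉ St M a := fun h => ht2 (act_eq_of_fix_div M hcomm hcop t l2 h)
    have hle2 : St M l2 ≤ St M a := fun s (hs : act M s l2 = l2) => by
      show act M s (act M t l2 / l2) = _
      rw [act_hom_div, hswap, hs]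
    have ia := (stab_facts M m hcomm hcop hcd a (fun h => hta (h ▸ Subgroup.mem_top t))).1
    have hae : St M l2 = St M a := by
      rcases lt_or_eq_of_le hle2 with hlt | he
      · have := Subgroup.index_strictAnti hlt; omega
      · exact he
    have hb : ∀ s ∈ St M (a * l1), s ∈ St M l1 ∧ s ∈ St M l2 := by
      intro s (hs : act M s (a * l1) = a * l1)
      rw [act_hom_mul] at hs
      set d := act M s l2 / l2 with hd
      have e1 : act M s a / a = act M t d / d := by
        rw [ha, hd, act_hom_div, act_hom_div, hswap s t]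
        exact MonoidHom.ext fun n => div_div_div_comm _ _ _ _
      have e2 : act M s a / a = l1 / act M s l1 := MonoidHom.ext fun n => by
        have := DFunLike.congr_fun hs n
        rw [MonoidHom.mul_apply, MonoidHom.mul_apply] at this
        rw [MonoidHom.div_apply (act M s a) a n, MonoidHom.div_apply l1 (act M s l1) n,
          div_eq_div_iff_mul_eq_mul, this, mul_comm]
      have hfix : act M t (act M t d / d) = act M t d / d := by
        rw [← e1, e2, act_hom_div, hswap t s, show act M t l1 = l1 from ht1]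
      have hd0 : act M t d = d := act_eq_of_fix_div M hcomm hcop t d hfix
      have e3 : act M s a = a := MonoidHom.ext fun n => by
        have := DFunLike.congr_fun e1 n
        rw [hd0, MonoidHom.div_apply (act M s a) a n, MonoidHom.div_apply d d n, div_self', div_eq_one] at this
        exact this
      have e4 : act M s l1 = l1 := MonoidHom.ext fun n => by
        have := DFunLike.congr_fun hs n
        rw [MonoidHom.mul_apply, MonoidHom.mul_apply, e3] at this
        exact mul_left_cancel this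
      exact ⟨e4, hae ▸ e3⟩
    have hbne : St M (a * l1) ≠ ⊤ := fun h => h1 (eq_top_iff.mpr fun s _ =>
      (hb s (h ▸ Subgroup.mem_top s)).1)
    have ib := (stab_facts M m hcomm hcop hcd _ hbne).1
    have e1 : St M (a * l1) = St M l1 := by
      rcases lt_or_eq_of_le (show St M (a * l1) ≤ St M l1 from fun s hs => (hb s hs).1) with hlt | he
      · have := Subgroup.index_strictAnti hlt; omega
      · exact he
    have e2 : St M (a * l1) = St M l2 := by
      rcases lt_or_eq_of_le (show St M (a * l1) ≤ St M l2 from fun s hs => (hb s hs).2) with hlt | he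
      · have := Subgroup.index_strictAnti hlt; omega
      · exact he
    exact hne (e1.symm.trans e2)
  obtain ⟨hTi, hTc⟩ := stab_facts M m hcomm hcop hcd l0 hl0
  have hCT : C = St M l0 := le_antisymm (centralizer_le_St M l0) fun s hs =>
    mem_centralizer_of_forall M hcomm fun l => by
      by_cases h : St M l = ⊤
      · rw [h]; trivial
      · rw [heq l l0 h hl0]; exact hs
  refine ⟨C, hCn, comm_of_central M C hcop le_rfl ?_, hCT ▸ hTi⟩
  intro a ha b hb
  exact hTc a (hCT ▸ ha) b (hCT ▸ hb)

end core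

/-- A normal subgroup of order prime to every nonlinear degree is abelian. -/
theorem comm_of_deg_coprime [Finite G] (M : Subgroup G) [M.Normal] {m : ℕ}
    (hcd : ∀ χ : G → ℂ, IsIrrCharacter G χ → CT.deg χ = 1 ∨ CT.deg χ = m)
    (hcop : (Nat.card M).Coprime m) : ∀ a b : M, a * b = b * a := by
  classical
  letI := Fintype.ofFinite G
  letI := Fintype.ofFinite M
  rw [CT.comm_iff_all_linear]
  intro θ
  obtain ⟨χ, hχ⟩ := CT.exists_irr_over M θ.2
  obtain ⟨k, hk, -⟩ := CT.deg_ratio_dvd_index M χ.2 θ.2 hχ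
  have h1 : CT.deg (θ : M → ℂ) ∣ Nat.card M := by
    obtain ⟨n, ρ, hρ, e⟩ := θ.2
    haveI := hρ
    rw [← e, CT.deg_eq_finrank]
    exact CT.finrank_dvd_card ρ
  have h2 : CT.deg (θ : M → ℂ) = 1 := by
    rcases hcd _ χ.2 with h | h <;> rw [hk] at h
    · exact Nat.eq_one_of_mul_eq_one_left h
    · exact Nat.eq_one_of_dvd_coprimes hcop h1 ⟨k, by rw [← h, mul_comm]⟩
  rw [CT.deg_eq (CT.isCharacter_of_isIrr θ.2), h2, Nat.cast_one]

end Cfsg.Agent.TwoDeg
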