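import Cfsg.Agent.Lib.CT.NilpotentLength
import Cfsg.Agent.Lib.CT.TwoDegrees
import Cfsg.Agent.Lib.Basics.CoreFree
import Cfsg.Agent.Lib.Basics.Tools
import Cfsg.Prelude.Def_Blocks

/-! The nilpotent length of a solvable group is at most the number of its character degrees. -/

set_option autoImplicit false

namespace Cfsg.Agent.CT.Garrison

open scoped ComplexConjugate
open Cfsg Subgroup

universe u

/-- The set of character degrees. -/
def cd (G : Type u) [Group G] : Set ℕ :=
  {d | ∃ χ : IrrCharacter G, charDegree (χ : G → ℂ) = d}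

theorem cd_finite (G : Type u) [Group G] [Finite G] : (cd G).Finite := by
  haveI := CT.irr_finite G
  exact (Set.finite_range fun χ : IrrCharacter G => charDegree (χ : G → ℂ)).subset
    fun d hd => hd

theorem cd_nonempty (G : Type u) [Group G] : (cd G).Nonempty :=
  ⟨_, ⟨fun _ => 1, CT.isIrrCharacter_one⟩, rfl⟩

theorem cd_quotient {G : Type u} [Group G] (N : Subgroup G) [N.Normal] : cd (G ⧸ N) ⊆ cd G := by
  rintro d ⟨⟨ψ, hψ⟩, hd⟩
  exact ⟨⟨fun g => ψ (QuotientGroup.mk g), CT.isIrr_inflate N hψ fun g => rfl⟩, hd⟩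

/-- A commuting family of automorphisms of coprime order has a vector with the smallest stabiliser. -/
theorem exists_regular {V : Type u} [CommGroup V] [Finite V] {A : Type*} [Group A] [Finite A]
    (hA : ∀ a b : A, a * b = b * a) (σ : A → V →* V) (h1 : ∀ v, σ 1 v = v)
    (hmul : ∀ a b v, σ (a * b) v = σ a (σ b v)) (hcop : (Nat.card A).Coprime (Nat.card V))
    (W : Subgroup V) (hW : ∀ a, ∀ v ∈ W, σ a v ∈ W) :
    ∃ v ∈ W, ∀ a, σ a v = v → ∀ w ∈ W, σ a w = w := by
  induction W using WellFoundedLT.induction with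
  | ind W ih =>
  by_cases hex : ∃ a, (∃ v ∈ W, v ≠ 1 ∧ σ a v = v) ∧ ∃ v ∈ W, σ a v ≠ v
  · obtain ⟨a, ⟨v0, hv0, hv01, hv0a⟩, u0, hu0, hu0a⟩ := hex
    let δ : V →* V := σ a / MonoidHom.id V
    have hδ : ∀ v, δ v = σ a v / v := fun v => rfl
    let d : W →* W := (δ.comp W.subtype).codRestrict W fun v => by
      show σ a (v : V) / (v : V) ∈ W
      exact W.div_mem (hW a v v.2) v.2
    have hd : ∀ v : W, ((d v : W) : V) = σ a v / v := fun v => rfl
    -- the kernel and the range meet trivially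
    have hint : ∀ x : W, x ∈ d.ker → x ∈ d.range → x = 1 := by
      intro x hx hr
      obtain ⟨u, rfl⟩ := hr
      set w : V := ((d u : W) : V) with hw
      have hfix : σ a w = w := by
        have := congrArg (Subtype.val) hx
        rw [hd, OneMemClass.coe_one, div_eq_one] at this
        exact this
      have hpow : ∀ i : ℕ, σ (a ^ i) (u : V) = w ^ i * u := by
        intro i
        induction i with
        | zero => simp [h1]
        | succ i hi =>
          rw [pow_succ', hmul, hi, map_mul, map_pow, hfix, pow_succ, hw, hd, mul_assoc,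
            div_mul_cancel]
      have h2 := hpow (Nat.card A)
      rw [pow_card_eq_one', h1, right_eq_mul] at h2
      have h3 : orderOf w ∣ Nat.card A := orderOf_dvd_of_pow_eq_one h2
      have h4 : orderOf w = 1 :=
        Nat.eq_one_of_dvd_coprimes hcop h3 (orderOf_dvd_natCard w)
      exact Subtype.ext (orderOf_eq_one_iff.mp h4)
    have hsplit : ∀ x : W, ∃ y ∈ d.ker, ∃ z ∈ d.range, y * z = x := by
      have hinj : Function.Injective fun p : d.ker × d.range => (p.1 : W) * p.2 := by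
        rintro ⟨⟨y, hy⟩, z, hz⟩ ⟨⟨y', hy'⟩, z', hz'⟩ (he : y * z = y' * z')
        have h : y / y' = z' / z := by rw [div_eq_div_iff_mul_eq_mul, he]; ac_rfl
        have h' := hint (y / y') (d.ker.div_mem hy hy') (h ▸ d.range.div_mem hz' hz)
        obtain rfl : y = y' := div_eq_one.mp h'
        obtain rfl : z = z' := mul_left_cancel he
        rfl
      have hbij := (Nat.bijective_iff_injective_and_card _).mpr ⟨hinj, by
        rw [Nat.card_prod, ← Subgroup.index_ker d, mul_comm, Subgroup.index_mul_card]⟩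
      intro x
      obtain ⟨⟨y, z⟩, hyz⟩ := hbij.2 x
      exact ⟨y, y.2, z, z.2, hyz⟩
    have hcomm : ∀ b (v : V), σ b (σ a v) = σ a (σ b v) := fun b v => by
      rw [← hmul, ← hmul, hA]
    set W₁ := d.ker.map W.subtype with hW₁
    set W₂ := d.range.map W.subtype with hW₂
    have hW₁i : ∀ b, ∀ v ∈ W₁, σ b v ∈ W₁ := by
      rintro b _ ⟨v, hv, rfl⟩
      refine ⟨⟨σ b v, hW b v v.2⟩, ?_, rfl⟩
      show d _ = 1
      refine Subtype.ext ?_
      rw [hd, OneMemClass.coe_one, div_eq_one]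
      have := congrArg Subtype.val hv
      rw [hd, OneMemClass.coe_one, div_eq_one] at this
      show σ a (σ b v) = σ b v
      rw [← hcomm, this]
    have hW₂i : ∀ b, ∀ v ∈ W₂, σ b v ∈ W₂ := by
      rintro b _ ⟨_, ⟨v, rfl⟩, rfl⟩
      refine ⟨d ⟨σ b v, hW b v v.2⟩, ⟨_, rfl⟩, ?_⟩
      show ((d _ : W) : V) = σ b ((d v : W) : V)
      rw [hd, hd, map_div, hcomm]
    have hlt₁ : W₁ < W := by
      refine lt_of_le_of_ne (map_subtype_le _) fun e => hu0a ?_
      obtain ⟨v, hv, he⟩ := (e ▸ hu0 : u0 ∈ W₁)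
      have := congrArg Subtype.val hv
      rw [hd, OneMemClass.coe_one, div_eq_one] at this
      rw [← he]; exact this
    have hlt₂ : W₂ < W := by
      refine lt_of_le_of_ne (map_subtype_le _) fun e => hv01 ?_
      obtain ⟨x, hx, he⟩ := (e ▸ hv0 : v0 ∈ W₂)
      have hk : x ∈ d.ker := by
        refine Subtype.ext ?_
        rw [hd, OneMemClass.coe_one, div_eq_one]
        show σ a (x : V) = x
        rw [show (x : V) = v0 from he, hv0a]
      rw [← he, hint x hk hx]; rfl
    obtain ⟨v₁, hv₁, h₁⟩ := ih W₁ hlt₁ hW₁i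
    obtain ⟨v₂, hv₂, h₂⟩ := ih W₂ hlt₂ hW₂i
    refine ⟨v₁ * v₂, W.mul_mem (hlt₁.le hv₁) (hlt₂.le hv₂), fun b hb w hw => ?_⟩
    rw [map_mul] at hb
    have e : σ b v₁ / v₁ = v₂ / σ b v₂ := by rw [div_eq_div_iff_mul_eq_mul, hb]; ac_rfl
    obtain ⟨p, hp, hpe⟩ := W₁.div_mem (hW₁i b v₁ hv₁) hv₁
    obtain ⟨r, hr, hre⟩ := W₂.div_mem hv₂ (hW₂i b v₂ hv₂)
    obtain rfl : p = r := Subtype.ext (hpe.trans (e.trans hre.symm))
    rw [hint p hp hr, map_one, eq_comm] at hpe hre
    have hb₁ := h₁ b (div_eq_one.mp hpe)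
    have hb₂ := h₂ b (div_eq_one.mp hre).symm
    obtain ⟨y, hy, z, hz, hyz⟩ := hsplit ⟨w, hw⟩
    have hyz' : (y : V) * z = w := congrArg Subtype.val hyz
    rw [← hyz', map_mul, hb₁ (y : V) ⟨y, hy, rfl⟩, hb₂ (z : V) ⟨z, hz, rfl⟩]
  · push Not at hex
    by_cases hW1 : ∃ v ∈ W, v ≠ 1
    · obtain ⟨v, hv, hv1⟩ := hW1
      exact ⟨v, hv, fun a ha => hex a ⟨v, hv, hv1, ha⟩⟩
    · push Not at hW1
      exact ⟨1, W.one_mem, fun a _ w hw => by rw [hW1 w hw, map_one]⟩

theorem isIrr_lin_mul {H : Type u} [Group H] [Fintype H] (l : H →* ℂˣ) {χ : H → ℂ}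
    (hχ : IsIrrCharacter H χ) : IsIrrCharacter H (fun c => (l c : ℂ) * χ c) := by
  refine CT.isIrr_of_inner_self (CT.isCharacter_mul (CT.isCharacter_lin l) (CT.isCharacter_of_isIrr hχ)) ?_
  rw [← CT.irr_inner_self hχ]
  simp only [classInner]
  congr 1
  refine Finset.sum_congr rfl fun c _ => ?_
  have h : (l c : ℂ) * conj (l c : ℂ) = 1 := by
    rw [← CT.char_inv_eq_conj (CT.isCharacter_lin l), map_inv, Units.mul_inv]
  rw [map_mul]
  linear_combination χ c * conj (χ c) * h

/-- A constituent is constant where the whole character is. -/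
theorem constituent_const {H : Type u} [Group H] [Fintype H] {χ θ : H → ℂ} (hχ : IsCharacter H χ)
    (hθ : IsIrrCharacter H θ) (hne : classInner χ θ ≠ 0) {m : H} (hm : χ m = χ 1) : θ m = θ 1 := by
  have hk : 1 ≤ CT.mult χ θ := by
    rw [Nat.one_le_iff_ne_zero]
    intro h
    exact hne (by rw [CT.mult_spec hχ (CT.isCharacter_of_isIrr hθ), h, Nat.cast_zero])
  have hR := CT.isCharacter_sub_constituent hχ hθ hk
  rw [Nat.cast_one, one_smul] at hR
  have hθc := CT.isCharacter_of_isIrr hθ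
  have h1 := (Complex.re_le_norm _).trans (CT.norm_isCharacter_le hθc m)
  have h2 := (Complex.re_le_norm _).trans (CT.norm_isCharacter_le hR m)
  have h3 : (θ m).re + ((χ - θ) m).re = (θ 1).re + ((χ - θ) 1).re := by
    simp [Pi.sub_apply, hm]
  have h4 : (θ m).re = (θ 1).re := by linarith
  have h5 := CT.norm_isCharacter_le hθc m
  obtain ⟨n, hn⟩ := CT.exists_degree hθc
  have h6 : ‖θ m‖ = (θ m).re := le_antisymm (h5.trans h4.ge) (Complex.re_le_norm _)
  have h7 := Complex.nonneg_iff.mp (Complex.re_eq_norm.mp h6.symm)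
  refine Complex.ext h4 ?_
  rw [← h7.2, hn, Complex.natCast_im]

variable {G : Type u} [Group G] [Finite G]

/-- Some character degree of `G` is not a degree of the quotient by `M`. -/
theorem exists_new_degree [Group.IsSolvable G] {M U : Subgroup G} [M.Normal] (hM : M ≠ ⊥)
    (hmin : ∀ K : Subgroup G, K.Normal → K ≤ M → K = ⊥ ∨ K = M)
    (hU : IsCoatom U) (hUc : U.normalCore = ⊥) (hne : U ≠ ⊥) : ∃ d ∈ cd G, d ∉ cd (G ⧸ M) := by
  classical
  haveI := Fintype.ofFinite G
  obtain ⟨habM, hMU, hCM⟩ := Basics.solvable_minimal hU hUc hM hmin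
  have hMc : ∀ a b : M, a * b = b * a := fun a b => by haveI := habM; exact mul_comm' a b
  obtain ⟨-, p, hp, -, hMp⟩ := Basics.minimal_normal_solvable hM inferInstance hmin
  haveI := Fact.mk hp
  -- a minimal normal subgroup of the quotient
  have hQnt : Nontrivial (G ⧸ M) := by
    rw [← Finite.one_lt_card_iff_nontrivial, ← Subgroup.index_eq_card, hMU.symm.index_eq_card]
    exact (Subgroup.one_lt_card_iff_ne_bot _).mpr hne
  obtain ⟨Z, hZn, -, hZ, hZmin⟩ :=
    Basics.exists_minimal_normal (N := (⊤ : Subgroup (G ⧸ M))) top_ne_bot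
  haveI := hZn
  obtain ⟨habZ, q, hq, -, hZq⟩ := Basics.minimal_normal_solvable hZ inferInstance hZmin
  haveI := Fact.mk hq
  set Y := Z.comap (QuotientGroup.mk' M) with hY
  have hMY : M ≤ Y := fun m hm => by
    show (QuotientGroup.mk m : G ⧸ M) ∈ Z
    rw [(QuotientGroup.eq_one_iff m).2 hm]; exact Z.one_mem
  have hYM : ¬ Y ≤ M := fun h => hZ <| by
    rw [← map_comap_eq_self_of_surjective (QuotientGroup.mk'_surjective M) Z, ← hY, eq_bot_iff]
    rintro _ ⟨y, hy, rfl⟩
    exact (QuotientGroup.eq_one_iff y).2 (h hy)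
  haveI hYn : Y.Normal := inferInstanceAs (Z.comap _).Normal
  have hqp : q ≠ p := by
    rintro rfl
    refine hYM ?_
    have hYp : IsPGroup q Y := by
      intro y
      obtain ⟨k, hk⟩ := hZq ⟨QuotientGroup.mk (y : G), y.2⟩
      have hmem : (y : G) ^ q ^ k ∈ M := (QuotientGroup.eq_one_iff _).1 (congrArg Subtype.val hk)
      obtain ⟨j, hj⟩ := hMp ⟨_, hmem⟩
      refine ⟨k + j, Subtype.ext ?_⟩
      rw [SubmonoidClass.coe_pow, pow_add, pow_mul]
      exact congrArg Subtype.val hj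
    set C := M ⊓ centralizer (Y : Set G) with hC
    haveI : C.Normal := normal_inf_normal _ _
    have hCne : C ≠ ⊥ := by
      letI : MulAction Y M := MulAction.compHom M ((MulAut.conjNormal (H := M)).comp Y.subtype)
      have hdvd : q ∣ Nat.card M := by
        obtain ⟨j, hj⟩ := hMp.exists_card_eq
        rw [hj]
        refine dvd_pow_self q fun h0 => hM ?_
        rw [h0, pow_zero, card_eq_one] at hj
        exact hj
      have h1 : (1 : M) ∈ MulAction.fixedPoints Y M := fun y => by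
        show (MulAut.conjNormal (H := M) (y : G)) (1 : M) = 1
        rw [map_one]
      obtain ⟨b, hb, hne⟩ := hYp.exists_fixed_point_of_prime_dvd_card_of_fixed_point M hdvd h1
      intro h
      have hbC : (b : G) ∈ C := ⟨b.2, mem_centralizer_iff.mpr fun y hy => by
        have h2 : y * (b : G) * y⁻¹ = b :=
          (MulAut.conjNormal_apply y b).symm.trans (congrArg Subtype.val (hb ⟨y, hy⟩))
        conv_rhs => rw [← h2]
        group⟩
      rw [h, mem_bot] at hbC
      exact hne (Subtype.ext hbC).symm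
    have hCeq : C = M := (hmin C inferInstance inf_le_left).resolve_left hCne
    exact (Subgroup.le_centralizer_iff.mp (hCeq ▸ inf_le_right : M ≤ centralizer (Y : Set G))).trans hCM.le
  set A := Y ⊓ U with hA
  have hAM : ∀ a ∈ A, a ∈ M → a = 1 := fun a ha hm =>
    mem_bot.mp (hMU.disjoint.eq_bot ▸ (⟨hm, ha.2⟩ : a ∈ M ⊓ U))
  have hAc : ∀ a b : A, a * b = b * a := by
    intro a b
    refine Subtype.ext ?_
    have hin : (a : G) * b * (a : G)⁻¹ * (b : G)⁻¹ ∈ M := by
      rw [← QuotientGroup.eq_one_iff]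
      haveI := habZ
      have hc : (QuotientGroup.mk (a : G) : G ⧸ M) * QuotientGroup.mk (b : G) =
          QuotientGroup.mk (b : G) * QuotientGroup.mk (a : G) :=
        congrArg Subtype.val (mul_comm' (⟨_, a.2.1⟩ : Z) ⟨_, b.2.1⟩)
      rw [QuotientGroup.mk_mul, QuotientGroup.mk_mul, QuotientGroup.mk_mul, QuotientGroup.mk_inv,
        QuotientGroup.mk_inv, hc]
      group
    have := hAM _ (A.mul_mem (A.mul_mem (A.mul_mem a.2 b.2) (A.inv_mem a.2)) (A.inv_mem b.2)) hin
    rwa [mul_inv_eq_one, mul_inv_eq_iff_eq_mul] at this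
  have hAq : IsPGroup q A := hZq.of_injective
    (((QuotientGroup.mk' M).comp A.subtype).codRestrict Z fun a => a.2.1)
    (fun a b h => by
      have h' : (QuotientGroup.mk (a : G) : G ⧸ M) = QuotientGroup.mk (b : G) := congrArg Subtype.val h
      rw [QuotientGroup.eq] at h'
      exact Subtype.ext (inv_mul_eq_one.mp (hAM _ (A.mul_mem (A.inv_mem a.2) b.2) h')))
  -- a regular orbit on the linear characters
  letI : CommGroup M := { (inferInstance : Group M) with mul_comm := hMc }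
  have hcardV : Nat.card (M →* ℂˣ) = Nat.card M :=
    CommGroup.card_monoidHom_of_hasEnoughRootsOfUnity M ℂ
  haveI : Finite (M →* ℂˣ) := Nat.finite_of_card_ne_zero (by rw [hcardV]; exact Nat.card_pos.ne')
  let σ : A → (M →* ℂˣ) →* (M →* ℂˣ) := fun a =>
    MonoidHom.mk' (TwoDeg.act M ((a : G)⁻¹)) (TwoDeg.act_hom_mul M _)
  have hcop : (Nat.card A).Coprime (Nat.card (M →* ℂˣ)) := by
    rw [hcardV]
    exact IsPGroup.coprime_card_of_ne q p hqp A M hAq hMp
  obtain ⟨l, -, hl⟩ := exists_regular hAc σ (fun v => by simp [σ, TwoDeg.act_one])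
    (fun a b v => by simp [σ, TwoDeg.act_mul]) hcop ⊤ (fun _ _ _ => mem_top _)
  set T := TwoDeg.St M l with hT
  have hMT : M ≤ T := TwoDeg.le_St M hMc l
  have hAT : ∀ a ∈ A, a ∈ T → a = 1 := by
    intro a ha haT
    have h0 : σ ⟨a, ha⟩ l = l := (TwoDeg.mem_St M).mp (T.inv_mem haT)
    refine hAM a ha ?_
    rw [← hCM]
    refine TwoDeg.mem_centralizer_of_forall M hMc fun k => ?_
    have := hl ⟨a, ha⟩ h0 k (mem_top _)
    exact (inv_mem_iff (H := TwoDeg.St M k)).mp this
  -- decomposition of elements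
  have hdec : ∀ g : G, ∃ m : M, (m : G)⁻¹ * g ∈ U := fun g => by
    obtain ⟨⟨m, h⟩, he⟩ := hMU.2 g
    exact ⟨m, by rw [← he]; simp⟩
  choose μ hμ using hdec
  have huniq : ∀ (g : G) (m : M), (m : G)⁻¹ * g ∈ U → μ g = m := by
    intro g m hm
    refine Subtype.ext (inv_mul_eq_one.mp (mem_bot.mp (hMU.disjoint.eq_bot ▸ (⟨?_, ?_⟩ :
      ((μ g : G))⁻¹ * m ∈ M ⊓ U))))
    · exact M.mul_mem (M.inv_mem (μ g).2) m.2
    · have := U.mul_mem (hμ g) (U.inv_mem hm)
      simpa [mul_assoc] using this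
  let lh : T →* ℂˣ := MonoidHom.mk' (fun t => l (μ t)) fun s t => by
    have hs' : ((μ (s : G) : G))⁻¹ * s ∈ T := T.mul_mem (T.inv_mem (hMT (μ _).2)) s.2
    set u := ((μ (s : G) : G))⁻¹ * s with hu
    have he : μ ((s : G) * t) = μ s * ⟨u * μ t * u⁻¹,
        Subgroup.Normal.conj_mem inferInstance _ (μ _).2 _⟩ := by
      refine huniq _ _ ?_
      have := U.mul_mem (hμ s) (hμ t)
      simp only [Subgroup.coe_mul, hu]
      simpa [mul_assoc] using this
    show l (μ ((s : G) * t)) = l (μ s) * l (μ t)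
    rw [he, map_mul, ← TwoDeg.act_apply M u l, (TwoDeg.mem_St M).mp hs']
  have hlh : ∀ m : M, lh ⟨m, hMT m.2⟩ = l m := fun m => by
    show l (μ m) = l m
    rw [huniq m m (by simp)]
  -- a character of greatest degree
  obtain ⟨f, ⟨ψ₀, hψ₀⟩, hfmax⟩ := Set.exists_max_image (cd (G ⧸ M)) id (cd_finite _) (cd_nonempty _)
  by_contra hcon
  push Not at hcon
  have hmax : ∀ ψ : IrrCharacter G, CT.deg (ψ : G → ℂ) ≤ f := fun ψ => hfmax _ (hcon _ ⟨ψ, rfl⟩)
  set χ : G → ℂ := fun g => (ψ₀ : G ⧸ M → ℂ) (QuotientGroup.mk g) with hχdef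
  have hχ : IsIrrCharacter G χ := CT.isIrr_inflate M ψ₀.2 fun g => rfl
  have hχf : CT.deg χ = f := hψ₀
  have hχM : ∀ m ∈ M, χ m = χ 1 := fun m hm => by
    simp only [hχdef, (QuotientGroup.eq_one_iff m).2 hm, QuotientGroup.mk_one]
  obtain ⟨θ, hθ⟩ := CT.exists_constituent_restrict T hχ
  have hχT := CT.isCharacter_restrict T (CT.isCharacter_of_isIrr hχ)
  have hθM : ∀ m : M, (θ : T → ℂ) ⟨m, hMT m.2⟩ = (θ : T → ℂ) 1 := fun m =>
    constituent_const hχT θ.2 hθ (hχM m m.2)
  set φ : T → ℂ := fun t => (lh t : ℂ) * (θ : T → ℂ) t with hφdef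
  have hφ : IsIrrCharacter T φ := isIrr_lin_mul lh θ.2
  have hlam : IsIrrCharacter M (fun m => (l m : ℂ)) := CT.isIrrCharacter_lin l
  obtain ⟨ψ, hψ⟩ := CT.exists_constituent (CT.isCharacter_indFun T (CT.isCharacter_of_isIrr hφ))
    (fun h => by
      have := congrFun h 1
      rw [CT.indFun_one_eval, Pi.zero_apply] at this
      exact mul_ne_zero (Nat.cast_ne_zero.mpr Subgroup.index_ne_zero_of_finite)
        (CT.irr_one_ne_zero hφ) this)
  have hψT := CT.isCharacter_restrict T (CT.isCharacter_of_isIrr ψ.2)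
  rw [CT.frobenius_reciprocity T φ (CT.isClassFunction_of_isIrr ψ.2),
    CT.classInner_comm_of_char (CT.isCharacter_of_isIrr hφ) hψT] at hψ
  have hk : 1 ≤ CT.mult (fun t : T => (ψ : G → ℂ) t) φ := by
    rw [Nat.one_le_iff_ne_zero]
    intro h
    exact hψ (by rw [CT.mult_spec hψT (CT.isCharacter_of_isIrr hφ), h, Nat.cast_zero])
  have hR := CT.isCharacter_sub_constituent hψT hφ hk
  rw [Nat.cast_one, one_smul] at hR
  let ι : M →* T := Subgroup.inclusion hMT
  have hRM := CT.isCharacter_comp ι hR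
  have hψM := CT.isCharacter_restrict M (CT.isCharacter_of_isIrr ψ.2)
  have hinner : classInner (fun m : M => (ψ : G → ℂ) m) (fun m => (l m : ℂ)) =
      (θ : T → ℂ) 1 + classInner ((fun t : T => (ψ : G → ℂ) t) - φ ∘ id |> fun R => fun m => R (ι m))
        (fun m => (l m : ℂ)) := by
    have e : (fun m : M => (ψ : G → ℂ) m) = (θ : T → ℂ) 1 • (fun m : M => (l m : ℂ)) +
        fun m => ((fun t : T => (ψ : G → ℂ) t) - φ) (ι m) := by
      funext m
      show (ψ : G → ℂ) m = (θ : T → ℂ) 1 * (l m : ℂ) + ((ψ : G → ℂ) m - φ (ι m))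
      have : φ (ι m) = (θ : T → ℂ) 1 * (l m : ℂ) := by
        show (lh ⟨m, hMT m.2⟩ : ℂ) * (θ : T → ℂ) ⟨m, hMT m.2⟩ = _
        rw [hlh, hθM, mul_comm]
      rw [this]; ring
    conv_lhs => rw [e]
    rw [CT.classInner_add_left, CT.classInner_smul_left, CT.irr_inner_self hlam, mul_one]
    rfl
  have hge : CT.deg (θ : T → ℂ) ≤ CT.mult (fun m : M => (ψ : G → ℂ) m) (fun m => (l m : ℂ)) := by
    rw [CT.mult_spec hψM (CT.isCharacter_of_isIrr hlam)] at hinner
    have h1 := congrArg Complex.re hinner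
    have h2 := CT.classInner_re_nonneg hRM (CT.isCharacter_of_isIrr hlam)
    rw [Complex.add_re, CT.deg_eq (CT.isCharacter_of_isIrr θ.2), Complex.natCast_re,
      Complex.natCast_re] at h1
    have : (CT.deg (θ : T → ℂ) : ℝ) ≤ CT.mult (fun m : M => (ψ : G → ℂ) m) (fun m => (l m : ℂ)) := by
      rw [h1]
      exact le_add_of_nonneg_right h2
    exact_mod_cast this
  have hdegθ := CT.deg_pos θ.2
  have hmne : classInner (fun m : M => (ψ : G → ℂ) m) (fun m => (l m : ℂ)) ≠ 0 := by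
    rw [CT.mult_spec hψM (CT.isCharacter_of_isIrr hlam), Nat.cast_ne_zero]
    omega
  have hcm := CT.clifford_mult M ψ.2 hlam hmne
  rw [TwoDeg.inertia_eq_St M l, ← hT] at hcm
  have hdl : CT.deg (fun m : M => (l m : ℂ)) = 1 := by simp [CT.deg]
  rw [hdl, mul_one] at hcm
  have hle : T.index * CT.deg (θ : T → ℂ) ≤ f := by
    refine le_trans ?_ (hmax ψ)
    rw [hcm, mul_comm]
    exact Nat.mul_le_mul_right _ hge
  have hind := CT.isCharacter_indFun T (CT.isCharacter_of_isIrr θ.2)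
  have hχi : indFun T (θ : T → ℂ) = χ := by
    refine CT.eq_of_deg_le hind hχ ?_ ?_
    · rwa [CT.frobenius_reciprocity T _ (CT.isClassFunction_of_isIrr hχ),
        CT.classInner_comm_of_char (CT.isCharacter_of_isIrr θ.2) hχT]
    · rw [hχf]
      refine le_trans (le_of_eq ?_) hle
      have h := CT.deg_eq hind
      rw [CT.indFun_one_eval, CT.deg_eq (CT.isCharacter_of_isIrr θ.2)] at h
      exact_mod_cast h.symm
  have hvan : ∀ y ∈ Y, y ∉ M → χ y = 0 := by
    intro y hy hyM
    rw [← hχi]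
    refine CT.indFun_eq_zero_of_not_conj_mem T _ fun x hxT => hyM ?_
    set y' := x⁻¹ * y * x with hy'
    have hy'Y : y' ∈ Y := hYn.conj_mem' y hy x
    have h1 : ((μ y' : G))⁻¹ * y' ∈ T := T.mul_mem (T.inv_mem (hMT (μ y').2)) hxT
    have h2 : ((μ y' : G))⁻¹ * y' ∈ A := ⟨Y.mul_mem (Y.inv_mem (hMY (μ y').2)) hy'Y, hμ y'⟩
    have h3 : y' ∈ M := by
      have e : (μ y' : G) = y' := inv_mul_eq_one.mp (hAT _ h2 h1)
      exact e ▸ (μ y').2
    have := Subgroup.Normal.conj_mem (inferInstance : M.Normal) y' h3 x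
    simpa [hy', mul_assoc] using this
  have hχY := CT.isCharacter_restrict Y (CT.isCharacter_of_isIrr hχ)
  have h1Y : classInner (fun y : Y => χ y) (fun _ => 1) =
      (Nat.card Y : ℂ)⁻¹ * ((Nat.card (M.subgroupOf Y) : ℂ) * χ 1) := by
    simp only [classInner, map_one, mul_one]
    congr 1
    rw [show (Nat.card (M.subgroupOf Y) : ℂ) * χ 1 =
      ∑ y : Y, if y ∈ M.subgroupOf Y then χ 1 else 0 by
        rw [← Finset.sum_filter, Finset.sum_const, nsmul_eq_mul, ← Fintype.card_subtype,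
          ← Nat.card_eq_fintype_card]]
    refine Finset.sum_congr rfl fun y _ => ?_
    split_ifs with h
    · exact hχM _ h
    · exact hvan _ y.2 h
  have hne1 : classInner (fun y : Y => χ y) (fun _ => 1) ≠ 0 := by
    rw [h1Y]
    exact mul_ne_zero (inv_ne_zero (Nat.cast_ne_zero.mpr Nat.card_pos.ne'))
      (mul_ne_zero (Nat.cast_ne_zero.mpr Nat.card_pos.ne') (CT.irr_one_ne_zero hχ))
  have hres := CT.restrict_eq_smul_of_invariant Y hχ CT.isIrrCharacter_one hne1 (fun g => rfl)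
  obtain ⟨y, hy, hyM⟩ := SetLike.not_le_iff_exists.mp hYM
  have h2 := congrFun hres ⟨y, hy⟩
  simp only [Pi.smul_apply, smul_eq_mul, mul_one, hvan y hy hyM] at h2
  exact hne1 h2.symm

theorem len_le_card_cd : ∀ (c : ℕ) (G : Type u) [Group G] [Finite G] [Group.IsSolvable G],
    Nat.card G ≤ c → NilLen.Len G (cd G).ncard := by
  intro c
  induction c using Nat.strong_induction_on with
  | h c ih =>
  intro G _ _ _ hc
  rcases subsingleton_or_nontrivial G with hs | hnt
  · exact NilLen.len_of_subsingleton _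
  obtain ⟨M, hMn, -, hM, hmin⟩ := Basics.exists_minimal_normal (N := (⊤ : Subgroup G)) top_ne_bot
  haveI := hMn
  have hlt : ∀ (N : Subgroup G) [N.Normal], N ≠ ⊥ → NilLen.Len (G ⧸ N) (cd (G ⧸ N)).ncard := by
    intro N _ hN
    refine ih (Nat.card (G ⧸ N)) (lt_of_lt_of_le ?_ hc) (G ⧸ N) le_rfl
    rw [card_eq_card_quotient_mul_card_subgroup N]
    exact lt_mul_of_one_lt_right Nat.card_pos ((Subgroup.one_lt_card_iff_ne_bot _).mpr hN)
  have hmono : ∀ (N : Subgroup G) [N.Normal], N ≠ ⊥ → NilLen.Len (G ⧸ N) (cd G).ncard :=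
    fun N _ hN => NilLen.len_mono (Set.ncard_le_ncard (cd_quotient N) (cd_finite G)) (hlt N hN)
  by_cases huniq : ∃ M₂ : Subgroup G, M₂.Normal ∧ M₂ ≠ ⊥ ∧ ¬ M ≤ M₂
  · obtain ⟨M₂, hn₂, h₂, hle⟩ := huniq
    haveI := hn₂
    refine NilLen.len_of_trivial_inter ?_ (hmono M hM) (hmono M₂ h₂)
    exact (hmin _ (normal_inf_normal _ _) inf_le_left).resolve_right fun e => hle (inf_eq_left.mp e)
  push Not at huniq
  obtain ⟨n, hn⟩ : ∃ n, (cd G).ncard = n + 1 :=
    ⟨(cd G).ncard - 1, by have := (cd_nonempty G).ncard_pos (cd_finite G); omega⟩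
  by_cases hΦ : M ≤ frattini G
  · rw [hn]
    exact NilLen.len_of_frattini hΦ (hn ▸ hmono M hM)
  obtain ⟨U, hU, hMU⟩ : ∃ U, IsCoatom U ∧ ¬ M ≤ U := by
    by_contra h
    push Not at h
    exact hΦ (le_iInf₂ fun U hU => h U hU)
  have hUc : U.normalCore = ⊥ := by
    by_contra h
    exact hMU ((huniq _ inferInstance h).trans (normalCore_le U))
  obtain ⟨habM, hcompl, -⟩ := Basics.solvable_minimal hU hUc hM hmin
  haveI := habM
  have hnil : Group.IsNilpotent M := by
    letI : CommGroup M := { (inferInstance : Group M) with mul_comm := fun a b => mul_comm' a b }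
    infer_instance
  rw [hn]
  refine NilLen.len_succ_of_nilpotent hnil ?_
  by_cases hU0 : U = ⊥
  · haveI : Subsingleton (G ⧸ M) := by
      rw [QuotientGroup.subsingleton_iff]
      have := hcompl.sup_eq_top
      rwa [hU0, sup_bot_eq] at this
    exact NilLen.len_of_subsingleton _
  obtain ⟨d, hd, hdn⟩ := exists_new_degree hM hmin hU hUc hU0
  refine NilLen.len_mono ?_ (hlt M hM)
  have := Set.ncard_lt_ncard ((Set.ssubset_iff_of_subset (cd_quotient M)).mpr ⟨d, hd, hdn⟩)
    (cd_finite G)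
  omega

end Cfsg.Agent.CT.Garrison
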