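import Cfsg.Agent.Lib.CT.CoprimeTriple

/-!
# Gluing extensions
-/

set_option autoImplicit false
set_option linter.all false

namespace Cfsg.Agent.Glue

open Cfsg.Agent.CT Cfsg.Agent.CoprimeTriple

universe u

variable {T : Type u} [Group T] [Finite T]

/-- A character with irreducible restriction is irreducible. -/
theorem isIrr_of_res {A B : Type u} [Group A] [Finite A] [Group B] [Finite B] (j : A →* B) {f : B → ℂ}
    (hf : IsCharacter B f) (h : IsIrrCharacter A (fun a => f (j a))) : IsIrrCharacter B f := by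
  obtain ⟨d, ρ, rfl⟩ := hf
  let ρA : Representation ℂ A (Fin d → ℂ) := ρ.comp j
  have hirr : ρA.IsIrreducible := isIrreducible_of_isIrrCharacter ρA h
  obtain ⟨hV, hW⟩ := (isIrreducible_iff ρA).mp hirr
  exact ⟨d, ρ, (isIrreducible_iff ρ).mpr ⟨hV, fun U hU => hW U fun a v hv => hU _ v hv⟩, rfl⟩

/-- An invariant extension to one factor and an extension to the other glue. -/
theorem glue {K X Y : Subgroup T} (hKX : K ≤ X) (hKY : K ≤ Y)
    (hYX : ∀ y ∈ Y, ∀ x ∈ X, y * x * y⁻¹ ∈ X) (hXY : X ⊓ Y ≤ K)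
    (φ : IrrCharacter X) (θ : IrrCharacter K)
    (hres : ∀ k : K, (φ : X → ℂ) (Subgroup.inclusion hKX k) = (θ : K → ℂ) k)
    (hfix : ∀ y ∈ Y, Fix X y (φ : X → ℂ)) :
    Ext X (φ : X → ℂ) (X ⊔ Y) ↔ Ext K (θ : K → ℂ) Y := by
  classical
  constructor
  · rintro ⟨E, hE, hEres⟩
    have hEK : ∀ k : K, E ⟨k, Subgroup.mem_sup_left (hKX k.2)⟩ = (θ : K → ℂ) k := fun k =>
      (hEres (Subgroup.inclusion hKX k) _).trans (hres k)
    refine ⟨fun y => E (Subgroup.inclusion le_sup_right y),
      isIrr_of_res (Subgroup.inclusion hKY) (isCharacter_comp _ (isCharacter_of_isIrr hE)) ?_,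
      fun k hk => hEK k⟩
    have : (fun k : K => E (Subgroup.inclusion le_sup_right (Subgroup.inclusion hKY k))) = (θ : K → ℂ) :=
      funext hEK
    rw [this]
    exact θ.2
  rintro ⟨E, hE, hEres⟩
  obtain ⟨d, ρ, hρ, hφ⟩ := φ.2
  obtain ⟨m, σ, hσ, rfl⟩ := hE
  let ρK : Representation ℂ K (Fin d → ℂ) := ρ.comp (Subgroup.inclusion hKX)
  let σK : Representation ℂ K (Fin m → ℂ) := σ.comp (Subgroup.inclusion hKY)
  have hcK : ρK.character = (θ : K → ℂ) := funext fun k => by
    rw [← hres k, ← hφ]; rfl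
  haveI : ρK.IsIrreducible := isIrreducible_of_isIrrCharacter ρK (hcK ▸ θ.2)
  obtain ⟨e⟩ := equiv_of_character_eq ρK σK (hcK.trans (funext fun k => (hEres k (hKY k.2)).symm))
  let σ' : Representation ℂ Y (Fin d → ℂ) :=
    { toFun := fun y => e.toLinearEquiv.symm.conj (σ y)
      map_one' := by rw [map_one]; exact LinearEquiv.conj_id _
      map_mul' := fun a b => by rw [map_mul]; exact LinearEquiv.conj_comp _ _ _ }
  let R : X →* (Module.End ℂ (Fin d → ℂ))ˣ := ρ.asGroupHom
  let S : Y →* (Module.End ℂ (Fin d → ℂ))ˣ := σ'.asGroupHom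
  have hRS : ∀ k : K, S (Subgroup.inclusion hKY k) = R (Subgroup.inclusion hKX k) := fun k =>
    Units.ext (LinearMap.ext fun v => by
      simp only [S, R, Representation.asGroupHom_apply]
      show e.toLinearEquiv.symm (σK k (e.toLinearEquiv.symm.symm v)) = ρK k v
      rw [LinearEquiv.symm_symm, LinearEquiv.symm_apply_eq]
      exact (e.toIntertwiningMap.isIntertwining ρK σK k v).symm)
  have key : ∀ (y : Y) (x : X), S y * R x = R ⟨(y : T) * x * (y : T)⁻¹, hYX y y.2 x x.2⟩ * S y := by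
    intro y
    let c : X →* X :=
      { toFun := fun x => ⟨(y : T) * x * (y : T)⁻¹, hYX y y.2 x x.2⟩
        map_one' := Subtype.ext (by simp)
        map_mul' := fun a b => Subtype.ext (by simp [mul_assoc]) }
    let ρy : Representation ℂ X (Fin d → ℂ) := ρ.comp c
    have hcy : ρ.character = ρy.character := funext fun x => by
      show ρ.character x = ρ.character (c x)
      rw [hφ]
      exact (hfix y y.2 x (c x) rfl).symm
    obtain ⟨B⟩ := equiv_of_character_eq ρ ρy hcy
    let U : (Module.End ℂ (Fin d → ℂ))ˣ := LinearMap.GeneralLinearGroup.ofLinearEquiv B.toLinearEquiv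
    have hU : ∀ x : X, U * R x = R (c x) * U := fun x =>
      Units.ext (LinearMap.ext fun v => B.toIntertwiningMap.isIntertwining ρ ρy x v)
    have hz : ∀ k : K, ((S y)⁻¹ * U) * R (Subgroup.inclusion hKX k) =
        R (Subgroup.inclusion hKX k) * ((S y)⁻¹ * U) := by
      intro k
      have hk : (y : T) * k * (y : T)⁻¹ ∈ K :=
        hXY ⟨hYX y y.2 k (hKX k.2), Y.mul_mem (Y.mul_mem y.2 (hKY k.2)) (Y.inv_mem y.2)⟩
      have e1 : c (Subgroup.inclusion hKX k) = Subgroup.inclusion hKX ⟨_, hk⟩ := rfl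
      have e2 : Subgroup.inclusion hKY ⟨_, hk⟩ = y * Subgroup.inclusion hKY k * y⁻¹ := Subtype.ext rfl
      rw [mul_assoc, hU, e1, ← hRS, e2, map_mul, map_mul, map_inv, ← hRS]
      group
    haveI := Fintype.ofFinite K
    have h := eq_scalar_of_commute ρK (((S y)⁻¹ * U : (Module.End ℂ (Fin d → ℂ))ˣ) : Module.End ℂ _)
      fun k => by
        have := congrArg Units.val (hz k)
        simpa [R, ρK, Representation.asGroupHom_apply] using this
    intro x
    have hcomm : ((S y)⁻¹ * U) * R x = R x * ((S y)⁻¹ * U) := by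
      apply Units.ext
      rw [Units.val_mul, Units.val_mul (R x), h]
      simp only [smul_mul_assoc, mul_smul_comm]
      rfl
    calc S y * R x = S y * (R x * ((S y)⁻¹ * U)) * U⁻¹ * S y := by group
      _ = S y * (((S y)⁻¹ * U) * R x) * U⁻¹ * S y := by rw [hcomm]
      _ = (U * R x) * U⁻¹ * S y := by group
      _ = R (c x) * S y := by rw [hU]; group
  have hsup : ∀ w ∈ X ⊔ Y, ∃ (y : Y) (x : X), (y : T) * x = w := by
    intro w hw
    have hle : Y ≤ Subgroup.normalizer (X : Set T) := fun y hy =>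
      GoodCount.mem_normalizer_of_forall_conj (hYX y hy)
    rw [sup_comm, ← SetLike.mem_coe, Subgroup.coe_mul_of_left_le_normalizer_right _ _ hle] at hw
    obtain ⟨y, hy, x, hx, h⟩ := hw
    exact ⟨⟨y, hy⟩, ⟨x, hx⟩, h⟩
  have hwd : ∀ (y y' : Y) (x x' : X), (y : T) * x = y' * x' → S y * R x = S y' * R x' := by
    intro y y' x x' he
    have h1 : (y' : T)⁻¹ * y = x' * (x : T)⁻¹ := by
      calc (y' : T)⁻¹ * y = (y' : T)⁻¹ * (y * x) * (x : T)⁻¹ := by group
        _ = x' * (x : T)⁻¹ := by rw [he]; group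
    have hk : (y' : T)⁻¹ * y ∈ K :=
      hXY ⟨h1 ▸ X.mul_mem x'.2 (X.inv_mem x.2), Y.mul_mem (Y.inv_mem y'.2) y.2⟩
    have e1 : y = y' * Subgroup.inclusion hKY ⟨_, hk⟩ := Subtype.ext (by simp)
    have e2 : x' = Subgroup.inclusion hKX ⟨_, hk⟩ * x := Subtype.ext (by
      show (x' : T) = (y' : T)⁻¹ * y * x
      rw [h1]; group)
    rw [e1, e2, map_mul, map_mul, hRS, mul_assoc]
  choose fy fx hf using hsup
  let F : ↥(X ⊔ Y) →* (Module.End ℂ (Fin d → ℂ))ˣ :=
    MonoidHom.mk' (fun w => S (fy w w.2) * R (fx w w.2)) fun a b => by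
      set y1 := fy a a.2; set x1 := fx a a.2; set y2 := fy b b.2; set x2 := fx b b.2
      have h1 : (y1 : T) * x1 = a := hf a a.2
      have h2 : (y2 : T) * x2 = b := hf b b.2
      have hx : (y2 : T)⁻¹ * x1 * y2 ∈ X := by
        simpa using hYX _ (Y.inv_mem y2.2) x1 x1.2
      rw [hwd _ (y1 * y2) _ (⟨_, hx⟩ * x2) (by
          rw [hf, Subgroup.coe_mul, ← h1, ← h2]
          simp [mul_assoc]), map_mul, map_mul]
      have e3 : R x1 * S y2 = S y2 * R ⟨_, hx⟩ := by
        rw [key]
        congr 2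
        exact Subtype.ext (by simp [mul_assoc])
      calc S y1 * S y2 * (R ⟨_, hx⟩ * R x2) = S y1 * (S y2 * R ⟨_, hx⟩) * R x2 := by group
        _ = S y1 * (R x1 * S y2) * R x2 := by rw [e3]
        _ = S y1 * R x1 * (S y2 * R x2) := by group
  let ρF : Representation ℂ ↥(X ⊔ Y) (Fin d → ℂ) := (Units.coeHom _).comp F
  have hρF : ∀ x : X, ρF (Subgroup.inclusion le_sup_left x) = ρ x := fun x => by
    show ((S _ * R _ : (Module.End ℂ (Fin d → ℂ))ˣ) : Module.End ℂ (Fin d → ℂ)) = _
    rw [hwd _ 1 _ x (by rw [hf]; simp), map_one, one_mul]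
    exact Representation.asGroupHom_apply _ _
  refine ⟨ρF.character, isIrr_of_res (Subgroup.inclusion le_sup_left) (isCharacter_character ρF) ?_,
    fun x hx => ?_⟩
  · have : (fun x : X => ρF.character (Subgroup.inclusion le_sup_left x)) = (φ : X → ℂ) := funext fun x => by
      rw [← hφ]
      simp only [Representation.character, hρF]
    rw [this]
    exact φ.2
  · rw [← hφ]
    show LinearMap.trace ℂ _ (ρF (Subgroup.inclusion le_sup_left x)) = _
    rw [hρF]
    rfl

end Cfsg.Agent.Glue
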