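import Cfsg.Agent.Lib.CT.FsInduced
import Cfsg.Agent.Lib.PermGp.PermModule
import Mathlib.RingTheory.Valuation.LocalSubring
import Mathlib.RingTheory.Valuation.ValuationSubring

/-!
# Integral models of complex representations and the trivial intersection fixed point lemma
-/

set_option linter.all false

namespace Cfsg.Agent.CT

/-- A valuation ring of `ℂ` with residue field of characteristic `p`. -/
theorem exists_valuation_charP (p : ℕ) [Fact p.Prime] :
    ∃ V : ValuationSubring ℂ, CharP (IsLocalRing.ResidueField V) p := by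
  let A : Subring ℂ := (Int.castRingHom ℂ).range
  have hI : Ideal.span {((p : ℕ) : A)} ≠ ⊤ := by
    rw [Ne, Ideal.span_singleton_eq_top]
    intro hu
    obtain ⟨w, hw⟩ := hu.exists_left_inv
    obtain ⟨m, hm⟩ := w.2
    have h1 := congrArg Subtype.val hw
    simp only [Subring.coe_mul, SubringClass.coe_natCast, OneMemClass.coe_one] at h1
    rw [← hm, eq_intCast] at h1
    have h2 : (m * p : ℤ) = 1 := by exact_mod_cast h1
    have h3 := Int.eq_one_of_mul_eq_one_left (by positivity) h2
    exact (Fact.out : p.Prime).one_lt.ne' (by exact_mod_cast h3)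
  obtain ⟨V, hAV, hIV⟩ := Ideal.image_subset_nonunits_valuationSubring _ hI
  refine ⟨V, CharP.charP_iff_prime_eq_zero (Fact.out : p.Prime) |>.mpr ?_⟩
  rw [← map_natCast (IsLocalRing.residue V), IsLocalRing.residue_eq_zero_iff]
  have hn : (p : ℂ) ∈ V.nonunits :=
    hIV ⟨((p : ℕ) : A), Ideal.subset_span rfl, by simp⟩
  obtain ⟨hm, hmem⟩ := ValuationSubring.mem_nonunits_iff_exists_mem_maximalIdeal.mp hn
  convert hmem
  simp

/-- Scaling a non-zero vector to integral coordinates with one coordinate equal to `1`. -/
theorem exists_scaled {ι : Type*} [Fintype ι] (V : ValuationSubring ℂ) (c : ι → ℂ) (hc : c ≠ 0) :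
    ∃ (t : ℂ) (j : ι) (d : ι → V), t ≠ 0 ∧ d j = 1 ∧ ∀ i, (d i : ℂ) = t * c i := by
  obtain ⟨i0, hi0⟩ := Function.ne_iff.mp hc
  obtain ⟨j, -, hj⟩ := Finset.exists_max_image Finset.univ (fun i => V.valuation (c i))
    ⟨i0, Finset.mem_univ _⟩
  have hj0 : c j ≠ 0 := fun e => hi0 (by
    have := hj i0 (Finset.mem_univ _)
    rw [e, map_zero, le_zero_iff, map_eq_zero] at this
    exact this)
  have hmem : ∀ i, (c j)⁻¹ * c i ∈ V := fun i => by
    rw [← V.valuation_le_one_iff, map_mul, map_inv₀,
      inv_mul_le_one₀ (zero_lt_iff.mpr ((map_ne_zero _).mpr hj0))]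
    exact hj i (Finset.mem_univ _)
  exact ⟨(c j)⁻¹, j, fun i => ⟨_, hmem i⟩, inv_ne_zero hj0, Subtype.ext (inv_mul_cancel₀ hj0),
    fun i => rfl⟩

/-- Every complex representation of a finite group has a model over a valuation ring. -/
theorem exists_integral_model {G : Type*} [Group G] [Finite G] (V : ValuationSubring ℂ) {n : ℕ}
    (ρ : Representation ℂ G (Fin n → ℂ)) :
    ∃ (m : ℕ) (A : G →* Matrix (Fin m) (Fin m) V),
      m = n ∧ ∀ g, (((A g).map V.subtype).trace : ℂ) = ρ.character g := by
  classical
  haveI := Fintype.ofFinite G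
  let gen : G × Fin n → (Fin n → ℂ) := fun gi => ρ gi.1 (Pi.single gi.2 1)
  let L : Submodule V (Fin n → ℂ) := Submodule.span V (Set.range gen)
  have hex : ∃ k : ℕ, ∃ s : Finset (Fin n → ℂ), s.card = k ∧
      Submodule.span V (s : Set (Fin n → ℂ)) = L :=
    ⟨_, Finset.univ.image gen, rfl, by simp [L]⟩
  obtain ⟨s, hs, hsL⟩ := Nat.find_spec hex
  let v : s → (Fin n → ℂ) := fun x => x.1
  have hli : LinearIndependent ℂ v := by
    rw [Fintype.linearIndependent_iff]
    intro c hc i
    by_contra hci
    obtain ⟨t, j, d, ht, hdj, hd⟩ := exists_scaled V c fun e => hci (congrFun e i)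
    have hrel : ∑ x, d x • v x = 0 := by
      have e : ∀ x, d x • v x = t • (c x • v x) := fun x => by
        rw [smul_smul, ← hd]; rfl
      rw [Finset.sum_congr rfl fun x _ => e x, ← Finset.smul_sum, hc, smul_zero]
    rw [← Finset.add_sum_erase _ _ (Finset.mem_univ j), hdj, one_smul, add_eq_zero_iff_eq_neg] at hrel
    have hj : v j ∈ Submodule.span V ((s.erase j.1 : Finset _) : Set (Fin n → ℂ)) := by
      rw [hrel]
      refine Submodule.neg_mem _ (Submodule.sum_mem _ fun x hx => Submodule.smul_mem _ _
        (Submodule.subset_span ?_))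
      simp only [Finset.coe_erase, Set.mem_diff, Finset.mem_coe, Set.mem_singleton_iff]
      exact ⟨x.2, fun e => (Finset.mem_erase.mp hx).1 (Subtype.ext e)⟩
    have hspan : Submodule.span V ((s.erase j.1 : Finset _) : Set (Fin n → ℂ)) = L := by
      rw [← hsL, ← Submodule.span_insert_eq_span hj, ← Finset.coe_insert,
        Finset.insert_erase j.2]
    have hmin := Nat.find_min' hex ⟨s.erase j.1, rfl, hspan⟩
    rw [← hs] at hmin
    have hlt := Finset.card_erase_lt_of_mem j.2
    omega
  have hgen : ∀ gi, gen gi ∈ Submodule.span ℂ (Set.range v) := by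
    intro gi
    have : gen gi ∈ Submodule.span V (s : Set (Fin n → ℂ)) := by
      rw [hsL]; exact Submodule.subset_span ⟨gi, rfl⟩
    rw [show Set.range v = (s : Set (Fin n → ℂ)) from Subtype.range_coe]
    exact Submodule.span_subset_span V ℂ _ this
  have htop : ⊤ ≤ Submodule.span ℂ (Set.range v) := by
    intro x _
    have hx : x = ∑ i, x i • gen (1, i) := by
      funext k
      simp [gen, Finset.sum_apply, Pi.single_apply]
    rw [hx]
    exact Submodule.sum_mem _ fun i _ => Submodule.smul_mem _ _ (hgen _)
  let b : Module.Basis s ℂ (Fin n → ℂ) := Module.Basis.mk hli htop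
  have hb : ∀ x, b x = v x := Module.Basis.mk_apply hli htop
  have hcoord : ∀ g (x y : s), b.repr (ρ g (b y)) x ∈ V := by
    intro g x y
    have hL : ∀ u ∈ L, b.repr u x ∈ V := by
      intro u hu
      rw [← hsL] at hu
      induction hu using Submodule.span_induction with
      | mem u hu =>
        rw [show u = b ⟨u, hu⟩ from (hb ⟨u, hu⟩).symm, Module.Basis.repr_self, Finsupp.single_apply]
        split_ifs
        · exact V.one_mem
        · exact V.zero_mem
      | zero => simp
      | add u w _ _ hu hw => rw [map_add, Finsupp.add_apply]; exact V.add_mem _ _ hu hw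
      | smul a u _ hu =>
        rw [show a • u = (a : ℂ) • u from rfl, map_smul, Finsupp.smul_apply, smul_eq_mul]
        exact V.mul_mem _ _ a.2 hu
    refine hL _ ?_
    have hy : b y ∈ L := by
      rw [hb, ← hsL]
      exact Submodule.subset_span y.2
    generalize b y = w at hy ⊢
    induction hy using Submodule.span_induction with
    | mem u hu =>
      obtain ⟨⟨g', i⟩, rfl⟩ := hu
      refine Submodule.subset_span ⟨(g * g', i), ?_⟩
      simp [gen, map_mul]
    | zero => simp
    | add u w _ _ hu hw => rw [map_add]; exact L.add_mem hu hw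
    | smul a u _ hu =>
      rw [show a • u = (a : ℂ) • u from rfl, map_smul]
      exact L.smul_mem a hu
  have hcard : Fintype.card s = n := by
    rw [← Module.finrank_eq_card_basis b, Module.finrank_fin_fun]
  let e : s ≃ Fin n := Fintype.equivFinOfCardEq hcard
  let b' := b.reindex e
  let A0 : G → Matrix (Fin n) (Fin n) ℂ := fun g => LinearMap.toMatrix b' b' (ρ g)
  have hA0 : ∀ g i j, A0 g i j ∈ V := fun g i j => by
    simp only [A0, b', LinearMap.toMatrix_apply, Module.Basis.reindex_apply,
      Module.Basis.repr_reindex_apply]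
    exact hcoord g _ _
  have hinj : Function.Injective (fun B : Matrix (Fin n) (Fin n) V => B.map V.subtype) :=
    Matrix.map_injective Subtype.val_injective
  let A : G →* Matrix (Fin n) (Fin n) V :=
    { toFun := fun g => Matrix.of fun i j => ⟨A0 g i j, hA0 g i j⟩
      map_one' := hinj (by
        show A0 1 = (1 : Matrix (Fin n) (Fin n) V).map V.subtype
        rw [Matrix.map_one _ (map_zero _) (map_one _)]
        simp [A0, Module.End.one_eq_id, LinearMap.toMatrix_id])
      map_mul' := fun g h => hinj (by
        show A0 (g * h) = ((Matrix.of fun i j => (⟨A0 g i j, hA0 g i j⟩ : V)) *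
          (Matrix.of fun i j => (⟨A0 h i j, hA0 h i j⟩ : V))).map V.subtype
        rw [Matrix.map_mul]
        show A0 (g * h) = A0 g * A0 h
        simp only [A0, map_mul]
        exact LinearMap.toMatrix_mul b' _ _) }
  refine ⟨n, A, rfl, fun g => ?_⟩
  show (A0 g).trace = _
  exact (LinearMap.trace_eq_matrix_trace ℂ b' (ρ g)).symm

end Cfsg.Agent.CT
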