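import Cfsg.Agent.Lib.CT.Chief
import Cfsg.Agent.Lib.CT.CliffordLe
import Cfsg.Agent.Lib.CT.Extend
import Cfsg.Agent.Lib.CT.GoodCount
import Cfsg.Agent.Lib.CT.Tables
import Cfsg.Agent.Lib.CoprimeExt.Gallagher
import Cfsg.Agent.Lib.Glauberman.Constituent
import Cfsg.Agent.Lib.Blocks.GaloisStable
import Mathlib.GroupTheory.Perm.Cycle.Type

/-!
# Characters fixed by a power map inverting the elements of odd order, over odd index
-/

set_option autoImplicit false
set_option linter.unusedSectionVars false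

namespace Cfsg.Agent.CT.InvPower

open scoped ComplexConjugate

universe u

variable {G : Type u} [Group G] [Fintype G] (N : Subgroup G) [hN : N.Normal] [Fintype N]

open Classical in
/-- The characters over `θ`. -/
noncomputable def lying (θ : N → ℂ) : Finset (IrrCharacter G) :=
  Finset.univ.filter fun χ => classInner (fun n : N => (χ : G → ℂ) n) θ ≠ 0

theorem mem_lying {θ : N → ℂ} {χ : IrrCharacter G} :
    χ ∈ lying N θ ↔ classInner (fun n : N => (χ : G → ℂ) n) θ ≠ 0 := by
  classical simp [lying]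

theorem mult_inflated_eq_zero (θ : IrrCharacter N) (μ : IrrCharacter (G ⧸ N)) {η ψ : IrrCharacter G}
    (h : ¬ (η ∈ lying N (θ : N → ℂ) ↔ ψ ∈ lying N (θ : N → ℂ))) :
    classInner (fun g : G => (μ : G ⧸ N → ℂ) (g : G ⧸ N) * (η : G → ℂ) g) (ψ : G → ℂ) = 0 := by
  classical
  by_contra hne
  apply h
  have hc : IsCharacter G (fun g : G => (μ : G ⧸ N → ℂ) (g : G ⧸ N) * (η : G → ℂ) g) :=
    isCharacter_mul (isCharacter_comp (QuotientGroup.mk' N) (isCharacter_of_isIrr μ.2))
      (isCharacter_of_isIrr η.2)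
  have hkey : ∀ θ' : IrrCharacter N, classInner (fun n : N => (ψ : G → ℂ) n) (θ' : N → ℂ) ≠ 0 →
      classInner (fun n : N => (η : G → ℂ) n) (θ' : N → ℂ) ≠ 0 := by
    intro θ' h'
    have h1 := classInner_eq_of_res_ne_zero hc ψ.2 (isCharacter_of_isIrr θ'.2) hne h'
    have e : (fun n : N => (μ : G ⧸ N → ℂ) ((n : G) : G ⧸ N) * (η : G → ℂ) n) =
        (μ : G ⧸ N → ℂ) 1 • fun n : N => (η : G → ℂ) n := funext fun n => by
      rw [Pi.smul_apply, smul_eq_mul, (QuotientGroup.eq_one_iff (n : G)).mpr n.2]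
    rw [show (fun n : N => (fun g : G => (μ : G ⧸ N → ℂ) (g : G ⧸ N) * (η : G → ℂ) g) n) =
      fun n : N => (μ : G ⧸ N → ℂ) ((n : G) : G ⧸ N) * (η : G → ℂ) n from rfl, e, classInner_smul_left] at h1
    exact right_ne_zero_of_mul h1
  rw [mem_lying, mem_lying]
  refine ⟨fun hη => ?_, hkey θ⟩
  obtain ⟨θ', hθ'⟩ := exists_constituent_restrict N ψ.2
  obtain ⟨g, hg⟩ := exists_conj_of_constituent N η.2 θ.2 θ'.2 hη (hkey θ' hθ')
  rwa [← hg, classInner_restrict_conjFun N (isClassFunction_of_isIrr ψ.2)] at hθ'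

/-- Orthogonality between non-conjugate cosets among the characters over `θ`. -/
theorem sum_over_eq_zero (θ : IrrCharacter N) {a b : G} (h : ¬ IsConj (a : G ⧸ N) (b : G ⧸ N)) :
    ∑ χ ∈ lying N (θ : N → ℂ), (χ : G → ℂ) a * conj ((χ : G → ℂ) b) = 0 := by
  classical
  haveI := Fintype.ofFinite (G ⧸ N)
  set l : G ⧸ N → ℂ := fun q => if IsConj q (b : G ⧸ N) then 1 else 0 with hl
  have hlc : IsClassFunction (G ⧸ N) l := by
    intro x y
    refine if_congr ⟨fun h => ?_, fun h => ?_⟩ rfl rfl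
    · exact (isConj_iff.mpr ⟨y, rfl⟩ : IsConj x (y * x * y⁻¹)).trans h
    · exact (isConj_iff.mpr ⟨y, rfl⟩ : IsConj x (y * x * y⁻¹)).symm.trans h
  set L : G → ℂ := fun g => l (g : G ⧸ N) with hL
  have hzero : ∀ η ψ : IrrCharacter G, ¬ (η ∈ lying N (θ : N → ℂ) ↔ ψ ∈ lying N (θ : N → ℂ)) →
      classInner (fun g => L g * (η : G → ℂ) g) (ψ : G → ℂ) = 0 := by
    intro η ψ hne
    have e : (fun g => L g * (η : G → ℂ) g) = ∑ μ : IrrCharacter (G ⧸ N),
        classInner l μ • fun g : G => (μ : G ⧸ N → ℂ) (g : G ⧸ N) * (η : G → ℂ) g := by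
      funext g
      conv_lhs => rw [hL]; dsimp only; rw [classFunction_eq_sum hlc]
      simp [Finset.sum_apply, Finset.sum_mul, mul_assoc]
    rw [e, classInner_sum_left]
    exact Finset.sum_eq_zero fun μ _ => by
      rw [classInner_smul_left, mult_inflated_eq_zero N θ μ hne, mul_zero]
  set S := lying N (θ : N → ℂ) with hS
  set DS : G → ℂ := fun g => ∑ χ ∈ S, (χ : G → ℂ) g * conj ((χ : G → ℂ) b) with hDS
  set DR : G → ℂ := fun g => ∑ χ ∈ Sᶜ, (χ : G → ℂ) g * conj ((χ : G → ℂ) b) with hDR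
  have hsupp : ∀ g, L g * (DS g + DR g) = DS g + DR g := by
    intro g
    rw [hDS, hDR]
    dsimp only
    rw [Finset.sum_add_sum_compl, column_orthogonality]
    by_cases hgb : IsConj g b
    · have : IsConj (g : G ⧸ N) (b : G ⧸ N) := (QuotientGroup.mk' N).map_isConj hgb
      rw [show L g = 1 by simp only [hL, hl]; exact if_pos this, one_mul]
    · rw [if_neg hgb, mul_zero]
  set F : G → ℂ := fun g => L g * DS g - DS g with hF
  have hF' : F = fun g => DR g - L g * DR g := funext fun g => by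
    simp only [hF]; linear_combination hsupp g
  have hcl : ∀ (T : Finset (IrrCharacter G)), IsClassFunction G
      (fun g => ∑ χ ∈ T, (χ : G → ℂ) g * conj ((χ : G → ℂ) b)) := fun T x y =>
    Finset.sum_congr rfl fun χ _ => by rw [isClassFunction_of_isIrr χ.2 x y]
  have hFc : IsClassFunction G F := fun x y => by
    have e : L (y * x * y⁻¹) = L x := by
      simp only [hL, QuotientGroup.mk_mul, QuotientGroup.mk_inv]
      exact hlc _ _
    show L (y * x * y⁻¹) * DS (y * x * y⁻¹) - DS (y * x * y⁻¹) = L x * DS x - DS x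
    rw [e, show DS (y * x * y⁻¹) = DS x from hcl S x y]
  have hin : ∀ (T : Finset (IrrCharacter G)) (ψ : IrrCharacter G), ψ ∉ T →
      (∀ η ∈ T, ¬ (η ∈ S ↔ ψ ∈ S)) →
      classInner (fun g => L g * ∑ χ ∈ T, (χ : G → ℂ) g * conj ((χ : G → ℂ) b)) (ψ : G → ℂ) = 0 ∧
      classInner (fun g => ∑ χ ∈ T, (χ : G → ℂ) g * conj ((χ : G → ℂ) b)) (ψ : G → ℂ) = 0 := by
    intro T ψ hψ hd
    have e1 : (fun g => L g * ∑ χ ∈ T, (χ : G → ℂ) g * conj ((χ : G → ℂ) b)) =
        ∑ χ ∈ T, conj ((χ : G → ℂ) b) • fun g => L g * (χ : G → ℂ) g := by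
      funext g; simp only [Finset.sum_apply, Pi.smul_apply, smul_eq_mul, Finset.mul_sum]
      exact Finset.sum_congr rfl fun _ _ => by ring
    have e2 : (fun g => ∑ χ ∈ T, (χ : G → ℂ) g * conj ((χ : G → ℂ) b)) =
        ∑ χ ∈ T, conj ((χ : G → ℂ) b) • (χ : G → ℂ) := by
      funext g; simp only [Finset.sum_apply, Pi.smul_apply, smul_eq_mul]
      exact Finset.sum_congr rfl fun _ _ => by ring
    rw [e1, e2, classInner_sum_left, classInner_sum_left]
    refine ⟨Finset.sum_eq_zero fun η hη => ?_, Finset.sum_eq_zero fun η hη => ?_⟩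
    · rw [classInner_smul_left, hzero η ψ (hd η hη), mul_zero]
    · rw [classInner_smul_left, irr_inner_of_ne η.2 ψ.2 fun e => hψ (Subtype.ext e ▸ hη), mul_zero]
  have hF0 : F = 0 := by
    refine classFunction_ext hFc (fun _ _ => rfl) fun ψ => ?_
    rw [classInner_zero_left]
    by_cases hψ : ψ ∈ S
    · obtain ⟨h1, h2⟩ := hin Sᶜ ψ (by simpa using hψ) fun η hη e =>
        (Finset.mem_compl.mp hη) (e.mpr hψ)
      rw [hF', show (fun g => DR g - L g * DR g) = DR - fun g => L g * DR g from rfl, classInner_sub_left]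
      rw [show classInner DR (ψ : G → ℂ) = 0 from h2,
        show classInner (fun g => L g * DR g) (ψ : G → ℂ) = 0 from h1, sub_zero]
    · obtain ⟨h1, h2⟩ := hin S ψ hψ fun η hη e => hψ (e.mp hη)
      rw [hF, show (fun g => L g * DS g - DS g) = (fun g => L g * DS g) - DS from rfl, classInner_sub_left]
      rw [show classInner DS (ψ : G → ℂ) = 0 from h2,
        show classInner (fun g => L g * DS g) (ψ : G → ℂ) = 0 from h1, sub_zero]
  have hLa : L a = 0 := by simp only [hL, hl]; exact if_neg h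
  have := congrFun hF0 a
  simp only [hF, hLa, zero_mul, zero_sub, Pi.zero_apply, neg_eq_zero] at this
  exact this

/-- The norms of the restrictions over `θ` add up to the index. -/
theorem sum_norm_over (θ : IrrCharacter N) :
    ∑ χ ∈ lying N (θ : N → ℂ), classInner (fun n : N => (χ : G → ℂ) n) (fun n : N => (χ : G → ℂ) n) =
      (N.index : ℂ) := by
  classical
  set t := (inertia N (θ : N → ℂ)).index with ht
  have horb : ∀ f ∈ conjOrbit N (θ : N → ℂ), IsIrrCharacter N f := fun f hf => by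
    obtain ⟨g, rfl⟩ := (mem_conjOrbit N).mp hf
    exact isIrrCharacter_conjFun N g θ.2
  have hm : ∀ χ : IrrCharacter G, classInner (fun n : N => (χ : G → ℂ) n) (θ : N → ℂ) =
      (mult (fun n : N => (χ : G → ℂ) n) (θ : N → ℂ) : ℂ) := fun χ =>
    mult_spec (isCharacter_restrict N (isCharacter_of_isIrr χ.2)) (isCharacter_of_isIrr θ.2)
  have hnorm : ∀ χ ∈ lying N (θ : N → ℂ),
      classInner (fun n : N => (χ : G → ℂ) n) (fun n : N => (χ : G → ℂ) n) =
        (t : ℂ) * (mult (fun n : N => (χ : G → ℂ) n) (θ : N → ℂ) : ℂ) ^ 2 := by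
    intro χ hχ
    set mm := mult (fun n : N => (χ : G → ℂ) n) (θ : N → ℂ) with hmm
    rw [clifford N χ.2 θ.2 ((mem_lying N).mp hχ), hm, ← hmm, classInner_smul_left, classInner_smul_right,
      map_natCast, classInner_sum_left, Finset.sum_congr rfl (g := fun _ => (1 : ℂ)) fun f hf => by
        rw [classInner_sum_right, Finset.sum_eq_single f
          (fun b hb hne => irr_inner_of_ne (horb f hf) (horb b hb) (Ne.symm hne))
          (fun h => absurd hf h), irr_inner_self (horb f hf)],
      Finset.sum_const, card_conjOrbit, ← ht, Nat.smul_one_eq_cast]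
    ring
  have hsum : ∑ χ : IrrCharacter G, (mult (fun n : N => (χ : G → ℂ) n) (θ : N → ℂ) : ℂ) ^ 2 =
      (t : ℂ)⁻¹ * N.index := by
    have h := classInner_eq_sum (f := indFun N (θ : N → ℂ)) (g := indFun N (θ : N → ℂ))
      (isClassFunction_indFun N _)
    have e : ∀ χ : IrrCharacter G, classInner (indFun N (θ : N → ℂ)) (χ : G → ℂ) =
        (mult (fun n : N => (χ : G → ℂ) n) (θ : N → ℂ) : ℂ) := fun χ => by
      rw [frobenius_reciprocity N _ (isClassFunction_of_isIrr χ.2), classInner_comm_of_char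
        (isCharacter_of_isIrr θ.2) (isCharacter_restrict N (isCharacter_of_isIrr χ.2)), hm]
    simp only [e, map_natCast, ← pow_two] at h
    rw [← h, frobenius_reciprocity N _ (isClassFunction_indFun N _),
      restrict_indFun_orbit N (isClassFunction_of_isIrr θ.2), classInner_smul_right, classInner_sum_right,
      Finset.sum_eq_single (θ : N → ℂ) (fun b hb hne => irr_inner_of_ne θ.2 (horb b hb) (Ne.symm hne))
        (fun h => absurd (self_mem_conjOrbit N _) h), irr_inner_self θ.2, mul_one, map_mul, map_inv₀,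
      map_natCast, map_natCast]
  rw [Finset.sum_congr rfl hnorm, ← Finset.mul_sum, Finset.sum_subset (Finset.subset_univ _), hsum,
    mul_inv_cancel_left₀ (Nat.cast_ne_zero.mpr Subgroup.index_ne_zero_of_finite)]
  intro χ _ hχ
  rw [mem_lying, not_not, hm] at hχ
  rw [hχ]; ring

variable {k : ℕ} (hk : k.Coprime (Nat.card G))

include hk in
theorem pow_isConj_mem (hodd : Odd N.index) (hk₂ : ∀ g : G, Odd (orderOf g) → g ^ k = g⁻¹) {g : G}
    (h : IsConj ((g ^ k : G) : G ⧸ N) (g : G ⧸ N)) : g ∈ N := by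
  rw [← QuotientGroup.eq_one_iff]
  have hoddQ : Odd (Nat.card (G ⧸ N)) := by rwa [← Subgroup.index_eq_card]
  obtain ⟨j, m, hm, hd⟩ := Nat.exists_eq_two_pow_mul_odd (orderOf_pos g).ne'
  have hh : Odd (orderOf (g ^ 2 ^ j)) := by
    rw [orderOf_pow' g (pow_ne_zero _ two_ne_zero), hd, Nat.gcd_eq_right (Dvd.intro _ rfl), Nat.mul_div_cancel_left _ (pow_pos two_pos j)]
    exact hm
  set x : G ⧸ N := (g : G ⧸ N) with hx
  have h1 : (x ^ k) ^ 2 ^ j = (x⁻¹) ^ 2 ^ j := by
    rw [← pow_mul, mul_comm, pow_mul, hx, ← QuotientGroup.mk_pow, ← QuotientGroup.mk_pow, hk₂ _ hh,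
      QuotientGroup.mk_inv, QuotientGroup.mk_pow, inv_pow]
  have hcop : (Nat.card (G ⧸ N)).Coprime (2 ^ j) := (Nat.coprime_two_right.mpr hoddQ).pow_right j
  have h2 : x ^ k = x⁻¹ := (powCoprime hcop).injective h1
  rw [QuotientGroup.mk_pow, ← hx, h2] at h
  exact eq_one_of_conj_inv_of_odd hoddQ h.symm

open Classical in
include hk in
/-- Exactly one member over a fixed character is fixed. -/
theorem existsUnique_fixed (hodd : Odd N.index) (hk₂ : ∀ g : G, Odd (orderOf g) → g ^ k = g⁻¹)
    (θ : IrrCharacter N) (hθ : ∀ n : N, (θ : N → ℂ) (n ^ k) = (θ : N → ℂ) n) :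
    ((lying N (θ : N → ℂ)).filter fun χ => Blocks.powIrr hk χ = χ).card = 1 := by
  set S := lying N (θ : N → ℂ) with hS
  have hNk : ∀ χ ∈ S, ∀ n : N, (χ : G → ℂ) ((n : G) ^ k) = (χ : G → ℂ) n := by
    intro χ hχ n
    have hcl := clifford N χ.2 θ.2 ((mem_lying N).mp hχ)
    have e1 := congrFun hcl (n ^ k)
    have e2 := congrFun hcl n
    rw [SubmonoidClass.coe_pow] at e1
    rw [e1, e2]
    simp only [Pi.smul_apply, Finset.sum_apply]
    congr 1
    refine Finset.sum_congr rfl fun f hf => ?_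
    obtain ⟨g, rfl⟩ := (mem_conjOrbit N).mp hf
    rw [conjFun_eq_comp]
    simp only [Function.comp_apply, map_pow, hθ]
  have hin : ∀ χ : IrrCharacter G, classInner (Blocks.powIrr hk χ : G → ℂ) (χ : G → ℂ) =
      if Blocks.powIrr hk χ = χ then 1 else 0 := fun χ => irr_inner_subtype _ _
  have h1 : ∑ χ ∈ S, classInner (Blocks.powIrr hk χ : G → ℂ) (χ : G → ℂ) = 1 := by
    simp only [classInner, Blocks.powIrr_apply]
    rw [← Finset.mul_sum, Finset.sum_comm,
      ← Finset.sum_filter_add_sum_filter_not Finset.univ (fun g => g ∈ N),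
      Finset.sum_eq_zero (s := Finset.univ.filter fun g => ¬ g ∈ N) fun g hg =>
        sum_over_eq_zero N θ fun hc => (Finset.mem_filter.mp hg).2 (pow_isConj_mem N hk hodd hk₂ hc),
      add_zero, Finset.sum_subtype (Finset.univ.filter (· ∈ N)) (p := fun x => x ∈ N) (fun x => by simp),
      Finset.sum_comm]
    rw [Finset.sum_congr rfl (g := fun χ : IrrCharacter G => (Nat.card N : ℂ) *
      classInner (fun n : N => (χ : G → ℂ) n) (fun n : N => (χ : G → ℂ) n)) fun χ hχ => by
        rw [classInner_self_eq_sum]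
        exact Finset.sum_congr rfl fun n _ => by rw [hNk χ hχ],
      ← Finset.mul_sum, sum_norm_over N θ, ← N.card_mul_index, Nat.cast_mul]
    field_simp [Nat.cast_ne_zero.mpr (Subgroup.index_ne_zero_of_finite (H := N)), card_ne_zero (G := N)]
  rw [Finset.sum_congr rfl fun χ _ => hin χ, Finset.sum_boole] at h1
  exact_mod_cast h1

include hk in
/-- If some extension exists then the fixed member is an extension. -/
theorem fixed_ext (hodd : Odd N.index) (hk₂ : ∀ g : G, Odd (orderOf g) → g ^ k = g⁻¹)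
    {e : ℕ} (hke : ∀ g : G, g ^ k ^ 2 ^ e = g) (θ : IrrCharacter N)
    (hθ : ∀ n : N, (θ : N → ℂ) (n ^ k) = (θ : N → ℂ) n) (E : IrrCharacter G)
    (hE : ∀ n : N, (E : G → ℂ) n = (θ : N → ℂ) n) {χ : IrrCharacter G}
    (hχ : χ ∈ lying N (θ : N → ℂ)) (hfix : Blocks.powIrr hk χ = χ) :
    ∀ n : N, (χ : G → ℂ) n = (θ : N → ℂ) n := by
  classical
  haveI : Fact (Nat.Prime 2) := ⟨Nat.prime_two⟩
  set X : Finset (IrrCharacter G) := Finset.univ.filter fun χ : IrrCharacter G => ∀ n : N, (χ : G → ℂ) n = (θ : N → ℂ) n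
    with hX
  have hover : ∀ χ ∈ X, χ ∈ lying N (θ : N → ℂ) := fun χ hχ => by
    rw [mem_lying, show (fun n : N => (χ : G → ℂ) n) = (θ : N → ℂ) from funext (Finset.mem_filter.mp hχ).2,
      irr_inner_self θ.2]
    exact one_ne_zero
  -- the extensions form an odd set
  let Λ := {lam : G →* ℂˣ // ∀ n : N, lam n = 1}
  have hE1 : (E : G → ℂ) 1 ≠ 0 := irr_one_ne_zero E.2
  let tw : Λ → X := fun lam => ⟨⟨_, Glauberman.isIrr_twist E.2 lam.1⟩, Finset.mem_filter.mpr
    ⟨Finset.mem_univ _, fun n => by simp [lam.2 n, hE]⟩⟩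
  have htw : Function.Bijective tw := by
    constructor
    · intro a b hab
      refine Subtype.ext (MonoidHom.ext fun g => Units.ext ?_)
      let A : IrrCharacter G := ⟨_, isIrrCharacter_lin a.1⟩
      let B : IrrCharacter G := ⟨_, isIrrCharacter_lin b.1⟩
      have hone : ∀ l : Λ, classInner (fun n : N => ((l.1 n : ℂˣ) : ℂ)) (fun _ => (1 : ℂ)) ≠ 0 := fun l => by
        simp only [l.2, Units.val_one]
        rw [irr_inner_self isIrrCharacter_one]
        exact one_ne_zero
      have h' := CoprimeExt.inner_mul_ext N E θ hE A B (hone a) (hone b)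
      have heq : (A : G → ℂ) * (E : G → ℂ) = (B : G → ℂ) * (E : G → ℂ) :=
        congrArg (fun c : X => ((c : IrrCharacter G) : G → ℂ)) hab
      have hirr : IsIrrCharacter G ((B : G → ℂ) * (E : G → ℂ)) := Glauberman.isIrr_twist E.2 b.1
      rw [heq, irr_inner_self hirr] at h'
      have hAB : A = B := by_contra fun hne => by rw [if_neg hne] at h'; exact one_ne_zero h'
      exact congrFun (congrArg Subtype.val hAB) g
    · intro c
      have hc := (Finset.mem_filter.mp c.2).2
      obtain ⟨η, hη, hmul⟩ := CoprimeExt.exists_eq_mul_of_over N E θ hE c.1 ((mem_lying N).mp (hover _ c.2))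
      have hη1 : (η : G → ℂ) 1 = 1 := by
        have h := congrFun hmul 1
        have e1 := hc 1
        have e2 := hE 1
        rw [OneMemClass.coe_one] at e1 e2
        rw [Pi.mul_apply, e1, e2] at h
        exact (mul_eq_right₀ (irr_one_ne_zero θ.2)).mp h.symm
      obtain ⟨lam, hlam⟩ := exists_hom_of_degree_one (isCharacter_of_isIrr η.2) hη1
      refine ⟨⟨lam, fun n => Units.ext (by rw [← congrFun hlam, hη _ n.2, hη1, Units.val_one])⟩, ?_⟩
      refine Subtype.ext (Subtype.ext (funext fun g => ?_))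
      show ((lam g : ℂˣ) : ℂ) * (E : G → ℂ) g = _
      rw [hmul, Pi.mul_apply, congrFun hlam g]
  haveI : Finite Λ := Finite.of_injective tw htw.1
  let Λs : Subgroup (G →* ℂˣ) :=
    { carrier := {lam | ∀ n : N, lam n = 1}
      one_mem' := fun n => rfl
      mul_mem' := fun ha hb n => by rw [MonoidHom.mul_apply, ha n, hb n, one_mul]
      inv_mem' := fun ha n => by rw [MonoidHom.inv_apply, ha n, inv_one] }
  have hΛodd : Odd (Nat.card Λs) := by
    rw [← Nat.not_even_iff_odd]
    intro hev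
    haveI : Finite Λs := ‹Finite Λ›
    obtain ⟨lam, hlam⟩ := exists_prime_orderOf_dvd_card' (G := Λs) 2 (even_iff_two_dvd.mp hev)
    have hpow : lam ^ N.index = 1 := Subtype.ext (MonoidHom.ext fun g => by
      rw [SubmonoidClass.coe_pow, MonoidHom.pow_apply, ← map_pow]
      exact lam.2 ⟨_, N.pow_index_mem g⟩)
    have h2 := orderOf_dvd_of_pow_eq_one hpow
    rw [hlam] at h2
    exact hodd.not_two_dvd_nat h2
  have hXodd : Odd X.card := by
    rw [← Fintype.card_coe, ← Nat.card_eq_fintype_card, ← Nat.card_congr (Equiv.ofBijective tw htw)]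
    exact hΛodd
  have hstab : ∀ c ∈ X, Blocks.powIrr hk c ∈ X := fun c hc => Finset.mem_filter.mpr ⟨Finset.mem_univ _, fun n => by
    rw [Blocks.powIrr_apply, ← SubmonoidClass.coe_pow, (Finset.mem_filter.mp hc).2, hθ]⟩
  let π : Equiv.Perm X := Equiv.ofBijective (fun c => ⟨Blocks.powIrr hk c, hstab _ c.2⟩)
    (Finite.injective_iff_bijective.mp fun x y e =>
      Subtype.ext (Blocks.powIrr_injective hk (congrArg Subtype.val e)))
  have hπj : ∀ (j : ℕ) (c : X) (g : G),
      (((π ^ j) c : X) : IrrCharacter G).1 g = (c : IrrCharacter G).1 (g ^ k ^ j) := by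
    intro j
    induction j with
    | zero => intro c g; simp
    | succ j ih =>
      intro c g
      rw [pow_succ π, Equiv.Perm.mul_apply, ih]
      show (c : IrrCharacter G).1 ((g ^ k ^ j) ^ k) = _
      rw [← pow_mul, pow_succ]
  have hπ : π ^ 2 ^ e = 1 := Equiv.ext fun c => Subtype.ext (Subtype.ext (funext fun g => by
    rw [hπj, hke]; rfl))
  have hmod := Equiv.Perm.card_compl_support_modEq (p := 2) (n := e) hπ
  rw [Fintype.card_coe] at hmod
  have hne : π.supportᶜ.Nonempty := by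
    rw [← Finset.card_pos]
    have := Nat.odd_iff.mp hXodd
    rw [Nat.ModEq] at hmod
    omega
  obtain ⟨c, hc⟩ := hne
  have hcfix : Blocks.powIrr hk c.1 = c.1 := by
    have : π c = c := by simpa using Finset.mem_compl.mp hc
    exact congrArg Subtype.val this
  obtain ⟨z, hz⟩ := Finset.card_eq_one.mp (existsUnique_fixed N hk hodd hk₂ θ hθ)
  have e1 : χ = z := Finset.mem_singleton.mp (hz ▸ Finset.mem_filter.mpr ⟨hχ, hfix⟩)
  have e2 : c.1 = z := Finset.mem_singleton.mp (hz ▸ Finset.mem_filter.mpr ⟨hover _ c.2, hcfix⟩)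
  rw [e1, ← e2]
  exact (Finset.mem_filter.mp c.2).2

/-- An invariant fixed character extends. -/
theorem exists_ext : ∀ (m : ℕ) {G : Type u} [Group G] [Fintype G] (N : Subgroup G) [N.Normal] [Fintype N]
    {k e : ℕ}, k.Coprime (Nat.card G) → Odd N.index → (∀ g : G, Odd (orderOf g) → g ^ k = g⁻¹) →
    (∀ g : G, g ^ k ^ 2 ^ e = g) → ∀ θ : IrrCharacter N, (∀ n : N, (θ : N → ℂ) (n ^ k) = (θ : N → ℂ) n) →
    (∀ g, conjFun N g (θ : N → ℂ) = θ) → N.index ≤ m →
    ∃ E : IrrCharacter G, ∀ n : N, (E : G → ℂ) n = (θ : N → ℂ) n := by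
  classical
  intro m
  induction m with
  | zero =>
    intro G _ _ N _ _ k e _ hodd _ _ θ _ _ hm
    exact absurd (Nat.le_zero.mp hm) Subgroup.index_ne_zero_of_finite
  | succ m ih =>
    intro G _ _ N _ _ k e hk hodd hk₂ hke θ hθ hinv hm
    have sub : ∀ H : Subgroup G, H ≠ ⊤ → N ≤ H → ∃ (F : IrrCharacter H), (∀ (n : N) (h : (n : G) ∈ H),
        (F : H → ℂ) ⟨n, h⟩ = (θ : N → ℂ) n) ∧ ∀ y : H, (F : H → ℂ) (y ^ k) = (F : H → ℂ) y := by
      intro H hH hNH
      haveI := Fintype.ofFinite H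
      haveI := Fintype.ofFinite (N.subgroupOf H)
      let eN : N.subgroupOf H ≃* N := Subgroup.subgroupOfEquivOfLe hNH
      have hkH : k.Coprime (Nat.card H) := hk.coprime_dvd_right (Subgroup.card_subgroup_dvd_card H)
      have hoddH : Odd (N.subgroupOf H).index := hodd.of_dvd_nat (Subgroup.relIndex_dvd_index_of_normal N H)
      have hk₂H : ∀ y : H, Odd (orderOf y) → y ^ k = y⁻¹ := fun y hy => Subtype.ext (by
        rw [SubmonoidClass.coe_pow, Subgroup.coe_inv, hk₂ _ (by rwa [Subgroup.orderOf_coe])])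
      have hkeH : ∀ y : H, y ^ k ^ 2 ^ e = y := fun y => Subtype.ext (by rw [SubmonoidClass.coe_pow, hke])
      let θ' : IrrCharacter (N.subgroupOf H) :=
        ⟨fun x => (θ : N → ℂ) (eN x), isIrrCharacter_comp eN.toMonoidHom eN.surjective θ.2⟩
      have hθ' : ∀ x, (θ' : N.subgroupOf H → ℂ) (x ^ k) = (θ' : N.subgroupOf H → ℂ) x := fun x => by
        show (θ : N → ℂ) (eN (x ^ k)) = _
        rw [map_pow, hθ]
      have hinv' : ∀ y : H, conjFun (N.subgroupOf H) y (θ' : N.subgroupOf H → ℂ) = θ' := fun y =>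
        funext fun x => congrFun (hinv (y : G)) (eN x)
      have hlt : (N.subgroupOf H).index ≤ m := by
        have h1 : N.relIndex H * H.index = N.index := Subgroup.relIndex_mul_index hNH
        have h2 := Subgroup.one_lt_index_of_ne_top hH
        have h3 : N.relIndex H ≠ 0 := Subgroup.index_ne_zero_of_finite
        have h4 : N.relIndex H * 2 ≤ N.relIndex H * H.index := Nat.mul_le_mul_left _ h2
        show N.relIndex H ≤ m
        omega
      obtain ⟨E, hE⟩ := ih (N.subgroupOf H) hkH hoddH hk₂H hkeH θ' hθ' hinv' hlt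
      obtain ⟨F, hF⟩ := Finset.card_eq_one.mp (existsUnique_fixed (N.subgroupOf H) hkH hoddH hk₂H θ' hθ')
      have hFm := Finset.mem_filter.mp (hF ▸ Finset.mem_singleton_self F)
      refine ⟨F, fun n h => ?_, fun y => congrFun (congrArg Subtype.val hFm.2) y⟩
      have := fixed_ext (N.subgroupOf H) hkH hoddH hk₂H hkeH θ' hθ' E hE hFm.1 hFm.2 ⟨⟨n, h⟩, n.2⟩
      exact this.trans (congrArg (θ : N → ℂ) (Subtype.ext rfl))
    by_cases htop : N = ⊤
    · have hs : Function.Bijective (N.subtype : N → G) :=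
        ⟨N.subtype_injective, fun g => ⟨⟨g, htop ▸ Subgroup.mem_top g⟩, rfl⟩⟩
      let eN : N ≃* G := MulEquiv.ofBijective N.subtype hs
      exact ⟨⟨fun g => (θ : N → ℂ) (eN.symm g), isIrrCharacter_comp eN.symm.toMonoidHom eN.symm.surjective θ.2⟩,
        fun n => congrArg (θ : N → ℂ) (eN.symm_apply_apply n)⟩
    by_cases hone : ∃ q, q.Prime ∧ ∀ Q : Sylow q G, (Q : Subgroup G) ⊔ N = ⊤
    · obtain ⟨q, hq, hQ⟩ := hone
      haveI := Fact.mk hq
      obtain ⟨Q⟩ : Nonempty (Sylow q G) := inferInstance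
      have hdvd : N.index ∣ Nat.card (Q : Subgroup G) := by
        rw [← Subgroup.relIndex_top_right, ← hQ Q, Subgroup.relIndex_sup_right]
        exact Subgroup.relIndex_dvd_card N _
      obtain ⟨b, hb⟩ := IsPGroup.iff_card.mp Q.2
      rw [hb] at hdvd
      obtain ⟨a, -, ha⟩ := (Nat.dvd_prime_pow hq).mp hdvd
      have ha0 : a ≠ 0 := fun h => htop (Subgroup.index_eq_one.mp (by rw [ha, h, pow_zero]))
      have hcard : Nat.card (G ⧸ N) = q ^ a := by rw [← Subgroup.index_eq_card, ha]
      obtain ⟨W, hW⟩ := Sylow.exists_subgroup_card_pow_prime (G := G ⧸ N) q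
        (n := a - 1) (hcard ▸ pow_dvd_pow q (Nat.sub_le a 1))
      have hWidx : W.index = q := by
        have h := W.card_mul_index
        rw [hW, hcard, show q ^ a = q ^ (a - 1) * q by rw [← pow_succ, Nat.sub_add_cancel (by omega)]] at h
        exact Nat.eq_of_mul_eq_mul_left (pow_pos hq.pos _) h
      have hWn : W.Normal := Subgroup.normal_of_index_eq_minFac_card (by
        rw [hWidx, hcard, hq.pow_minFac ha0])
      set M := W.comap (QuotientGroup.mk' N) with hM
      haveI : M.Normal := hWn.comap _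
      have hMidx : M.index = q := by rw [hM, Subgroup.index_comap_of_surjective _ (QuotientGroup.mk'_surjective N), hWidx]
      have hNM : N ≤ M := fun n hn => by simp [hM, (QuotientGroup.eq_one_iff n).mpr hn]
      have hMtop : M ≠ ⊤ := fun h => hq.ne_one (by rw [← hMidx, h, Subgroup.index_top])
      obtain ⟨F, hF, hFk⟩ := sub M hMtop hNM
      haveI := Fintype.ofFinite M
      -- the fixed extension is invariant
      haveI := Fintype.ofFinite (N.subgroupOf M)
      let eN : N.subgroupOf M ≃* N := Subgroup.subgroupOfEquivOfLe hNM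
      have hkM : k.Coprime (Nat.card M) := hk.coprime_dvd_right (Subgroup.card_subgroup_dvd_card M)
      let θ' : IrrCharacter (N.subgroupOf M) :=
        ⟨fun x => (θ : N → ℂ) (eN x), isIrrCharacter_comp eN.toMonoidHom eN.surjective θ.2⟩
      obtain ⟨z, hz⟩ := Finset.card_eq_one.mp (existsUnique_fixed (N.subgroupOf M) hkM
        (hodd.of_dvd_nat (Subgroup.relIndex_dvd_index_of_normal N M))
        (fun y hy => Subtype.ext (by rw [SubmonoidClass.coe_pow, Subgroup.coe_inv, hk₂ _ (by rwa [Subgroup.orderOf_coe])]))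
        θ' (fun x => by show (θ : N → ℂ) (eN (x ^ k)) = _; rw [map_pow, hθ]))
      have huniq : ∀ φ : IrrCharacter M, (∀ (n : N) (h : (n : G) ∈ M), (φ : M → ℂ) ⟨n, h⟩ = (θ : N → ℂ) n) →
          (∀ y : M, (φ : M → ℂ) (y ^ k) = (φ : M → ℂ) y) → φ = z := by
        intro φ h1 h2
        refine Finset.mem_singleton.mp (hz ▸ Finset.mem_filter.mpr ⟨(mem_lying _).mpr ?_, Subtype.ext (funext h2)⟩)
        rw [show (fun x : N.subgroupOf M => (φ : M → ℂ) x) = (θ' : N.subgroupOf M → ℂ) from
          funext fun x => h1 (eN x) (x : M).2, irr_inner_self θ'.2]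
        exact one_ne_zero
      have hFinv : ∀ g : G, conjFun M g (F : M → ℂ) = F := by
        intro g
        let Fg : IrrCharacter M := ⟨_, isIrrCharacter_conjFun M g F.2⟩
        have e1 : Fg = z := huniq Fg (fun n h => by
          show conjFun M g (F : M → ℂ) ⟨n, h⟩ = _
          rw [conjFun_eq_comp]
          simp only [Function.comp_apply]
          rw [← congrFun (hinv g) n, conjFun_eq_comp]
          simp only [Function.comp_apply]
          rw [← hF _ (hNM (MulAut.conjNormal g n).2)]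
          exact congrArg _ (Subtype.ext (by simp))) (fun y => by
          show conjFun M g (F : M → ℂ) (y ^ k) = conjFun M g (F : M → ℂ) y
          simp only [conjFun_eq_comp, Function.comp_apply, map_pow, hFk])
        exact congrArg Subtype.val (e1.trans (huniq F hF hFk).symm)
      haveI : IsCyclic (G ⧸ M) := isCyclic_of_prime_card (p := q) (by rw [← Subgroup.index_eq_card, hMidx])
      obtain ⟨E, hE, hEres⟩ := GoodCount.exists_ext_cyclic M F.2 hFinv
      exact ⟨⟨E, hE⟩, fun n => (hEres ⟨n, hNM n.2⟩).trans (hF n _)⟩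
    · push Not at hone
      obtain ⟨θ0, d, τ, hτ, rfl⟩ := θ
      haveI := hτ
      obtain ⟨P, hP⟩ := exists_projExt τ hinv
      obtain ⟨α, hα⟩ := hP.cocycle
      obtain ⟨Q, hQ⟩ := exists_hom_of_primes hP hα fun q hq => by
        haveI := Fact.mk hq
        obtain ⟨R, hR⟩ := hone q hq
        obtain ⟨F, hF, -⟩ := sub _ hR le_sup_right
        obtain ⟨f, hf⟩ := exists_hom_of_extension ((R : Subgroup G) ⊔ N) le_sup_right
          (isCharacter_of_isIrr F.2) (fun n => hF n _)
        refine ⟨_, fun h => R.not_dvd_index ((Int.natCast_dvd_natCast.mp h).trans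
          (Subgroup.index_dvd_of_le le_sup_left)), index_mem_cocyclePowers hP hα _ le_sup_right f hf⟩
      obtain ⟨χ, hχ, hres⟩ := exists_irr_of_hom Q hQ
      exact ⟨⟨χ, hχ⟩, hres⟩

end Cfsg.Agent.CT.InvPower
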