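import Cfsg.Agent.Lib.CT.Kernel
import Mathlib.LinearAlgebra.Matrix.StdBasis
import Mathlib.LinearAlgebra.Trace
import Mathlib.Analysis.SpecialFunctions.Complex.Arg

/-!
# Elements of a finite linear group with all eigenvalues near `1`

Frobenius' commutation theorem and the resulting abelian normal subgroup.
-/

set_option linter.style.haveILetI false

namespace Cfsg.Agent.CT

open scoped ComplexConjugate
open Module

universe u v w

section Quad

variable {V : Type v} [AddCommGroup V] [Module ℂ V] {T : Type w} [Fintype T]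
  (L : T → V →ₗ[ℂ] ℂ)

/-- A sesquilinear form given by linear functionals. -/
noncomputable def sesq (a b : V) : ℂ := ∑ t, conj (L t a) * L t b

/-- The associated quadratic form. -/
noncomputable def quad (a : V) : ℝ := ∑ t, Complex.normSq (L t a)

theorem sesq_self (a : V) : sesq L a a = (quad L a : ℂ) := by
  rw [sesq, quad, Complex.ofReal_sum]
  exact Finset.sum_congr rfl fun t _ => Complex.normSq_eq_conj_mul_self.symm

theorem quad_eq_of_sesq {a b : V} (h : sesq L a a = sesq L b b) : quad L a = quad L b := by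
  rw [sesq_self, sesq_self] at h
  exact_mod_cast h

theorem quad_pos (hdef : ∀ v, (∀ t, L t v = 0) → v = 0) {v : V} (hv : v ≠ 0) : 0 < quad L v := by
  rcases (Finset.sum_nonneg fun t _ => Complex.normSq_nonneg (L t v)).lt_or_eq with h | h
  · exact h
  · exact absurd (hdef v fun t => Complex.normSq_eq_zero.mp
      ((Finset.sum_eq_zero_iff_of_nonneg fun t _ => Complex.normSq_nonneg _).mp h.symm t
        (Finset.mem_univ t))) hv

theorem quad_sub_of_orth {a b : V} (h : sesq L a b = 0) : quad L (a - b) = quad L a + quad L b := by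
  have h' : sesq L b a = 0 := by
    have := congrArg conj h
    simpa [sesq, map_sum, mul_comm] using this
  have : sesq L (a - b) (a - b) = sesq L a a + sesq L b b - sesq L a b - sesq L b a := by
    simp only [sesq, map_sub, ← Finset.sum_add_distrib, ← Finset.sum_sub_distrib]
    exact Finset.sum_congr rfl fun t _ => by ring
  rw [h, h', sub_zero, sub_zero, sesq_self, sesq_self, sesq_self] at this
  exact_mod_cast this

variable (f : Module.End ℂ V) (hinv : ∀ a b, sesq L (f a) (f b) = sesq L a b)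

include hinv in
theorem sesq_eq_zero_of_eigen {a b : V} {μ ν : ℂ} (ha : f a = μ • a) (hb : f b = ν • b)
    (hμ : Complex.normSq μ = 1) (hne : μ ≠ ν) : sesq L a b = 0 := by
  have h := hinv a b
  rw [ha, hb] at h
  have h' : sesq L (μ • a) (ν • b) = conj μ * ν * sesq L a b := by
    simp only [sesq, map_smul, smul_eq_mul, map_mul, Finset.mul_sum]
    exact Finset.sum_congr rfl fun t _ => by ring
  rw [h'] at h
  have h2 : (conj μ * ν - 1) * sesq L a b = 0 := by rw [sub_mul, one_mul, h, sub_self]
  refine (mul_eq_zero.mp h2).resolve_left fun h3 => hne ?_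
  have h4 : μ * conj μ = 1 := by rw [Complex.mul_conj, hμ, Complex.ofReal_one]
  calc μ = μ * (conj μ * ν) := by rw [sub_eq_zero.mp h3, mul_one]
    _ = ν := by rw [← mul_assoc, h4, one_mul]

include hinv in
theorem quad_sum_eigen (s : Finset ℂ) (Y : ℂ → V) (hY : ∀ μ ∈ s, f (Y μ) = μ • Y μ)
    (h1 : ∀ μ ∈ s, Complex.normSq μ = 1) (a : ℂ → ℂ) :
    quad L (∑ μ ∈ s, a μ • Y μ) = ∑ μ ∈ s, Complex.normSq (a μ) * quad L (Y μ) := by
  have h : sesq L (∑ μ ∈ s, a μ • Y μ) (∑ μ ∈ s, a μ • Y μ) =
      ∑ μ ∈ s, ∑ ν ∈ s, conj (a μ) * a ν * sesq L (Y μ) (Y ν) := by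
    simp only [sesq, map_sum, map_smul, smul_eq_mul, map_mul, Finset.sum_mul, Finset.mul_sum]
    conv_rhs => rw [Finset.sum_comm]
    rw [Finset.sum_comm]
    refine Finset.sum_congr rfl fun μ _ => ?_
    rw [Finset.sum_comm]
    exact Finset.sum_congr rfl fun ν _ => Finset.sum_congr rfl fun t _ => by ring
  rw [Finset.sum_congr rfl fun μ hμ => Finset.sum_eq_single μ
    (fun ν hν hne => by rw [sesq_eq_zero_of_eigen L f hinv (hY μ hμ) (hY ν hν) (h1 μ hμ) (Ne.symm hne),
      mul_zero])
    (fun h => absurd hμ h)] at h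
  rw [sesq_self] at h
  have h' : ((quad L (∑ μ ∈ s, a μ • Y μ) : ℝ) : ℂ) =
      ((∑ μ ∈ s, Complex.normSq (a μ) * quad L (Y μ) : ℝ) : ℂ) := by
    rw [h, Complex.ofReal_sum]
    refine Finset.sum_congr rfl fun μ _ => ?_
    rw [sesq_self, Complex.ofReal_mul, Complex.normSq_eq_conj_mul_self]
  exact_mod_cast h'

variable {ι : Type*} [Fintype ι] [DecidableEq ι] (b : Basis ι ℂ V) (ω : ι → ℂ)

/-- The projection onto the `μ`-part of an eigenbasis. -/
noncomputable def eproj (μ : ℂ) : Module.End ℂ V :=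
  b.constr ℂ fun i => if ω i = μ then b i else 0

theorem eproj_basis (μ : ℂ) (i : ι) : eproj b ω μ (b i) = if ω i = μ then b i else 0 := by
  rw [eproj, Module.Basis.constr_basis]

theorem eigen_eproj (hb : ∀ i, f (b i) = ω i • b i) (μ : ℂ) (v : V) :
    f (eproj b ω μ v) = μ • eproj b ω μ v := by
  have : f * eproj b ω μ = μ • eproj b ω μ := b.ext fun i => by
    rw [Module.End.mul_apply, LinearMap.smul_apply, eproj_basis]
    split_ifs with h
    · rw [hb, h]
    · rw [map_zero, smul_zero]
  exact LinearMap.congr_fun this v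

open Classical in
theorem sum_eproj (v : V) : ∑ μ ∈ Finset.univ.image ω, eproj b ω μ v = v := by
  have : ∑ μ ∈ Finset.univ.image ω, eproj b ω μ = 1 := b.ext fun i => by
    rw [LinearMap.sum_apply, Finset.sum_eq_single (ω i)
      (fun μ _ hne => by rw [eproj_basis, if_neg (Ne.symm hne)])
      (fun h => absurd (Finset.mem_image_of_mem ω (Finset.mem_univ i)) h), eproj_basis, if_pos rfl]
    rfl
  simpa [LinearMap.sum_apply] using LinearMap.congr_fun this v

theorem eproj_commute (hb : ∀ i, f (b i) = ω i • b i) {X : Module.End ℂ V}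
    (hX : X * f = f * X) (μ : ℂ) (v : V) : eproj b ω μ (X v) = X (eproj b ω μ v) := by
  have hzero : ∀ i l, ω l ≠ ω i → b.repr (X (b i)) l = 0 := by
    intro i l hne
    have h1 : f (X (b i)) = ω i • X (b i) := by
      rw [← Module.End.mul_apply, ← hX, Module.End.mul_apply, hb, map_smul]
    have h2 : ∀ w, b.repr (f w) l = ω l * b.repr w l := by
      intro w
      have : (b.coord l).comp f = ω l • b.coord l := b.ext fun j => by
        simp only [LinearMap.comp_apply, hb, map_smul, LinearMap.smul_apply, Basis.coord_apply,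
          Basis.repr_self, smul_eq_mul]
        by_cases h : j = l
        · subst h; simp
        · simp [h]
      exact LinearMap.congr_fun this w
    have h3 := h2 (X (b i))
    rw [h1, map_smul, Finsupp.smul_apply, smul_eq_mul] at h3
    exact (mul_eq_zero.mp (show (ω l - ω i) * b.repr (X (b i)) l = 0 by
      rw [sub_mul, h3, sub_self])).resolve_left (sub_ne_zero.mpr hne)
  have : eproj b ω μ * X = X * eproj b ω μ := b.ext fun i => by
    rw [Module.End.mul_apply, Module.End.mul_apply, eproj_basis]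
    conv_lhs => rw [← b.sum_repr (X (b i))]
    rw [map_sum]
    simp only [map_smul, eproj_basis]
    split_ifs with h
    · conv_rhs => rw [← b.sum_repr (X (b i))]
      refine Finset.sum_congr rfl fun l _ => ?_
      by_cases hl : ω l = μ
      · rw [if_pos hl]
      · rw [if_neg hl, hzero i l (fun e => hl (e.trans h)), zero_smul, zero_smul]
    · rw [map_zero]
      refine Finset.sum_eq_zero fun l _ => ?_
      by_cases hl : ω l = μ
      · rw [hzero i l (fun e => h (e.symm.trans hl)), zero_smul]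
      · rw [if_neg hl, smul_zero]
  exact LinearMap.congr_fun this v

include hinv in
/-- An isometry with all eigenvalues within `√c` of `1` moves vectors by less than `√c`. -/
theorem quad_sub_lt (hdef : ∀ v, (∀ t, L t v = 0) → v = 0) (hb : ∀ i, f (b i) = ω i • b i)
    (h1 : ∀ i, Complex.normSq (ω i) = 1) {c : ℝ} (hc : ∀ i, Complex.normSq (ω i - 1) < c) {v : V}
    (hv : v ≠ 0) : quad L (f v - v) < c * quad L v := by
  classical
  set s := Finset.univ.image ω
  have hs1 : ∀ μ ∈ s, Complex.normSq μ = 1 := fun μ hμ => by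
    obtain ⟨i, -, rfl⟩ := Finset.mem_image.mp hμ
    exact h1 i
  have hsc : ∀ μ ∈ s, Complex.normSq (μ - 1) < c := fun μ hμ => by
    obtain ⟨i, -, rfl⟩ := Finset.mem_image.mp hμ
    exact hc i
  have hY := fun μ (_ : μ ∈ s) => eigen_eproj f b ω hb μ v
  have e1 : f v - v = ∑ μ ∈ s, (μ - 1) • eproj b ω μ v := by
    simp only [sub_smul, one_smul, Finset.sum_sub_distrib, sum_eproj, s]
    conv_lhs => rw [← sum_eproj b ω v, map_sum]
    rw [sum_eproj]
    congr 1
    exact Finset.sum_congr rfl fun μ hμ => hY μ hμ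
  have h2 := quad_sum_eigen L f hinv s (fun μ => eproj b ω μ v) hY hs1 (fun _ => 1)
  simp only [one_smul, map_one, one_mul, s, sum_eproj] at h2
  have hpos := quad_pos L hdef hv
  rw [e1, quad_sum_eigen L f hinv s (fun μ => eproj b ω μ v) hY hs1, h2, Finset.mul_sum]
  rw [h2] at hpos
  obtain ⟨μ, hμ, hne⟩ := Finset.exists_ne_zero_of_sum_ne_zero hpos.ne'
  refine Finset.sum_lt_sum (fun ν hν => mul_le_mul_of_nonneg_right (hsc ν hν).le
    (Finset.sum_nonneg fun t _ => Complex.normSq_nonneg _)) ⟨μ, hμ, ?_⟩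
  exact mul_lt_mul_of_pos_right (hsc μ hμ)
    (lt_of_le_of_ne (Finset.sum_nonneg fun t _ => Complex.normSq_nonneg _) (Ne.symm hne))

end Quad

section Group

variable {G : Type u} [Group G] [Finite G] {V : Type v} [AddCommGroup V] [Module ℂ V]
  [FiniteDimensional ℂ V] (ρ : Representation ℂ G V)

/-- All eigenvalues of `ρ g` have argument of absolute value less than `π / 6`. -/
def SmallElt (g : G) : Prop :=
  ∀ (μ : ℂ) (v : V), v ≠ 0 → ρ g v = μ • v → 0 < μ.re ∧ 3 / 4 < μ.re ^ 2

theorem normSq_one_of_eigen {g : G} {μ : ℂ} {v : V} (hv : v ≠ 0) (h : ρ g v = μ • v) :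
    Complex.normSq μ = 1 := by
  have hk : ∀ k : ℕ, ρ (g ^ k) v = μ ^ k • v := by
    intro k
    induction k with
    | zero => simp
    | succ k ih =>
      rw [pow_succ', map_mul, Module.End.mul_apply, ih, map_smul, h, smul_smul, pow_succ]
  have h1 := hk (Nat.card G)
  rw [pow_card_eq_one', map_one, Module.End.one_apply] at h1
  have h2 : μ ^ Nat.card G = 1 := by
    by_contra hne
    have h3 : (μ ^ Nat.card G - 1) • v = 0 := by rw [sub_smul, one_smul, ← h1, sub_self]
    exact hv ((smul_eq_zero.mp h3).resolve_left (sub_ne_zero.mpr hne))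
  rw [Complex.normSq_eq_norm_sq, Complex.norm_eq_one_of_pow_eq_one h2 Nat.card_pos.ne', one_pow]

theorem small_pair {a b : ℂ} (ha : Complex.normSq a = 1) (hb : Complex.normSq b = 1)
    (ha' : 0 < a.re ∧ 3 / 4 < a.re ^ 2) (hb' : 0 < b.re ∧ 3 / 4 < b.re ^ 2) :
    Complex.normSq (a * conj b - 1) < 1 := by
  simp only [Complex.normSq_apply, Complex.sub_re, Complex.sub_im, Complex.mul_re, Complex.mul_im,
    Complex.conj_re, Complex.conj_im, Complex.one_re, Complex.one_im] at *
  have h1 : 3 / 4 < a.re * b.re := by nlinarith [mul_pos ha'.1 hb'.1]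
  have h2 : |a.im * b.im| < 1 / 4 := by
    rw [abs_mul]
    have ha2 : |a.im| < 1 / 2 := by nlinarith [abs_nonneg a.im, sq_abs a.im]
    have hb2 : |b.im| < 1 / 2 := by nlinarith [abs_nonneg b.im, sq_abs b.im]
    nlinarith [abs_nonneg a.im, abs_nonneg b.im]
  have h3 := abs_lt.mp h2
  nlinarith

theorem smallElt_inv {g : G} (h : SmallElt ρ g) : SmallElt ρ g⁻¹ := by
  intro μ v hv hμ
  have h1 := normSq_one_of_eigen ρ hv hμ
  have hμ0 : μ ≠ 0 := fun e => by simp [e] at h1
  have h2 : ρ g v = μ⁻¹ • v := by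
    have h3 := congrArg (ρ g) hμ
    rw [← Module.End.mul_apply, ← map_mul, mul_inv_cancel, map_one, Module.End.one_apply, map_smul]
      at h3
    rw [h3, smul_smul, ← h3, inv_mul_cancel₀ hμ0, one_smul]
  have h4 := h _ v hv h2
  rwa [Complex.inv_re, h1, div_one] at h4

theorem smallElt_conj {g : G} (h : SmallElt ρ g) (x : G) : SmallElt ρ (x * g * x⁻¹) := by
  intro μ v hv hμ
  refine h μ (ρ x⁻¹ v) (fun h0 => hv ?_) ?_
  · have := congrArg (ρ x) h0
    rwa [← Module.End.mul_apply, ← map_mul, mul_inv_cancel, map_one, map_zero] at this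
  · have := congrArg (ρ x⁻¹) hμ
    rw [← Module.End.mul_apply, ← map_mul, map_smul] at this
    rw [← Module.End.mul_apply, ← map_mul]
    simpa [mul_assoc] using this

variable [Fintype G]

/-- The averaged coordinate functionals. -/
noncomputable def avgForm (g : G × Fin (finrank ℂ V)) : V →ₗ[ℂ] ℂ :=
  ((Module.finBasis ℂ V).coord g.2).comp (ρ g.1)

theorem avgForm_inv (x : G) (a b : V) :
    sesq (avgForm ρ) (ρ x a) (ρ x b) = sesq (avgForm ρ) a b := by
  refine Fintype.sum_equiv ((Equiv.mulRight x).prodCongr (Equiv.refl _)) _ _ fun t => ?_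
  simp [avgForm, map_mul]

theorem avgForm_def (v : V) (h : ∀ t, avgForm ρ t v = 0) : v = 0 := by
  refine (Module.finBasis ℂ V).repr.injective (Finsupp.ext fun i => ?_)
  have := h (1, i)
  simpa [avgForm] using this

/-- A small element moves every vector by less than half its length. -/
theorem quad_small {g : G} (h : SmallElt ρ g) {v : V} (hv : v ≠ 0) :
    quad (avgForm ρ) (ρ g v - v) < 1 / 2 * quad (avgForm ρ) v := by
  classical
  obtain ⟨b, ω, hb, -⟩ := exists_eigenbasis (ρ g) Nat.card_pos (rep_pow_card ρ g)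
  refine quad_sub_lt (avgForm ρ) (ρ g) (avgForm_inv ρ g) b ω (avgForm_def ρ) hb
    (fun i => normSq_one_of_eigen ρ (b.ne_zero i) (hb i)) (fun i => ?_) hv
  have h1 := normSq_one_of_eigen ρ (b.ne_zero i) (hb i)
  obtain ⟨h2, h3⟩ := h (ω i) (b i) (b.ne_zero i) (hb i)
  simp only [Complex.normSq_apply, Complex.sub_re, Complex.sub_im, Complex.one_re,
    Complex.one_im] at *
  nlinarith

/-- Backward step in Frobenius' argument. -/
theorem commute_of_commute_commutator (hρ : Function.Injective ρ) {a b : G}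
    (hgood : ∀ v : V, v ≠ 0 → quad (avgForm ρ) (ρ b v - v) < 2 * quad (avgForm ρ) v)
    (hc : a * (a * b * a⁻¹ * b⁻¹) = a * b * a⁻¹ * b⁻¹ * a) : a * b = b * a := by
  classical
  obtain ⟨e, ω, he, -⟩ := exists_eigenbasis (ρ a) Nat.card_pos (rep_pow_card ρ a)
  have hc' : a * (b * a * b⁻¹) = b * a * b⁻¹ * a := by
    have h1 : a * (b * a⁻¹ * b⁻¹) = b * a⁻¹ * b⁻¹ * a := by
      have h2 : a * (a * (b * a⁻¹ * b⁻¹)) = a * (b * a⁻¹ * b⁻¹ * a) := by
        calc a * (a * (b * a⁻¹ * b⁻¹)) = a * (a * b * a⁻¹ * b⁻¹) := by simp [mul_assoc]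
          _ = _ := by rw [hc]; simp [mul_assoc]
      exact mul_left_cancel h2
    have h3 := (Commute.inv_right h1).eq
    simpa [mul_assoc] using h3
  apply hρ
  refine e.ext fun i => ?_
  set w := ρ b (e i) with hw
  have hA' : ρ (b * a * b⁻¹) w = ω i • w := by
    rw [hw, ← Module.End.mul_apply, ← map_mul, show b * a * b⁻¹ * b = b * a by simp [mul_assoc],
      map_mul, Module.End.mul_apply, he, map_smul]
  have hcomp : ∀ μ, μ ≠ ω i → eproj e ω μ w = 0 := by
    intro μ hμ
    by_contra hne
    set y := eproj e ω μ w with hy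
    have hy1 : ρ a y = μ • y := eigen_eproj (ρ a) e ω he μ w
    have hy2 : ρ (b * a * b⁻¹) y = ω i • y := by
      rw [hy, ← eproj_commute (ρ a) e ω he (by rw [← map_mul, ← map_mul, hc']), hA', map_smul]
    set u := ρ b⁻¹ y with hu
    have hu1 : ρ a u = ω i • u := by
      have hcomp' : ∀ (x z : G) (t : V), ρ x (ρ z t) = ρ (x * z) t := fun x z t => by
        rw [map_mul, Module.End.mul_apply]
      rw [hu, ← map_smul, ← hy2, hcomp', hcomp']
      simp [mul_assoc]
    have hu2 : ρ b u = y := by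
      rw [hu, ← Module.End.mul_apply, ← map_mul, mul_inv_cancel, map_one, Module.End.one_apply]
    have hu0 : u ≠ 0 := fun h0 => hne (by rw [← hu2, h0, map_zero])
    have horth : sesq (avgForm ρ) y u = 0 :=
      sesq_eq_zero_of_eigen (avgForm ρ) (ρ a) (avgForm_inv ρ a) hy1 hu1
        (normSq_one_of_eigen ρ hne hy1) hμ
    have hg := hgood u hu0
    rw [hu2, quad_sub_of_orth (avgForm ρ) horth] at hg
    have he' : quad (avgForm ρ) y = quad (avgForm ρ) u := by
      rw [← hu2]; exact quad_eq_of_sesq _ (avgForm_inv ρ b u u)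
    linarith
  have hwi : ρ a w = ω i • w := by
    have h := sum_eproj e ω w
    rw [Finset.sum_eq_single (ω i) (fun μ _ hne => hcomp μ hne)
      (fun h => absurd (Finset.mem_image_of_mem ω (Finset.mem_univ i)) h)] at h
    rw [← h]
    exact eigen_eproj (ρ a) e ω he (ω i) w
  rw [map_mul, map_mul, Module.End.mul_apply, Module.End.mul_apply, he, map_smul]
  exact hwi

set_option maxHeartbeats 800000 in
/-- Frobenius: small elements commute. -/
theorem small_commute (hρ : Function.Injective ρ) {a b : G} (ha : SmallElt ρ a)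
    (hb : SmallElt ρ b) : a * b = b * a := by
  classical
  let B : ℕ → G := fun k => (fun x => a * x * a⁻¹ * x⁻¹)^[k] b
  have hBs : ∀ k, B (k + 1) = a * B k * a⁻¹ * (B k)⁻¹ := fun k => Function.iterate_succ_apply' _ _ _
  obtain ⟨e, ω, he, -⟩ := exists_eigenbasis (ρ a) Nat.card_pos (rep_pow_card ρ a)
  let M : G → Matrix (Fin (finrank ℂ V)) (Fin (finrank ℂ V)) ℂ := fun g =>
    LinearMap.toMatrix e e (ρ g)
  have hM1 : M 1 = 1 := by simp [M, LinearMap.toMatrix_one]
  have hMm : ∀ x y, M (x * y) = M x * M y := fun x y => by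
    simp [M, map_mul, LinearMap.toMatrix_mul]
  let L : G × G × Fin (finrank ℂ V) × Fin (finrank ℂ V) →
      Matrix (Fin (finrank ℂ V)) (Fin (finrank ℂ V)) ℂ →ₗ[ℂ] ℂ := fun t =>
    { toFun := fun X => (M t.1 * X * M t.2.1) t.2.2.1 t.2.2.2
      map_add' := fun X Y => by simp [Matrix.mul_add, Matrix.add_mul]
      map_smul' := fun c X => by simp }
  have hLdef : ∀ X, (∀ t, L t X = 0) → X = 0 := fun X h => by
    ext i j
    have := h (1, 1, i, j)
    simpa [L, hM1] using this
  have hLinv : ∀ (x y : G) X Y, sesq L (M x * X * M y) (M x * Y * M y) = sesq L X Y := by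
    intro x y X Y
    refine Fintype.sum_equiv ((Equiv.mulRight x).prodCongr
      ((Equiv.mulLeft y).prodCongr (Equiv.refl _))) _ _ fun t => ?_
    simp [L, hMm, Matrix.mul_assoc]
  let f : Module.End ℂ (Matrix (Fin (finrank ℂ V)) (Fin (finrank ℂ V)) ℂ) :=
    { toFun := fun X => M a * X * M a⁻¹
      map_add' := fun X Y => by simp [Matrix.mul_add, Matrix.add_mul]
      map_smul' := fun c X => by simp }
  have hMa : M a = Matrix.diagonal ω := by
    ext i j
    simp only [M]
    rw [LinearMap.toMatrix_apply, he, map_smul, Module.Basis.repr_self, Finsupp.smul_apply,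
      Finsupp.single_apply, Matrix.diagonal_apply]
    by_cases h : i = j
    · subst h; simp
    · simp [h, Ne.symm h]
  have hω : ∀ i, Complex.normSq (ω i) = 1 := fun i => normSq_one_of_eigen ρ (e.ne_zero i) (he i)
  have hMai : M a⁻¹ = Matrix.diagonal fun i => conj (ω i) := by
    have h1 : M a * M a⁻¹ = 1 := by rw [← hMm, mul_inv_cancel, hM1]
    have h2 : Matrix.diagonal (fun i => conj (ω i)) * M a = 1 := by
      rw [hMa, Matrix.diagonal_mul_diagonal, ← Matrix.diagonal_one]
      exact congrArg Matrix.diagonal (funext fun i => by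
        rw [mul_comm, Complex.mul_conj, hω, Complex.ofReal_one])
    calc M a⁻¹ = 1 * M a⁻¹ := (one_mul _).symm
      _ = _ := by rw [← h2, Matrix.mul_assoc, h1, Matrix.mul_one]
  have hdec : ∀ k, B k ≠ 1 → quad L (M (B (k + 1)) - 1) < quad L (M (B k) - 1) := by
    intro k hk
    set X := M (B k) - 1 with hX
    have hX0 : X ≠ 0 := fun h0 => hk (hρ ((LinearMap.toMatrix e e).injective (by
      show M (B k) = M 1
      rw [hM1]; exact sub_eq_zero.mp h0)))
    have hlt := quad_sub_lt L f (fun p q => hLinv a a⁻¹ p q)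
      (Matrix.stdBasis ℂ (Fin (finrank ℂ V)) (Fin (finrank ℂ V)))
      (fun ij => ω ij.1 * conj (ω ij.2)) hLdef
      (fun ij => by
        rw [Matrix.stdBasis_eq_single]
        show M a * Matrix.single ij.1 ij.2 1 * M a⁻¹ = _
        rw [hMa, hMai]
        ext i j
        rw [Matrix.mul_diagonal, Matrix.diagonal_mul, Matrix.smul_apply, Matrix.single_apply]
        split_ifs with h
        · obtain ⟨rfl, rfl⟩ := h
          simp [mul_comm, mul_left_comm]
        · simp)
      (fun ij => by rw [map_mul, Complex.normSq_conj, hω, hω, one_mul]) (c := 1)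
      (fun ij => small_pair (hω _) (hω _) (ha _ _ (e.ne_zero _) (he _))
        (ha _ _ (e.ne_zero _) (he _))) hX0
    rw [one_mul] at hlt
    refine lt_of_eq_of_lt ?_ hlt
    have e1 : M (B (k + 1)) - 1 = M 1 * (f X - X) * M (B k)⁻¹ := by
      show _ = M 1 * (M a * X * M a⁻¹ - X) * _
      rw [hBs, hX, hM1, one_mul]
      simp only [mul_sub, sub_mul, mul_one, one_mul, ← hMm, mul_inv_cancel, hM1]
      abel
    rw [e1]
    exact quad_eq_of_sesq L (hLinv 1 _ _ _)
  obtain ⟨k, hk⟩ : ∃ k, B k = 1 := by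
    by_contra hcon
    push Not at hcon
    have hanti : StrictAnti fun k => quad L (M (B k) - 1) :=
      strictAnti_nat_of_succ_lt fun k => hdec k (hcon k)
    obtain ⟨i, j, hne, hij⟩ := Finite.exists_ne_map_eq_of_infinite B
    exact hne (hanti.injective (by simp only [hij]))
  have hgood : ∀ k, ∀ v : V, v ≠ 0 →
      quad (avgForm ρ) (ρ (B k) v - v) < 2 * quad (avgForm ρ) v := by
    intro k v hv
    have hpos := quad_pos (avgForm ρ) (avgForm_def ρ) hv
    rcases k with _ | k
    · exact lt_trans (quad_small ρ hb hv) (by linarith)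
    · set x := B k * a⁻¹ * (B k)⁻¹ with hx
      have hxs : SmallElt ρ x := smallElt_conj ρ (smallElt_inv ρ ha) _
      set p := ρ x v - v with hp
      set q := ρ a⁻¹ v - v with hq
      have h1 : quad (avgForm ρ) (ρ (B (k + 1)) v - v) = quad (avgForm ρ) (p - q) := by
        rw [show p - q = ρ x v - ρ a⁻¹ v by simp [p, q]]
        apply quad_eq_of_sesq
        rw [← avgForm_inv ρ a (ρ x v - ρ a⁻¹ v) (ρ x v - ρ a⁻¹ v), map_sub, ← Module.End.mul_apply,
          ← Module.End.mul_apply, ← map_mul, ← map_mul, mul_inv_cancel, map_one,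
          Module.End.one_apply, hx, show a * (B k * a⁻¹ * (B k)⁻¹) = B (k + 1) by
            rw [hBs]; simp [mul_assoc]]
      have h2 : quad (avgForm ρ) (p - q) ≤ 2 * quad (avgForm ρ) p + 2 * quad (avgForm ρ) q := by
        simp only [quad, Finset.mul_sum, ← Finset.sum_add_distrib, map_sub]
        refine Finset.sum_le_sum fun t _ => ?_
        simp only [Complex.normSq_apply, Complex.sub_re, Complex.sub_im]
        nlinarith [sq_nonneg ((avgForm ρ t p).re + (avgForm ρ t q).re),
          sq_nonneg ((avgForm ρ t p).im + (avgForm ρ t q).im)]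
      have h3 := quad_small ρ hxs hv
      have h4 := quad_small ρ (smallElt_inv ρ ha) hv
      rw [← hp] at h3
      rw [← hq] at h4
      linarith
  have key : ∀ n, a * B n = B n * a → a * b = b * a := by
    intro n
    induction n with
    | zero => exact id
    | succ n ih =>
      intro h
      rw [hBs] at h
      exact ih (commute_of_commute_commutator ρ hρ (hgood n) h)
  exact key k (by rw [hk, mul_one, one_mul])

/-- The subgroup generated by the small elements. -/
def smallClosure : Subgroup G := Subgroup.closure {g | SmallElt ρ g}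

theorem smallClosure_comm (hρ : Function.Injective ρ) :
    ∀ x ∈ smallClosure ρ, ∀ y ∈ smallClosure ρ, x * y = y * x := by
  have h1 : smallClosure ρ ≤ Subgroup.centralizer {g | SmallElt ρ g} :=
    (Subgroup.closure_le _).mpr fun g hg x hx => small_commute ρ hρ hx hg
  have h2 : smallClosure ρ ≤ Subgroup.centralizer (smallClosure ρ : Set G) :=
    (Subgroup.closure_le _).mpr fun g hg x hx => (h1 hx g hg).symm
  exact fun x hx y hy => (h2 hy x hx)

theorem smallClosure_normal : (smallClosure ρ).Normal := by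
  refine ⟨fun x hx g => ?_⟩
  have h : smallClosure ρ ≤ (smallClosure ρ).comap (MulAut.conj g).toMonoidHom :=
    (Subgroup.closure_le _).mpr fun y hy => Subgroup.subset_closure (smallElt_conj ρ hy g)
  exact h hx

end Group

section Boxes

/-- The twelve arcs of the circle. -/
noncomputable def arcBox (z : ℂ) : ℕ := ⌈(z.arg + Real.pi) * (6 / Real.pi)⌉₊ - 1

theorem arcBox_lt (z : ℂ) : arcBox z < 12 := by
  have h : ⌈(z.arg + Real.pi) * (6 / Real.pi)⌉₊ ≤ 12 := by
    refine Nat.ceil_le.mpr ?_
    rw [← mul_div_assoc, div_le_iff₀ Real.pi_pos]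
    push_cast
    nlinarith [Complex.arg_le_pi z]
  unfold arcBox
  omega

theorem small_of_arcBox_eq {a b : ℂ} (ha : Complex.normSq a = 1) (hb : Complex.normSq b = 1)
    (h : arcBox a = arcBox b) : 0 < (a * conj b).re ∧ 3 / 4 < (a * conj b).re ^ 2 := by
  have hna : ‖a‖ = 1 := by rw [Complex.norm_def, ha, Real.sqrt_one]
  have hnb : ‖b‖ = 1 := by rw [Complex.norm_def, hb, Real.sqrt_one]
  set ta := (a.arg + Real.pi) * (6 / Real.pi) with hta
  set tb := (b.arg + Real.pi) * (6 / Real.pi) with htb
  have hta0 : 0 < ta := mul_pos (by linarith [Complex.neg_pi_lt_arg a]) (by positivity)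
  have htb0 : 0 < tb := mul_pos (by linarith [Complex.neg_pi_lt_arg b]) (by positivity)
  have hc : ⌈ta⌉₊ = ⌈tb⌉₊ := by
    have h1 : 0 < ⌈ta⌉₊ := Nat.ceil_pos.mpr hta0
    have h2 : 0 < ⌈tb⌉₊ := Nat.ceil_pos.mpr htb0
    simp only [arcBox, ← hta, ← htb] at h
    omega
  have hd : |ta - tb| < 1 := by
    have h1 := Nat.le_ceil ta
    have h2 := Nat.le_ceil tb
    have h3 := Nat.ceil_lt_add_one hta0.le
    have h4 := Nat.ceil_lt_add_one htb0.le
    rw [hc] at h1 h3
    rw [abs_lt]; constructor <;> linarith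
  have hd' : |a.arg - b.arg| < Real.pi / 6 := by
    have e : ta - tb = (a.arg - b.arg) * (6 / Real.pi) := by rw [hta, htb]; ring
    rw [e, abs_mul, abs_of_pos (show 0 < 6 / Real.pi by positivity), ← lt_div_iff₀ (by positivity),
      one_div_div] at hd
    exact hd
  have hre : (a * conj b).re = Real.cos (a.arg - b.arg) := by
    have ea := Complex.norm_mul_exp_arg_mul_I a
    have eb := Complex.norm_mul_exp_arg_mul_I b
    rw [hna, Complex.ofReal_one, one_mul] at ea
    rw [hnb, Complex.ofReal_one, one_mul] at eb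
    conv_lhs => rw [← ea, ← eb]
    simp [Complex.mul_re, Complex.exp_ofReal_mul_I_re, Complex.exp_ofReal_mul_I_im, Real.cos_sub]
  rw [hre, ← Real.cos_abs]
  have h6 : Real.cos (Real.pi / 6) < Real.cos |a.arg - b.arg| :=
    Real.cos_lt_cos_of_nonneg_of_le_pi (abs_nonneg _) (by linarith [Real.pi_pos]) hd'
  rw [Real.cos_pi_div_six] at h6
  have h7 : 0 < Real.sqrt 3 := Real.sqrt_pos.mpr (by norm_num)
  have h8 : Real.sqrt 3 ^ 2 = 3 := Real.sq_sqrt (by norm_num)
  refine ⟨by linarith, ?_⟩
  nlinarith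

end Boxes

theorem classInner_self_eq_conj_sum {K : Type u} [Group K] [Fintype K] (f : K → ℂ) :
    (Nat.card K : ℂ) * classInner f f = ∑ z : K, f z * conj (f z) := by
  rw [classInner, ← mul_assoc, mul_inv_cancel₀ (Nat.cast_ne_zero.mpr Nat.card_pos.ne'), one_mul]

section Index

variable {G : Type u} [Group G] [Fintype G] {V : Type v} [AddCommGroup V] [Module ℂ V]
  [FiniteDimensional ℂ V]

/-- An abelian subgroup meets the small closure in index at most `12 ^ n`. -/
theorem index_smallClosure_le (ρ : Representation ℂ G V) (H : Subgroup G)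
    (hH : ∀ x ∈ H, ∀ y ∈ H, x * y = y * x) :
    ((smallClosure ρ).subgroupOf H).index ≤ 12 ^ finrank ℂ V := by
  classical
  haveI := Fintype.ofFinite H
  let ρH : Representation ℂ H V := ρ.comp H.subtype
  have hc := isCharacter_character ρH
  have hlin : ∀ ξ : IrrCharacter H, (ξ : H → ℂ) 1 = 1 :=
    fun ξ => irr_degree_one_of_comm (fun x y => Subtype.ext (hH x x.2 y y.2)) ξ.2
  have hhom : ∀ ξ : IrrCharacter H, ∃ lam : H →* ℂˣ, (ξ : H → ℂ) = fun x => (lam x : ℂ) :=
    fun ξ => exists_hom_of_degree_one (isCharacter_of_isIrr ξ.2) (hlin ξ)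
  choose lam hlam using hhom
  let E : IrrCharacter H → Module.End ℂ V := fun ξ => ∑ x : H, conj ((ξ : H → ℂ) x) • ρH x
  have hEig : ∀ ξ (h : H), ρH h * E ξ = (lam ξ h : ℂ) • E ξ := by
    intro ξ h
    simp only [E, Finset.mul_sum, mul_smul_comm, ← map_mul, Finset.smul_sum, smul_smul]
    refine Fintype.sum_equiv (Equiv.mulLeft h) _ _ fun x => ?_
    congr 1
    rw [← char_inv_eq_conj (isCharacter_of_isIrr ξ.2), ← char_inv_eq_conj (isCharacter_of_isIrr ξ.2),
      hlam ξ]
    simp [mul_comm]
  have hsum : ∑ ξ, E ξ = (Nat.card H : ℂ) • (1 : Module.End ℂ V) := by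
    simp only [E]
    rw [Finset.sum_comm]
    rw [Finset.sum_eq_single (1 : H)]
    · simp only [← Finset.sum_smul, map_one]
      congr 1
      have h1 := sum_degree_sq (G := H)
      simp only [hlin, one_pow] at h1
      simpa [hlin] using h1
    · intro x _ hx
      rw [← Finset.sum_smul]
      have h1 := column_orthogonality (1 : H) x
      rw [if_neg (fun hc => hx (isConj_one_right.mp hc))] at h1
      simp only [hlin, one_mul] at h1
      rw [h1, zero_smul]
    · exact fun h => absurd (Finset.mem_univ _) h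
  have htr : ∀ ξ, LinearMap.trace ℂ V (E ξ) =
      (Nat.card H : ℂ) * mult ρH.character (ξ : H → ℂ) := by
    intro ξ
    rw [← mult_spec hc (isCharacter_of_isIrr ξ.2), classInner, ← mul_assoc,
      mul_inv_cancel₀ (Nat.cast_ne_zero.mpr Nat.card_pos.ne'), one_mul]
    simp only [E, map_sum, map_smul, smul_eq_mul]
    exact Finset.sum_congr rfl fun x _ => by simp [Representation.character, mul_comm]
  let Λ := Finset.univ.filter fun ξ : IrrCharacter H => mult ρH.character (ξ : H → ℂ) ≠ 0
  have hcard : Λ.card ≤ finrank ℂ V := by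
    have h1 := congrFun (character_eq_sum hc) 1
    rw [Representation.char_one, Finset.sum_apply] at h1
    simp only [Pi.smul_apply, hlin, smul_eq_mul, mul_one] at h1
    have h2 : finrank ℂ V = ∑ ξ : IrrCharacter H, mult ρH.character (ξ : H → ℂ) := by
      exact_mod_cast h1
    rw [h2, Finset.card_eq_sum_ones]
    exact le_trans (Finset.sum_le_sum fun ξ hξ =>
      Nat.one_le_iff_ne_zero.mpr (Finset.mem_filter.mp hξ).2)
      (Finset.sum_le_sum_of_subset (Finset.filter_subset _ _))
  have heig : ∀ (h : H) (μ : ℂ) (v : V), v ≠ 0 → ρH h v = μ • v →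
      ∃ ξ ∈ Λ, μ = (lam ξ h : ℂ) := by
    intro h μ v hv hμ
    obtain ⟨ξ, -, hξ⟩ : ∃ ξ ∈ Finset.univ, E ξ v ≠ 0 := by
      apply Finset.exists_ne_zero_of_sum_ne_zero
      rw [← LinearMap.sum_apply, hsum]
      simp [hv]
    have h1 : ρH h (E ξ v) = μ • E ξ v := by
      have hcomm : ρH h * E ξ = E ξ * ρH h := by
        simp only [E, Finset.mul_sum, Finset.sum_mul, mul_smul_comm, smul_mul_assoc, ← map_mul]
        refine Finset.sum_congr rfl fun x _ => ?_
        rw [show h * x = x * h from Subtype.ext (hH h h.2 x x.2)]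
      rw [← Module.End.mul_apply, hcomm, Module.End.mul_apply, hμ, map_smul]
    have h2 : ρH h (E ξ v) = (lam ξ h : ℂ) • E ξ v := LinearMap.congr_fun (hEig ξ h) v
    refine ⟨ξ, Finset.mem_filter.mpr ⟨Finset.mem_univ _, fun h0 => hξ ?_⟩,
      smul_left_injective ℂ hξ (h1.symm.trans h2)⟩
    -- a multiple of an idempotent with zero trace
    set P : Module.End ℂ V := (Nat.card H : ℂ)⁻¹ • E ξ with hP
    have hEE : E ξ * E ξ = (Nat.card H : ℂ) • E ξ := by
      conv_lhs => arg 1; simp only [E]
      rw [Finset.sum_mul]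
      simp only [smul_mul_assoc, hEig, smul_smul]
      rw [← Finset.sum_smul]
      congr 1
      rw [← mul_one (Nat.card H : ℂ), ← irr_inner_self ξ.2, classInner_self_eq_conj_sum]
      exact Finset.sum_congr rfl fun x _ => by rw [congrFun (hlam ξ) x, mul_comm]
    have hidem : IsIdempotentElem P := by
      show P * P = P
      rw [hP, smul_mul_smul_comm, hEE, smul_smul, mul_assoc,
        inv_mul_cancel₀ (Nat.cast_ne_zero.mpr Nat.card_pos.ne'), mul_one]
    have hPr := (LinearMap.IsIdempotentElem.isProj_range P hidem).trace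
    rw [hP, map_smul, htr, h0, Nat.cast_zero, mul_zero, smul_zero] at hPr
    have h3 : finrank ℂ (LinearMap.range P) = 0 := by exact_mod_cast hPr.symm
    rw [Submodule.finrank_eq_zero, LinearMap.range_eq_bot] at h3
    have h4 := LinearMap.congr_fun h3 v
    rw [hP, LinearMap.smul_apply, LinearMap.zero_apply] at h4
    exact (smul_eq_zero.mp h4).resolve_left (inv_ne_zero (Nat.cast_ne_zero.mpr Nat.card_pos.ne'))
  set S := (smallClosure ρ).subgroupOf H
  haveI := Fintype.ofFinite (H ⧸ S)
  let F : H ⧸ S → (Λ → Fin 12) := fun q ξ => ⟨arcBox (lam ξ.1 q.out : ℂ), arcBox_lt _⟩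
  have hF : Function.Injective F := by
    intro q q' h
    rw [← QuotientGroup.out_eq' q, ← QuotientGroup.out_eq' q', QuotientGroup.eq,
      Subgroup.mem_subgroupOf]
    refine Subgroup.subset_closure fun μ v hv hμ => ?_
    obtain ⟨ξ, hξ, rfl⟩ := heig (q.out⁻¹ * q'.out) μ v hv hμ
    have hu : ∀ x : H, Complex.normSq (lam ξ x : ℂ) = 1 := by
      intro x
      have h1 := congrFun (hlam ξ) x⁻¹
      rw [char_inv_eq_conj (isCharacter_of_isIrr ξ.2), congrFun (hlam ξ) x, map_inv] at h1
      rw [← Complex.ofReal_inj, ← Complex.mul_conj, h1, Complex.ofReal_one]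
      simp
    have e : (lam ξ (q.out⁻¹ * q'.out) : ℂ) = (lam ξ q'.out : ℂ) * conj (lam ξ q.out : ℂ) := by
      have h1 := congrFun (hlam ξ) q.out⁻¹
      rw [char_inv_eq_conj (isCharacter_of_isIrr ξ.2), congrFun (hlam ξ) q.out] at h1
      rw [h1, map_mul, Units.val_mul, mul_comm]
    rw [e]
    exact small_of_arcBox_eq (hu _) (hu _) (Fin.val_eq_of_eq (congrFun h ⟨ξ, hξ⟩)).symm
  have h1 := Fintype.card_le_of_injective F hF
  rw [Fintype.card_fun, Fintype.card_fin, Fintype.card_coe] at h1
  rw [Subgroup.index_eq_card, Nat.card_eq_fintype_card]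
  exact h1.trans (Nat.pow_le_pow_right (by norm_num) hcard)

/-- A finite linear group has an abelian normal subgroup of small index in every abelian
subgroup. -/
theorem exists_abelian_normal_index_le {χ : G → ℂ} (hχ : IsCharacter G χ)
    (hfaith : ∀ g : G, χ g = χ 1 → g = 1) :
    ∃ A : Subgroup G, A.Normal ∧ (∀ x ∈ A, ∀ y ∈ A, x * y = y * x) ∧
      ∀ H : Subgroup G, (∀ x ∈ H, ∀ y ∈ H, x * y = y * x) →
        (A.subgroupOf H).index ≤ 12 ^ deg χ := by
  obtain ⟨n, ρ, rfl⟩ := hχ
  have hinj : Function.Injective ρ := fun x y h => by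
    have h1 : ρ (x⁻¹ * y) = 1 := by rw [map_mul, ← h, ← map_mul, inv_mul_cancel, map_one]
    exact inv_mul_eq_one.mp (hfaith _ ((rep_eq_one_iff ρ _).mp h1))
  refine ⟨smallClosure ρ, smallClosure_normal ρ, smallClosure_comm ρ hinj, fun H hH => ?_⟩
  rw [deg_eq_finrank]
  exact index_smallClosure_le ρ H hH

end Index

end Cfsg.Agent.CT
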