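import Cfsg.Agent.Lib.CT.Blichfeldt
import Cfsg.Agent.Lib.CT.SmallElts
import Mathlib.NumberTheory.PrimeCounting

/-!
# The explicit bound for the index of an abelian normal subgroup of a linear group
-/

set_option autoImplicit false

namespace Cfsg.Agent.CT.Blichfeldt

universe u

variable {G : Type u} [Group G] [Finite G]

theorem index_le_factorial_mul {χ : G → ℂ} (hχ : IsCharacter G χ)
    (hfaith : ∀ g : G, χ g = χ 1 → g = 1) {n : ℕ} (hn : deg χ ≤ n) :
    ∃ A : Subgroup G, A.Normal ∧ (∀ x ∈ A, ∀ y ∈ A, x * y = y * x) ∧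
      A.index ≤ Nat.factorial n * 12 ^ (n * (Nat.primeCounting (n + 1) + 1)) := by
  classical
  haveI := Fintype.ofFinite G
  obtain ⟨A, hA, hAc, hAb⟩ := exists_abelian_normal_index_le hχ hfaith
  haveI := hA
  refine ⟨A, hA, hAc, ?_⟩
  set i := A.index with hi
  have hi0 : i ≠ 0 := Subgroup.index_ne_zero_of_finite
  set S := (Finset.range (n + 2)).filter Nat.Prime with hS
  have hle12 : ∀ H : Subgroup G, (∀ x ∈ H, ∀ y ∈ H, x * y = y * x) → A.relIndex H ≤ 12 ^ n :=
    fun H hH => (hAb H hH).trans (Nat.pow_le_pow_right (by norm_num) hn)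
  -- small primes
  have hsmall : ∀ q ∈ S, q ^ i.factorization q ≤ 12 ^ n * q ^ n.factorial.factorization q := by
    intro q hq
    rw [hS, Finset.mem_filter] at hq
    haveI := Fact.mk hq.2
    obtain ⟨P⟩ := (inferInstance : Nonempty (Sylow q G))
    haveI := Fintype.ofFinite (P : Subgroup G)
    have hdeg : deg (fun h : (P : Subgroup G) => χ h) = deg χ := by
      have h1 := deg_eq (isCharacter_restrict (P : Subgroup G) hχ)
      simp only [OneMemClass.coe_one, deg_eq hχ] at h1
      exact_mod_cast h1.symm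
    obtain ⟨H, hHc, hHd⟩ := exists_abelian_index_dvd (isCharacter_restrict (P : Subgroup G) hχ)
      (fun g hg => Subtype.ext (hfaith g (by simpa using hg))) P.isPGroup' (hdeg.trans_le hn)
    set H' := H.map (P : Subgroup G).subtype with hH'
    have hH'le : H' ≤ P := Subgroup.map_subtype_le H
    have hrel : H'.relIndex P = H.index := by
      rw [Subgroup.relIndex, hH', Subgroup.subgroupOf,
        Subgroup.comap_map_eq_self_of_injective (P : Subgroup G).subtype_injective]
    have h1 : i ∣ (A ⊓ P).index := Subgroup.index_dvd_of_le inf_le_left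
    rw [← Subgroup.relIndex_mul_index (inf_le_right : A ⊓ (P : Subgroup G) ≤ P),
      Subgroup.inf_relIndex_right] at h1
    have h2 : q ^ i.factorization q ∣ A.relIndex P :=
      (((Nat.Prime.coprime_iff_not_dvd hq.2).mpr P.not_dvd_index).pow_left _).dvd_of_dvd_mul_right
        ((Nat.ordProj_dvd i q).trans h1)
    have h3 : A.relIndex P ∣ A.relIndex H' * H.index := by
      rw [← hrel]
      have h4 := Subgroup.relIndex_dvd_of_le_left (P : Subgroup G)
        (inf_le_left : A ⊓ H' ≤ A)
      rw [← Subgroup.relIndex_mul_relIndex _ _ _ (inf_le_right : A ⊓ H' ≤ H') hH'le,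
        Subgroup.inf_relIndex_right] at h4
      exact h4
    have hposA : 0 < A.relIndex H' * H.index := Nat.pos_of_ne_zero (mul_ne_zero
      (Subgroup.index_ne_zero_of_finite (H := A.subgroupOf H')) Subgroup.index_ne_zero_of_finite)
    refine (Nat.le_of_dvd hposA (h2.trans h3)).trans (Nat.mul_le_mul ?_ ?_)
    · refine hle12 H' ?_
      rintro x ⟨a, ha, rfl⟩ y ⟨b, hb, rfl⟩
      rw [← map_mul, ← map_mul, hHc a ha b hb]
    · obtain ⟨k, hk⟩ := P.isPGroup'.exists_card_eq
      obtain ⟨j, -, hj⟩ := (Nat.dvd_prime_pow hq.2).mp (hk ▸ H.index_dvd_card)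
      rw [hj] at hHd ⊢
      exact Nat.pow_le_pow_right hq.2.pos
        ((hq.2.pow_dvd_iff_le_factorization n.factorial_ne_zero).mp hHd)
  -- large primes
  obtain ⟨B, hBc, -, hBi⟩ := hasHall_of_faithful _ G χ n le_rfl hχ hfaith hn
  have hlarge : ∏ q ∈ i.primeFactors \ S, q ^ i.factorization q ≤ 12 ^ n := by
    have h1 : i ∣ (A ⊓ B).index := Subgroup.index_dvd_of_le inf_le_left
    rw [← Subgroup.relIndex_mul_index (inf_le_right : A ⊓ B ≤ B),
      Subgroup.inf_relIndex_right] at h1
    refine (Nat.le_of_dvd (Nat.pos_of_ne_zero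
      (Subgroup.index_ne_zero_of_finite (H := A.subgroupOf B))) ?_).trans (hle12 B hBc)
    have h2 : ∏ q ∈ i.primeFactors \ S, q ^ i.factorization q ∣ i := by
      conv_rhs => rw [← Nat.prod_factorization_pow_eq_self hi0]
      rw [Finsupp.prod, Nat.support_factorization]
      exact Finset.prod_dvd_prod_of_subset _ _ _ Finset.sdiff_subset
    refine (Nat.Coprime.prod_left fun q hq => ?_).dvd_of_dvd_mul_right (h2.trans h1)
    rw [Finset.mem_sdiff, Nat.mem_primeFactors, hS, Finset.mem_filter, Finset.mem_range] at hq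
    refine ((hq.1.1.coprime_iff_not_dvd).mpr fun h => hq.2 ⟨?_, hq.1.1⟩).pow_left _
    have := hBi q hq.1.1 h
    omega
  have hfac : ∏ q ∈ S, q ^ n.factorial.factorization q ≤ n.factorial := by
    refine Nat.le_of_dvd n.factorial_pos ?_
    conv_rhs => rw [← Nat.prod_factorization_pow_eq_self n.factorial_ne_zero]
    rw [Finsupp.prod, ← Finset.prod_filter_of_ne (p := fun q => q ∈ n.factorial.primeFactors)]
    · refine Finset.prod_dvd_prod_of_subset _ _ _ fun q hq => ?_
      rw [Nat.support_factorization]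
      exact (Finset.mem_filter.mp hq).2
    · intro q _ hq
      rw [← Nat.support_factorization, Finsupp.mem_support_iff]
      exact fun h => hq (by rw [h, pow_zero])
  have hcard : S.card = Nat.primeCounting (n + 1) := by
    rw [Nat.primeCounting, Nat.primeCounting', Nat.count_eq_card_filter_range]
  calc i = ∏ q ∈ i.primeFactors, q ^ i.factorization q := by
          conv_lhs => rw [← Nat.prod_factorization_pow_eq_self hi0]
          rw [Finsupp.prod, Nat.support_factorization]
    _ = (∏ q ∈ i.primeFactors ∩ S, q ^ i.factorization q) *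
          ∏ q ∈ i.primeFactors \ S, q ^ i.factorization q :=
          (Finset.prod_inter_mul_prod_sdiff _ _ _).symm
    _ ≤ (∏ q ∈ S, q ^ i.factorization q) * 12 ^ n := by
          refine Nat.mul_le_mul (Nat.le_of_dvd (Finset.prod_pos fun q hq => ?_) ?_) hlarge
          · exact pow_pos (Finset.mem_filter.mp hq).2.pos _
          · exact Finset.prod_dvd_prod_of_subset _ _ _ Finset.inter_subset_right
    _ ≤ ((12 ^ n) ^ S.card * n.factorial) * 12 ^ n := by
          refine Nat.mul_le_mul_right _ ((Finset.prod_le_prod' hsmall).trans ?_)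
          rw [Finset.prod_mul_distrib, Finset.prod_const]
          exact Nat.mul_le_mul_left _ hfac
    _ = n.factorial * 12 ^ (n * (Nat.primeCounting (n + 1) + 1)) := by
          rw [hcard, ← pow_mul]
          ring

end Cfsg.Agent.CT.Blichfeldt
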