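import Cfsg.Agent.Lib.CoprimeExt.Gallagher
import Cfsg.Agent.Lib.CT.CliffordLe
import Cfsg.Agent.Lib.Blocks.Defect

/-!
# Twisting an induced character by linear characters
-/

set_option linter.all false

namespace Cfsg.Agent.CT

open scoped ComplexConjugate

universe u

variable {G : Type u} [Group G]

/-- A non-commutative minimal normal subgroup lies in the derived subgroup. -/
theorem le_commutator_of_minimal (N : Subgroup G) (hN : N.Normal)
    (hmin : ∀ M : Subgroup G, M.Normal → M ≤ N → M = ⊥ ∨ M = N) (hna : ¬ IsMulCommutative ↥N) :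
    N ≤ commutator G := by
  haveI := hN
  rcases hmin ⁅N, N⁆ inferInstance (Subgroup.commutator_le_right N N) with h | h
  · exact absurd ⟨⟨fun a b => Subtype.ext (commutatorElement_eq_one_iff_mul_comm.mp
      (Subgroup.mem_bot.mp (h ▸ Subgroup.commutator_mem_commutator a.2 b.2)))⟩⟩ hna
  · rw [← h, commutator_def]
    exact Subgroup.commutator_mono le_top le_top

/-- The number of linear characters trivial on a subgroup is at most its index. -/
theorem card_hom_trivial_le [Finite G] (I : Subgroup G) :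
    Nat.card {f : G →* ℂˣ // ∀ x ∈ I, f x = 1} ≤ I.index := by
  classical
  haveI := Fintype.ofFinite G
  let K : Subgroup G := I ⊔ commutator G
  haveI : K.Normal := Subgroup.Normal.of_commutator_le G (H := K) le_sup_right
  have hK : ∀ f : {f : G →* ℂˣ // ∀ x ∈ I, f x = 1}, K ≤ f.1.ker := fun f =>
    sup_le (fun x hx => f.2 x hx) (Abelianization.commutator_subset_ker f.1)
  haveI := Fintype.ofFinite (G ⧸ K)
  let F : {f : G →* ℂˣ // ∀ x ∈ I, f x = 1} → IrrCharacter (G ⧸ K) := fun f =>
    ⟨fun q => (QuotientGroup.lift K f.1 (hK f) q : ℂˣ),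
      isIrrCharacter_lin (QuotientGroup.lift K f.1 (hK f))⟩
  have hF : Function.Injective F := fun a b h => Subtype.ext (MonoidHom.ext fun g => Units.ext (by
    have := congrFun (congrArg Subtype.val h) (g : G ⧸ K)
    simpa [F] using this))
  refine (Nat.card_le_card_of_injective F hF).trans ?_
  rw [card_irr_eq_card_conjClasses]
  refine (Nat.card_le_card_of_surjective ConjClasses.mk ConjClasses.mk_surjective).trans ?_
  exact Nat.le_of_dvd (Nat.pos_of_ne_zero Subgroup.index_ne_zero_of_finite)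
    (Subgroup.index_dvd_of_le le_sup_left)

/-- Twisting an induced character by linear characters: at most `[G : I]` collisions. -/
theorem card_linear_le [Fintype G] (N : Subgroup G) [hN : N.Normal] (hNG : N ≤ commutator G)
    (φ : IrrCharacter N) (I : Subgroup G)
    (hI : ∀ g : G, g ∈ I ↔ ∀ n n' : ↥N, (n' : G) = g * (n : G) * g⁻¹ →
      (φ : ↥N → ℂ) n' = (φ : ↥N → ℂ) n) (hNI : N ≤ I) [Fintype I] (ψ : IrrCharacter I)
    (hψ : ∀ n : ↥N, (ψ : ↥I → ℂ) (Subgroup.inclusion hNI n) = (φ : ↥N → ℂ) n)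
    (P Q : IrrCharacter G → Prop)
    (hPQ : ∀ lam χ : IrrCharacter G, charDegree (lam : G → ℂ) = 1 → P lam →
      ((χ : G → ℂ) = indFun I (ψ : I → ℂ) * (lam : G → ℂ)) → Q χ) :
    Nat.card {χ : IrrCharacter G // charDegree (χ : G → ℂ) = 1 ∧ P χ} ≤
      I.index * Nat.card {χ : IrrCharacter G //
        charDegree (χ : G → ℂ) = charDegree (φ : ↥N → ℂ) * I.index ∧ Q χ} := by
  classical
  haveI := Fintype.ofFinite N
  let A := {χ : IrrCharacter G // charDegree (χ : G → ℂ) = 1 ∧ P χ}
  let B := {χ : IrrCharacter G //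
        charDegree (χ : G → ℂ) = charDegree (φ : ↥N → ℂ) * I.index ∧ Q χ}
  have hhom : ∀ a : A, ∃ f : G →* ℂˣ, ((a.1 : IrrCharacter G) : G → ℂ) = fun g => (f g : ℂ) :=
    fun a => exists_hom_of_degree_one (isCharacter_of_isIrr a.1.2)
      (by rw [Blocks.charDegree_cast, a.2.1, Nat.cast_one])
  choose f hf using hhom
  have hfN : ∀ a, ∀ n ∈ N, f a n = 1 := fun a n hn =>
    MonoidHom.mem_ker.mp (Abelianization.commutator_subset_ker (f a) (hNG hn))
  let η : A → IrrCharacter I := fun a =>
    ⟨fun t => (f a t : ℂ), isIrrCharacter_lin ((f a).comp I.subtype)⟩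
  have hinert : inertia N (φ : N → ℂ) ≤ I := by
    intro g hg
    rw [hI]
    intro n n' h
    have := congrFun ((mem_inertia N).mp hg) n
    rw [← this]
    exact congrArg _ (Subtype.ext (by simp [h]))
  let L : Subgroup I := N.subgroupOf I
  haveI := Fintype.ofFinite L
  let e : L ≃* N := Subgroup.subgroupOfEquivOfLe hNI
  let φ' : IrrCharacter L := ⟨fun m => (φ : N → ℂ) (e m),
    isIrrCharacter_comp e.toMonoidHom e.surjective φ.2⟩
  have hext : ∀ m : L, (ψ : I → ℂ) m = (φ' : L → ℂ) m := fun m => by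
    show _ = (φ : N → ℂ) (e m)
    rw [← hψ]
    rfl
  have hη1 : ∀ a, classInner (fun m : L => (η a : I → ℂ) m) (fun _ => (1 : ℂ)) ≠ 0 := fun a => by
    rw [show (fun m : L => (η a : I → ℂ) m) = fun _ => (1 : ℂ) from funext fun m => by
      simp [η, hfN a _ (Subgroup.mem_subgroupOf.mp m.2)], irr_inner_self isIrrCharacter_one]
    exact one_ne_zero
  have horth := fun a b => CoprimeExt.inner_mul_ext L ψ φ' hext (η a) (η b) (hη1 a) (hη1 b)
  have hirr : ∀ a, IsIrrCharacter I ((η a : I → ℂ) * (ψ : I → ℂ)) := fun a =>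
    isIrr_of_inner_self (isCharacter_mul (isCharacter_of_isIrr (η a).2)
      (isCharacter_of_isIrr ψ.2)) (by rw [horth, if_pos rfl])
  have hover : ∀ a, classInner (resTo N I hNI ((η a : I → ℂ) * (ψ : I → ℂ))) (φ : N → ℂ) ≠ 0 :=
    fun a => by
      rw [show resTo N I hNI ((η a : I → ℂ) * (ψ : I → ℂ)) = (φ : N → ℂ) from funext fun n => by
        show (η a : I → ℂ) _ * (ψ : I → ℂ) _ = _
        rw [show (⟨n, hNI n.2⟩ : I) = Subgroup.inclusion hNI n from rfl, hψ]
        simp [η, hfN a _ n.2], irr_inner_self φ.2]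
      exact one_ne_zero
  have hmul : ∀ a, indFun I ((η a : I → ℂ) * (ψ : I → ℂ)) =
      indFun I (ψ : I → ℂ) * ((a.1 : IrrCharacter G) : G → ℂ) := fun a => by
    rw [← indFun_mul_restrict I (ψ : I → ℂ) (isClassFunction_of_isIrr a.1.2), mul_comm]
    congr 2
    funext t
    simp [η, hf a]
  let Φ : A → B := fun a =>
    ⟨⟨indFun I (ψ : I → ℂ) * ((a.1 : IrrCharacter G) : G → ℂ), hmul a ▸
      (isIrr_indFun_of_over_le N φ.2 I hinert hNI (hirr a) (hover a)).1⟩, by
      have h1 : (indFun I (ψ : I → ℂ) * ((a.1 : IrrCharacter G) : G → ℂ)) 1 =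
          ((charDegree (φ : ↥N → ℂ) * I.index : ℕ) : ℂ) := by
        rw [Pi.mul_apply, indFun_one_eval, Blocks.charDegree_cast a.1, a.2.1, Nat.cast_one,
          mul_one, Nat.cast_mul, mul_comm]
        congr 1
        rw [← Blocks.charDegree_cast φ, ← hψ 1]
        exact congrArg _ (map_one _).symm
      simp only [charDegree] at h1 ⊢
      rw [h1]
      simp [← Nat.cast_mul], hPQ a.1 _ a.2.1 a.2.2 rfl⟩
  haveI := Fintype.ofFinite A
  haveI := Fintype.ofFinite B
  have hfib : ∀ b ∈ Finset.univ.image Φ,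
      ((Finset.univ : Finset A).filter fun a => Φ a = b).card ≤ I.index := by
    intro b hb
    obtain ⟨a₀, -, rfl⟩ := Finset.mem_image.mp hb
    refine le_trans ?_ (card_hom_trivial_le I)
    rw [← Fintype.card_subtype, ← Nat.card_eq_fintype_card]
    have hres : ∀ a, Φ a = Φ a₀ → ∀ x ∈ I, f a x = f a₀ x := fun a ha x hx => by
      have h1 : indFun I ((η a : I → ℂ) * (ψ : I → ℂ)) =
          indFun I ((η a₀ : I → ℂ) * (ψ : I → ℂ)) := by
        rw [hmul, hmul]
        exact congrArg (fun c : B => ((c.1 : IrrCharacter G) : G → ℂ)) ha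
      have h2 := indFun_injective_of_over_le N φ.2 I hinert hNI
        (ψ := ⟨_, hirr a⟩) (ψ' := ⟨_, hirr a₀⟩) (hover a) (hover a₀) h1
      have h3 := horth a a₀
      rw [show (η a : I → ℂ) * (ψ : I → ℂ) = (η a₀ : I → ℂ) * (ψ : I → ℂ) from
        congrArg Subtype.val h2, horth, if_pos rfl] at h3
      by_cases he : η a = η a₀
      · exact Units.ext (congrFun (congrArg Subtype.val he) ⟨x, hx⟩)
      · rw [if_neg he] at h3; exact absurd h3 one_ne_zero
    haveI : Finite {g : G →* ℂˣ // ∀ x ∈ I, g x = 1} := inferInstance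
    refine Nat.card_le_card_of_injective (fun a : {a : A // Φ a = Φ a₀} =>
      (⟨f a.1 / f a₀, fun x hx => by rw [MonoidHom.div_apply, hres _ a.2 x hx, div_self']⟩ :
        {g : G →* ℂˣ // ∀ x ∈ I, g x = 1})) ?_
    intro a b h
    have h' : f a.1 = f b.1 := div_left_injective (congrArg Subtype.val h)
    exact Subtype.ext (Subtype.ext (Subtype.ext ((hf a.1).trans (h' ▸ (hf b.1).symm))))
  calc Nat.card A = (Finset.univ : Finset A).card := by
        rw [Nat.card_eq_fintype_card, Finset.card_univ]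
    _ ≤ I.index * (Finset.univ.image Φ).card := Finset.card_le_mul_card_image _ _ hfib
    _ ≤ I.index * Nat.card B := Nat.mul_le_mul_left _ (by
        rw [Nat.card_eq_fintype_card]; exact Finset.card_le_univ _)

end Cfsg.Agent.CT
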