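import Cfsg.Agent.Lib.CT.Blichfeldt
import Cfsg.Agent.Lib.CT.Degree
import Mathlib.GroupTheory.PGroup
import Mathlib.GroupTheory.Abelianization.Defs

/-!
# Simple groups with many classes have abelian Sylow subgroups
-/

namespace Cfsg.Agent.CT

open scoped ComplexConjugate Classical commutatorElement

universe u

/-- A normal subgroup of a `p`-group meets the centre. -/
theorem exists_central_in_normal {P : Type u} [Group P] [Finite P] {p : ℕ} [hp : Fact p.Prime]
    (hP : IsPGroup p P) (N : Subgroup P) [N.Normal] (hN : N ≠ ⊥) :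
    ∃ z ∈ N, z ∈ Subgroup.center P ∧ orderOf z = p := by
  letI : MulAction P N := MulAction.compHom N (MulAut.conjNormal (H := N))
  have hd : p ∣ Nat.card N := by
    obtain ⟨t, ht⟩ := IsPGroup.iff_card.mp (hP.to_subgroup N)
    rw [ht]
    refine dvd_pow_self p fun h => hN ?_
    rw [← Subgroup.card_eq_one, ht, h, pow_zero]
  have hfix : (1 : N) ∈ MulAction.fixedPoints P N := fun g => map_one (MulAut.conjNormal g)
  obtain ⟨w, hw, hw1⟩ := hP.exists_fixed_point_of_prime_dvd_card_of_fixed_point N hd hfix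
  have hc : (w : P) ∈ Subgroup.center P := Subgroup.mem_center_iff.mpr fun g => by
    have h := congrArg (fun v : N => (v : P)) (hw g)
    change g * (w : P) * g⁻¹ = (w : P) at h
    exact mul_inv_eq_iff_eq_mul.mp h
  obtain ⟨t, ht⟩ := IsPGroup.iff_orderOf.mp hP (w : P)
  have ht0 : t ≠ 0 := fun h => hw1 (Subtype.ext (by
    rw [h, pow_zero, orderOf_eq_one_iff] at ht; exact ht.symm))
  refine ⟨(w : P) ^ p ^ (t - 1), N.pow_mem w.2 _, Subgroup.pow_mem _ hc _, ?_⟩
  rw [orderOf_pow_of_dvd (pow_ne_zero _ hp.out.ne_zero) (ht ▸ pow_dvd_pow p (Nat.sub_le t 1)), ht,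
    Nat.pow_div (Nat.sub_le t 1) hp.out.pos, show t - (t - 1) = 1 by omega, pow_one]

variable {G : Type u} [Group G] [Fintype G]

/-- The degrees of the constituents of the restriction to a `p`-subgroup. -/
theorem deg_constituent_pGroup {p : ℕ} [hp : Fact p.Prime] {P : Type u} [Group P] [Fintype P]
    (hP : IsPGroup p P) (η : IrrCharacter P) (h1 : deg (η : P → ℂ) ≠ 1) :
    p ≤ deg (η : P → ℂ) := by
  have hd : deg (η : P → ℂ) ∣ (⊥ : Subgroup P).index :=
    deg_dvd_index_of_comm ⊥ η.2 fun a b => Subsingleton.elim _ _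
  obtain ⟨t, ht⟩ := IsPGroup.iff_card.mp hP
  rw [Subgroup.index_bot, ht] at hd
  obtain ⟨i, -, hi⟩ := (Nat.dvd_prime_pow hp.out).mp hd
  have hi0 : i ≠ 0 := fun h => h1 (by rw [hi, h, pow_zero])
  rw [hi]
  exact Nat.le_self_pow hi0 p

/-- A simple group with more than `|G| / p²` classes has abelian Sylow `p`-subgroups. -/
theorem comm_of_many_classes [IsSimpleGroup G] {p : ℕ} [hp : Fact p.Prime]
    (hmany : Nat.card G < p ^ 2 * Nat.card (ConjClasses G)) (P : Sylow p G) (a b : G)
    (ha : a ∈ P) (hb : b ∈ P) : a * b = b * a := by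
  by_contra hab
  letI := Fintype.ofFinite (P : Subgroup G)
  set a' : (P : Subgroup G) := ⟨a, ha⟩
  set b' : (P : Subgroup G) := ⟨b, hb⟩
  have hab' : a' * b' ≠ b' * a' := fun h => hab (congrArg Subtype.val h)
  -- the Sylow subgroup has order at least `p³`
  obtain ⟨t, ht⟩ := IsPGroup.iff_card.mp P.2
  have ht3 : 3 ≤ t := by
    by_contra hlt
    push_neg at hlt
    apply hab'
    rcases Nat.lt_or_ge t 2 with h | h
    · haveI : IsCyclic (P : Subgroup G) := isCyclic_of_card_dvd_prime (p := p)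
        (by rw [ht]; exact (pow_dvd_pow p (Nat.le_of_lt_succ h)).trans (by rw [pow_one]))
      exact IsCyclic.commGroup.mul_comm a' b'
    · exact IsPGroup.commutative_of_card_eq_prime_sq (p := p)
        (by rw [ht, show t = 2 by omega]) a' b'
  have hcom : commutator (P : Subgroup G) ≠ ⊥ := fun h => by
    have hm : ⁅a', b'⁆ ∈ commutator (P : Subgroup G) :=
      Subgroup.commutator_mem_commutator (Subgroup.mem_top _) (Subgroup.mem_top _)
    rw [h, Subgroup.mem_bot, commutatorElement_eq_one_iff_mul_comm] at hm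
    exact hab' hm
  obtain ⟨z, hzC, hzc, hzp⟩ := exists_central_in_normal P.2 _ hcom
  have hzp' : z ^ p = 1 := orderOf_dvd_iff_pow_eq_one.mp hzp.dvd
  have hlin : ∀ η : IrrCharacter (P : Subgroup G), deg (η : ↥(P : Subgroup G) → ℂ) = 1 → ∀ i : ℕ,
      (η : ↥(P : Subgroup G) → ℂ) (z ^ i) = (η : ↥(P : Subgroup G) → ℂ) 1 := by
    intro η h1 i
    obtain ⟨lam, hlam⟩ := exists_hom_of_degree_one (isCharacter_of_isIrr η.2)
      (by rw [deg_eq (isCharacter_of_isIrr η.2), h1, Nat.cast_one])
    rw [hlam]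
    show ((lam (z ^ i) : ℂˣ) : ℂ) = (lam 1 : ℂˣ)
    rw [map_pow, Abelianization.commutator_subset_ker lam hzC, one_pow, map_one]
  -- sums over the powers of the central element
  have hsum : ∀ η : IrrCharacter (P : Subgroup G),
      ∑ i ∈ Finset.range p, conj ((η : ↥(P : Subgroup G) → ℂ) (z ^ i)) =
        if (η : ↥(P : Subgroup G) → ℂ) z = (η : ↥(P : Subgroup G) → ℂ) 1 then
          (p : ℂ) * (η : ↥(P : Subgroup G) → ℂ) 1 else 0 := by
    intro η
    obtain ⟨d, ρ, hρ, he⟩ := η.2
    haveI := hρ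
    obtain ⟨ω, hω, -⟩ := central_scalar ρ hzc
    have hpow : ∀ i : ℕ, (η : ↥(P : Subgroup G) → ℂ) (z ^ i) = ω ^ i * (d : ℂ) := fun i => by
      rw [← he, Representation.character, map_pow, hω, smul_pow]
      simp [← Module.End.one_eq_id]
    have hd : (d : ℂ) ≠ 0 := by
      intro h0
      apply irr_one_ne_zero η.2
      have := hpow 0
      rw [pow_zero] at this
      rw [this, h0, mul_zero]
    have hwp : ω ^ p = 1 := by
      have h := hpow p
      rw [hzp', ← pow_zero z, hpow 0, pow_zero] at h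
      exact (mul_right_cancel₀ hd h).symm
    have hz0 : (η : ↥(P : Subgroup G) → ℂ) 1 = (d : ℂ) := by simpa using hpow 0
    have hz1 : (η : ↥(P : Subgroup G) → ℂ) z = ω * (d : ℂ) := by simpa using hpow 1
    simp only [hpow, hz0, hz1, map_mul, map_pow, map_natCast, ← Finset.sum_mul]
    by_cases h : ω = 1
    · simp [h]
    · rw [if_neg fun h' => h (mul_right_cancel₀ hd (h'.trans (one_mul _).symm)),
        geom_sum_eq fun h' => h (by simpa using congrArg conj h'), ← map_pow, hwp, map_one,
        sub_self, zero_div, zero_mul]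
  -- faithfulness
  have hfaith : ∀ χ : IrrCharacter G, χ ≠ trivIrr G → ∀ g : G,
      (χ : G → ℂ) g = (χ : G → ℂ) 1 → g = 1 := by
    intro χ hne g hg
    have hc := isCharacter_of_isIrr χ.2
    rcases Subgroup.Normal.eq_bot_or_eq_top (Blichfeldt.kerChar_normal hc) with h | h
    · exact (Subgroup.eq_bot_iff_forall _).mp h g ((mem_kerChar_iff hc).mpr hg)
    · exfalso
      apply hne
      refine Subtype.ext (eq_of_inner_ne_zero χ.2 isIrrCharacter_one ?_)
      have hconst : (χ : G → ℂ) = (χ : G → ℂ) 1 • fun _ : G => (1 : ℂ) := funext fun x => by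
        simp [(mem_kerChar_iff hc).mp (h ▸ Subgroup.mem_top x : x ∈ kerChar (χ : G → ℂ))]
      rw [hconst, classInner_smul_left]
      show (χ : G → ℂ) 1 * classInner (fun _ : G => (1 : ℂ)) (fun _ => 1) ≠ 0
      rw [irr_inner_self isIrrCharacter_one, mul_one]
      exact irr_one_ne_zero χ.2
  set A : IrrCharacter G → ℂ := fun χ =>
    ∑ i ∈ Finset.range p, conj ((χ : G → ℂ) ((z : G) ^ i))
  -- every nontrivial character has a constituent not trivial on `z`
  have hA : ∀ χ : IrrCharacter G, χ ≠ trivIrr G → ∃ r : ℕ, A χ = ((p * r : ℕ) : ℂ) ∧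
      r + p ≤ deg (χ : G → ℂ) := by
    intro χ hne
    set f : ↥(P : Subgroup G) → ℂ := fun x => (χ : G → ℂ) x
    have hf : IsCharacter (P : Subgroup G) f := isCharacter_restrict _ (isCharacter_of_isIrr χ.2)
    set Fix := Finset.univ.filter fun η : IrrCharacter (P : Subgroup G) =>
      (η : ↥(P : Subgroup G) → ℂ) z = (η : ↥(P : Subgroup G) → ℂ) 1
    refine ⟨∑ η ∈ Fix, mult f η * deg (η : ↥(P : Subgroup G) → ℂ), ?_, ?_⟩
    · have e : ∀ i, (χ : G → ℂ) ((z : G) ^ i) = f (z ^ i) := fun i => by simp [f]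
      simp only [A, e]
      rw [character_eq_sum hf]
      simp only [Finset.sum_apply, Pi.smul_apply, smul_eq_mul, map_sum, map_mul, map_natCast]
      rw [Finset.sum_comm]
      simp only [← Finset.mul_sum, hsum]
      push_cast
      rw [Finset.mul_sum, Finset.sum_filter]
      refine Finset.sum_congr rfl fun η _ => ?_
      rw [← character_eq_sum hf, ← deg_eq (isCharacter_of_isIrr η.2)]
      split_ifs <;> ring
    · obtain ⟨η₀, hm0, hη₀⟩ : ∃ η : IrrCharacter (P : Subgroup G),
          mult f η ≠ 0 ∧ η ∉ Fix := by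
        by_contra hno
        push_neg at hno
        have h := Blichfeldt.eq_one_of_forall_constituent hf (g := z) (fun g hg =>
          Subtype.ext (hfaith χ hne g (by simpa [f] using hg))) fun η hη =>
            (mem_kerChar_iff (isCharacter_of_isIrr η.2)).mpr (Finset.mem_filter.mp (hno η hη)).2
        rw [h, orderOf_one] at hzp
        exact hp.out.ne_one hzp.symm
      have hd0 : p ≤ deg (η₀ : ↥(P : Subgroup G) → ℂ) := deg_constituent_pGroup P.2 η₀ fun h1 =>
        hη₀ (Finset.mem_filter.mpr ⟨Finset.mem_univ _, by simpa using hlin η₀ h1 1⟩)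
      have htot : deg (χ : G → ℂ) = ∑ η : IrrCharacter (P : Subgroup G),
          mult f η * deg (η : ↥(P : Subgroup G) → ℂ) := by
        apply Nat.cast_injective (R := ℂ)
        rw [← deg_eq (isCharacter_of_isIrr χ.2)]
        push_cast
        have h := congrFun (character_eq_sum hf) 1
        simp only [Finset.sum_apply, Pi.smul_apply, smul_eq_mul, f, OneMemClass.coe_one] at h
        exact h.trans (Finset.sum_congr rfl fun η _ => by rw [deg_eq (isCharacter_of_isIrr η.2)])
      rw [htot, ← Finset.sum_sdiff (Finset.subset_univ Fix), add_comm]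
      refine Nat.add_le_add_right (hd0.trans ?_) _
      refine le_trans (Nat.le_mul_of_pos_left _ (Nat.pos_of_ne_zero hm0)) ?_
      exact Finset.single_le_sum (f := fun η : IrrCharacter (P : Subgroup G) => mult f η * deg (η : ↥(P : Subgroup G) → ℂ)) (fun η _ => Nat.zero_le _)
        (Finset.mem_sdiff.mpr ⟨Finset.mem_univ _, hη₀⟩)
  have htriv : A (trivIrr G) = (p : ℂ) := by simp [A]
  have horth : ∑ χ : IrrCharacter G, (χ : G → ℂ) 1 * A χ = (Nat.card G : ℂ) := by
    simp only [A, Finset.mul_sum]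
    rw [Finset.sum_comm, Finset.sum_congr rfl fun i _ => column_orthogonality 1 ((z : G) ^ i),
      Finset.sum_eq_single 0]
    · rw [pow_zero, if_pos (IsConj.refl _),
        show Subgroup.centralizer ({(1 : G)} : Set G) = ⊤ from eq_top_iff.mpr fun x _ =>
          Subgroup.mem_centralizer_singleton_iff.mpr (by simp), Subgroup.card_top]
    · intro i hi hi0
      rw [if_neg]
      intro hc
      have h1 : (z : G) ^ i = 1 := (isConj_one_right.mp hc)
      have h2 : orderOf (z : G) ∣ i := orderOf_dvd_of_pow_eq_one h1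
      rw [Subgroup.orderOf_coe, hzp] at h2
      have := Nat.le_of_dvd (Nat.pos_of_ne_zero hi0) h2
      have := Finset.mem_range.mp hi
      omega
    · simp [hp.out.pos]
  choose r hr hrle using hA
  set T := Finset.univ.erase (trivIrr G) with hT
  have hnat : Nat.card G = p + p * ∑ χ ∈ T.attach,
      deg ((χ : IrrCharacter G) : G → ℂ) * r χ (Finset.ne_of_mem_erase χ.2) := by
    apply Nat.cast_injective (R := ℂ)
    rw [← horth, ← Finset.add_sum_erase _ _ (Finset.mem_univ (trivIrr G)), htriv, trivIrr_apply,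
      one_mul, ← hT, ← Finset.sum_attach T]
    push_cast
    rw [Finset.mul_sum]
    congr 1
    refine Finset.sum_congr rfl fun χ _ => ?_
    rw [hr _ (Finset.ne_of_mem_erase χ.2), deg_eq (isCharacter_of_isIrr (χ : IrrCharacter G).2)]
    push_cast
    ring
  have hsq : Nat.card G = 1 + ∑ χ ∈ T.attach, deg ((χ : IrrCharacter G) : G → ℂ) ^ 2 := by
    apply Nat.cast_injective (R := ℂ)
    rw [← sum_degree_sq, ← Finset.add_sum_erase _ _ (Finset.mem_univ (trivIrr G)), trivIrr_apply,
      one_pow, ← hT, ← Finset.sum_attach T]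
    push_cast
    congr 1
    exact Finset.sum_congr rfl fun χ _ => by rw [deg_eq (isCharacter_of_isIrr (χ : IrrCharacter G).2)]
  have hk : Nat.card (ConjClasses G) = T.attach.card + 1 := by
    rw [← card_irr_eq_card_conjClasses, Finset.card_attach, hT,
      Finset.card_erase_of_mem (Finset.mem_univ _), Finset.card_univ, ← Nat.card_eq_fintype_card,
      Nat.sub_add_cancel (Nat.card_pos_iff.mpr ⟨⟨trivIrr G⟩, inferInstance⟩)]
  have hterm : ∀ χ ∈ T.attach, deg ((χ : IrrCharacter G) : G → ℂ) * r χ (Finset.ne_of_mem_erase χ.2) +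
      p ^ 2 ≤ deg ((χ : IrrCharacter G) : G → ℂ) ^ 2 := fun χ _ => by
    have h := hrle χ (Finset.ne_of_mem_erase χ.2)
    calc _ ≤ deg ((χ : IrrCharacter G) : G → ℂ) * r χ (Finset.ne_of_mem_erase χ.2) +
          deg ((χ : IrrCharacter G) : G → ℂ) * p := by
            rw [pow_two]; exact Nat.add_le_add_left (Nat.mul_le_mul_right p (by omega)) _
      _ ≤ _ := by rw [← Nat.mul_add, pow_two]; exact Nat.mul_le_mul_left _ h
  have hle := Finset.sum_le_sum hterm
  rw [Finset.sum_add_distrib, Finset.sum_const, smul_eq_mul] at hle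
  have hdvd : p * p ^ 2 ∣ Nat.card G := by
    rw [← pow_succ']
    exact (pow_dvd_pow p ht3).trans (ht ▸ (P : Subgroup G).card_subgroup_dvd_card)
  obtain ⟨m, hm⟩ := hdvd
  rw [hk] at hmany
  have hp2 : 0 < p := hp.out.pos
  have hS : p ^ 2 * m = 1 + ∑ χ ∈ T.attach,
      deg ((χ : IrrCharacter G) : G → ℂ) * r χ (Finset.ne_of_mem_erase χ.2) := by
    refine Nat.eq_of_mul_eq_mul_left hp2 ?_
    rw [Nat.mul_add, mul_one, ← hnat, hm, mul_assoc]
  have hm1 : p ^ 2 ≤ p ^ 2 * m := Nat.le_mul_of_pos_right _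
    (Nat.pos_of_ne_zero fun h => Nat.card_pos.ne' (hm.trans (by rw [h, mul_zero])))
  rw [Nat.mul_succ] at hmany
  rw [mul_comm T.attach.card] at hle
  omega

end Cfsg.Agent.CT
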