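import Cfsg.Agent.Lib.CT.Tables
import Cfsg.Agent.Lib.CT.Kernel
import Mathlib.GroupTheory.Solvable
import Mathlib.Algebra.Polynomial.BigOperators

/-!
# Further elementary consequences
-/

namespace Cfsg.Agent.CT

open scoped ComplexConjugate

universe u v

variable {G : Type u} [Group G]

/-- A commutator criterion. -/
theorem isCommutator_iff [Fintype G] (g : G) :
    (∃ a b : G, g = a * b * a⁻¹ * b⁻¹) ↔
      ∑ χ : IrrCharacter G, (χ : G → ℂ) g / (χ : G → ℂ) 1 ≠ 0 := by
  classical
  let T : ℂ := ∑ a : G, (Nat.card {x : G // IsConj a x} : ℂ)⁻¹ *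
    (Nat.card {x : G // IsConj a⁻¹ x} : ℂ)⁻¹ *
    (Nat.card {p : G × G // IsConj a p.1 ∧ IsConj a⁻¹ p.2 ∧ p.1 * p.2 = g} : ℂ)
  have hT : T = ∑ χ : IrrCharacter G, conj ((χ : G → ℂ) g) / (χ : G → ℂ) 1 := by
    have hne : ∀ u : G, (Nat.card {x : G // IsConj u x} : ℂ) ≠ 0 := fun u => by
      haveI : Nonempty {x : G // IsConj u x} := ⟨⟨u, IsConj.refl u⟩⟩
      exact Nat.cast_ne_zero.mpr Nat.card_pos.ne'
    simp only [T, class_mul_formula]
    calc _ = ∑ a : G, ∑ χ : IrrCharacter G, (Nat.card G : ℂ)⁻¹ *
          ((χ : G → ℂ) a * conj ((χ : G → ℂ) a) * conj ((χ : G → ℂ) g) / (χ : G → ℂ) 1) := by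
          refine Finset.sum_congr rfl fun a _ => ?_
          rw [Finset.mul_sum, Finset.mul_sum]
          refine Finset.sum_congr rfl fun χ _ => ?_
          rw [char_inv_eq_conj (isCharacter_of_isIrr χ.2) a]
          field_simp [hne a, hne a⁻¹]
      _ = _ := by
          rw [Finset.sum_comm]
          refine Finset.sum_congr rfl fun χ _ => ?_
          have h := irr_inner_self χ.2
          rw [classInner] at h
          simp only [mul_div_assoc, ← Finset.mul_sum, ← Finset.sum_mul]
          rw [← mul_assoc, h, one_mul]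
  have hconj : ∑ χ : IrrCharacter G, conj ((χ : G → ℂ) g) / (χ : G → ℂ) 1 =
      conj (∑ χ : IrrCharacter G, (χ : G → ℂ) g / (χ : G → ℂ) 1) := by
    rw [map_sum]
    refine Finset.sum_congr rfl fun χ _ => ?_
    rw [map_div₀, deg_eq (isCharacter_of_isIrr χ.2), map_natCast]
  constructor
  · rintro ⟨a, b, rfl⟩ h0
    rw [h0, map_zero] at hconj
    rw [hconj] at hT
    have hr : T = (((∑ x : G, (Nat.card {y : G // IsConj x y} : ℝ)⁻¹ *
      (Nat.card {y : G // IsConj x⁻¹ y} : ℝ)⁻¹ * (Nat.card {p : G × G // IsConj x p.1 ∧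
        IsConj x⁻¹ p.2 ∧ p.1 * p.2 = a * b * a⁻¹ * b⁻¹} : ℝ)) : ℝ) : ℂ) := by
      simp [T]
    rw [hr, Complex.ofReal_eq_zero, Finset.sum_eq_zero_iff_of_nonneg fun x _ => by positivity] at hT
    have h := hT a (Finset.mem_univ a)
    haveI : Nonempty {p : G × G // IsConj a p.1 ∧ IsConj a⁻¹ p.2 ∧
        p.1 * p.2 = a * b * a⁻¹ * b⁻¹} :=
      ⟨⟨(a, b * a⁻¹ * b⁻¹), IsConj.refl a, isConj_iff.mpr ⟨b, rfl⟩, by group⟩⟩
    haveI : Nonempty {y : G // IsConj a y} := ⟨⟨a, IsConj.refl a⟩⟩
    haveI : Nonempty {y : G // IsConj a⁻¹ y} := ⟨⟨a⁻¹, IsConj.refl _⟩⟩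
    have h1 : ∀ (X : Type u) [Nonempty X] [Finite X], (0 : ℝ) < Nat.card X := fun X _ _ =>
      Nat.cast_pos.mpr Nat.card_pos
    exact (mul_pos (mul_pos (inv_pos.mpr (h1 _)) (inv_pos.mpr (h1 _))) (h1 _)).ne' h
  · intro h
    by_contra hne
    apply h
    have hT0 : T = 0 := Finset.sum_eq_zero fun a _ => by
      rw [(Nat.card_eq_zero (α := {p : G × G // IsConj a p.1 ∧ IsConj a⁻¹ p.2 ∧ p.1 * p.2 = g})).mpr
        (Or.inl ⟨fun p => hne ?_⟩), Nat.cast_zero, mul_zero]
      obtain ⟨⟨x, y⟩, hx, hy, hxy⟩ := p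
      obtain ⟨c, hc⟩ := isConj_iff.mp hx
      obtain ⟨d, hd⟩ := isConj_iff.mp hy
      refine ⟨c * a * c⁻¹, d * c⁻¹, ?_⟩
      simp only at hxy hc hd
      rw [← hxy, ← hd, ← hc]
      group
    rw [hT0, hconj] at hT
    exact star_eq_zero.mp hT.symm

/-- In a group of odd order, order and class number agree modulo 16. -/
theorem card_modEq_sixteen [Fintype G] (hodd : Odd (Nat.card G)) :
    Nat.card G ≡ Nat.card (ConjClasses G) [MOD 16] := by
  classical
  rw [← card_irr_eq_card_conjClasses, Nat.card_eq_fintype_card (α := IrrCharacter G)]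
  have hsq : Nat.card G = ∑ χ : IrrCharacter G, deg (χ : G → ℂ) ^ 2 := by
    have h := sum_degree_sq (G := G)
    rw [Finset.sum_congr rfl fun χ _ => by rw [deg_eq (isCharacter_of_isIrr χ.2)]] at h
    exact_mod_cast h.symm
  let e := Fintype.equivFin (IrrCharacter G)
  set s := Finset.univ.filter fun χ : IrrCharacter G => e χ < e (conjEquiv χ)
  set t := Finset.univ.filter fun χ : IrrCharacter G => e (conjEquiv χ) < e χ
  have hself : ∀ χ : IrrCharacter G, conjEquiv χ = χ → χ = trivIrr G := by
    intro χ h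
    refine real_irr_eq_one_of_odd hodd fun g => ?_
    rw [← Complex.conj_eq_iff_im, ← conjEquiv_apply, h]
  have hcd : ∀ χ : IrrCharacter G, deg (conjEquiv χ : G → ℂ) = deg (χ : G → ℂ) := by
    intro χ
    have h := conjEquiv_apply χ (1 : G)
    rw [deg_eq (isCharacter_of_isIrr (conjEquiv χ).2), deg_eq (isCharacter_of_isIrr χ.2),
      map_natCast] at h
    exact_mod_cast h
  have htriv : conjEquiv (trivIrr G) = trivIrr G := Subtype.ext (funext fun g => by
    rw [conjEquiv_apply]; simp)
  have hsplit : (Finset.univ : Finset (IrrCharacter G)) = insert (trivIrr G) (s ∪ t) := by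
    ext χ
    simp only [Finset.mem_univ, Finset.mem_insert, Finset.mem_union, s, t, Finset.mem_filter,
      true_and, true_iff]
    by_cases h : conjEquiv χ = χ
    · exact Or.inl (hself χ h)
    · rcases lt_trichotomy (e χ) (e (conjEquiv χ)) with h1 | h1 | h1
      · exact Or.inr (Or.inl h1)
      · exact absurd (e.injective h1).symm h
      · exact Or.inr (Or.inr h1)
  have hnotin : trivIrr G ∉ s ∪ t := by simp [s, t, htriv]
  have hdisj : Disjoint s t := by
    rw [Finset.disjoint_left]
    intro χ h1 h2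
    simp only [s, t, Finset.mem_filter] at h1 h2
    exact lt_asymm h1.2 h2.2
  have ht : ∀ f : IrrCharacter G → ℕ, (∀ χ, f (conjEquiv χ) = f χ) →
      ∑ χ ∈ t, f χ = ∑ χ ∈ s, f χ := by
    intro f hf
    refine Finset.sum_nbij' conjEquiv conjEquiv ?_ ?_ ?_ ?_ ?_
    · intro χ hχ
      simp only [s, t, Finset.mem_filter, Finset.mem_univ, true_and] at hχ ⊢
      rwa [conjEquiv_conjEquiv]
    · intro χ hχ
      simp only [s, t, Finset.mem_filter, Finset.mem_univ, true_and] at hχ ⊢
      rwa [conjEquiv_conjEquiv]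
    · intro χ _; exact conjEquiv_conjEquiv χ
    · intro χ _; exact conjEquiv_conjEquiv χ
    · intro χ _; exact (hf χ).symm
  have h8 : ∀ χ : IrrCharacter G, deg (χ : G → ℂ) ^ 2 ≡ 1 [MOD 8] := by
    intro χ
    have hdvd : deg (χ : G → ℂ) ∣ Nat.card G := by
      obtain ⟨n, ρ, hρ, hχ⟩ := χ.2
      rw [← hχ, deg_eq_finrank]
      exact finrank_dvd_card ρ
    obtain ⟨k, hk⟩ := hodd.of_dvd_nat hdvd
    rw [hk]
    obtain ⟨m, hm⟩ : Even (k * (k + 1)) := Nat.even_mul_succ_self k
    rw [show (2 * k + 1) ^ 2 = 8 * m + 1 by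
      have : (2 * k + 1) ^ 2 = 4 * (k * (k + 1)) + 1 := by ring
      omega]
    simp [Nat.ModEq, Nat.add_mod, Nat.mul_mod_right]
  have hS : ∑ χ ∈ s, deg (χ : G → ℂ) ^ 2 ≡ s.card [MOD 8] := by
    rw [Finset.card_eq_sum_ones]
    simp only [Nat.ModEq]
    rw [Finset.sum_nat_mod, Finset.sum_congr rfl fun χ _ => h8 χ, ← Finset.sum_nat_mod]
  have htd : deg ((trivIrr G : IrrCharacter G) : G → ℂ) = 1 := by simp [deg]
  have hk : Fintype.card (IrrCharacter G) = 2 * s.card + 1 := by
    rw [← Finset.card_univ, hsplit, Finset.card_insert_of_notMem hnotin,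
      Finset.card_union_of_disjoint hdisj, Finset.card_eq_sum_ones t,
      ht (fun _ => 1) (fun _ => rfl), ← Finset.card_eq_sum_ones]
    ring
  rw [hsq, hk]
  rw [show ∑ χ : IrrCharacter G, deg (χ : G → ℂ) ^ 2 =
    2 * ∑ χ ∈ s, deg (χ : G → ℂ) ^ 2 + 1 by
      rw [hsplit, Finset.sum_insert hnotin, Finset.sum_union hdisj,
        ht (fun χ => deg (χ : G → ℂ) ^ 2) (fun χ => by rw [hcd]), htd]
      ring]
  exact (Nat.ModEq.mul_left' 2 hS).add_right 1

open Polynomial in
/-- Burnside–Brauer. -/
theorem burnside_brauer [Fintype G] {V : Type v} [AddCommGroup V] [Module ℂ V]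
    [FiniteDimensional ℂ V] (ρ : Representation ℂ G V) (hf : Function.Injective ρ)
    {ψ : G → ℂ} (hψ : IsIrrCharacter G ψ) :
    ∃ i : ℕ, i < Nat.card (Set.range ρ.character) ∧
      classInner (fun g => ρ.character g ^ i) ψ ≠ 0 := by
  classical
  set n : ℂ := (Module.finrank ℂ V : ℂ) with hn
  let vals := (Finset.univ.image ρ.character).erase n
  let P : ℂ[X] := ∏ v ∈ vals, (X - C v)
  have hmem : n ∈ Finset.univ.image ρ.character :=
    Finset.mem_image.mpr ⟨1, Finset.mem_univ _, Representation.char_one ρ⟩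
  have hcard : Nat.card (Set.range ρ.character) = (Finset.univ.image ρ.character).card := by
    rw [Nat.card_coe_set_eq, ← Set.ncard_coe_finset, Finset.coe_image, Finset.coe_univ,
      Set.image_univ]
  have hdeg : P.natDegree < Nat.card (Set.range ρ.character) := by
    rw [hcard, Polynomial.natDegree_finsetProd_X_sub_C_eq_card]
    exact Finset.card_erase_lt_of_mem hmem
  by_contra hne
  push Not at hne
  have h0 : classInner (fun g => P.eval (ρ.character g)) ψ = 0 := by
    have e : (fun g => P.eval (ρ.character g)) =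
        ∑ i ∈ Finset.range (P.natDegree + 1), P.coeff i • fun g => ρ.character g ^ i := by
      funext g
      simp [eval_eq_sum_range, Finset.sum_apply]
    rw [e, classInner_sum_left]
    refine Finset.sum_eq_zero fun i hi => ?_
    rw [classInner_smul_left, hne i (lt_of_le_of_lt (Nat.lt_succ_iff.mp (Finset.mem_range.mp hi))
      hdeg), mul_zero]
  rw [classInner, Finset.sum_eq_single (1 : G)] at h0
  · have hP1 : P.eval (ρ.character 1) ≠ 0 := by
      simp only [P, eval_prod, eval_sub, eval_X, eval_C, Representation.char_one, ← hn]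
      exact Finset.prod_ne_zero_iff.mpr fun v hv => sub_ne_zero.mpr (Finset.mem_erase.mp hv).1.symm
    refine mul_ne_zero (inv_ne_zero card_ne_zero) (mul_ne_zero hP1 ?_) h0
    exact star_ne_zero.mpr (irr_one_ne_zero hψ)
  · intro g _ hg
    have hv : ρ.character g ∈ vals := Finset.mem_erase.mpr ⟨fun e => hg (hf (by
      rw [map_one]; exact (char_eq_degree_iff ρ g).mp e)),
      Finset.mem_image.mpr ⟨g, Finset.mem_univ _, rfl⟩⟩
    have : P.eval (ρ.character g) = 0 := by
      simp only [P, eval_prod, eval_sub, eval_X, eval_C]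
      exact Finset.prod_eq_zero hv (sub_self _)
    rw [this, zero_mul]
  · simp

/-- The degree is at most the index of an abelian subgroup. -/
theorem finrank_le_index [Fintype G] {V : Type v} [AddCommGroup V] [Module ℂ V]
    [FiniteDimensional ℂ V] (ρ : Representation ℂ G V) [ρ.IsIrreducible] (A : Subgroup G)
    (hA : ∀ a ∈ A, ∀ b ∈ A, a * b = b * a) : Module.finrank ℂ V ≤ A.index := by
  classical
  haveI := Fintype.ofFinite A
  have hχ := isIrrCharacter_character ρ
  obtain ⟨l, hl⟩ := exists_constituent_restrict A hχ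
  have hlin : (l : A → ℂ) 1 = 1 :=
    irr_degree_one_of_comm (fun a b => Subtype.ext (hA a a.2 b b.2)) l.2
  have hi := isCharacter_indFun A (isCharacter_of_isIrr l.2)
  have hne : classInner (indFun A (l : A → ℂ)) ρ.character ≠ 0 := by
    rw [frobenius_reciprocity A _ (isClassFunction_of_isIrr hχ),
      classInner_comm_of_char (isCharacter_of_isIrr l.2)
        (isCharacter_restrict A (isCharacter_of_isIrr hχ))]
    exact hl
  have h1 := constituent_deg_le hi ⟨_, hχ⟩
  have h2 : deg (indFun A (l : A → ℂ)) = A.index := by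
    have h := deg_eq hi
    rw [indFun_one_eval, hlin, mul_one] at h
    exact_mod_cast h.symm
  have h3 : 1 ≤ mult (indFun A (l : A → ℂ)) ρ.character := by
    rw [Nat.one_le_iff_ne_zero]
    intro h
    exact hne (by rw [mult_spec hi (isCharacter_of_isIrr hχ), h, Nat.cast_zero])
  rw [h2, deg_eq_finrank] at h1
  exact le_trans (Nat.le_mul_of_pos_left _ h3) h1

/-- A character of a representation without non-zero vectors fixed by a normal subgroup vanishes at
elements centralizing no non-identity element of it. -/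
theorem char_eq_zero_of_fpf [Fintype G] {V : Type v} [AddCommGroup V] [Module ℂ V]
    [FiniteDimensional ℂ V] (ρ : Representation ℂ G V) [ρ.IsIrreducible] (H : Subgroup G)
    [hH : H.Normal] (hker : ∃ h ∈ H, ρ h ≠ LinearMap.id) (g : G)
    (hg : ∀ h ∈ H, h * g = g * h → h = 1) : ρ.character g = 0 := by
  classical
  haveI := Fintype.ofFinite H
  have hfix : ∀ h ∈ H, ρ h * ∑ k : H, ρ (k : G) = ∑ k : H, ρ (k : G) := by
    intro h hh
    rw [Finset.mul_sum]
    exact Fintype.sum_equiv (Equiv.mulLeft (⟨h, hh⟩ : H)) _ _ fun k => by simp [← map_mul]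
  have hS : ∑ k : H, ρ (k : G) = 0 := by
    let W : Submodule ℂ V :=
      { carrier := {v | ∀ h ∈ H, ρ h v = v}
        zero_mem' := fun h _ => map_zero _
        add_mem' := fun {a b} ha hb h hh => by rw [map_add, ha h hh, hb h hh]
        smul_mem' := fun c {a} ha h hh => by rw [map_smul, ha h hh] }
    rcases ((isIrreducible_iff ρ).mp ‹_›).2 W (fun x v hv h hh => by
      have hm := hH.conj_mem h hh x⁻¹
      rw [inv_inv] at hm
      rw [← Module.End.mul_apply, ← map_mul, show h * x = x * (x⁻¹ * h * x) by group, map_mul,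
        Module.End.mul_apply, hv _ hm]) with e | e
    · refine LinearMap.ext fun v => ?_
      have hv : (∑ k : H, ρ (k : G)) v ∈ W := fun h hh => by
        rw [← Module.End.mul_apply, hfix h hh]
      rw [e] at hv
      exact hv
    · obtain ⟨h, hh, hne⟩ := hker
      exact absurd (LinearMap.ext fun v => (e ▸ Submodule.mem_top : v ∈ W) h hh) hne
  let φ : H → H := fun h => ⟨g⁻¹ * ((h : G) * g * (h : G)⁻¹), by
    have e := H.mul_mem (hH.conj_mem (h : G) h.2 g⁻¹) (H.inv_mem h.2)
    simpa [mul_assoc] using e⟩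
  have hφ : Function.Bijective φ := by
    refine Finite.injective_iff_bijective.mp fun a b e => ?_
    have e' : (a : G) * g * (a : G)⁻¹ = b * g * (b : G)⁻¹ := mul_left_cancel (congrArg Subtype.val e)
    have h2 : (b : G)⁻¹ * a * g = g * ((b : G)⁻¹ * a) := by
      calc (b : G)⁻¹ * a * g = (b : G)⁻¹ * ((a : G) * g * (a : G)⁻¹) * a := by group
        _ = (b : G)⁻¹ * (b * g * (b : G)⁻¹) * a := by rw [e']
        _ = g * ((b : G)⁻¹ * a) := by group
    exact Subtype.ext
      (inv_mul_eq_one.mp (hg _ (H.mul_mem (H.inv_mem b.2) a.2) h2)).symm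
  have h1 : ∑ h : H, ρ.character (g * (h : G)) = (Nat.card H : ℂ) * ρ.character g := by
    rw [← Fintype.sum_bijective φ hφ (fun _ : H => ρ.character g) _ (fun h => ?_)]
    · simp [Nat.card_eq_fintype_card]
    · show ρ.character g = ρ.character (g * (g⁻¹ * ((h : G) * g * (h : G)⁻¹)))
      rw [mul_inv_cancel_left, Representation.char_conj]
  have h2 : ∑ h : H, ρ.character (g * (h : G)) = 0 := by
    simp only [Representation.character, ← map_sum, map_mul, ← Finset.mul_sum, hS, mul_zero,
      map_zero]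
  rw [h2, eq_comm, mul_eq_zero] at h1
  exact h1.resolve_left (Nat.cast_ne_zero.mpr Nat.card_pos.ne')

/-- Taketa: all kernels contain the corresponding term of the derived series. -/
theorem derived_le_kerChar [Fintype G]
    (hM : ∀ χ : G → ℂ, IsIrrCharacter G χ →
      ∃ (H : Subgroup G) (lam : H →* ℂˣ), χ = indFun H (fun h => (lam h : ℂ))) (n : ℕ) :
    ∀ χ : G → ℂ, IsIrrCharacter G χ → deg χ ≤ n → derivedSeries G n ≤ kerChar χ := by
  induction n with
  | zero => exact fun χ hχ hd => absurd hd (by have := deg_pos hχ; omega)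
  | succ n ih =>
    intro χ hχ hd
    classical
    obtain ⟨H, lam, rfl⟩ := hM χ hχ
    haveI := Fintype.ofFinite H
    have hchi := isCharacter_of_isIrr hχ
    have hdeg : deg (indFun H (fun h => (lam h : ℂ))) = H.index := by
      have h := deg_eq hchi
      rw [indFun_one_eval] at h
      simp at h
      exact_mod_cast h.symm
    have hsub : derivedSeries G n ≤ H := by
      intro g hg
      by_cases hH : H = ⊤
      · rw [hH]; trivial
      have hone := isCharacter_indFun_one H
      have hker : indFun H (fun _ => 1) g = indFun H (fun _ => 1) 1 := by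
        conv_lhs => rw [character_eq_sum hone]
        conv_rhs => rw [character_eq_sum hone]
        simp only [Finset.sum_apply, Pi.smul_apply, smul_eq_mul]
        refine Finset.sum_congr rfl fun θ _ => ?_
        by_cases hm : mult (indFun H (fun _ => (1 : ℂ))) (θ : G → ℂ) = 0
        · simp [hm]
        congr 1
        by_cases ht : θ = trivIrr G
        · subst ht; rfl
        have hlt : deg (θ : G → ℂ) ≤ n := by
          have hsum := congrFun (character_eq_sum hone) 1
          rw [indFun_one_eval, mul_one, Finset.sum_apply] at hsum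
          simp only [Pi.smul_apply, smul_eq_mul] at hsum
          rw [Finset.sum_congr rfl fun c _ => by rw [deg_eq (isCharacter_of_isIrr c.2)]] at hsum
          have hsum' : H.index = ∑ c : IrrCharacter G,
              mult (indFun H (fun _ => (1 : ℂ))) (c : G → ℂ) * deg (c : G → ℂ) := by
            exact_mod_cast hsum
          have hm1 : mult (indFun H (fun _ => (1 : ℂ))) ((trivIrr G : IrrCharacter G) : G → ℂ) = 1 := by
            have h : classInner (indFun H (fun _ => (1 : ℂ))) (fun _ : G => (1 : ℂ)) = 1 := by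
              rw [frobenius_reciprocity H _ (isClassFunction_of_isIrr isIrrCharacter_one)]
              exact irr_inner_self isIrrCharacter_one
            rw [mult_spec hone isCharacter_one] at h
            exact_mod_cast h
          have h2 := Finset.sum_le_sum_of_subset (f := fun c : IrrCharacter G =>
            mult (indFun H (fun _ => (1 : ℂ))) (c : G → ℂ) * deg (c : G → ℂ))
            (Finset.subset_univ {trivIrr G, θ})
          rw [Finset.sum_pair (Ne.symm ht), hm1, ← hsum'] at h2
          have h3 : deg ((trivIrr G : IrrCharacter G) : G → ℂ) = 1 := by simp [deg]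
          have h4 : deg (θ : G → ℂ) ≤
              mult (indFun H (fun _ => (1 : ℂ))) (θ : G → ℂ) * deg (θ : G → ℂ) :=
            Nat.le_mul_of_pos_left _ (Nat.pos_of_ne_zero hm)
          rw [hdeg] at hd
          omega
        exact (mem_kerChar_iff (isCharacter_of_isIrr θ.2)).mp (ih _ θ.2 hlt hg)
      -- an element fixing all cosets lies in `H`
      by_contra hgH
      rw [indFun_one_eval, mul_one] at hker
      have hre : (∑ x : G, extendByZero H (fun _ => (1 : ℂ)) (x⁻¹ * g * x)) =
          ((Finset.univ.filter fun x : G => x⁻¹ * g * x ∈ H).card : ℂ) := by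
        rw [Finset.card_filter, Nat.cast_sum]
        refine Finset.sum_congr rfl fun x _ => ?_
        by_cases hx : x⁻¹ * g * x ∈ H
        · rw [extendByZero_mem H _ hx, if_pos hx, Nat.cast_one]
        · rw [extendByZero_not_mem H _ hx, if_neg hx, Nat.cast_zero]
      rw [indFun, hre, inv_mul_eq_iff_eq_mul₀ (Nat.cast_ne_zero.mpr Nat.card_pos.ne')] at hker
      have h5 : (Finset.univ.filter fun x : G => x⁻¹ * g * x ∈ H).card = Nat.card G := by
        rw [← H.index_mul_card, mul_comm]
        exact_mod_cast hker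
      rw [Nat.card_eq_fintype_card, Finset.card_eq_iff_eq_univ, Finset.filter_eq_self] at h5
      exact hgH (by simpa using h5 1 (Finset.mem_univ _))
    intro g hg
    rw [mem_kerChar_iff hchi]
    have hle : derivedSeries G (n + 1) ≤ (commutator H).map H.subtype := by
      rw [derivedSeries_succ, commutator_def, Subgroup.map_commutator,
        ← MonoidHom.range_eq_map, H.range_subtype]
      exact Subgroup.commutator_mono hsub hsub
    have hterm : ∀ x : G, extendByZero H (fun h => (lam h : ℂ)) (x⁻¹ * g * x) = 1 := by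
      intro x
      have h1 := hle ((derivedSeries_normal G (n + 1)).conj_mem g hg x⁻¹)
      rw [inv_inv] at h1
      obtain ⟨y, hy, hy'⟩ := h1
      have hk : lam y = 1 := MonoidHom.mem_ker.mp (Abelianization.commutator_subset_ker lam hy)
      rw [← hy', Subgroup.coe_subtype, extendByZero_coe, hk, Units.val_one]
    rw [indFun_one_eval, map_one, Units.val_one, mul_one]
    simp only [indFun, hterm, Finset.sum_const, Finset.card_univ, nsmul_eq_mul, mul_one,
      ← Nat.card_eq_fintype_card]
    rw [← H.index_mul_card, Nat.cast_mul, ← mul_assoc, mul_comm _ (H.index : ℂ), mul_assoc,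
      inv_mul_cancel₀ (Nat.cast_ne_zero.mpr Nat.card_pos.ne'), mul_one]

theorem isSolvable_of_monomial [Fintype G]
    (hM : ∀ χ : G → ℂ, IsIrrCharacter G χ →
      ∃ (H : Subgroup G) (lam : H →* ℂˣ), χ = indFun H (fun h => (lam h : ℂ))) :
    Group.IsSolvable G := by
  classical
  let N := Finset.univ.sup fun χ : IrrCharacter G => deg (χ : G → ℂ)
  refine (Group.isSolvable_def G).mpr ⟨N, ?_⟩
  rw [eq_bot_iff]
  intro g hg
  refine Subgroup.mem_bot.mpr (isConj_one_left.mp (isConj_iff_forall_irr.mpr fun χ => ?_))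
  exact (mem_kerChar_iff (isCharacter_of_isIrr χ.2)).mp (derived_le_kerChar hM N χ χ.2
    (Finset.le_sup (f := fun χ : IrrCharacter G => deg (χ : G → ℂ)) (Finset.mem_univ χ)) hg)

end Cfsg.Agent.CT
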