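import Cfsg.Agent.Lib.Basics.Frattini
import Mathlib.GroupTheory.Nilpotent
import Mathlib.GroupTheory.Solvable

/-! The nilpotent length through iterated lower central series. -/

set_option autoImplicit false

namespace Cfsg.Agent.CT.NilLen

open Subgroup

universe u v

variable {G : Type u} [Group G] {H : Type v} [Group H]

/-- The `k`-th term of the lower central series of a subgroup, inside the ambient group. -/
def lc (X : Subgroup G) : ℕ → Subgroup G
  | 0 => X
  | k + 1 => ⁅lc X k, X⁆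

/-- The `n`-th iterate of `X ↦ lc X k`. -/
def dd (G : Type u) [Group G] (k : ℕ) : ℕ → Subgroup G
  | 0 => ⊤
  | n + 1 => lc (dd G k n) k

/-- The nilpotent length is at most `n`. -/
def Len (G : Type u) [Group G] (n : ℕ) : Prop := ∃ k, dd G k n = ⊥

theorem map_lc (f : G →* H) (X : Subgroup G) : ∀ k, (lc X k).map f = lc (X.map f) k
  | 0 => rfl
  | k + 1 => by rw [lc, lc, map_commutator, map_lc f X k]

theorem lc_top : ∀ k, lc (⊤ : Subgroup G) k = Subgroup.lowerCentralSeries (⊤ : Subgroup G) k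
  | 0 => by simp [lc]
  | k + 1 => by simp [lc, Subgroup.lowerCentralSeries_succ, lc_top k]

theorem lc_normal (X : Subgroup G) [hX : X.Normal] : ∀ k, (lc X k).Normal
  | 0 => hX
  | k + 1 => by
      haveI := lc_normal X k
      exact commutator_normal _ _

theorem lc_le (X : Subgroup G) [hX : X.Normal] : ∀ k, lc X k ≤ X
  | 0 => le_rfl
  | k + 1 => commutator_le_right _ X

theorem lc_succ_le_self (X : Subgroup G) : ∀ k, lc X k ≤ X
  | 0 => le_rfl
  | k + 1 => (commutator_mono (lc_succ_le_self X k) le_rfl).trans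
      (commutator_le.mpr fun a ha b hb => by
        simpa [commutatorElement_def] using X.mul_mem (X.mul_mem (X.mul_mem ha hb) (X.inv_mem ha)) (X.inv_mem hb))

theorem lc_anti_succ (X : Subgroup G) : ∀ k, lc X (k + 1) ≤ lc X k
  | 0 => lc_succ_le_self X 1
  | k + 1 => commutator_mono (lc_anti_succ X k) le_rfl

theorem lc_anti (X : Subgroup G) {k l : ℕ} (h : k ≤ l) : lc X l ≤ lc X k :=
  antitone_nat_of_succ_le (lc_anti_succ X) h

theorem lc_mono {X Y : Subgroup G} (h : X ≤ Y) : ∀ k, lc X k ≤ lc Y k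
  | 0 => h
  | k + 1 => commutator_mono (lc_mono h k) h

theorem dd_mono {k l : ℕ} (h : k ≤ l) : ∀ n, dd G l n ≤ dd G k n
  | 0 => le_rfl
  | n + 1 => (lc_anti _ h).trans (lc_mono (dd_mono h n) k)

theorem dd_normal (k : ℕ) : ∀ n, (dd G k n).Normal
  | 0 => Normal.of_conjugate_fixed fun g => by simp [dd]
  | n + 1 => by
      haveI := dd_normal k n
      exact lc_normal _ k

theorem dd_anti (k : ℕ) (n : ℕ) : dd G k (n + 1) ≤ dd G k n := lc_succ_le_self _ k

theorem map_dd (f : G →* H) (hf : Function.Surjective f) (k : ℕ) :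
    ∀ n, (dd G k n).map f = dd H k n
  | 0 => by simp [dd, map_top_of_surjective f hf]
  | n + 1 => by rw [dd, dd, map_lc, map_dd f hf k n]

theorem len_mono {n m : ℕ} (h : n ≤ m) (hn : Len G n) : Len G m := by
  obtain ⟨k, hk⟩ := hn
  refine ⟨k, le_bot_iff.mp (le_trans ?_ hk.le)⟩
  exact antitone_nat_of_succ_le (f := fun j => dd G k j) (dd_anti k) h

theorem len_of_subsingleton [Subsingleton G] (n : ℕ) : Len G n := ⟨0, Subsingleton.elim _ _⟩

theorem exists_lc_eq_bot (X : Subgroup G) (hX : Group.IsNilpotent X) : ∃ k, lc X k = ⊥ := by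
  obtain ⟨k, hk⟩ := Subgroup.nilpotent_iff_lowerCentralSeries.mp hX
  refine ⟨k, ?_⟩
  have := map_lc X.subtype ⊤ k
  rw [lc_top, hk, Subgroup.map_bot, ← MonoidHom.range_eq_map, range_subtype] at this
  exact this.symm

theorem len_of_trivial_inter {M₁ M₂ : Subgroup G} [M₁.Normal] [M₂.Normal] (h : M₁ ⊓ M₂ = ⊥) {n : ℕ}
    (h₁ : Len (G ⧸ M₁) n) (h₂ : Len (G ⧸ M₂) n) : Len G n := by
  obtain ⟨k₁, hk₁⟩ := h₁
  obtain ⟨k₂, hk₂⟩ := h₂
  refine ⟨max k₁ k₂, le_bot_iff.mp (h ▸ le_inf ?_ ?_)⟩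
  · refine (dd_mono (le_max_left k₁ k₂) n).trans fun x hx => ?_
    have := mem_map_of_mem (QuotientGroup.mk' M₁) hx
    rw [map_dd _ (QuotientGroup.mk'_surjective M₁), hk₁, mem_bot] at this
    exact (QuotientGroup.eq_one_iff x).1 this
  · refine (dd_mono (le_max_right k₁ k₂) n).trans fun x hx => ?_
    have := mem_map_of_mem (QuotientGroup.mk' M₂) hx
    rw [map_dd _ (QuotientGroup.mk'_surjective M₂), hk₂, mem_bot] at this
    exact (QuotientGroup.eq_one_iff x).1 this

theorem len_succ_of_nilpotent {N : Subgroup G} [N.Normal] (hN : Group.IsNilpotent N) {n : ℕ}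
    (h : Len (G ⧸ N) n) : Len G (n + 1) := by
  obtain ⟨k, hk⟩ := h
  obtain ⟨j, hj⟩ := exists_lc_eq_bot N hN
  refine ⟨max k j, le_bot_iff.mp (le_trans ?_ hj.le)⟩
  refine (lc_anti _ (le_max_right k j)).trans (lc_mono ?_ j)
  refine (dd_mono (le_max_left k j) n).trans fun x hx => ?_
  have := mem_map_of_mem (QuotientGroup.mk' N) hx
  rw [map_dd _ (QuotientGroup.mk'_surjective N), hk, mem_bot] at this
  exact (QuotientGroup.eq_one_iff x).1 this

theorem len_of_frattini [Finite G] {N : Subgroup G} [N.Normal] (hN : N ≤ frattini G) {n : ℕ}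
    (h : Len (G ⧸ N) (n + 1)) : Len G (n + 1) := by
  obtain ⟨k, hk⟩ := h
  set X := dd G k n with hX
  haveI : X.Normal := dd_normal k n
  set π := QuotientGroup.mk' N with hπ
  have h1 : lc (X.map π) k = ⊥ := by
    rw [hX, map_dd π (QuotientGroup.mk'_surjective N)]; exact hk
  have hnil : Group.IsNilpotent (X.map π) := by
    refine Subgroup.nilpotent_iff_lowerCentralSeries.mpr ⟨k, ?_⟩
    rw [← lc_top, eq_bot_iff]
    intro x hx
    have := mem_map_of_mem (X.map π).subtype hx
    rw [map_lc, ← MonoidHom.range_eq_map, range_subtype, h1, mem_bot] at this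
    exact mem_bot.mpr (Subtype.ext this)
  obtain ⟨j, hj⟩ := exists_lc_eq_bot X (Basics.isNilpotent_of_map_quotient X N hN hnil)
  refine ⟨max k j, le_bot_iff.mp (le_trans ?_ hj.le)⟩
  exact (lc_anti _ (le_max_right k j)).trans (lc_mono (dd_mono (le_max_left k j) n) j)

theorem exists_series {n : ℕ} (h : Len G n) :
    ∃ N : Fin (n + 1) → Subgroup G, N 0 = ⊥ ∧ N (Fin.last n) = ⊤ ∧ Monotone N ∧
      (∀ i, (N i).Normal) ∧ ∀ i : Fin n, ∀ _ : (N i.castSucc).subgroupOf (N i.succ) |>.Normal,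
        Group.IsNilpotent (↥(N i.succ) ⧸ (N i.castSucc).subgroupOf (N i.succ)) := by
  obtain ⟨k, hk⟩ := h
  refine ⟨fun i => dd G k (n - i), by simpa using hk, by simp [dd], fun a b hab => ?_,
    fun i => dd_normal k _, fun i hi => ?_⟩
  · exact antitone_nat_of_succ_le (f := fun j => dd G k j) (dd_anti k)
      (Nat.sub_le_sub_left (Fin.le_def.mp hab) n)
  · haveI := hi
    refine Subgroup.nilpotent_iff_lowerCentralSeries.mpr ⟨k, ?_⟩
    set X := dd G k (n - (i.succ : ℕ)) with hX
    have hY : dd G k (n - (i.castSucc : ℕ)) = lc X k := by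
      have e : n - (i.castSucc : ℕ) = n - (i.succ : ℕ) + 1 := by
        simp only [Fin.val_succ, Fin.val_castSucc]; omega
      rw [e, dd]
    rw [← lc_top, eq_bot_iff]
    intro x hx
    have hm := map_lc (QuotientGroup.mk' ((dd G k (n - (i.castSucc : ℕ))).subgroupOf X)) ⊤ k
    rw [map_top_of_surjective _ (QuotientGroup.mk'_surjective _)] at hm
    rw [← hm] at hx
    obtain ⟨y, hy, rfl⟩ := hx
    have := mem_map_of_mem X.subtype hy
    rw [map_lc, ← MonoidHom.range_eq_map, range_subtype, ← hY] at this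
    exact mem_bot.mpr ((QuotientGroup.eq_one_iff y).2 this)

end Cfsg.Agent.CT.NilLen
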