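import Cfsg.Agent.Lib.CT.ValueField
import Cfsg.Agent.Lib.CT.IntegralModel
import Cfsg.Agent.Lib.ClassSum.Basic
import Cfsg.Agent.Lib.Blocks.Orthogonality

/-!
The number of `p`-conjugates of an irreducible character times its degree.
-/

set_option autoImplicit false
set_option linter.all false

namespace Cfsg.Agent.CT.PConj

open Cfsg.Agent
open scoped ComplexConjugate

universe u

theorem sum_units_pow {p a : ℕ} [hp : Fact p.Prime] {w : ℂ} (hw : w ^ p ^ (a + 1) = 1)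
    [NeZero (p ^ (a + 1))] :
    ∃ c : ℤ, ∑ k : (ZMod (p ^ (a + 1)))ˣ, w ^ (k : ZMod (p ^ (a + 1))).val = (p : ℂ) ^ a * c := by
  classical
  have hgeom : ∀ (z : ℂ) (N : ℕ), z ^ N = 1 →
      ∑ j ∈ Finset.range N, z ^ j = if z = 1 then (N : ℂ) else 0 := by
    intro z N hz
    split_ifs with h
    · simp [h]
    · rw [geom_sum_eq h, hz, sub_self, zero_div]
  have h1 : ∑ k : (ZMod (p ^ (a + 1)))ˣ, w ^ (k : ZMod (p ^ (a + 1))).val =
      ∑ j ∈ (Finset.range (p ^ (a + 1))).filter (fun j => ¬ p ∣ j), w ^ j := by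
    refine Finset.sum_bij (fun k _ => (k : ZMod (p ^ (a + 1))).val) ?_ ?_ ?_ fun k _ => rfl
    · intro k _
      refine Finset.mem_filter.mpr ⟨Finset.mem_range.mpr (ZMod.val_lt _), fun hd => ?_⟩
      have := Nat.Coprime.coprime_dvd_right (dvd_pow_self p (Nat.succ_ne_zero a))
        (ZMod.val_coe_unit_coprime k)
      exact hp.out.not_dvd_one (this ▸ Nat.dvd_gcd hd dvd_rfl)
    · intro k _ l _ h
      exact Units.ext (ZMod.val_injective _ h)
    · intro j hj
      obtain ⟨hj1, hj2⟩ := Finset.mem_filter.mp hj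
      have hc : j.Coprime (p ^ (a + 1)) :=
        Nat.Coprime.pow_right _ (hp.out.coprime_iff_not_dvd.mpr hj2).symm
      refine ⟨ZMod.unitOfCoprime j hc, Finset.mem_univ _, ?_⟩
      rw [ZMod.coe_unitOfCoprime, ZMod.val_natCast, Nat.mod_eq_of_lt (Finset.mem_range.mp hj1)]
  have h2 : ∑ j ∈ (Finset.range (p ^ (a + 1))).filter (fun j => p ∣ j), w ^ j =
      ∑ i ∈ Finset.range (p ^ a), (w ^ p) ^ i := by
    symm
    refine Finset.sum_bij (fun i _ => p * i) ?_ ?_ ?_ fun i _ => (pow_mul w p i).symm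
    · intro i hi
      refine Finset.mem_filter.mpr ⟨Finset.mem_range.mpr ?_, dvd_mul_right p i⟩
      rw [pow_succ']
      exact Nat.mul_lt_mul_of_pos_left (Finset.mem_range.mp hi) hp.out.pos
    · intro i _ j _ h
      exact Nat.eq_of_mul_eq_mul_left hp.out.pos h
    · intro j hj
      obtain ⟨hj1, ⟨i, rfl⟩⟩ := Finset.mem_filter.mp hj
      refine ⟨i, Finset.mem_range.mpr ?_, rfl⟩
      have := Finset.mem_range.mp hj1
      rw [pow_succ'] at this
      exact Nat.lt_of_mul_lt_mul_left this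
  have h3 := Finset.sum_filter_add_sum_filter_not (Finset.range (p ^ (a + 1))) (fun j => p ∣ j) (fun j => w ^ j)
  rw [h2, hgeom w _ hw, hgeom (w ^ p) _ (by rw [← pow_mul, ← pow_succ']; exact hw)] at h3
  rw [h1]
  refine ⟨(if w = 1 then (p : ℤ) else 0) - (if w ^ p = 1 then 1 else 0), ?_⟩
  split_ifs at h3 ⊢ with ha hb hb <;> push_cast at h3 ⊢ <;> linear_combination h3

variable {G : Type u} [Group G] [Fintype G] {p m a : ℕ} [hp : Fact p.Prime]

/-- Lift of a unit modulo `p ^ a`, congruent to `1` modulo `m`. -/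
noncomputable def lift (co : m.Coprime (p ^ a)) (k : (ZMod (p ^ a))ˣ) : ℕ :=
  (Nat.chineseRemainder co 1 (k : ZMod (p ^ a)).val).1

theorem lift_spec (co : m.Coprime (p ^ a)) (k : (ZMod (p ^ a))ˣ) :
    lift co k ≡ 1 [MOD m] ∧ lift co k ≡ (k : ZMod (p ^ a)).val [MOD p ^ a] :=
  (Nat.chineseRemainder co 1 (k : ZMod (p ^ a)).val).2

theorem lift_coprime (co : m.Coprime (p ^ a)) (k : (ZMod (p ^ a))ˣ) :
    (lift co k).Coprime (m * p ^ a) := by
  obtain ⟨h1, h2⟩ := lift_spec co k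
  refine Nat.Coprime.mul_right ?_ ?_
  · rw [Nat.coprime_iff_gcd_eq_one, Nat.ModEq.gcd_eq h1, Nat.gcd_one_left]
  · rw [Nat.coprime_iff_gcd_eq_one, Nat.ModEq.gcd_eq h2]
    exact ZMod.val_coe_unit_coprime k

theorem pow_lift_mul (co : m.Coprime (p ^ a)) {g : G} (hg : g ^ (m * p ^ a) = 1) (k l : (ZMod (p ^ a))ˣ) :
    g ^ lift co (k * l) = (g ^ lift co k) ^ lift co l := by
  haveI : NeZero (p ^ a) := ⟨pow_ne_zero _ hp.out.ne_zero⟩
  rw [← pow_mul]
  refine pow_eq_pow_iff_modEq.mpr (Nat.ModEq.of_dvd (orderOf_dvd_of_pow_eq_one hg) ?_)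
  rw [← Nat.modEq_and_modEq_iff_modEq_mul co]
  refine ⟨?_, ?_⟩
  · exact (lift_spec co (k * l)).1.trans (by simpa using ((lift_spec co k).1.mul (lift_spec co l).1).symm)
  · refine (lift_spec co (k * l)).2.trans (Nat.ModEq.trans ?_ ((lift_spec co k).2.mul (lift_spec co l).2).symm)
    rw [Units.val_mul, ZMod.val_mul]
    exact Nat.mod_modEq _ _

theorem pow_lift_one (co : m.Coprime (p ^ a)) {g : G} (hg : g ^ (m * p ^ a) = 1) :
    g ^ lift co (1 : (ZMod (p ^ a))ˣ) = g := by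
  haveI : NeZero (p ^ a) := ⟨pow_ne_zero _ hp.out.ne_zero⟩
  conv_rhs => rw [← pow_one g]
  refine pow_eq_pow_iff_modEq.mpr (Nat.ModEq.of_dvd (orderOf_dvd_of_pow_eq_one hg) ?_)
  rw [← Nat.modEq_and_modEq_iff_modEq_mul co]
  refine ⟨(lift_spec co 1).1, (lift_spec co 1).2.trans ?_⟩
  rw [Units.val_one, ZMod.val_one_eq_one_mod]
  exact Nat.mod_modEq _ _

/-- The twist of `χ` by a unit. -/
noncomputable def tw (co : m.Coprime (p ^ a)) (χ : G → ℂ) (k : (ZMod (p ^ a))ˣ) : G → ℂ :=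
  fun g => χ (g ^ lift co k)

variable [NeZero (p ^ a)]

open Classical in
/-- The set of twists. -/
noncomputable def orbit (co : m.Coprime (p ^ a)) (χ : G → ℂ) : Finset (G → ℂ) :=
  Finset.univ.image (tw co χ)

theorem mem_orbit_conj (co : m.Coprime (p ^ a)) (hn : Nat.card G = m * p ^ a) {χ : G → ℂ}
    (hχ : IsCharacter G χ) {ζ : ℂ} (hζ : IsPrimitiveRoot ζ (m * p ^ a)) (ψ : G → ℂ) {η : ℂ}
    (hη : IsPrimitiveRoot η m) :
    ψ ∈ orbit co χ ↔ ∃ σ : ℂ ≃+* ℂ, σ η = η ∧ ψ = fun g => σ (χ g) := by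
  classical
  have hN : 0 < m * p ^ a := hn ▸ Nat.card_pos
  have hm : 0 < m := Nat.pos_of_mul_pos_right hN
  have hexp : ∀ g : G, g ^ (m * p ^ a) = 1 := fun g => by rw [← hn, pow_card_eq_one']
  constructor
  · intro h
    obtain ⟨k, -, rfl⟩ := Finset.mem_image.mp h
    obtain ⟨f, hf⟩ := OddChar.exists_ringEquiv_pow hN (lift_coprime co k)
    refine ⟨f, ?_, funext fun g => ?_⟩
    · rw [hf η (by rw [pow_mul, hη.pow_eq_one, one_pow]), pow_eq_pow_mod _ hη.pow_eq_one,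
        show lift co k % m = 1 % m from (lift_spec co k).1, ← pow_eq_pow_mod _ hη.pow_eq_one, pow_one]
    · rw [ValueField.map_value hχ f hf (hexp g)]
      rfl
  · rintro ⟨σ, hσ, rfl⟩
    haveI : NeZero (m * p ^ a) := ⟨hN.ne'⟩
    obtain ⟨j, -, hj, hje⟩ := hζ.isPrimitiveRoot_iff.mp (hζ.map_of_injective σ.injective)
    have hσj : ∀ z : ℂ, z ^ (m * p ^ a) = 1 → σ z = z ^ j := by
      intro z hz
      obtain ⟨i, -, rfl⟩ := hζ.eq_pow_of_pow_eq_one hz
      rw [map_pow, ← hje, ← pow_mul, ← pow_mul, mul_comm]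
    have hj1 : j ≡ 1 [MOD m] := by
      haveI : NeZero m := ⟨hm.ne'⟩
      have h := hσj η (by rw [pow_mul, hη.pow_eq_one, one_pow])
      rw [hσ] at h
      refine hη.pow_inj (Nat.mod_lt _ hm) (Nat.mod_lt _ hm) ?_
      rw [← pow_eq_pow_mod _ hη.pow_eq_one, ← pow_eq_pow_mod _ hη.pow_eq_one, pow_one]
      exact h.symm
    refine Finset.mem_image.mpr ⟨ZMod.unitOfCoprime j (Nat.Coprime.coprime_dvd_right (dvd_mul_left _ m) hj),
      Finset.mem_univ _, funext fun g => ?_⟩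
    rw [ValueField.map_value hχ σ hσj (hexp g), tw]
    congr 1
    refine pow_eq_pow_iff_modEq.mpr (Nat.ModEq.of_dvd (orderOf_dvd_of_pow_eq_one (hexp g)) ?_)
    rw [← Nat.modEq_and_modEq_iff_modEq_mul co]
    refine ⟨(lift_spec co _).1.trans hj1.symm, (lift_spec co _).2.trans ?_⟩
    rw [ZMod.coe_unitOfCoprime, ZMod.val_natCast]
    exact Nat.mod_modEq _ _

/-- The exponents fixing `χ`. -/
noncomputable def fixU (co : m.Coprime (p ^ a)) (hn : Nat.card G = m * p ^ a) (χ : G → ℂ) :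
    Subgroup (ZMod (p ^ a))ˣ where
  carrier := {k | tw co χ k = χ}
  one_mem' := funext fun g => by rw [tw, pow_lift_one co (by rw [← hn, pow_card_eq_one'])]
  mul_mem' {k l} hk hl := funext fun g => by
    rw [tw, pow_lift_mul co (by rw [← hn, pow_card_eq_one'])]
    exact (congrFun hl _).trans (congrFun hk g)
  inv_mem' {k} hk := funext fun g => by
    have h := congrFun hk (g ^ lift co k⁻¹)
    rw [tw, ← pow_lift_mul co (by rw [← hn, pow_card_eq_one']), inv_mul_cancel,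
      pow_lift_one co (by rw [← hn, pow_card_eq_one'])] at h
    exact h.symm

open Classical in
theorem card_fiber (co : m.Coprime (p ^ a)) (hn : Nat.card G = m * p ^ a) (χ : G → ℂ) {ψ : G → ℂ}
    (hψ : ψ ∈ orbit co χ) :
    (Finset.univ.filter fun k => tw co χ k = ψ).card = Nat.card (fixU co hn χ) := by
  obtain ⟨k0, -, rfl⟩ := Finset.mem_image.mp hψ
  have hexp : ∀ g : G, g ^ (m * p ^ a) = 1 := fun g => by rw [← hn, pow_card_eq_one']
  have hmul : ∀ k l, tw co χ (k * l) = fun g => tw co χ l (g ^ lift co k) := fun k l =>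
    funext fun g => by simp only [tw]; rw [pow_lift_mul co (hexp g)]
  rw [Nat.card_eq_fintype_card, Fintype.card_subtype]
  refine Finset.card_bij (fun k _ => k * k0⁻¹) (fun k hk => ?_) (fun k _ l _ h => mul_right_cancel h)
    (fun s hs => ⟨s * k0, ?_, by simp⟩)
  · simp only [Finset.mem_filter, Finset.mem_univ, true_and] at hk ⊢
    show tw co χ (k * k0⁻¹) = χ
    have h2 : tw co χ (k0⁻¹ * k) = tw co χ (k0⁻¹ * k0) := by rw [hmul, hmul, hk]
    rw [mul_comm, h2, inv_mul_cancel]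
    exact funext fun g => by rw [tw, pow_lift_one co (hexp g)]
  · simp only [Finset.mem_filter, Finset.mem_univ, true_and] at hs ⊢
    have hs' : tw co χ s = χ := hs
    rw [mul_comm, hmul]
    exact funext fun g => by rw [hs']; rfl

theorem sum_tw (co : m.Coprime (p ^ a)) (hn : Nat.card G = m * p ^ a) (χ : G → ℂ) (g : G) :
    ∑ k : (ZMod (p ^ a))ˣ, tw co χ k g = (Nat.card (fixU co hn χ) : ℂ) * ∑ ψ ∈ orbit co χ, ψ g := by
  classical
  rw [Finset.mul_sum, ← Finset.sum_fiberwise_of_maps_to (g := tw co χ) (t := orbit co χ)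
    (fun k _ => Finset.mem_image_of_mem _ (Finset.mem_univ k))]
  refine Finset.sum_congr rfl fun ψ hψ => ?_
  rw [Finset.sum_congr rfl fun k hk => congrFun (Finset.mem_filter.mp hk).2 g, Finset.sum_const,
    card_fiber co hn χ hψ, nsmul_eq_mul]

theorem card_units_eq (co : m.Coprime (p ^ a)) (hn : Nat.card G = m * p ^ a) (χ : G → ℂ) :
    Nat.card (ZMod (p ^ a))ˣ = Nat.card (fixU co hn χ) * (orbit co χ).card := by
  classical
  rw [Nat.card_eq_fintype_card (α := (ZMod (p ^ a))ˣ), ← Finset.card_univ,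
    Finset.card_eq_sum_card_fiberwise (t := orbit co χ) (f := tw co χ)
      (fun k _ => Finset.mem_image_of_mem _ (Finset.mem_univ k)),
    Finset.sum_congr rfl fun ψ hψ => card_fiber co hn χ hψ, Finset.sum_const, smul_eq_mul, mul_comm]

theorem exists_integral {b : ℕ} [NeZero (p ^ (b + 1))] (co : m.Coprime (p ^ (b + 1)))
    (hn : Nat.card G = m * p ^ (b + 1)) {χ : G → ℂ} (hχ : IsCharacter G χ) (g : G) :
    ∃ I : ℂ, IsIntegral ℤ I ∧
      ((p : ℂ) - 1) * ∑ ψ ∈ orbit co χ, ψ g = ((orbit co χ).card : ℂ) * I := by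
  classical
  have hexp : g ^ (m * p ^ (b + 1)) = 1 := by rw [← hn, pow_card_eq_one']
  obtain ⟨d, ρ, rfl⟩ := id hχ
  obtain ⟨ω, hω, he⟩ := CT.exists_eigenvalues ρ g
  have hωN : ∀ i, ω i ^ (m * p ^ (b + 1)) = 1 := fun i => orderOf_dvd_iff_pow_eq_one.mp
    ((orderOf_dvd_of_pow_eq_one (hω i)).trans (orderOf_dvd_of_pow_eq_one hexp))
  obtain ⟨e1, he1m, he1p⟩ := Nat.chineseRemainder co 1 0
  obtain ⟨e2, he2m, he2p⟩ := Nat.chineseRemainder co 0 1
  have hlift : ∀ (k : (ZMod (p ^ (b + 1)))ˣ) (i : Fin _),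
      ω i ^ lift co k = ω i ^ e1 * (ω i ^ e2) ^ (k : ZMod (p ^ (b + 1))).val := by
    intro k i
    rw [← pow_mul, ← pow_add, pow_eq_pow_mod _ (hωN i), pow_eq_pow_mod (e1 + _) (hωN i)]
    congr 1
    show lift co k ≡ e1 + e2 * _ [MOD m * p ^ (b + 1)]
    rw [← Nat.modEq_and_modEq_iff_modEq_mul co]
    refine ⟨(lift_spec co k).1.trans ?_, (lift_spec co k).2.trans ?_⟩
    · simpa using ((he1m.add (he2m.mul_right _))).symm
    · simpa using ((he1p.add (he2p.mul_right _))).symm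
  have hw : ∀ i, (ω i ^ e2) ^ p ^ (b + 1) = 1 := by
    intro i
    obtain ⟨c, hc⟩ : m ∣ e2 := Nat.modEq_zero_iff_dvd.mp he2m
    rw [← pow_mul, hc, show m * c * p ^ (b + 1) = m * p ^ (b + 1) * c by ring, pow_mul, hωN, one_pow]
  choose c hc using fun i => sum_units_pow (hw i)
  have hωint : ∀ i, IsIntegral ℤ (ω i) := fun i =>
    IsIntegral.of_pow (n := m * p ^ (b + 1)) (Nat.pos_of_ne_zero fun h => by rw [h] at hn; exact Nat.card_pos.ne' hn)
      (by rw [hωN]; exact isIntegral_one)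
  refine ⟨∑ i, ω i ^ e1 * (c i : ℂ),
    IsIntegral.sum _ fun i _ => ((hωint i).pow _).mul (by simpa using (isIntegral_algebraMap (R := ℤ) (x := c i) : IsIntegral ℤ (algebraMap ℤ ℂ (c i)))), ?_⟩
  have h1 : ∑ k : (ZMod (p ^ (b + 1)))ˣ, tw co ρ.character k g = (p : ℂ) ^ b * ∑ i, ω i ^ e1 * (c i : ℂ) := by
    simp only [tw, he, hlift]
    rw [Finset.sum_comm, Finset.mul_sum]
    refine Finset.sum_congr rfl fun i _ => ?_
    rw [← Finset.mul_sum, hc]
    ring
  rw [sum_tw co hn] at h1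
  have h2 := card_units_eq co hn ρ.character
  rw [Nat.card_eq_fintype_card, ZMod.card_units_eq_totient, Nat.totient_prime_pow hp.out (Nat.succ_pos b),
    Nat.add_one_sub_one] at h2
  have h2' : (p : ℂ) ^ b * ((p : ℂ) - 1) = (Nat.card (fixU co hn ρ.character) : ℂ) * (orbit co ρ.character).card := by
    have : ((p ^ b * (p - 1) : ℕ) : ℂ) =
        ((Nat.card (fixU co hn ρ.character) * (orbit co ρ.character).card : ℕ) : ℂ) := by rw [h2]
    push_cast [Nat.cast_sub hp.out.one_le] at this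
    exact this
  have hp0 : (p : ℂ) ^ b ≠ 0 := pow_ne_zero _ (Nat.cast_ne_zero.mpr hp.out.ne_zero)
  apply mul_left_cancel₀ hp0
  linear_combination (∑ ψ ∈ orbit co ρ.character, ψ g) * h2' + ((orbit co ρ.character).card : ℂ) * h1

open Classical in
theorem natDvd_of_integral {b : ℕ} [NeZero (p ^ (b + 1))] (hmp : ¬ p ∣ m) (co : m.Coprime (p ^ (b + 1)))
    (hn : Nat.card G = m * p ^ (b + 1)) {χ : G → ℂ} (hχ : IsIrrCharacter G χ)
    (horb : ∀ ψ ∈ orbit co χ, IsIrrCharacter G ψ) :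
    ¬ p ^ (b + 2) ∣ (orbit co χ).card * CT.deg χ := by
  intro hdvd
  set O := orbit co χ with hO
  have hexp : ∀ g : G, g ^ (m * p ^ (b + 1)) = 1 := fun g => by rw [← hn, pow_card_eq_one']
  have hχc := CT.isCharacter_of_isIrr hχ
  have hχO : χ ∈ O := Finset.mem_image.mpr ⟨1, Finset.mem_univ _, funext fun g => by rw [tw, pow_lift_one co (hexp g)]⟩
  choose I hI hIe using fun g => exists_integral co hn hχc g
  obtain ⟨V, hV⟩ := CT.exists_valuation_charP p
  obtain ⟨d, ρ, hρ, rfl⟩ := id hχ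
  obtain ⟨d', A, rfl, hA⟩ := CT.exists_integral_model V ρ
  let σ : Representation ℂ G (Fin d' → ℂ) :=
    (Matrix.toLinAlgEquiv' (R := ℂ) (n := Fin d')).toMonoidHom.comp
      ((V.subtype.mapMatrix).toMonoidHom.comp A)
  have hσ : σ.character = ρ.character := funext fun g => by
    show LinearMap.trace ℂ _ (Matrix.toLin' ((A g).map V.subtype)) = _
    rw [Matrix.trace_toLin'_eq, hA]
  haveI := CT.isIrreducible_of_isIrrCharacter σ (hσ ▸ hχ)
  let f : G → ℂ := fun g => ((p : ℂ) - 1) * (∑ ψ ∈ O, ψ g) / (O.card : ℂ)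
  have hOc : (O.card : ℂ) ≠ 0 := Nat.cast_ne_zero.mpr (Finset.card_ne_zero_of_mem hχO)
  have hfI : ∀ g, f g = I g := fun g => by
    show ((p : ℂ) - 1) * _ / _ = _
    rw [hIe g, ← hO]; field_simp
  have hfc : ∀ x g, f (x * g * x⁻¹) = f g := fun x g => by
    show ((p : ℂ) - 1) * _ / _ = _
    rw [Finset.sum_congr rfl fun ψ hψ => CT.isClassFunction_of_isIrr (horb ψ hψ) g x]
  let T : Module.End ℂ (Fin d' → ℂ) := ∑ g : G, f g • σ g⁻¹
  have hT : ∀ x, T * σ x = σ x * T := by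
    intro x
    simp only [T, Finset.sum_mul, Finset.mul_sum, smul_mul_assoc, mul_smul_comm, ← map_mul]
    refine Fintype.sum_equiv (MulAut.conj x⁻¹).toEquiv _ _ fun g => ?_
    show f g • σ (g⁻¹ * x) = f (x⁻¹ * g * x⁻¹⁻¹) • σ (x * (x⁻¹ * g * x⁻¹⁻¹)⁻¹)
    rw [hfc]
    congr 2
    group
  have hTs := CT.eq_scalar_of_commute σ T hT
  have htr : LinearMap.trace ℂ _ T = ((p : ℂ) - 1) * (Nat.card G : ℂ) / (O.card : ℂ) := by
    have h1 : LinearMap.trace ℂ _ T = ∑ g : G, f g * conj (ρ.character g) := by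
      simp only [T, map_sum, map_smul, smul_eq_mul]
      refine Finset.sum_congr rfl fun g _ => ?_
      rw [← CT.char_inv ρ, ← hσ]; rfl
    rw [h1]
    have h2 : classInner (∑ ψ ∈ O, ψ) ρ.character = 1 := by
      rw [CT.classInner_sum_left, Finset.sum_eq_single ρ.character
        (fun ψ hψ hne => CT.irr_inner_of_ne (horb ψ hψ) hχ hne) (fun h => absurd hχO h),
        CT.irr_inner_self hχ]
    rw [classInner, inv_mul_eq_one₀ (Nat.cast_ne_zero.mpr Nat.card_pos.ne')] at h2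
    rw [h2, Finset.mul_sum, Finset.sum_div]
    refine Finset.sum_congr rfl fun g _ => ?_
    show ((p : ℂ) - 1) * _ / _ * _ = _
    rw [Finset.sum_apply]
    ring
  have hd : CT.deg ρ.character = d' := by rw [CT.deg_eq_finrank, Module.finrank_fin_fun]
  have hd0 : 0 < d' := hd ▸ CT.deg_pos hχ
  set q : ℂ := ((p : ℂ) - 1) * (Nat.card G : ℂ) / (O.card : ℂ) / (d' : ℂ)
  have hq : q ∈ V := by
    have hint : ∀ z : ℂ, IsIntegral ℤ z → z ∈ V := fun z hz => by
      have h1 : IsIntegral V z := hz.tower_top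
      obtain ⟨y, hy⟩ := IsIntegrallyClosed.algebraMap_eq_of_integral h1
      exact hy ▸ y.2
    have h1 := congrArg (fun L : Module.End ℂ (Fin d' → ℂ) => LinearMap.toMatrix' L ⟨0, hd0⟩ ⟨0, hd0⟩) hTs
    simp only [htr, Module.finrank_fin_fun, map_smul, LinearMap.toMatrix'_id, Matrix.smul_apply,
      Matrix.one_apply_eq, smul_eq_mul, mul_one] at h1
    rw [show q = _ from h1.symm]
    simp only [T, map_sum, map_smul, Matrix.sum_apply, Matrix.smul_apply, smul_eq_mul, hfI]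
    refine sum_mem fun g _ => V.mul_mem _ _ (hint _ (hI g)) ?_
    show LinearMap.toMatrix' (Matrix.toLin' ((A g⁻¹).map V.subtype)) ⟨0, hd0⟩ ⟨0, hd0⟩ ∈ V
    rw [LinearMap.toMatrix'_toLin']
    exact (A g⁻¹ ⟨0, hd0⟩ ⟨0, hd0⟩).2
  obtain ⟨c, hc⟩ := hdvd
  rw [hd] at hc
  have hkey : ((p : V) - 1) * (m : V) = (p : V) * (⟨q, hq⟩ * (c : V)) := by
    refine Subtype.ext ?_
    push_cast
    have hcd : ((O.card : ℂ) * (d' : ℂ)) = (p : ℂ) ^ (b + 2) * (c : ℂ) := by exact_mod_cast hc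
    have hp0 : (p : ℂ) ^ (b + 1) ≠ 0 := pow_ne_zero _ (Nat.cast_ne_zero.mpr hp.out.ne_zero)
    have hd'0 : (d' : ℂ) ≠ 0 := Nat.cast_ne_zero.mpr hd0.ne'
    have hqe : q * ((O.card : ℂ) * (d' : ℂ)) = ((p : ℂ) - 1) * ((m : ℂ) * (p : ℂ) ^ (b + 1)) := by
      simp only [q, hn]
      push_cast
      field_simp
    rw [hcd] at hqe
    apply mul_left_cancel₀ hp0
    linear_combination -hqe
  have h3 := congrArg (IsLocalRing.residue V) hkey
  haveI := hV
  simp only [map_mul, map_sub, map_natCast, map_one, CharP.cast_eq_zero, zero_sub, zero_mul, neg_mul, one_mul,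
    neg_eq_zero] at h3
  exact hmp ((CharP.cast_eq_zero_iff (IsLocalRing.ResidueField V) p m).mp h3)

open Classical in
theorem not_dvd_orbit {b : ℕ} [NeZero (p ^ (b + 1))] (hmp : ¬ p ∣ m) (co : m.Coprime (p ^ (b + 1)))
    (hn : Nat.card G = m * p ^ (b + 1)) (χ : IrrCharacter G)
    (horb : ∀ ψ ∈ orbit co (χ : G → ℂ), IsIrrCharacter G ψ)
    (hd : p ^ (b + 1) ∣ (orbit co (χ : G → ℂ)).card * CT.deg (χ : G → ℂ)) :
    ¬ p ∣ (orbit co (χ : G → ℂ)).card := by
  intro hpr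
  set O := orbit co (χ : G → ℂ) with hO
  have hχc := CT.isCharacter_of_isIrr χ.2
  have hexp : ∀ g : G, g ^ (m * p ^ (b + 1)) = 1 := fun g => by rw [← hn, pow_card_eq_one']
  obtain ⟨M, hM⟩ := ClassSum.exists_modular p hp.out
  haveI := Blocks.isPrime_of_modular hM
  have hdeg : ∀ ψ ∈ O, ψ 1 = (χ : G → ℂ) 1 := fun ψ hψ => by
    obtain ⟨k, -, rfl⟩ := Finset.mem_image.mp hψ
    rw [tw, one_pow]
  let A : Set (IrrCharacter G) := {η | (η : G → ℂ) ∈ O}
  obtain ⟨e, he⟩ := hd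
  have hcoef : ∀ u, blockCoeff A u ∈ Blocks.Loc M := by
    intro u
    obtain ⟨I, hI, hIe⟩ := exists_integral co hn hχc u⁻¹
    have h1 : blockCoeff A u = (Nat.card G : ℂ)⁻¹ * ((χ : G → ℂ) 1 * ∑ ψ ∈ O, ψ u⁻¹) := by
      rw [blockCoeff, Finset.mul_sum, finsum_mem_eq_finite_toFinset_sum _ (Set.toFinite A)]
      congr 1
      refine Finset.sum_bij (fun η _ => (η : G → ℂ)) (fun η hη => ((Set.toFinite A).mem_toFinset.mp hη : (η : G → ℂ) ∈ O))
        (fun η _ η' _ h => Subtype.ext h)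
        (fun ψ hψ => ⟨⟨ψ, horb ψ hψ⟩, (Set.toFinite A).mem_toFinset.mpr (show ψ ∈ O from hψ), rfl⟩) fun η hη => ?_
      rw [CT.char_inv_eq_conj (CT.isCharacter_of_isIrr η.2), hdeg _ (((Set.toFinite A).mem_toFinset.mp hη : (η : G → ℂ) ∈ O))]
    have hmM : (((p - 1) * m : ℕ) : AlgInt) ∉ M := fun h => by
      rcases hp.out.dvd_mul.mp ((Blocks.natCast_mem_iff hM _).mp h) with h | h
      · exact absurd (Nat.le_of_dvd (Nat.sub_pos_of_lt hp.out.one_lt) h)
          (not_le.mpr (Nat.sub_lt hp.out.pos one_pos))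
      · exact hmp h
    refine Blocks.mem_loc_iff.mpr ⟨(e : AlgInt) * Blocks.aint hI, (((p - 1) * m : ℕ) : AlgInt), hmM, ?_⟩
    rw [h1, CT.deg_eq hχc, hn]
    have he' : (O.card : ℂ) * (CT.deg (χ : G → ℂ) : ℂ) = (p : ℂ) ^ (b + 1) * (e : ℂ) := by exact_mod_cast he
    have hp0 : (p : ℂ) ≠ 0 := Nat.cast_ne_zero.mpr hp.out.ne_zero
    have hp1 : (p : ℂ) - 1 ≠ 0 := by
      rw [sub_ne_zero]; exact_mod_cast hp.out.one_lt.ne'
    have hm0 : (m : ℂ) ≠ 0 := Nat.cast_ne_zero.mpr fun h => hmp (h ▸ dvd_zero p)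
    push_cast [Nat.cast_sub hp.out.one_le]
    simp only [Blocks.coe_aint]
    field_simp
    linear_combination (-I) * he' + (-(CT.deg (χ : G → ℂ) : ℂ)) * hIe
  have hsing : ∀ x : G, p ∣ orderOf x → ∑ ψ ∈ O, ψ x = 0 := by
    intro x hx
    have h := Blocks.weak_orthogonality' hM hcoef (g := x) (h := (1 : G)) hx
      (by rw [orderOf_one]; exact hp.out.not_dvd_one)
    rw [finsum_mem_eq_finite_toFinset_sum _ (Set.toFinite A)] at h
    have h2 : ∑ η ∈ (Set.toFinite A).toFinset, (η : G → ℂ) x * conj ((η : G → ℂ) 1) =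
        (∑ ψ ∈ O, ψ x) * conj ((χ : G → ℂ) 1) := by
      rw [Finset.sum_mul]
      refine Finset.sum_bij (fun η _ => (η : G → ℂ)) (fun η hη => ((Set.toFinite A).mem_toFinset.mp hη : (η : G → ℂ) ∈ O))
        (fun η _ η' _ h => Subtype.ext h)
        (fun ψ hψ => ⟨⟨ψ, horb ψ hψ⟩, (Set.toFinite A).mem_toFinset.mpr (show ψ ∈ O from hψ), rfl⟩) fun η hη => ?_
      rw [hdeg _ (((Set.toFinite A).mem_toFinset.mp hη : (η : G → ℂ) ∈ O))]
    rw [h2, mul_eq_zero, map_eq_zero (starRingEnd ℂ)] at h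
    exact h.resolve_right (CT.irr_one_ne_zero χ.2)
  obtain ⟨P⟩ : Nonempty (Sylow p G) := inferInstance
  haveI := Fintype.ofFinite ↥(P : Subgroup G)
  obtain ⟨δ, hδ⟩ := CT.classInner_character_nat
    (CT.isCharacter_restrict (P : Subgroup G) hχc) CT.isCharacter_one
  have hδ' : (Nat.card P : ℂ)⁻¹ * ∑ s : ↥(P : Subgroup G), (χ : G → ℂ) s = δ := by
    rw [← hδ]; simp [classInner]
  have hall : ∀ ψ ∈ O, (Nat.card P : ℂ)⁻¹ * ∑ s : ↥(P : Subgroup G), ψ s = δ := by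
    intro ψ hψ
    obtain ⟨k, -, rfl⟩ := Finset.mem_image.mp hψ
    obtain ⟨f, hf⟩ := OddChar.exists_ringEquiv_pow (hn ▸ Nat.card_pos) (lift_coprime co k)
    have := congrArg f hδ'
    rw [map_mul, map_inv₀, map_natCast, map_natCast, map_sum] at this
    rw [← this]
    congr 1
    refine Finset.sum_congr rfl fun s _ => ?_
    rw [ValueField.map_value hχc f hf (hexp _)]
    rfl
  have hPc : Nat.card P = p ^ (b + 1) := by
    rw [P.card_eq_multiplicity, hn, Nat.factorization_mul (fun h => hmp (by rw [h]; exact dvd_zero p))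
      (pow_ne_zero _ hp.out.ne_zero), Finsupp.add_apply, Nat.factorization_eq_zero_of_not_dvd hmp,
      hp.out.factorization_pow, Finsupp.single_eq_same, zero_add]
  have h1 : (∑ ψ ∈ O, (Nat.card P : ℂ)⁻¹ * ∑ s : ↥(P : Subgroup G), ψ s) = (e : ℂ) := by
    rw [← Finset.mul_sum, Finset.sum_comm, Finset.sum_eq_single (1 : ↥(P : Subgroup G)) (fun s _ hs => ?_) (by simp),
      OneMemClass.coe_one, Finset.sum_congr rfl hdeg, Finset.sum_const,
      nsmul_eq_mul, CT.deg_eq hχc, hPc]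
    · have he' : (O.card : ℂ) * (CT.deg (χ : G → ℂ) : ℂ) = (p : ℂ) ^ (b + 1) * (e : ℂ) := by exact_mod_cast he
      push_cast
      rw [he']
      exact inv_mul_cancel_left₀ (pow_ne_zero _ (Nat.cast_ne_zero.mpr hp.out.ne_zero)) _
    · obtain ⟨j, hj⟩ := (IsPGroup.iff_orderOf.mp P.isPGroup') s
      refine hsing _ ?_
      rw [Subgroup.orderOf_coe, hj]
      exact dvd_pow_self p fun h => hs (orderOf_eq_one_iff.mp (by rw [hj, h, pow_zero]))
  rw [Finset.sum_congr rfl hall, Finset.sum_const, nsmul_eq_mul] at h1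
  have h2 : O.card * δ = e := by exact_mod_cast h1
  apply natDvd_of_integral hmp co hn χ.2 horb
  rw [← hO, he, ← h2, pow_succ]
  exact mul_dvd_mul_left _ (hpr.trans (dvd_mul_right _ _))

end Cfsg.Agent.CT.PConj
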