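import Cfsg.Agent.Lib.OddChar.GaloisChar
import Cfsg.Agent.Lib.CT.Orthogonality

/-!
The field generated by the values of all irreducible characters at an element, through the fusion of its
powers.
-/

set_option autoImplicit false
set_option linter.all false

namespace Cfsg.Agent.CT.ValueField

open scoped IntermediateField

/-- Galois correspondence inside a cyclotomic field, with automorphisms of the complex numbers. -/
theorem mem_adjoin_of_fixed {N : ℕ} [NeZero N] {ζ : ℂ} (hζ : IsPrimitiveRoot ζ N) {S : Set ℂ}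
    (hS : ∀ s ∈ S, s ∈ (ℚ⟮ζ⟯ : IntermediateField ℚ ℂ)) {z : ℂ}
    (hz : z ∈ (ℚ⟮ζ⟯ : IntermediateField ℚ ℂ))
    (hfix : ∀ j : ℕ, j.Coprime N → ∀ f : ℂ ≃+* ℂ, (∀ w : ℂ, w ^ N = 1 → f w = w ^ j) →
      (∀ s ∈ S, f s = s) → f z = z) :
    z ∈ IntermediateField.adjoin ℚ S := by
  set F : IntermediateField ℚ ℂ := IntermediateField.adjoin ℚ S with hF
  have hFle : F ≤ (ℚ⟮ζ⟯ : IntermediateField ℚ ℂ) := IntermediateField.adjoin_le_iff.mpr hS
  have hint : IsIntegral F ζ := (hζ.isIntegral (NeZero.pos N)).tower_top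
  haveI := IntermediateField.adjoin.finiteDimensional hint
  have hle : (ℚ⟮ζ⟯ : IntermediateField ℚ ℂ) ≤ (F⟮ζ⟯).restrictScalars ℚ :=
    IntermediateField.adjoin_simple_le_iff.mpr (IntermediateField.mem_adjoin_simple_self F ζ)
  set a : F⟮ζ⟯ := ⟨z, hle hz⟩ with ha
  have haint : IsIntegral F a := IsIntegral.of_finite F a
  have hroots : ∀ β ∈ (minpoly F a).rootSet ℂ, β = z := by
    intro β hβ
    rw [← Algebra.IsAlgebraic.range_eval_eq_rootSet_minpoly] at hβ
    obtain ⟨φ, rfl⟩ := hβ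
    set gen := IntermediateField.AdjoinSimple.gen F ζ
    have hg : IsPrimitiveRoot gen N :=
      IsPrimitiveRoot.of_map_of_injective (f := (F⟮ζ⟯).val) (by simpa [gen] using hζ)
        Subtype.val_injective
    have hprim : IsPrimitiveRoot (φ gen) N := hg.map_of_injective φ.injective
    obtain ⟨j, -, hj, hje⟩ := hζ.isPrimitiveRoot_iff.mp hprim
    obtain ⟨f, hf⟩ := OddChar.exists_ringEquiv_pow (NeZero.pos N) hj
    have hgen : f ζ = φ gen := by rw [hf ζ hζ.pow_eq_one, hje]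
    have key : ∀ (x : ℂ) (hx : x ∈ (ℚ⟮ζ⟯ : IntermediateField ℚ ℂ)), f x = φ ⟨x, hle hx⟩ := by
      intro x hx
      induction hx using IntermediateField.adjoin_induction with
      | mem y hy =>
        have hy' : y = ζ := Set.mem_singleton_iff.mp hy
        subst hy'
        exact hgen
      | algebraMap q =>
        refine (map_ratCast f q).trans ?_
        rw [← map_ratCast φ q]
        exact congrArg φ (Subtype.ext (by simp))
      | add x y hx hy ihx ihy =>
        rw [map_add, ihx, ihy, ← map_add]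
        rfl
      | inv x hx ih =>
        rw [map_inv₀, ih, ← map_inv₀]
        rfl
      | mul x y hx hy ihx ihy =>
        rw [map_mul, ihx, ihy, ← map_mul]
        rfl
    have hfS : ∀ s ∈ S, f s = s := by
      intro s hs
      rw [key s (hS s hs)]
      exact φ.commutes ⟨s, IntermediateField.subset_adjoin ℚ S hs⟩
    show φ a = z
    rw [← key z hz]
    exact hfix j hj f hf hfS
  have hcard := Polynomial.card_rootSet_eq_natDegree (K := ℂ) (minpoly.irreducible haint).separable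
    (IsAlgClosed.splits _)
  have hle1 : Fintype.card ((minpoly F a).rootSet ℂ) ≤ 1 :=
    Fintype.card_le_one_iff_subsingleton.mpr
      ⟨fun x y => Subtype.ext ((hroots x x.2).trans (hroots y y.2).symm)⟩
  rw [hcard] at hle1
  have hdeg : (minpoly F a).natDegree = 1 := by
    have := minpoly.natDegree_pos haint
    omega
  obtain ⟨q, hq⟩ := minpoly.natDegree_eq_one_iff.mp hdeg
  have h1 : (q : ℂ) = z := congrArg Subtype.val hq
  rw [← h1]
  exact q.2

universe u

variable {G : Type u} [Group G] [Finite G]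

theorem map_value {χ : G → ℂ} (hχ : IsCharacter G χ) {j M : ℕ} (f : ℂ ≃+* ℂ)
    (hf : ∀ z : ℂ, z ^ M = 1 → f z = z ^ j) {g : G} (hg : g ^ M = 1) : f (χ g) = χ (g ^ j) := by
  obtain ⟨m, ρ, rfl⟩ := hχ
  obtain ⟨ω, hω, he⟩ := exists_eigenvalues ρ g
  have h1 := he 1
  simp only [pow_one] at h1
  rw [h1, map_sum, he j]
  refine Finset.sum_congr rfl fun i _ => hf _ ?_
  exact orderOf_dvd_iff_pow_eq_one.mp
    ((orderOf_dvd_of_pow_eq_one (hω i)).trans (orderOf_dvd_of_pow_eq_one hg))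

theorem value_mem {χ : G → ℂ} (hχ : IsCharacter G χ) {M : ℕ} [NeZero M] {ζ : ℂ}
    (hζ : IsPrimitiveRoot ζ M) {g : G} (hg : g ^ M = 1) :
    χ g ∈ (ℚ⟮ζ⟯ : IntermediateField ℚ ℂ) := by
  obtain ⟨m, ρ, rfl⟩ := hχ
  obtain ⟨ω, hω, he⟩ := exists_eigenvalues_one ρ g
  rw [he]
  refine IntermediateField.sum_mem _ fun i _ => ?_
  obtain ⟨k, -, hk⟩ := hζ.eq_pow_of_pow_eq_one (ξ := ω i) (orderOf_dvd_iff_pow_eq_one.mp
    ((orderOf_dvd_of_pow_eq_one (hω i)).trans (orderOf_dvd_of_pow_eq_one hg)))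
  rw [← hk]
  exact IntermediateField.pow_mem _ (IntermediateField.mem_adjoin_simple_self ℚ ζ) k

/-- An automorphism fixes all values at `g` iff it fixes the class of `g`. -/
theorem forall_fixed_iff {g : G} {j M : ℕ} (f : ℂ ≃+* ℂ) (hf : ∀ z : ℂ, z ^ M = 1 → f z = z ^ j)
    (hg : g ^ M = 1) :
    (∀ χ : IrrCharacter G, f ((χ : G → ℂ) g) = (χ : G → ℂ) g) ↔ IsConj g (g ^ j) := by
  haveI := Fintype.ofFinite G
  rw [CT.isConj_iff_forall_irr]
  refine forall_congr' fun χ => ?_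
  rw [map_value (CT.isCharacter_of_isIrr χ.2) f hf hg]
  exact eq_comm

/-- The value field at `g` as a fixed field. -/
theorem adjoin_values_eq {g : G} {M : ℕ} [NeZero M] {ζ : ℂ} (hζ : IsPrimitiveRoot ζ M) (hg : g ^ M = 1)
    {w : ℂ} (hw : w ∈ (ℚ⟮ζ⟯ : IntermediateField ℚ ℂ))
    (h : ∀ j : ℕ, j.Coprime M → ∀ f : ℂ ≃+* ℂ, (∀ z : ℂ, z ^ M = 1 → f z = z ^ j) →
      (f w = w ↔ IsConj g (g ^ j))) :
    IntermediateField.adjoin ℚ {z : ℂ | ∃ χ : IrrCharacter G, (χ : G → ℂ) g = z} =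
      IntermediateField.adjoin ℚ ({w} : Set ℂ) := by
  have hval : ∀ z ∈ {z : ℂ | ∃ χ : IrrCharacter G, (χ : G → ℂ) g = z},
      z ∈ (ℚ⟮ζ⟯ : IntermediateField ℚ ℂ) := by
    rintro _ ⟨χ, rfl⟩
    exact value_mem (CT.isCharacter_of_isIrr χ.2) hζ hg
  refine le_antisymm (IntermediateField.adjoin_le_iff.mpr fun z hz => ?_)
    (IntermediateField.adjoin_le_iff.mpr fun z hz => ?_)
  · obtain ⟨χ, rfl⟩ := hz
    refine mem_adjoin_of_fixed hζ (by rintro s rfl; exact hw) (hval _ ⟨χ, rfl⟩) fun j hj f hf hfw => ?_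
    exact (forall_fixed_iff f hf hg).mpr ((h j hj f hf).mp (hfw w rfl)) χ
  · rw [Set.mem_singleton_iff] at hz
    subst hz
    refine mem_adjoin_of_fixed hζ hval hw fun j hj f hf hfS => ?_
    exact (h j hj f hf).mpr ((forall_fixed_iff f hf hg).mp fun χ => hfS _ ⟨χ, rfl⟩)

end Cfsg.Agent.CT.ValueField
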