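import Cfsg.Agent.Lib.CT.Brauer
import Cfsg.Agent.Lib.CT.Kernel
import Cfsg.Agent.Lib.CT.Clifford
import Cfsg.Agent.Lib.CT.ValueField
import Cfsg.Agent.Lib.OddChar.GaloisChar

/-!
# The order of a `p`-group with a faithful irreducible character of given degree and field of values
-/

set_option autoImplicit false
set_option linter.unusedSectionVars false

namespace Cfsg.Agent.CT.PGroupSchur

open scoped ComplexConjugate

universe u

variable {G : Type u} [Group G]

/-- The conjugates of a function under the power maps prime to `p`. -/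
def powOrbit (p : ℕ) (χ : G → ℂ) : Set (G → ℂ) :=
  {η | ∃ j : ℕ, ¬ p ∣ j ∧ η = fun g => χ (g ^ j)}

theorem powOrbit_finite [Finite G] (p : ℕ) (χ : G → ℂ) : (powOrbit p χ).Finite := by
  refine Set.Finite.subset (Set.finite_range fun j : Fin (Nat.card G) => fun g : G => χ (g ^ (j : ℕ))) ?_
  rintro η ⟨j, -, rfl⟩
  refine ⟨⟨j % Nat.card G, Nat.mod_lt _ Nat.card_pos⟩, funext fun g => congrArg χ ?_⟩
  exact pow_mod_natCard g j

theorem coprime_card {p a : ℕ} [hp : Fact p.Prime] (hG : Nat.card G = p ^ a) {j : ℕ} (hj : ¬ p ∣ j) :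
    j.Coprime (Nat.card G) := by
  rw [hG]
  exact Nat.Coprime.pow_right a ((hp.out.coprime_iff_not_dvd.mpr hj).symm)

theorem kerChar_normal' {χ : G → ℂ} (hχ : IsClassFunction G χ) : (kerChar χ).Normal :=
  ⟨fun g hg y x => by
    have h1 : χ (y⁻¹ * x * y * g) = χ (y⁻¹ * x * y) := hg _
    have h2 : ∀ z, χ (y⁻¹ * z * y) = χ z := fun z => by simpa using hχ z y⁻¹
    rw [← h2 (x * (y * g * y⁻¹)), ← h2 x]
    simpa [mul_assoc] using h1⟩

/-- The bound. -/
theorem bound {p : ℕ} [hp : Fact p.Prime] :
    ∀ (f : ℕ) {G : Type u} [Group G] [Fintype G] {a t : ℕ} {χ : G → ℂ}, Nat.card G = p ^ a →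
      IsIrrCharacter G χ → deg χ = f → (∀ g, χ g = χ 1 → g = 1) →
      (powOrbit p χ).ncard ≤ (p - 1) * p ^ t →
      (p - 1) * a ≤ (f - 1) + (p - 1) * (t + 1) * f := by
  intro f
  induction f using Nat.strong_induction_on with
  | _ f ih =>
  intro G _ _ a t χ hG hχ hf hfaith horb
  classical
  have hp2 := hp.out.two_le
  have hf0 : 0 < f := hf ▸ deg_pos hχ
  have hχc := isCharacter_of_isIrr hχ
  by_cases hf1 : f = 1
  · subst hf1
    obtain ⟨lam, hlam⟩ := exists_hom_of_degree_one hχc (by rw [deg_eq hχc, hf, Nat.cast_one])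
    rcases Nat.eq_zero_or_pos a with rfl | ha
    · simp
    have hinj : Function.Injective lam := by
      refine (injective_iff_map_eq_one lam).mpr fun g hg => hfaith g ?_
      rw [congrFun hlam, congrFun hlam, hg, map_one]
    haveI : IsCyclic G := isCyclic_of_subgroup_isDomain ((Units.coeHom ℂ).comp lam)
      (Units.val_injective.comp hinj)
    obtain ⟨g₀, hg₀⟩ := IsCyclic.exists_ofOrder_eq_natCard (α := G)
    have hord : orderOf (lam g₀) = p ^ a := by rw [orderOf_injective lam hinj, hg₀, hG]
    let S := (Finset.range (p ^ a)).filter fun j => (p ^ a).Coprime j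
    have hle : S.card ≤ (powOrbit p χ).ncard := by
      rw [Set.ncard_eq_toFinset_card _ (powOrbit_finite p χ)]
      refine Finset.card_le_card_of_injOn (fun j => fun g => χ (g ^ j)) (fun j hj => ?_) ?_
      · simp only [S, Finset.coe_filter, Finset.mem_range, Set.mem_setOf_eq] at hj
        rw [Set.Finite.coe_toFinset]
        refine ⟨j, fun hd => ?_, rfl⟩
        exact hp.out.ne_one (Nat.eq_one_of_dvd_coprimes hj.2 (dvd_pow_self p ha.ne') hd)
      · intro i hi j hj hij
        simp only [S, Finset.coe_filter, Finset.mem_range, Set.mem_setOf_eq] at hi hj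
        have h := congrFun hij g₀
        simp only [congrFun hlam, map_pow] at h
        exact pow_injOn_Iio_orderOf (hord ▸ hi.1) (hord ▸ hj.1) (Units.ext h)
    have hS : S.card = p ^ (a - 1) * (p - 1) := by
      rw [← Nat.totient_prime_pow hp.out ha]; rfl
    rw [hS, mul_comm] at hle
    have hat : a - 1 ≤ t := (Nat.pow_le_pow_iff_right hp2).mp
      (Nat.le_of_mul_le_mul_left (hle.trans horb) (by omega))
    simp only [Nat.sub_self, zero_add, mul_one]
    exact Nat.mul_le_mul_left _ (by omega)
  · haveI : Group.IsNilpotent G := (IsPGroup.of_card hG).isNilpotent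
    obtain ⟨H, lam, hH⟩ := nilpotent_monomial hχ
    have hHtop : H ≠ ⊤ := by
      intro h
      apply hf1
      have h1 := congrFun hH 1
      rw [deg_eq hχc, hf, indFun_one_eval, map_one, Units.val_one, Subgroup.index_eq_one.mpr h] at h1
      simpa using h1
    obtain ⟨M, hM, hHM⟩ : ∃ M : Subgroup G, IsCoatom M ∧ H ≤ M :=
      (IsCoatomic.eq_top_or_exists_le_coatom H).resolve_left hHtop
    haveI hMn : M.Normal := Subgroup.NormalizerCondition.normal_of_coatom M
      Group.normalizerCondition_of_isNilpotent hM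
    haveI := Fintype.ofFinite M
    haveI := Fintype.ofFinite (G ⧸ M)
    have hMidx : M.index = p := by
      obtain ⟨b, hb⟩ := IsPGroup.iff_card.mp ((IsPGroup.of_card hG).to_quotient M)
      have hb0 : b ≠ 0 := fun h => hM.1 (Subgroup.index_eq_one.mp (by rw [Subgroup.index_eq_card, hb, h, pow_zero]))
      obtain ⟨W, hW⟩ := Sylow.exists_subgroup_card_pow_prime (G := G ⧸ M) p (n := 1)
        (by rw [hb, pow_one]; exact dvd_pow_self p hb0)
      rw [pow_one] at hW
      have hlt : M < W.comap (QuotientGroup.mk' M) := by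
        refine lt_of_le_of_ne (fun x hx => by simp [(QuotientGroup.eq_one_iff x).mpr hx]) fun h => hp.out.ne_one ?_
        rw [← hW, Subgroup.card_eq_one, ← Subgroup.map_comap_eq_self_of_surjective (QuotientGroup.mk'_surjective M) W,
          ← h, QuotientGroup.map_mk'_self]
      have htop := hM.2 _ hlt
      have hWtop : W = ⊤ := by
        rw [← Subgroup.map_comap_eq_self_of_surjective (QuotientGroup.mk'_surjective M) W, htop,
          Subgroup.map_top_of_surjective _ (QuotientGroup.mk'_surjective M)]
      rw [Subgroup.index_eq_card, ← hW, hWtop, Nat.card_congr Subgroup.topEquiv.toEquiv]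
    have hoff : ∀ g ∉ M, χ g = 0 := fun g hg => by
      rw [hH]
      exact indFun_eq_zero_of_not_conj_mem H _ fun x hx => hg (by
        have := hMn.conj_mem _ (hHM hx) x
        simpa [mul_assoc] using this)
    obtain ⟨ψ, hψ⟩ := exists_constituent_restrict M hχ
    have hψc := isCharacter_of_isIrr ψ.2
    have hrc := isCharacter_restrict M hχc
    set m := mult (fun n : M => χ n) ψ with hm
    set T := inertia M (ψ : M → ℂ) with hT
    have horbI : ∀ η ∈ conjOrbit M (ψ : M → ℂ), IsIrrCharacter M η := fun η hη => by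
      obtain ⟨g, rfl⟩ := (mem_conjOrbit M).mp hη
      exact isIrrCharacter_conjFun M g ψ.2
    have hcl := clifford M hχ ψ.2 hψ
    rw [mult_spec hrc hψc, ← hm] at hcl
    have hmt : m ^ 2 * T.index = p := by
      have h1 : classInner (fun n : M => χ n) (fun n : M => χ n) = ((m ^ 2 * T.index : ℕ) : ℂ) := by
        rw [hcl, classInner_smul_left, classInner_smul_right, map_natCast, classInner_sum_left,
          Finset.sum_congr rfl (g := fun _ => (1 : ℂ)) fun η hη => by
            rw [classInner_sum_right, Finset.sum_eq_single η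
              (fun b hb hne => irr_inner_of_ne (horbI η hη) (horbI b hb) (Ne.symm hne))
              (fun h => absurd hη h), irr_inner_self (horbI η hη)],
          Finset.sum_const, card_conjOrbit, ← hT, Nat.smul_one_eq_cast]
        push_cast; ring
      have h2 : classInner (fun n : M => χ n) (fun n : M => χ n) = (p : ℂ) := by
        have h3 := irr_inner_self hχ
        rw [classInner, ← Finset.sum_filter_add_sum_filter_not Finset.univ (fun g => g ∈ M),
          Finset.sum_eq_zero (s := Finset.univ.filter fun g => ¬ g ∈ M) fun g hg => by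
            rw [hoff g (Finset.mem_filter.mp hg).2, zero_mul],
          add_zero, Finset.sum_subtype (Finset.univ.filter (· ∈ M)) (p := fun x => x ∈ M) (fun x => by simp)] at h3
        rw [← hMidx, classInner]
        have hc : (Nat.card G : ℂ) ≠ 0 := card_ne_zero
        have hcM : (Nat.card M : ℂ) ≠ 0 := card_ne_zero
        rw [inv_mul_eq_iff_eq_mul₀ hc, mul_one] at h3
        rw [h3, ← M.card_mul_index, Nat.cast_mul, ← mul_assoc, inv_mul_cancel₀ hcM, one_mul]
      exact_mod_cast h1.symm.trans h2
    obtain ⟨hm1, hTp⟩ : m = 1 ∧ T.index = p := by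
      rcases (Nat.dvd_prime hp.out).mp (hmt ▸ dvd_mul_of_dvd_left (dvd_pow_self m two_ne_zero) _ : m ∣ p) with h | h
      · rw [h, one_pow, one_mul] at hmt; exact ⟨h, hmt⟩
      · exfalso
        have : p ^ 2 ∣ p := ⟨T.index, by rw [← h]; rw [hmt, h]⟩
        have := Nat.le_of_dvd hp.out.pos this
        nlinarith
    rw [hm1, Nat.cast_one, one_smul] at hcl
    have hdeg : f = p * deg (ψ : M → ℂ) := by
      rw [← hf, clifford_mult M hχ ψ.2 hψ, ← hm, hm1, ← hT, hTp, one_mul]
    set f' := deg (ψ : M → ℂ) with hf'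
    have hf'0 : 0 < f' := deg_pos ψ.2
    have hf'lt : f' < f := by rw [hdeg]; exact (Nat.lt_mul_iff_one_lt_left hf'0).mpr hp2
    -- the orders
    have ha : 0 < a := by
      rcases Nat.eq_zero_or_pos a with rfl | h
      · exfalso
        have h := hG ▸ M.index_dvd_card
        rw [hMidx, pow_zero, Nat.dvd_one] at h
        exact hp.out.ne_one h
      · exact h
    have hMcard : Nat.card M = p ^ (a - 1) := by
      have h := M.card_mul_index
      rw [hMidx, hG] at h
      exact Nat.eq_of_mul_eq_mul_right hp.out.pos (h.trans (by rw [← pow_succ, Nat.sub_add_cancel ha]))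
    -- the kernel of `ψ`
    set K := kerChar (ψ : M → ℂ) with hKdef
    haveI hKn : K.Normal := kerChar_normal' (isClassFunction_of_isIrr ψ.2)
    obtain ⟨ψb, hψb, hψbv⟩ := exists_quotient_irr ψ.2 K fun n hn => (mem_kerChar_iff hψc).mp hn
    have hψbdeg : deg ψb = f' := by
      rw [hf', deg, deg, ← hψbv 1]; rfl
    have hψbf : ∀ q, ψb q = ψb 1 → q = 1 := by
      intro q hq
      obtain ⟨y, rfl⟩ := QuotientGroup.mk_surjective q
      rw [hψbv, ← QuotientGroup.mk_one, hψbv] at hq
      exact (QuotientGroup.eq_one_iff y).mpr ((mem_kerChar_iff hψc).mpr hq)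
    obtain ⟨a', ha'⟩ := IsPGroup.iff_card.mp ((IsPGroup.of_card hMcard).to_quotient K)
    haveI := Fintype.ofFinite (M ⧸ K)
    have hψborb : (powOrbit p ψb).ncard ≤ (powOrbit p (ψ : M → ℂ)).ncard := by
      refine Set.ncard_le_ncard_of_injOn (fun η => fun y : M => η (y : M ⧸ K)) ?_ ?_ (powOrbit_finite _ _)
      · rintro η ⟨j, hj, rfl⟩
        exact ⟨j, hj, funext fun y => by show ψb ((y : M ⧸ K) ^ j) = _; rw [← QuotientGroup.mk_pow, hψbv]⟩
      · intro η _ η' _ h
        funext q
        obtain ⟨y, rfl⟩ := QuotientGroup.mk_surjective q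
        exact congrFun h y
    -- the map of orbits
    have hpow : ∀ j, ¬ p ∣ j → IsIrrCharacter M (fun y : M => (ψ : M → ℂ) (y ^ j)) := fun j hj =>
      OddChar.isIrr_map_pow ψ.2 (coprime_card hMcard hj)
    have hres : ∀ j, ¬ p ∣ j → classInner (fun n : M => (fun g : G => χ (g ^ j)) n)
        (fun y : M => (ψ : M → ℂ) (y ^ j)) ≠ 0 := by
      intro j hj
      have e : classInner (fun n : M => (fun g : G => χ (g ^ j)) n) (fun y : M => (ψ : M → ℂ) (y ^ j)) =
          classInner (fun n : M => χ n) (ψ : M → ℂ) := by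
        simp only [classInner]
        congr 1
        exact Fintype.sum_equiv (powCoprime (coprime_card hMcard hj).symm) _ _ fun n => rfl
      rw [e]; exact hψ
    have hwd : ∀ i j, ¬ p ∣ i → ¬ p ∣ j → (fun y : M => (ψ : M → ℂ) (y ^ i)) = (fun y : M => (ψ : M → ℂ) (y ^ j)) →
        (fun g : G => χ (g ^ i)) = fun g => χ (g ^ j) := by
      intro i j hi hj h
      funext g
      by_cases hg : g ∈ M
      · have ei := congrFun hcl ⟨g ^ i, M.pow_mem hg i⟩
        have ej := congrFun hcl ⟨g ^ j, M.pow_mem hg j⟩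
        show χ (g ^ i) = χ (g ^ j)
        rw [show χ (g ^ i) = _ from ei, show χ (g ^ j) = _ from ej, Finset.sum_apply, Finset.sum_apply]
        refine Finset.sum_congr rfl fun η hη => ?_
        obtain ⟨c, rfl⟩ := (mem_conjOrbit M).mp hη
        have := congrFun h ((MulAut.conjNormal c : MulAut M) ⟨g, hg⟩)
        rw [← map_pow, ← map_pow] at this
        rw [conjFun_eq_comp]
        exact this
      · have hni : ∀ j, ¬ p ∣ j → g ^ j ∉ M := fun j hj h' => hg (by
          obtain ⟨b, hb⟩ := exists_pow_eq_self_of_coprime (x := g)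
            ((coprime_card hG hj).coprime_dvd_right (orderOf_dvd_natCard g))
          rw [← hb]; exact M.pow_mem h' b)
        rw [hoff _ (hni i hi), hoff _ (hni j hj)]
    let Φ : (M → ℂ) → (G → ℂ) := fun η =>
      if h : η ∈ powOrbit p (ψ : M → ℂ) then fun g => χ (g ^ h.choose) else 0
    have hΦ : ∀ j, ¬ p ∣ j → Φ (fun y : M => (ψ : M → ℂ) (y ^ j)) = fun g => χ (g ^ j) := by
      intro j hj
      have h : (fun y : M => (ψ : M → ℂ) (y ^ j)) ∈ powOrbit p (ψ : M → ℂ) := ⟨j, hj, rfl⟩
      simp only [Φ, dif_pos h]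
      exact hwd _ _ h.choose_spec.1 hj h.choose_spec.2.symm
    set Oψ := (powOrbit_finite p (ψ : M → ℂ)).toFinset with hOψ
    set Oχ := (powOrbit_finite p χ).toFinset with hOχ
    have hmaps : Set.MapsTo Φ Oψ Oχ := by
      intro η hη
      rw [hOψ, Set.Finite.coe_toFinset] at hη
      obtain ⟨j, hj, rfl⟩ := hη
      rw [hOχ, Set.Finite.coe_toFinset, hΦ j hj]
      exact ⟨j, hj, rfl⟩
    have hfib : ∀ i j, ¬ p ∣ i → ¬ p ∣ j → (fun g : G => χ (g ^ i)) = (fun g => χ (g ^ j)) →
        ∃ g, conjFun M g (fun y : M => (ψ : M → ℂ) (y ^ i)) = fun y : M => (ψ : M → ℂ) (y ^ j) := by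
      intro i j hi hj h
      have h2 := hres j hj
      rw [← h] at h2
      exact exists_conj_of_constituent M (OddChar.isIrr_map_pow hχ (coprime_card hG hi)) (hpow i hi) (hpow j hj)
        (hres i hi) h2
    by_cases hinj : Set.InjOn Φ Oψ
    · have hcnt : (powOrbit p ψb).ncard ≤ (p - 1) * p ^ t := by
        refine hψborb.trans ?_
        rw [Set.ncard_eq_toFinset_card _ (powOrbit_finite p (ψ : M → ℂ))]
        exact (Finset.card_le_card_of_injOn Φ hmaps hinj).trans
          ((Set.ncard_eq_toFinset_card _ (powOrbit_finite p χ)).symm.le.trans horb)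
      have hb := ih f' hf'lt ha' hψb hψbdeg hψbf hcnt
      -- embedding into the product of the conjugate quotients
      let φ : M →* (G ⧸ M → M ⧸ K) :=
        { toFun := fun y q => ((MulAut.conjNormal q.out : MulAut M) y : M)
          map_one' := funext fun q => by simp
          map_mul' := fun y z => funext fun q => by simp }
      have hφ : Function.Injective φ := by
        refine (injective_iff_map_eq_one φ).mpr fun y hy => ?_
        have hall : ∀ g : G, ((MulAut.conjNormal g : MulAut M) y) ∈ K := by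
          intro g
          set q : G ⧸ M := (g : G ⧸ M)
          have hq : ((MulAut.conjNormal q.out : MulAut M) y) ∈ K := (QuotientGroup.eq_one_iff _).mp (congrFun hy q)
          have hmem : g * q.out⁻¹ ∈ M := by
            have h := QuotientGroup.eq.mp q.out_eq'
            have := hMn.conj_mem _ h q.out
            simpa [mul_assoc] using this
          have := hKn.conj_mem _ hq ⟨_, hmem⟩
          convert this using 1
          exact Subtype.ext (by simp [mul_assoc])
        refine Subtype.ext (hfaith _ ?_)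
        have e1 := congrFun hcl y
        have e2 := congrFun hcl 1
        simp only [OneMemClass.coe_one] at e2
        rw [show χ (y : G) = _ from e1, show χ 1 = _ from e2, Finset.sum_apply, Finset.sum_apply]
        refine Finset.sum_congr rfl fun η hη => ?_
        obtain ⟨c, rfl⟩ := (mem_conjOrbit M).mp hη
        simp only [conjFun_eq_comp, Function.comp_apply, map_one]
        exact (mem_kerChar_iff hψc).mp (hall c)
      have hcard := Nat.card_le_card_of_injective φ hφ
      rw [Nat.card_fun, ha', hMcard, ← Subgroup.index_eq_card, hMidx, ← pow_mul] at hcard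
      have hab := (Nat.pow_le_pow_iff_right hp2).mp hcard
      obtain ⟨b, rfl⟩ : ∃ b, a = b + 1 := ⟨a - 1, by omega⟩
      obtain ⟨r, rfl⟩ : ∃ r, p = r + 1 := ⟨p - 1, by omega⟩
      obtain ⟨s, hs⟩ : ∃ s, f' = s + 1 := ⟨f' - 1, by omega⟩
      simp only [Nat.add_sub_cancel, hdeg, hs] at hb hab ⊢
      rw [show (r + 1) * (s + 1) - 1 = (r + 1) * s + r by rw [Nat.mul_succ]; omega]
      nlinarith
    · -- the kernel is normal in `G`
      simp only [Set.InjOn, not_forall] at hinj
      obtain ⟨η₁, h₁, η₂, h₂, he, hne⟩ := hinj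
      rw [hOψ, Set.Finite.coe_toFinset] at h₁ h₂
      obtain ⟨i, hi, rfl⟩ := h₁
      obtain ⟨j, hj, rfl⟩ := h₂
      rw [hΦ i hi, hΦ j hj] at he
      obtain ⟨g, hg⟩ := hfib i j hi hj he
      have hgM : g ∉ M := fun h' => hne (by
        rw [← hg, conjFun_of_mem M (isClassFunction_of_isIrr (hpow i hi)) h'])
      have hker : ∀ (l : ℕ), ¬ p ∣ l → ∀ y : M, (ψ : M → ℂ) (y ^ l) = (ψ : M → ℂ) 1 ↔ y ∈ K := by
        intro l hl y
        rw [← mem_kerChar_iff hψc, ← hKdef]
        refine ⟨fun h => ?_, fun h => K.pow_mem h l⟩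
        obtain ⟨b, hb⟩ := exists_pow_eq_self_of_coprime (x := y)
          ((coprime_card hMcard hl).coprime_dvd_right (orderOf_dvd_natCard y))
        rw [← hb]; exact K.pow_mem h b
      have hgK : ∀ y : M, ((MulAut.conjNormal g : MulAut M) y) ∈ K ↔ y ∈ K := by
        intro y
        rw [← hker i hi, ← hker j hj y]
        have e : (ψ : M → ℂ) (y ^ j) = (ψ : M → ℂ) ((MulAut.conjNormal g : MulAut M) y ^ i) :=
          (congrFun hg y).symm.trans (by rw [conjFun_eq_comp])
        rw [e]
      set Kg : Subgroup G := K.map M.subtype with hKg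
      have hnorm : Subgroup.normalizer (Kg : Set G) = ⊤ := by
        refine hM.2 _ (lt_of_le_of_ne (fun y hy => ?_) fun h' => hgM ?_)
        · rw [Subgroup.mem_normalizer_iff]
          intro z
          constructor
          · rintro ⟨z, hz, rfl⟩
            exact ⟨_, hKn.conj_mem z hz ⟨y, hy⟩, rfl⟩
          · rintro ⟨w, hw, e⟩
            refine ⟨_, hKn.conj_mem w hw ⟨y, hy⟩⁻¹, ?_⟩
            simp only [Subgroup.coe_subtype] at e
            simp [e, mul_assoc]
        · rw [h', Subgroup.mem_normalizer_iff]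
          intro z
          constructor
          · rintro ⟨z, hz, rfl⟩
            exact ⟨_, (hgK z).mpr hz, by simp⟩
          · rintro ⟨w, hw, e⟩
            simp only [Subgroup.coe_subtype] at e
            have hzM : z ∈ M := by
              have := hMn.conj_mem _ w.2 g⁻¹
              simpa [e, mul_assoc] using this
            refine ⟨⟨z, hzM⟩, (hgK _).mp ?_, rfl⟩
            rwa [show (MulAut.conjNormal g : MulAut M) ⟨z, hzM⟩ = w from Subtype.ext (by simp [e])]
      haveI : Kg.Normal := Subgroup.normalizer_eq_top_iff.mp hnorm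
      have hKbot : ∀ y ∈ K, y = (1 : M) := by
        intro y hy
        refine Subtype.ext (hfaith _ ?_)
        have e1 := congrFun hcl y
        have e2 := congrFun hcl 1
        simp only [OneMemClass.coe_one] at e2
        rw [show χ (y : G) = _ from e1, show χ 1 = _ from e2, Finset.sum_apply, Finset.sum_apply]
        refine Finset.sum_congr rfl fun η hη => ?_
        obtain ⟨c, rfl⟩ := (mem_conjOrbit M).mp hη
        simp only [conjFun_eq_comp, Function.comp_apply, map_one]
        refine (mem_kerChar_iff hψc).mp ?_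
        obtain ⟨w, hw, e⟩ := (inferInstance : Kg.Normal).conj_mem (y : G) ⟨y, hy, rfl⟩ c
        rwa [show (MulAut.conjNormal c : MulAut M) y = w from Subtype.ext (by
          simp only [Subgroup.coe_subtype] at e; simp [e])]
      have hcnt : (powOrbit p ψb).ncard ≤ (p - 1) * p ^ (t + 1) := by
        refine hψborb.trans ?_
        rw [Set.ncard_eq_toFinset_card _ (powOrbit_finite p (ψ : M → ℂ)), pow_succ, ← mul_assoc]
        refine le_trans (Finset.card_le_mul_card_image_of_maps_to hmaps p fun η hη => ?_) ?_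
        · rcases (Finset.filter (fun a => Φ a = η) Oψ).eq_empty_or_nonempty with h0 | ⟨η₀, h0⟩
          · rw [h0]; simp
          obtain ⟨hm0, he0⟩ := Finset.mem_filter.mp h0
          rw [hOψ, Set.Finite.mem_toFinset] at hm0
          obtain ⟨l, hl, rfl⟩ := hm0
          refine le_trans (Finset.card_le_card (t := conjOrbit M (fun y : M => (ψ : M → ℂ) (y ^ l))) fun ρ hρ => ?_) ?_
          · obtain ⟨hm1', he1⟩ := Finset.mem_filter.mp hρ
            rw [hOψ, Set.Finite.mem_toFinset] at hm1'
            obtain ⟨l', hl', rfl⟩ := hm1'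
            rw [hΦ l' hl'] at he1
            rw [hΦ l hl] at he0
            exact (mem_conjOrbit M).mpr (hfib l l' hl hl' (he0.trans he1.symm))
          · rw [card_conjOrbit]
            exact Nat.le_of_dvd hp.out.pos (hMidx ▸ Subgroup.index_dvd_of_le
              (le_inertia M (isClassFunction_of_isIrr (hpow l hl))))
        · rw [mul_comm _ p]
          exact Nat.mul_le_mul_left p ((Set.ncard_eq_toFinset_card _ (powOrbit_finite p χ)).symm.le.trans horb)
      have hb := ih f' hf'lt ha' hψb hψbdeg hψbf hcnt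
      have hbot : K = ⊥ := (Subgroup.eq_bot_iff_forall K).mpr hKbot
      have hab : a' = a - 1 := by
        refine (Nat.pow_right_injective hp2) ?_
        show p ^ a' = p ^ (a - 1)
        rw [← ha', ← hMcard, ← Subgroup.index_eq_card, hbot, Subgroup.index_bot]
      obtain ⟨b, rfl⟩ : ∃ b, a = b + 1 := ⟨a - 1, by omega⟩
      obtain ⟨r, rfl⟩ : ∃ r, p = r + 1 := ⟨p - 1, by omega⟩
      obtain ⟨s, hs⟩ : ∃ s, f' = s + 1 := ⟨f' - 1, by omega⟩
      simp only [Nat.add_sub_cancel, hdeg, hs, hab] at hb ⊢
      rw [show (r + 1) * (s + 1) - 1 = (r + 1) * s + r by rw [Nat.mul_succ]; omega]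
      have hr : 1 ≤ r := by omega
      have h1 : 1 * (r * (s + 1)) ≤ r * (t + 1) * (r * (s + 1)) :=
        Nat.mul_le_mul_right _ (Nat.one_le_iff_ne_zero.mpr (Nat.mul_ne_zero (by omega) (by omega)))
      linarith [Nat.zero_le (r * s)]

end Cfsg.Agent.CT.PGroupSchur
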