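import Cfsg.Agent.Lib.FGB.PGroupBasic

/-!
Finite `p`-groups with abelianization of order `p ^ 2`.
-/

set_option autoImplicit false
set_option linter.all false

open scoped commutatorElement

namespace Cfsg.Agent.CT.PSq

variable {H : Type*} [Group H]

theorem commutator_le_of_gen {S : Set H} (hS : Subgroup.closure S = ⊤) (K : Subgroup H) [K.Normal]
    (h : ∀ a ∈ S, ∀ b ∈ S, ⁅a, b⁆ ∈ K) : _root_.commutator H ≤ K := by
  let π := QuotientGroup.mk' K
  have hπ : ∀ a ∈ S, ∀ b ∈ S, π a * π b = π b * π a := by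
    intro a ha b hb
    rw [← commutatorElement_eq_one_iff_mul_comm, ← map_commutatorElement]
    exact (QuotientGroup.eq_one_iff _).mpr (h a ha b hb)
  have key : ∀ W : Subgroup H, S ⊆ W → ∀ y : H, y ∈ W := by
    intro W hW y
    have : (⊤ : Subgroup H) ≤ W := by rw [← hS, Subgroup.closure_le]; exact hW
    exact this (Subgroup.mem_top y)
  have h1 : ∀ a ∈ S, ∀ y : H, π a * π y = π y * π a := by
    intro a ha y
    have : y ∈ (Subgroup.centralizer {π a}).comap π := by
      refine key _ (fun b hb => ?_) y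
      rw [SetLike.mem_coe, Subgroup.mem_comap, Subgroup.mem_centralizer_singleton_iff]
      exact hπ b hb a ha
    rw [Subgroup.mem_comap, Subgroup.mem_centralizer_singleton_iff] at this
    exact this.symm
  have h2 : ∀ y z : H, π y * π z = π z * π y := by
    intro y z
    have : y ∈ (Subgroup.centralizer {π z}).comap π := by
      refine key _ (fun b hb => ?_) y
      rw [SetLike.mem_coe, Subgroup.mem_comap, Subgroup.mem_centralizer_singleton_iff]
      exact h1 b hb z
    rw [Subgroup.mem_comap, Subgroup.mem_centralizer_singleton_iff] at this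
    exact this
  rw [_root_.commutator_def, Subgroup.commutator_le]
  intro y _ z _
  rw [← QuotientGroup.eq_one_iff]
  show π ⁅y, z⁆ = 1
  rw [map_commutatorElement, commutatorElement_eq_one_iff_mul_comm]
  exact h2 y z

theorem relIndex_commutator_eq (K : Subgroup H) :
    (⁅K, K⁆ : Subgroup H).relIndex K = (_root_.commutator K).index := by
  rw [← Subgroup.map_subtype_commutator, Subgroup.relIndex, Subgroup.subgroupOf,
    Subgroup.comap_map_eq_self_of_injective K.subtype_injective]

theorem closure_insert_eq_top {Q : Subgroup H} {x : H} (h : Q ⊔ Subgroup.zpowers x = ⊤) :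
    Subgroup.closure (insert x (Q : Set H)) = ⊤ := by
  rw [eq_top_iff, ← h, sup_le_iff, Subgroup.zpowers_le]
  exact ⟨fun q hq => Subgroup.subset_closure (Set.mem_insert_of_mem _ hq),
    Subgroup.subset_closure (Set.mem_insert _ _)⟩

theorem commutator_le_of_sup_zpowers (Q : Subgroup H) [hQn : Q.Normal] {x : H}
    (h : Q ⊔ Subgroup.zpowers x = ⊤) : _root_.commutator H ≤ Q := by
  refine commutator_le_of_gen (closure_insert_eq_top h) Q ?_
  intro a ha b hb
  rcases ha with rfl | ha <;> rcases hb with rfl | hb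
  · rw [commutatorElement_self]; exact one_mem Q
  · rw [commutatorElement_def]; exact Q.mul_mem (hQn.conj_mem b hb a) (Q.inv_mem hb)
  · have : ⁅a, b⁆ = a * (b * a⁻¹ * b⁻¹) := by simp only [commutatorElement_def, mul_assoc]
    rw [this]
    exact Q.mul_mem ha (hQn.conj_mem _ (Q.inv_mem ha) b)
  · rw [commutatorElement_def]
    exact Q.mul_mem (Q.mul_mem (Q.mul_mem ha hb) (Q.inv_mem ha)) (Q.inv_mem hb)

theorem sup_zpowers_eq_top {p : ℕ} [hp : Fact p.Prime] [Finite H] {Q : Subgroup H}
    (hi : Q.index = p) {x : H} (hx : x ∉ Q) : Q ⊔ Subgroup.zpowers x = ⊤ := by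
  have hd := Subgroup.index_dvd_of_le (le_sup_left : Q ≤ Q ⊔ Subgroup.zpowers x)
  rw [hi] at hd
  rcases hp.out.eq_one_or_self_of_dvd _ hd with h1 | h1
  · exact Subgroup.index_eq_one.mp h1
  · refine absurd ?_ hx
    have h2 := Subgroup.relIndex_mul_index (le_sup_left : Q ≤ Q ⊔ Subgroup.zpowers x)
    rw [h1, hi, Nat.mul_eq_right hp.out.pos.ne', Subgroup.relIndex_eq_one] at h2
    exact h2 (Subgroup.mem_sup_right (Subgroup.mem_zpowers x))

variable [Finite H] {p : ℕ} [hp : Fact p.Prime] (hH : IsPGroup p H)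
include hH

theorem commutator_le_frattini : _root_.commutator H ≤ frattini H := by
  rw [_root_.commutator_def, Subgroup.commutator_le]
  intro a _ b _
  rw [commutatorElement_def]
  exact FGB.commutatorElement_mem_frattini hH a b

theorem eq_top_of_sup_commutator {A : Subgroup H} (h : A ⊔ _root_.commutator H = ⊤) : A = ⊤ := by
  refine frattini_nongenerating (eq_top_iff.mpr ?_)
  rw [← h]
  exact sup_le_sup_left (commutator_le_frattini hH) A

theorem comm_of_sup_zpowers {g : H} (h : Subgroup.zpowers g ⊔ _root_.commutator H = ⊤) (a b : H) :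
    a * b = b * a := by
  have h1 := eq_top_of_sup_commutator hH h
  obtain ⟨m, rfl⟩ := Subgroup.mem_zpowers_iff.mp (h1 ▸ Subgroup.mem_top a : a ∈ Subgroup.zpowers g)
  obtain ⟨n, rfl⟩ := Subgroup.mem_zpowers_iff.mp (h1 ▸ Subgroup.mem_top b : b ∈ Subgroup.zpowers g)
  exact ((Commute.refl g).zpow_zpow m n).eq

theorem comm_of_card_abelianization_le (h : Nat.card (Abelianization H) ≤ p) (a b : H) :
    a * b = b * a := by
  obtain ⟨k, hk⟩ := IsPGroup.iff_card.mp (hH.to_quotient (_root_.commutator H))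
  change Nat.card (Abelianization H) = p ^ k at hk
  have hk1 : k ≤ 1 := by
    refine (Nat.pow_le_pow_iff_right hp.out.one_lt).mp ?_
    rw [← hk, pow_one]; exact h
  haveI : IsCyclic (Abelianization H) := isCyclic_of_card_dvd_prime (p := p) (by
    rw [hk]
    calc p ^ k ∣ p ^ 1 := pow_dvd_pow p hk1
      _ = p := pow_one p)
  obtain ⟨g', hg'⟩ := IsCyclic.exists_generator (α := Abelianization H)
  obtain ⟨g, rfl⟩ := QuotientGroup.mk'_surjective (_root_.commutator H) g'
  refine comm_of_sup_zpowers hH (g := g) (eq_top_iff.mpr fun y _ => ?_) a b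
  obtain ⟨n, hn⟩ := Subgroup.mem_zpowers_iff.mp (hg' (QuotientGroup.mk' _ y))
  have hn' : ((g ^ n : H) : H ⧸ _root_.commutator H) = (y : H ⧸ _root_.commutator H) := by
    rw [QuotientGroup.mk_zpow]; exact hn
  rw [QuotientGroup.eq] at hn'
  replace hn := hn'
  have := Subgroup.mul_mem_sup (Subgroup.zpow_mem_zpowers g n) hn
  rwa [mul_inv_cancel_left] at this

theorem eq_bot_of_le_commutator_top {A : Subgroup H} (h : A ≤ ⁅A, (⊤ : Subgroup H)⁆) : A = ⊥ := by
  haveI := hH.isNilpotent
  have hle : ∀ n, A ≤ (⊤ : Subgroup H).lowerCentralSeries n := by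
    intro n
    induction n with
    | zero => exact le_top
    | succ n ih =>
      rw [Subgroup.lowerCentralSeries_succ]
      exact h.trans (Subgroup.commutator_mono ih le_rfl)
  obtain ⟨n, hn⟩ := (Subgroup.isNilpotent_iff_lowerCentralSeries (S := (⊤ : Subgroup H))).mp
    (Group.nilpotent_of_mulEquiv (Subgroup.topEquiv : (⊤ : Subgroup H) ≃* H).symm)
  exact eq_bot_iff.mpr (hn ▸ hle n)

variable (hidx : (_root_.commutator H).index = p ^ 2)
include hidx

theorem commutator_le_of_not_le (Q : Subgroup H) [Q.Normal] (hQ : ¬ Q ≤ _root_.commutator H) :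
    _root_.commutator H ≤ Q := by
  set C := _root_.commutator H
  have hd : (Q ⊔ C).index ∣ p ^ 2 := hidx ▸ Subgroup.index_dvd_of_le le_sup_right
  obtain ⟨j, hj, hje⟩ := (Nat.dvd_prime_pow hp.out).mp hd
  have hj2 : j ≠ 2 := by
    rintro rfl
    have h2 := Subgroup.relIndex_mul_index (le_sup_right : C ≤ Q ⊔ C)
    rw [hje, hidx, Nat.mul_eq_right (pow_ne_zero 2 hp.out.pos.ne'), Subgroup.relIndex_eq_one] at h2
    exact hQ (le_sup_left.trans h2)
  rcases (by omega : j = 0 ∨ j = 1) with rfl | rfl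
  · rw [pow_zero, Subgroup.index_eq_one] at hje
    rw [eq_top_of_sup_commutator hH hje]
    exact le_top
  · rw [pow_one] at hje
    obtain ⟨x, hx⟩ : ∃ x, x ∉ Q ⊔ C := by
      by_contra hcon
      push Not at hcon
      rw [(Subgroup.eq_top_iff' _).mpr hcon, Subgroup.index_top] at hje
      exact hp.out.one_lt.ne hje
    refine commutator_le_of_sup_zpowers Q (x := x) (eq_top_of_sup_commutator hH ?_)
    rw [sup_assoc, sup_comm (Subgroup.zpowers x), ← sup_assoc]
    exact sup_zpowers_eq_top hje hx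

theorem index_eq_prime {Q : Subgroup H} [Q.Normal] (hQ : ¬ Q ≤ _root_.commutator H) (htop : Q ≠ ⊤) :
    Q.index = p := by
  have hle := commutator_le_of_not_le hH hidx Q hQ
  obtain ⟨j, hj, hje⟩ := (Nat.dvd_prime_pow hp.out).mp (hidx ▸ Subgroup.index_dvd_of_le hle)
  have hj0 : j ≠ 0 := by
    rintro rfl
    rw [pow_zero, Subgroup.index_eq_one] at hje
    exact htop hje
  have hj2 : j ≠ 2 := by
    rintro rfl
    have h2 := Subgroup.relIndex_mul_index hle
    rw [hje, hidx, Nat.mul_eq_right (pow_ne_zero 2 hp.out.pos.ne'), Subgroup.relIndex_eq_one] at h2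
    exact hQ h2
  rw [hje, show j = 1 by omega, pow_one]

theorem commutator_eq_bot_of_split (A B : Subgroup H) [A.Normal] [B.Normal] (hA : A ≠ ⊥) (hB : B ≠ ⊥)
    (hd : A ⊓ B = ⊥) {x : H} (hgen : A ⊔ B ⊔ Subgroup.zpowers x = ⊤) :
    _root_.commutator H = ⊥ := by
  set K := ⁅A, (⊤ : Subgroup H)⁆ ⊔ ⁅B, (⊤ : Subgroup H)⁆ with hK
  have h1 : ∀ a ∈ A, ∀ y : H, ⁅a, y⁆ ∈ K ∧ ⁅y, a⁆ ∈ K := by
    intro a ha y
    have := Subgroup.commutator_mem_commutator ha (Subgroup.mem_top y)
    refine ⟨Subgroup.mem_sup_left this, ?_⟩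
    rw [← commutatorElement_inv]
    exact K.inv_mem (Subgroup.mem_sup_left this)
  have h2 : ∀ b ∈ B, ∀ y : H, ⁅b, y⁆ ∈ K ∧ ⁅y, b⁆ ∈ K := by
    intro b hb y
    have := Subgroup.commutator_mem_commutator hb (Subgroup.mem_top y)
    refine ⟨Subgroup.mem_sup_right this, ?_⟩
    rw [← commutatorElement_inv]
    exact K.inv_mem (Subgroup.mem_sup_right this)
  have hS : Subgroup.closure (insert x ((A : Set H) ∪ B)) = ⊤ := by
    rw [eq_top_iff, ← hgen, sup_le_iff, sup_le_iff, Subgroup.zpowers_le]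
    exact ⟨⟨fun q hq => Subgroup.subset_closure (Or.inr (Or.inl hq)),
      fun q hq => Subgroup.subset_closure (Or.inr (Or.inr hq))⟩,
      Subgroup.subset_closure (Or.inl rfl)⟩
  have hle : _root_.commutator H ≤ K := by
    refine commutator_le_of_gen hS K ?_
    rintro a (rfl | ha | ha) b hb
    · rcases hb with rfl | hb | hb
      · rw [commutatorElement_self]; exact one_mem K
      · exact (h1 b hb a).2
      · exact (h2 b hb a).2
    · exact (h1 a ha b).1
    · exact (h2 a ha b).1
  have key : ∀ U W : Subgroup H, U.Normal → W.Normal → U ⊓ W = ⊥ →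
      _root_.commutator H ≤ ⁅U, (⊤ : Subgroup H)⁆ ⊔ ⁅W, (⊤ : Subgroup H)⁆ → U ≠ ⊥ →
      _root_.commutator H ≤ U := by
    intro U W hU hW hUW hsup hU0
    haveI := hU
    haveI := hW
    refine commutator_le_of_not_le hH hidx U fun hUC => hU0 (eq_bot_of_le_commutator_top hH ?_)
    intro u hu
    obtain ⟨v, hv, w, hw, rfl⟩ := Subgroup.mem_sup_of_normal_right.mp (hsup (hUC hu))
    have hvU : v ∈ U := Subgroup.commutator_le_left U ⊤ hv
    have hwW : w ∈ W := Subgroup.commutator_le_left W ⊤ hw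
    have hw1 : w ∈ U ⊓ W := ⟨by simpa using U.mul_mem (U.inv_mem hvU) hu, hwW⟩
    rw [hUW, Subgroup.mem_bot] at hw1
    rw [hw1, mul_one]
    exact hv
  refine eq_bot_iff.mpr (hd ▸ le_inf (key A B inferInstance inferInstance hd hle hA) ?_)
  exact key B A inferInstance inferInstance (by rw [inf_comm, hd]) (hle.trans (le_of_eq (sup_comm _ _))) hB

theorem card_centralizer_of_abelian {Q : Subgroup H} [hQn : Q.Normal]
    (hab : ∀ a ∈ Q, ∀ b ∈ Q, a * b = b * a) (hCQ : _root_.commutator H ≤ Q) (hi : Q.index = p)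
    {x : H} (hx : x ∉ Q) : Nat.card (Subgroup.centralizer {x}) = p ^ 2 := by
  have hmem : ∀ q : Q, ⁅(q : H), x⁆ ∈ Q := fun q =>
    hCQ (Subgroup.commutator_mem_commutator (Subgroup.mem_top _) (Subgroup.mem_top _))
  let f : Q →* Q := MonoidHom.mk' (fun q => ⟨⁅(q : H), x⁆, hmem q⟩) (by
    rintro ⟨a, ha⟩ ⟨b, hb⟩
    refine Subtype.ext ?_
    show ⁅a * b, x⁆ = ⁅a, x⁆ * ⁅b, x⁆
    rw [hab ⁅a, x⁆ (hmem ⟨a, ha⟩) ⁅b, x⁆ (hmem ⟨b, hb⟩)]
    have h1 : ⁅a * b, x⁆ = a * ⁅b, x⁆ * a⁻¹ * ⁅a, x⁆ := by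
      simp only [commutatorElement_def]; group
    rw [h1, hab a ha ⁅b, x⁆ (hmem ⟨b, hb⟩)]
    group)
  set K := f.range.map Q.subtype with hK
  have hKmem : ∀ q ∈ Q, ⁅q, x⁆ ∈ K := fun q hq => ⟨f ⟨q, hq⟩, ⟨⟨q, hq⟩, rfl⟩, rfl⟩
  have hgen := sup_zpowers_eq_top hi hx
  haveI hKn : K.Normal := by
    rw [← Subgroup.normalizer_eq_top_iff, eq_top_iff, ← hgen, sup_le_iff, Subgroup.zpowers_le]
    have hKQ : K ≤ Q := Subgroup.map_subtype_le _
    constructor
    · intro a ha
      rw [Subgroup.mem_normalizer_iff]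
      intro y
      constructor
      · intro hy
        rwa [hab a ha y (hKQ hy), mul_inv_cancel_right]
      · intro hy
        have hyQ : y ∈ Q := by simpa [mul_assoc] using hQn.conj_mem _ (hKQ hy) a⁻¹
        rwa [hab a ha y hyQ, mul_inv_cancel_right] at hy
    · rw [Subgroup.mem_normalizer_iff]
      intro y
      constructor
      · rintro ⟨_, ⟨q, rfl⟩, rfl⟩
        show x * ⁅(q : H), x⁆ * x⁻¹ ∈ K
        have : x * ⁅(q : H), x⁆ * x⁻¹ = ⁅x * (q : H) * x⁻¹, x⁆ := by
          simp only [commutatorElement_def]; group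
        rw [this]
        exact hKmem _ (hQn.conj_mem _ q.2 x)
      · intro hy
        obtain ⟨_, ⟨q, rfl⟩, hq⟩ := hy
        change ⁅(q : H), x⁆ = x * y * x⁻¹ at hq
        have : y = ⁅x⁻¹ * (q : H) * x, x⁆ := by
          have : y = x⁻¹ * ⁅(q : H), x⁆ * x := by rw [hq]; group
          rw [this]; simp only [commutatorElement_def]; group
        rw [this]
        exact hKmem _ (by simpa using hQn.conj_mem _ q.2 x⁻¹)
  have hCK : _root_.commutator H ≤ K := by
    refine commutator_le_of_gen (closure_insert_eq_top hgen) K ?_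
    intro a ha b hb
    rcases ha with rfl | ha <;> rcases hb with rfl | hb
    · rw [commutatorElement_self]; exact one_mem K
    · rw [← commutatorElement_inv]; exact K.inv_mem (hKmem b hb)
    · exact hKmem a ha
    · rw [commutatorElement_eq_one_iff_mul_comm.mpr (hab a ha b hb)]; exact one_mem K
  have hKC : K ≤ _root_.commutator H := by
    rintro _ ⟨_, ⟨q, rfl⟩, rfl⟩
    exact Subgroup.commutator_mem_commutator (Subgroup.mem_top _) (Subgroup.mem_top _)
  have hr : Nat.card f.range = Nat.card (_root_.commutator H) := by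
    rw [← Subgroup.card_map_of_injective Q.subtype_injective, ← hK, le_antisymm hKC hCK]
  have hcQ : Nat.card Q = p * Nat.card (_root_.commutator H) := by
    have h1 := Subgroup.card_mul_index Q
    have h2 := Subgroup.card_mul_index (_root_.commutator H)
    rw [hi] at h1
    rw [hidx, ← h1] at h2
    refine Nat.eq_of_mul_eq_mul_right hp.out.pos ?_
    rw [← h2]; ring
  have hker : Nat.card f.ker = p := by
    have h1 := Subgroup.card_mul_index f.ker
    rw [Subgroup.index_ker, hr, hcQ] at h1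
    exact Nat.eq_of_mul_eq_mul_right Nat.card_pos h1
  set Z := Subgroup.centralizer ({x} : Set H)
  have hkerle : (f.ker.map Q.subtype) = Q ⊓ Z := by
    ext y
    constructor
    · rintro ⟨q, hq, rfl⟩
      refine ⟨q.2, ?_⟩
      rw [SetLike.mem_coe, MonoidHom.mem_ker] at hq
      have h3 : ⁅(q : H), x⁆ = 1 := congrArg Subtype.val hq
      rw [commutatorElement_eq_one_iff_mul_comm] at h3
      exact Subgroup.mem_centralizer_singleton_iff.mpr h3
    · rintro ⟨hyQ, hy⟩
      refine ⟨⟨y, hyQ⟩, ?_, rfl⟩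
      rw [SetLike.mem_coe, MonoidHom.mem_ker]
      refine Subtype.ext ?_
      show ⁅y, x⁆ = 1
      rw [commutatorElement_eq_one_iff_mul_comm]
      exact Subgroup.mem_centralizer_singleton_iff.mp hy
  have hrel : Q.relIndex Z = p := by
    have hd : Q.relIndex Z ∣ Q.index := Subgroup.relIndex_dvd_index_of_normal Q Z
    rw [hi] at hd
    refine (hp.out.eq_one_or_self_of_dvd _ hd).resolve_left fun h1 => hx ?_
    exact (Subgroup.relIndex_eq_one.mp h1) (Subgroup.mem_centralizer_singleton_iff.mpr rfl)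
  have h4 := Subgroup.card_mul_index ((Q ⊓ Z).subgroupOf Z)
  rw [← Subgroup.relIndex, Subgroup.inf_relIndex_right, hrel,
    Nat.card_congr (Subgroup.subgroupOfEquivOfLe (inf_le_right : Q ⊓ Z ≤ Z)).toEquiv, ← hkerle,
    Subgroup.card_map_of_injective Q.subtype_injective, hker] at h4
  rw [← h4, sq]

end Cfsg.Agent.CT.PSq
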