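import Cfsg.Prelude.Def_Solvable
import Cfsg.Prelude.Def_Transfer
import Cfsg.Agent.Lib.CT.PSqAbel
import Cfsg.Agent.Lib.Basics.Cores
import Cfsg.Agent.Lib.Transfer.Tate
import Cfsg.Agent.Lib.CompLen.Pairing

/-!
Sylow subgroups with abelianization of order `p ^ 2` and a `p`-element with centralizer `p`-part `p ^ 2`.
-/

set_option autoImplicit false
set_option linter.all false

open scoped Pointwise commutatorElement

namespace Cfsg.Agent.CT.PSq

open Cfsg.Agent.CompLen

variable {G : Type*} [Group G] [Finite G] {p : ℕ} [hp : Fact p.Prime]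

/-- No nontrivial normal subgroup has its `p`-part inside the derived group of a Sylow `p`-subgroup. -/
theorem not_inf_le_commutator (hcore : Cfsg.pPrimeCore p G = ⊥) (P : Sylow p G)
    (hcore' : (⁅(P : Subgroup G), (P : Subgroup G)⁆).normalCore = ⊥) (N : Subgroup G) [N.Normal]
    (hN : N ≠ ⊥) : ¬ N ⊓ (P : Subgroup G) ≤ ⁅(P : Subgroup G), (P : Subgroup G)⁆ := by
  intro hle
  have hf : N ⊓ (P : Subgroup G) ≤ (frattini P).map (P : Subgroup G).subtype := by
    refine hle.trans ?_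
    rw [← Subgroup.map_subtype_commutator]
    exact Subgroup.map_mono (commutator_le_frattini P.isPGroup')
  obtain ⟨S, K, hKn, hKc⟩ := Transfer.hasNormalPComplement_of_le_frattini P N hf
  have hKcop : (Nat.card K).Coprime p := by
    refine Nat.Coprime.symm (hp.out.coprime_iff_not_dvd.mpr ?_)
    rw [← hKc.index_eq_card]
    exact S.not_dvd_index
  haveI := hKn
  have hKle : K ≤ Cfsg.pPrimeCore p N := Basics.le_pPrimeCore hKcop
  haveI : ((Cfsg.pPrimeCore p N).map N.subtype).Normal := inferInstance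
  have hpN : (Cfsg.pPrimeCore p N).map N.subtype ≤ Cfsg.pPrimeCore p G := by
    refine Basics.le_pPrimeCore ?_
    rw [Subgroup.card_map_of_injective N.subtype_injective]
    exact Basics.pPrimeCore_coprime p
  rw [hcore, le_bot_iff, Subgroup.map_eq_bot_iff_of_injective _ N.subtype_injective] at hpN
  have hK : K = ⊥ := eq_bot_iff.mpr (hKle.trans (le_of_eq hpN))
  have hNP : IsPGroup p N := by
    rw [hK, Subgroup.isComplement'_bot_left] at hKc
    have := S.isPGroup'
    rw [hKc] at this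
    exact this.of_equiv Subgroup.topEquiv
  have hNle : N ≤ (P : Subgroup G) := hNP.le_sylow_of_normal P
  rw [inf_eq_left.mpr hNle] at hle
  exact hN (eq_bot_iff.mpr ((Subgroup.normal_le_normalCore.mpr hle).trans (le_of_eq hcore')))

theorem isPGroup_of_abelian_normal (hcore : Cfsg.pPrimeCore p G = ⊥) (N : Subgroup G) [hNn : N.Normal]
    (hab : ∀ a ∈ N, ∀ b ∈ N, a * b = b * a) : IsPGroup p N := by
  set a := (Nat.card N).factorization p
  set m := Nat.card N / p ^ a with hm
  have hsplit : p ^ a * m = Nat.card N := Nat.ordProj_mul_ordCompl_eq_self _ _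
  let U : Subgroup G :=
    { carrier := {n | n ∈ N ∧ n ^ m = 1}
      one_mem' := ⟨one_mem N, one_pow m⟩
      mul_mem' := fun {x y} hx hy => ⟨N.mul_mem hx.1 hy.1, by
        rw [(show Commute x y from hab x hx.1 y hy.1).mul_pow, hx.2, hy.2, one_mul]⟩
      inv_mem' := fun {x} hx => ⟨N.inv_mem hx.1, by rw [inv_pow, hx.2, inv_one]⟩ }
  haveI hUn : U.Normal := ⟨fun x hx g => ⟨hNn.conj_mem x hx.1 g, by
    rw [conj_pow, hx.2, mul_one, mul_inv_cancel]⟩⟩
  have hUc : (Nat.card U).Coprime p := by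
    refine Nat.Coprime.symm (hp.out.coprime_iff_not_dvd.mpr fun hd => ?_)
    obtain ⟨u, hu⟩ := exists_prime_orderOf_dvd_card' p hd
    have h1 : p ∣ m := hu ▸ orderOf_dvd_of_pow_eq_one (Subtype.ext (by
      rw [SubmonoidClass.coe_pow, OneMemClass.coe_one]; exact u.2.2))
    exact Nat.not_dvd_ordCompl hp.out Nat.card_pos.ne' h1
  have hU : U = ⊥ := eq_bot_iff.mpr ((Basics.le_pPrimeCore hUc).trans (le_of_eq hcore))
  intro n
  refine ⟨a, Subtype.ext ?_⟩
  rw [SubmonoidClass.coe_pow, OneMemClass.coe_one, ← Subgroup.mem_bot, ← hU]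
  refine ⟨N.pow_mem n.2 _, ?_⟩
  rw [← pow_mul, hsplit, ← SubmonoidClass.coe_pow, pow_card_eq_one', OneMemClass.coe_one]

theorem inf_sylow_maximal (P : Sylow p G) (N : Subgroup G) [hNn : N.Normal] {R : Subgroup G}
    (hR : IsPGroup p R) (hRN : R ≤ N) (hle : N ⊓ (P : Subgroup G) ≤ R) :
    R = N ⊓ (P : Subgroup G) := by
  obtain ⟨P1, hP1⟩ := hR.exists_le_sylow
  obtain ⟨g, rfl⟩ := MulAction.exists_smul_eq G P P1
  rw [Sylow.coe_subgroup_smul] at hP1
  have hc : Nat.card ↥(N ⊓ MulAut.conj g • (P : Subgroup G) : Subgroup G) =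
      Nat.card ↥(N ⊓ (P : Subgroup G) : Subgroup G) := by
    have h1 : MulAut.conj g • N = N := Subgroup.Normal.conj_smul_eq_self g N
    conv_lhs => rw [← h1, ← Subgroup.smul_inf]
    exact (Nat.card_congr (Subgroup.equivSMul _ _).toEquiv).symm
  refine (Subgroup.eq_of_le_of_card_ge hle ?_).symm
  rw [← hc]
  exact Subgroup.card_le_of_le (le_inf hRN hP1)

theorem sup_zpowers_of_index {P : Sylow p G} {N : Subgroup G} [N.Normal]
    (hi : (N.subgroupOf (P : Subgroup G)).index = p) {x : G} (hxP : x ∈ P) (hx : x ∉ N) :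
    N.subgroupOf (P : Subgroup G) ⊔ Subgroup.zpowers (⟨x, hxP⟩ : ↥(P : Subgroup G)) = ⊤ :=
  sup_zpowers_eq_top hi (fun h => hx h)

section Factors

variable {N : Subgroup G} [hNn : N.Normal] {X : Finset (Subgroup G)} (hX : IsFactorSet N X)
  (hmin : ∀ A : Subgroup G, A.Normal → A ≤ N → A ≠ ⊥ → A = N) (hna : ¬ Comm N N)
include hX hmin hna

theorem proj_mem_sylow (P : Sylow p G) {T : Subgroup G} (hT : T ∈ X) (π : N →* T)
    (h1 : ∀ a : T, π ⟨a, hX.le T hT a.2⟩ = a) (q : N) (hq : (q : G) ∈ P) :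
    (π q : G) ∈ P := by
  set Q := (P : Subgroup G).subgroupOf N
  have hQp : IsPGroup p Q :=
    P.isPGroup'.comap_of_injective N.subtype N.subtype_injective
  let ι : T →* N := Subgroup.inclusion (hX.le T hT)
  set U := Q.map (ι.comp π) with hU
  have hUp : IsPGroup p U := hQp.map _
  have hnorm : Q ≤ Subgroup.normalizer (U : Set N) := by
    intro c hc
    rw [Subgroup.mem_normalizer_iff]
    have key : ∀ d : N, (ι.comp π) d ∈ U → ∀ c : N, c * (ι.comp π) d * c⁻¹ = (ι.comp π) (c * d * c⁻¹) := by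
      intro d _ c
      have hcT : ((c * (ι (π d)) * c⁻¹ : N) : G) ∈ T := hX.inv T hT c c.2 _ (π d).2
      have h2 := h1 ⟨_, hcT⟩
      have h3 : π (c * ι (π d) * c⁻¹) = π (c * d * c⁻¹) := by
        simp only [map_mul]
        rw [show π (ι (π d)) = π d from h1 (π d)]
      refine Subtype.ext ?_
      show _ = ((π (c * d * c⁻¹) : T) : G)
      rw [← h3]
      exact (congrArg Subtype.val h2).symm
    intro y
    constructor
    · rintro ⟨d, hd, rfl⟩
      rw [key d ⟨d, hd, rfl⟩ c]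
      exact ⟨_, Q.mul_mem (Q.mul_mem hc hd) (Q.inv_mem hc), rfl⟩
    · rintro ⟨d, hd, hde⟩
      have : y = c⁻¹ * (ι.comp π) d * c⁻¹⁻¹ := by rw [hde]; group
      rw [this, key d ⟨d, hd, rfl⟩ c⁻¹]
      exact ⟨_, Q.mul_mem (Q.mul_mem (Q.inv_mem hc) hd) (Q.inv_mem (Q.inv_mem hc)), rfl⟩
  have hsup : IsPGroup p ↥((Q ⊔ U).map N.subtype) :=
    (hQp.to_sup_of_normal_right' hUp hnorm).map _
  have hle : N ⊓ (P : Subgroup G) ≤ (Q ⊔ U).map N.subtype := by
    intro y hy
    exact ⟨⟨y, hy.1⟩, Subgroup.mem_sup_left hy.2, rfl⟩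
  have heq := inf_sylow_maximal P N hsup (Subgroup.map_subtype_le _) hle
  have hmem : (π q : G) ∈ (Q ⊔ U).map N.subtype :=
    ⟨ι (π q), Subgroup.mem_sup_right ⟨q, hq, rfl⟩, rfl⟩
  rw [heq] at hmem
  exact hmem.2

theorem exists_mem_factor_sylow (P : Sylow p G) (hcore : Cfsg.pPrimeCore p G = ⊥) (hN : N ≠ ⊥)
    {T : Subgroup G} (hT : T ∈ X) : ∃ y ∈ T, y ∈ (P : Subgroup G) ∧ y ≠ 1 := by
  classical
  have hpT : p ∣ Nat.card T := by
    by_contra hnd
    have hc := (hX.clen_card_sup hmin hna hT X le_rfl).2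
    rw [hX.sup_eq] at hc
    have : (Nat.card N).Coprime p := by
      rw [hc]
      exact Nat.Coprime.pow_left _ (Nat.Coprime.symm (hp.out.coprime_iff_not_dvd.mpr hnd))
    exact hN (eq_bot_iff.mpr ((Basics.le_pPrimeCore this).trans (le_of_eq hcore)))
  obtain ⟨t, ht⟩ := exists_prime_orderOf_dvd_card' p hpT
  let Q : Sylow p N :=
    { toSubgroup := (P : Subgroup G).subgroupOf N
      isPGroup' := P.isPGroup'.comap_of_injective N.subtype N.subtype_injective
      is_maximal' := fun {R} hR hle => by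
        have h := inf_sylow_maximal P N (hR.map N.subtype) (Subgroup.map_subtype_le R)
          (fun y hy => ⟨⟨y, hy.1⟩, hle hy.2, rfl⟩)
        refine le_antisymm (fun r hr => ?_) hle
        exact (h ▸ (⟨r, hr, rfl⟩ : (r : G) ∈ R.map N.subtype) : (r : G) ∈ N ⊓ (P : Subgroup G)).2 }
  let tn : N := ⟨t, hX.le T hT t.2⟩
  have hz : IsPGroup p (Subgroup.zpowers tn) := by
    refine IsPGroup.of_card (n := 1) ?_
    rw [Nat.card_zpowers, pow_one]
    show orderOf tn = p
    rw [← Subgroup.orderOf_coe tn, ← ht, ← Subgroup.orderOf_coe t]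
  obtain ⟨S, hS⟩ := hz.exists_le_sylow
  obtain ⟨n, rfl⟩ := MulAction.exists_smul_eq N Q S
  have h1 := hS (Subgroup.mem_zpowers tn)
  rw [Sylow.coe_subgroup_smul, Subgroup.mem_pointwise_smul_iff_inv_smul_mem] at h1
  change ((n⁻¹ * tn * n : N) : G) ∈ (P : Subgroup G) at h1
  rw [Subgroup.coe_mul, Subgroup.coe_mul, Subgroup.coe_inv] at h1
  have h2 := hX.inv T hT (n⁻¹ : N) (n⁻¹ : N).2 t t.2
  rw [Subgroup.coe_inv, inv_inv] at h2
  refine ⟨_, h2, h1, fun h => ?_⟩
  have h3 : (t : G) = 1 := by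
    calc (t : G) = (n : G) * ((n : G)⁻¹ * t * n) * (n : G)⁻¹ := by group
      _ = 1 := by rw [h, mul_one, mul_inv_cancel]
  rw [(Subtype.ext h3 : t = 1), orderOf_one] at ht
  exact hp.out.one_lt.ne ht

theorem factor_not_fixed (P : Sylow p G) (hcore : Cfsg.pPrimeCore p G = ⊥) (hN : N ≠ ⊥)
    (hidx : (_root_.commutator ↥(P : Subgroup G)).index = p ^ 2)
    (hne : _root_.commutator ↥(P : Subgroup G) ≠ ⊥) (hk : 2 ≤ X.card)
    {x : ↥(P : Subgroup G)} (hgen : N.subgroupOf (P : Subgroup G) ⊔ Subgroup.zpowers x = ⊤)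
    {T : Subgroup G} (hT : T ∈ X) : T.map (MulAut.conj (x : G)).toMonoidHom ≠ T := by
  classical
  intro hfix
  set M := coFactor X T
  have hinvT : ∀ y ∈ (P : Subgroup G), T.map (MulAut.conj y).toMonoidHom = T := by
    let W : Subgroup G :=
      { carrier := {g | T.map (MulAut.conj g).toMonoidHom = T}
        one_mem' := map_conj_one T
        mul_mem' := fun {a b} ha hb => by
          show _ = _
          rw [map_conj_mul, show T.map (MulAut.conj b).toMonoidHom = T from hb]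
          exact ha
        inv_mem' := fun {a} ha => by
          show _ = _
          conv_lhs => rw [← show T.map (MulAut.conj a).toMonoidHom = T from ha]
          exact map_conj_inv a T }
    have : (⊤ : Subgroup ↥(P : Subgroup G)) ≤ W.subgroupOf (P : Subgroup G) := by
      rw [← hgen, sup_le_iff, Subgroup.zpowers_le]
      exact ⟨fun n hn => (hX.inv T hT).map_conj_eq hn, hfix⟩
    exact fun y hy => this (Subgroup.mem_top ⟨y, hy⟩)
  have hinvM : ∀ y ∈ (P : Subgroup G), ∀ m ∈ M, y * m * y⁻¹ ∈ M := by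
    intro y hy m hm
    have := hX.map_coFactor_le y T (Subgroup.mem_map_of_mem _ hm)
    rw [hinvT y hy] at this
    simpa using this
  haveI : (T.subgroupOf (P : Subgroup G)).Normal := ⟨fun a ha y => by
    show ((y * a * y⁻¹ : ↥(P : Subgroup G)) : G) ∈ T
    have := Subgroup.mem_map_of_mem (MulAut.conj (y : G)).toMonoidHom (show (a : G) ∈ T from ha)
    rw [hinvT y y.2] at this
    simpa using this⟩
  haveI : (M.subgroupOf (P : Subgroup G)).Normal := ⟨fun a ha y => hinvM y y.2 a ha⟩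
  have hne' : ∀ U : Subgroup G, (∃ y ∈ U, y ∈ (P : Subgroup G) ∧ y ≠ 1) →
      U.subgroupOf (P : Subgroup G) ≠ ⊥ := by
    rintro U ⟨y, hyU, hyP, hy1⟩ h
    have : (⟨y, hyP⟩ : ↥(P : Subgroup G)) ∈ U.subgroupOf (P : Subgroup G) := hyU
    rw [h, Subgroup.mem_bot] at this
    exact hy1 (congrArg Subtype.val this)
  have hA := hne' T (exists_mem_factor_sylow hX hmin hna P hcore hN hT)
  have hB : M.subgroupOf (P : Subgroup G) ≠ ⊥ := by
    obtain ⟨T', hT', hne''⟩ := Finset.exists_mem_ne (by omega : 1 < X.card) T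
    obtain ⟨y, hy, hyP, hy1⟩ := exists_mem_factor_sylow hX hmin hna P hcore hN hT'
    exact hne' M ⟨y, le_coFactor hT' hne'' hy, hyP, hy1⟩
  have hd : T.subgroupOf (P : Subgroup G) ⊓ M.subgroupOf (P : Subgroup G) = ⊥ := by
    rw [eq_bot_iff]
    intro y hy
    have : (y : G) ∈ T ⊓ M := hy
    rw [hX.inf_coFactor hmin hna hT, Subgroup.mem_bot] at this
    exact Subgroup.mem_bot.mpr (Subtype.ext this)
  obtain ⟨π, h1, h2⟩ := hX.exists_proj hmin hna hT
  refine hne (commutator_eq_bot_of_split P.isPGroup' hidx _ _ hA hB hd (x := x) (eq_top_iff.mpr ?_))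
  rw [← hgen]
  refine sup_le_sup_right (fun q hq => ?_) _
  have hqP := proj_mem_sylow hX hmin hna P hT π h1 ⟨q, hq⟩ q.2
  have ha : (⟨_, hqP⟩ : ↥(P : Subgroup G)) ∈ T.subgroupOf (P : Subgroup G) := (π ⟨q, hq⟩).2
  have hb : (⟨_, hqP⟩ : ↥(P : Subgroup G))⁻¹ * q ∈ M.subgroupOf (P : Subgroup G) := by
    refine (h2 ((⟨_, hX.le T hT (π ⟨q, hq⟩).2⟩ : N)⁻¹ * ⟨q, hq⟩)).mp ?_
    rw [map_mul, map_inv, h1, inv_mul_cancel]
  have := Subgroup.mul_mem_sup ha hb
  rwa [mul_inv_cancel_left] at this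

theorem inf_sylow_comm (P : Sylow p G) (hcent : Subgroup.centralizer (N : Set G) = ⊥)
    (hidx : (_root_.commutator ↥(P : Subgroup G)).index = p ^ 2)
    (hi : (N.subgroupOf (P : Subgroup G)).index = p) {x : ↥(P : Subgroup G)} (hx : (x : G) ∉ N)
    (hfix : ∀ T ∈ X, T.map (MulAut.conj (x : G)).toMonoidHom ≠ T) :
    ∀ a ∈ N.subgroupOf (P : Subgroup G), ∀ b ∈ N.subgroupOf (P : Subgroup G), a * b = b * a := by
  classical
  set Q := N.subgroupOf (P : Subgroup G) with hQ
  have hgen := sup_zpowers_eq_top hi (x := x) hx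
  have hCQ : _root_.commutator ↥(P : Subgroup G) ≤ Q := commutator_le_of_sup_zpowers Q hgen
  have hcQ : Nat.card Q = p * Nat.card (_root_.commutator ↥(P : Subgroup G)) := by
    have h1 := Subgroup.card_mul_index Q
    have h2 := Subgroup.card_mul_index (_root_.commutator ↥(P : Subgroup G))
    rw [hi] at h1
    rw [hidx, ← h1] at h2
    refine Nat.eq_of_mul_eq_mul_right hp.out.pos ?_
    rw [← h2]; ring
  have hxp : x ^ p ∈ Q := by
    have := Subgroup.pow_index_mem Q x
    rwa [hi] at this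
  intro a ha b hb
  suffices hall : ∀ T ∈ X, ((⁅a, b⁆ : ↥(P : Subgroup G)) : G) ∈ coFactor X T by
    rw [← commutatorElement_eq_one_iff_mul_comm]
    refine Subtype.ext ?_
    rw [OneMemClass.coe_one, ← Subgroup.mem_bot, ← hcent, Subgroup.mem_centralizer_iff]
    intro n hn
    have : N ≤ Subgroup.centralizer {((⁅a, b⁆ : ↥(P : Subgroup G)) : G)} := by
      rw [← hX.sup_eq]
      refine Finset.sup_le fun T hT t ht => ?_
      rw [Subgroup.mem_centralizer_singleton_iff]
      exact hX.comm_sup hT (Finset.erase_subset T X) (Finset.notMem_erase T X) t ht _ (hall T hT)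
    exact Subgroup.mem_centralizer_singleton_iff.mp (this hn)
  intro T hT
  obtain ⟨π, h1, h2⟩ := hX.exists_proj hmin hna hT
  set A := T.subgroupOf (P : Subgroup G)
  let f : Q →* A := MonoidHom.mk'
    (fun q => ⟨⟨(π ⟨q.1, q.2⟩ : G), proj_mem_sylow hX hmin hna P hT π h1 _ q.1.2⟩, (π ⟨q.1, q.2⟩).2⟩)
    (fun q r => Subtype.ext (Subtype.ext (by
      have := congrArg (fun t : T => (t : G)) (map_mul π ⟨q.1, q.2⟩ ⟨r.1, r.2⟩)
      exact this)))
  suffices hAcomm : ∀ u v : A, u * v = v * u by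
    have h3 : f ⁅(⟨a, ha⟩ : Q), (⟨b, hb⟩ : Q)⁆ = 1 := by
      rw [map_commutatorElement, commutatorElement_eq_one_iff_mul_comm]
      exact hAcomm _ _
    refine (h2 ⟨_, (⁅(⟨a, ha⟩ : Q), (⟨b, hb⟩ : Q)⁆ : Q).2⟩).mp (Subtype.ext ?_)
    exact congrArg (fun u : A => ((u : ↥(P : Subgroup G)) : G)) h3
  let σ : MulAut Q := MulAut.conjNormal x
  let F : Q →* Abelianization A := Abelianization.of.comp f
  let φ : Q →* Abelianization A := MonoidHom.mk' (fun q => ∏ j ∈ Finset.range p, F ((σ ^ j) q))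
    (fun q r => by simp only [map_mul, Finset.prod_mul_distrib])
  have hσp : ∀ q : Q, F ((σ ^ p) q) = F q := by
    intro q
    have : (σ ^ p) q = ⟨x ^ p, hxp⟩ * q * (⟨x ^ p, hxp⟩ : Q)⁻¹ := by
      refine Subtype.ext ?_
      rw [show σ ^ p = MulAut.conjNormal (x ^ p) from (map_pow _ x p).symm, MulAut.conjNormal_apply]
      rfl
    rw [this, map_mul, map_mul, map_inv, mul_comm (F _) (F q), mul_inv_cancel_right]
  have hφσ : ∀ q : Q, φ (σ q) = φ q := by
    intro q
    show ∏ j ∈ Finset.range p, F ((σ ^ j) (σ q)) = ∏ j ∈ Finset.range p, F ((σ ^ j) q)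
    have h3 : ∀ j, (σ ^ j) (σ q) = (σ ^ (j + 1)) q := fun j => by rw [pow_succ]; rfl
    simp only [h3]
    have h4 := Finset.prod_range_succ' (fun j => F ((σ ^ j) q)) p
    rw [Finset.prod_range_succ] at h4
    simp only [pow_zero, MulAut.one_apply, hσp] at h4
    exact (mul_right_cancel h4).symm
  set K := φ.ker.map Q.subtype with hK
  have hKmem : ∀ y : ↥(P : Subgroup G), ∀ hy : y ∈ Q, (y ∈ K ↔ φ ⟨y, hy⟩ = 1) := by
    intro y hy
    refine ⟨?_, fun h => ⟨⟨y, hy⟩, h, rfl⟩⟩
    rintro ⟨z, hz, rfl⟩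
    exact hz
  have hKQ : K ≤ Q := Subgroup.map_subtype_le _
  haveI hKn : K.Normal := by
    rw [← Subgroup.normalizer_eq_top_iff, eq_top_iff, ← hgen, sup_le_iff, Subgroup.zpowers_le]
    have hconj : ∀ y : ↥(P : Subgroup G), (∀ q : Q, φ (MulAut.conjNormal y q) = φ q) →
        y ∈ Subgroup.normalizer (K : Set ↥(P : Subgroup G)) := by
      intro y hy
      rw [Subgroup.mem_normalizer_iff]
      intro z
      constructor
      · intro hz
        have h5 := hy ⟨z, hKQ hz⟩
        rw [(hKmem z (hKQ hz)).mp hz] at h5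
        refine (hKmem _ (Subgroup.Normal.conj_mem inferInstance z (hKQ hz) y)).mpr ?_
        rw [← h5]
        congr 1
      · intro hz
        have hzQ : z ∈ Q := by
          simpa [mul_assoc] using Subgroup.Normal.conj_mem (H := Q) inferInstance _ (hKQ hz) y⁻¹
        refine (hKmem z hzQ).mpr ?_
        rw [← hy ⟨z, hzQ⟩, ← (hKmem _ (hKQ hz)).mp hz]
        congr 1
    constructor
    · intro y hy
      refine hconj y fun q => ?_
      have : MulAut.conjNormal y q = ⟨y, hy⟩ * q * (⟨y, hy⟩ : Q)⁻¹ := Subtype.ext (by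
        rw [MulAut.conjNormal_apply]; rfl)
      rw [this, map_mul, map_mul, map_inv, mul_comm (φ _) (φ q), mul_inv_cancel_right]
    · exact hconj x hφσ
  have hCK : _root_.commutator ↥(P : Subgroup G) ≤ K := by
    refine commutator_le_of_gen (closure_insert_eq_top hgen) K ?_
    have hqx : ∀ q ∈ Q, ⁅q, x⁆ ∈ K := by
      intro q hq
      have h6 : ⁅q, x⁆ ∈ Q := hCQ (Subgroup.commutator_mem_commutator (Subgroup.mem_top _) (Subgroup.mem_top _))
      refine (hKmem _ h6).mpr ?_
      have : (⟨⁅q, x⁆, h6⟩ : Q) = ⟨q, hq⟩ * σ (⟨q, hq⟩⁻¹) := Subtype.ext (by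
        show ⁅q, x⁆ = q * (x * q⁻¹ * x⁻¹)
        simp only [commutatorElement_def, mul_assoc])
      rw [this, map_mul, hφσ, map_inv, mul_inv_cancel]
    intro c hc d hd
    rcases hc with rfl | hc <;> rcases hd with rfl | hd
    · rw [commutatorElement_self]; exact one_mem K
    · rw [← commutatorElement_inv]; exact K.inv_mem (hqx d hd)
    · exact hqx c hc
    · refine (hKmem _ (Q.mul_mem (Q.mul_mem (Q.mul_mem hc hd) (Q.inv_mem hc)) (Q.inv_mem hd))).mpr ?_
      show φ (⟨c, hc⟩ * ⟨d, hd⟩ * (⟨c, hc⟩ : Q)⁻¹ * (⟨d, hd⟩ : Q)⁻¹) = 1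
      rw [map_mul, map_mul, map_mul, map_inv, map_inv, mul_comm (φ _) (φ ⟨d, hd⟩),
        mul_inv_cancel_right, mul_inv_cancel]
  have hrange : Nat.card φ.range ≤ p := by
    have h7 := Subgroup.card_mul_index φ.ker
    rw [Subgroup.index_ker, hcQ] at h7
    have h8 : Nat.card (_root_.commutator ↥(P : Subgroup G)) ≤ Nat.card φ.ker := by
      rw [← Subgroup.card_map_of_injective Q.subtype_injective]
      exact Subgroup.card_le_of_le hCK
    refine Nat.le_of_mul_le_mul_left (b := p) (c := Nat.card (_root_.commutator ↥(P : Subgroup G))) ?_ Nat.card_pos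
    calc _ ≤ Nat.card φ.ker * Nat.card φ.range := Nat.mul_le_mul_right _ h8
      _ = _ := by rw [h7, mul_comm]
  have hnfix : ∀ j, 0 < j → j < p →
      T.map (MulAut.conj ((x : G) ^ j)).toMonoidHom ≠ T := by
    intro j hj0 hjp hj
    let W : Subgroup G :=
      { carrier := {g | T.map (MulAut.conj g).toMonoidHom = T}
        one_mem' := map_conj_one T
        mul_mem' := fun {a b} ha hb => by
          show _ = _
          rw [map_conj_mul, show T.map (MulAut.conj b).toMonoidHom = T from hb]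
          exact ha
        inv_mem' := fun {a} ha => by
          show _ = _
          conv_lhs => rw [← show T.map (MulAut.conj a).toMonoidHom = T from ha]
          exact map_conj_inv a T }
    have hp' : (x : G) ^ p ∈ W := (hX.inv T hT).map_conj_eq hxp
    have hj' : (x : G) ^ j ∈ W := hj
    refine hfix T hT ?_
    show (x : G) ∈ W
    have hg : (j : ℤ) * Nat.gcdA j p + (p : ℤ) * Nat.gcdB j p = 1 := by
      rw [← Nat.gcd_eq_gcd_ab]
      exact_mod_cast Nat.Coprime.symm (hp.out.coprime_iff_not_dvd.mpr (Nat.not_dvd_of_pos_of_lt hj0 hjp))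
    rw [← zpow_one (x : G), ← hg, zpow_add, zpow_mul, zpow_mul, zpow_natCast, zpow_natCast]
    exact W.mul_mem (W.zpow_mem hj' _) (W.zpow_mem hp' _)
  have hsurj : ∀ u : A, Abelianization.of u ∈ φ.range := by
    intro u
    have huN : u.1 ∈ Q := hX.le T hT u.2
    refine ⟨⟨u.1, huN⟩, ?_⟩
    show ∏ j ∈ Finset.range p, F ((σ ^ j) ⟨u.1, huN⟩) = _
    rw [Finset.prod_eq_single_of_mem 0 (Finset.mem_range.mpr hp.out.pos)]
    · rw [pow_zero, MulAut.one_apply]
      show Abelianization.of (f _) = _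
      congr 1
      have h9 := congrArg (fun t : T => (t : G)) (h1 ⟨_, u.2⟩)
      exact Subtype.ext (Subtype.ext h9)
    · intro j hj hj0
      show Abelianization.of (f _) = 1
      rw [show f ((σ ^ j) ⟨u.1, huN⟩) = 1 from ?_, map_one]
      suffices h9 : (((σ ^ j) ⟨u.1, huN⟩).1 : G) ∈ coFactor X T by
        refine Subtype.ext (Subtype.ext ?_)
        have h10 := congrArg (fun t : T => (t : G)) ((h2 ⟨_, ((σ ^ j) ⟨u.1, huN⟩).2⟩).mpr h9)
        exact h10
      rw [show σ ^ j = MulAut.conjNormal (x ^ j) from (map_pow _ x j).symm]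
      show (((MulAut.conjNormal (x ^ j) (⟨u.1, huN⟩ : Q)) : ↥(P : Subgroup G)) : G) ∈ _
      rw [MulAut.conjNormal_apply]
      refine le_coFactor (hX.conj_mem ((x : G) ^ j) T hT)
        (hnfix j (Nat.pos_of_ne_zero hj0) (Finset.mem_range.mp hj)) ?_
      exact ⟨u.1.1, u.2, by simp [← map_pow]⟩
  refine comm_of_card_abelianization_le (P.isPGroup'.to_subgroup A) ?_
  refine le_trans ?_ hrange
  refine Nat.card_le_card_of_surjective (Subtype.val : φ.range → Abelianization A) ?_ |>.trans le_rfl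
  intro z
  obtain ⟨u, rfl⟩ := QuotientGroup.mk'_surjective _ z
  exact ⟨⟨_, hsurj u⟩, rfl⟩

end Factors

/-- The main structural consequence. -/
theorem exists_abelian_index_prime (hcore : Cfsg.pPrimeCore p G = ⊥)
    (hnas : ¬ ∃ S : Subgroup G, S.Normal ∧ IsSimpleGroup S ∧ ¬ IsMulCommutative S ∧
      Subgroup.centralizer (S : Set G) = ⊥) {N : Subgroup G} [hNn : N.Normal] (hN : N ≠ ⊥)
    (hmin : ∀ A : Subgroup G, A.Normal → A ≤ N → A ≠ ⊥ → A = N) (P : Sylow p G)
    (hcore' : (⁅(P : Subgroup G), (P : Subgroup G)⁆).normalCore = ⊥)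
    (hidx : (_root_.commutator ↥(P : Subgroup G)).index = p ^ 2)
    (hne : _root_.commutator ↥(P : Subgroup G) ≠ ⊥) :
    (N.subgroupOf (P : Subgroup G)).index = p ∧
      ∀ a ∈ N.subgroupOf (P : Subgroup G), ∀ b ∈ N.subgroupOf (P : Subgroup G), a * b = b * a := by
  have hnle : ∀ M : Subgroup G, M.Normal → M ≠ ⊥ →
      ¬ M.subgroupOf (P : Subgroup G) ≤ _root_.commutator ↥(P : Subgroup G) := by
    intro M hM hM0 hle
    haveI := hM
    refine not_inf_le_commutator hcore P hcore' M hM0 ?_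
    rw [← Subgroup.subgroupOf_map_subtype, ← Subgroup.map_subtype_commutator]
    exact Subgroup.map_mono hle
  have hC := hnle N hNn hN
  by_cases hab : ∀ a ∈ N, ∀ b ∈ N, a * b = b * a
  · have hNP : N ≤ (P : Subgroup G) := (isPGroup_of_abelian_normal hcore N hab).le_sylow_of_normal P
    refine ⟨index_eq_prime P.isPGroup' hidx hC fun htop => hne ?_, fun a ha b hb =>
      Subtype.ext (hab a ha b hb)⟩
    rw [_root_.commutator_def, eq_bot_iff, Subgroup.commutator_le]
    intro a _ b _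
    rw [Subgroup.mem_bot, commutatorElement_eq_one_iff_mul_comm]
    exact Subtype.ext (hab a (htop ▸ Subgroup.mem_top a : a ∈ N.subgroupOf (P : Subgroup G))
      b (htop ▸ Subgroup.mem_top b : b ∈ N.subgroupOf (P : Subgroup G)))
  have hna : ¬ Comm N N := hab
  have hcent : Subgroup.centralizer (N : Set G) = ⊥ := by
    by_contra hc0
    rcases eq_or_ne (N ⊓ Subgroup.centralizer (N : Set G)) ⊥ with h0 | h0
    · refine hne (eq_bot_iff.mpr ?_)
      have h1 := commutator_le_of_not_le P.isPGroup' hidx _ hC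
      have h2 := commutator_le_of_not_le P.isPGroup' hidx _ (hnle _ inferInstance hc0)
      intro y hy
      have : (y : G) ∈ N ⊓ Subgroup.centralizer (N : Set G) := ⟨h1 hy, h2 hy⟩
      rw [h0, Subgroup.mem_bot] at this
      exact Subgroup.mem_bot.mpr (Subtype.ext this)
    · have := hmin _ inferInstance inf_le_left h0
      refine hab fun a ha b hb => ?_
      rw [← this] at hb
      exact Subgroup.mem_centralizer_iff.mp hb.2 a ha
  obtain ⟨X, hX, hXne⟩ := exists_factorSet hN hmin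
  have hk : 2 ≤ X.card := by
    by_contra hlt
    obtain ⟨T, hT⟩ := hXne
    have hXT : X = {T} := by
      refine Finset.eq_singleton_iff_unique_mem.mpr ⟨hT, fun U hU => ?_⟩
      exact Finset.card_le_one.mp (by omega) U hU T hT
    have hTN : T = N := by rw [← hX.sup_eq, hXT]; simp
    refine hnas ⟨N, hNn, hTN ▸ hX.isSimpleGroup hT, fun hc => hab fun a ha b hb => ?_, hcent⟩
    exact congrArg Subtype.val (hc.is_comm.comm (⟨a, ha⟩ : N) ⟨b, hb⟩)
  obtain ⟨T, hT⟩ := hXne
  have htop : N.subgroupOf (P : Subgroup G) ≠ ⊤ := by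
    intro h
    refine factor_not_fixed hX hmin hna P hcore hN hidx hne hk (x := 1) (by rw [h, top_sup_eq]) hT ?_
    simpa using map_conj_one T
  have hi := index_eq_prime P.isPGroup' hidx hC htop
  obtain ⟨x, hx⟩ : ∃ x, x ∉ N.subgroupOf (P : Subgroup G) := by
    by_contra hcon
    push Not at hcon
    exact htop ((Subgroup.eq_top_iff' _).mpr hcon)
  exact ⟨hi, inf_sylow_comm hX hmin hna P hcent hidx hi hx fun U hU =>
    factor_not_fixed hX hmin hna P hcore hN hidx hne hk (sup_zpowers_eq_top hi hx) hU⟩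

end Cfsg.Agent.CT.PSq
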