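import Cfsg.Agent.Lib.ClassSum.Vanish
import Cfsg.Agent.Lib.CT.Kernel
import Cfsg.Agent.Lib.CT.Clifford
import Cfsg.Agent.Lib.Basics.CoprimeAction
import Cfsg.Agent.Lib.Basics.FpfAbelian

/-!
# Groups whose characters are multiplicative on pairs of elements of coprime prime power orders
-/

set_option autoImplicit false
set_option linter.all false

open scoped ComplexConjugate

namespace Cfsg.Agent.PairMult

open Cfsg.Agent.CT

universe u

variable {G : Type u} [Group G] [Finite G]

theorem conj_deg (χ : IrrCharacter G) : conj ((χ : G → ℂ) 1) = (χ : G → ℂ) 1 := by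
  rw [deg_eq (isCharacter_of_isIrr χ.2), map_natCast]

theorem normSq_linear (χ : IrrCharacter G) (h1 : (χ : G → ℂ) 1 = 1) (g : G) :
    (χ : G → ℂ) g * conj ((χ : G → ℂ) g) = 1 := by
  obtain ⟨l, hl⟩ := exists_hom_of_degree_one (isCharacter_of_isIrr χ.2) h1
  rw [hl, Complex.mul_conj',
    Complex.norm_eq_one_of_pow_eq_one (n := orderOf g) ?_ (orderOf_pos g).ne']
  · simp
  · rw [← Units.val_pow_eq_pow_val, ← map_pow, pow_orderOf_eq_one, map_one, Units.val_one]

/-- The second orthogonality relation when the non-linear characters vanish. -/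
theorem card_centralizer_eq_index (g : G)
    (h : ∀ χ : IrrCharacter G, (χ : G → ℂ) 1 ≠ 1 → (χ : G → ℂ) g = 0) :
    Nat.card (Subgroup.centralizer ({g} : Set G)) = (commutator G).index := by
  classical
  haveI := Fintype.ofFinite G
  have hc := column_orthogonality g g
  rw [if_pos (IsConj.refl g)] at hc
  have e : ∑ χ : IrrCharacter G, (χ : G → ℂ) g * conj ((χ : G → ℂ) g) =
      ∑ χ : IrrCharacter G, if (χ : G → ℂ) 1 = 1 then (1 : ℂ) else 0 :=
    Finset.sum_congr rfl fun χ _ => by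
      split_ifs with h1
      · exact normSq_linear χ h1 g
      · rw [h χ h1, zero_mul]
  rw [e, Finset.sum_boole] at hc
  have hc' : (Finset.univ.filter fun χ : IrrCharacter G => (χ : G → ℂ) 1 = 1).card =
      Nat.card (Subgroup.centralizer ({g} : Set G)) := by exact_mod_cast hc
  rw [← hc', ← card_linear_irr, Nat.card_eq_fintype_card, Fintype.card_subtype]

/-- Non-linear characters vanish where the centralizer is no larger than the abelianization. -/
theorem vanish_of_card_le (g : G)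
    (h : Nat.card (Subgroup.centralizer ({g} : Set G)) ≤ (commutator G).index)
    (χ : IrrCharacter G) (h1 : (χ : G → ℂ) 1 ≠ 1) : (χ : G → ℂ) g = 0 := by
  classical
  haveI := Fintype.ofFinite G
  have hc := column_orthogonality g g
  rw [if_pos (IsConj.refl g)] at hc
  simp only [Complex.mul_conj'] at hc
  have hc' : ∑ ψ : IrrCharacter G, ‖(ψ : G → ℂ) g‖ ^ 2 =
      (Nat.card (Subgroup.centralizer ({g} : Set G)) : ℝ) := by exact_mod_cast hc
  rw [← Finset.sum_filter_add_sum_filter_not Finset.univ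
    (fun ψ : IrrCharacter G => (ψ : G → ℂ) 1 = 1)] at hc'
  have hlin : ∑ ψ ∈ Finset.univ.filter (fun ψ : IrrCharacter G => (ψ : G → ℂ) 1 = 1),
      ‖(ψ : G → ℂ) g‖ ^ 2 = ((commutator G).index : ℝ) := by
    rw [Finset.sum_congr rfl (fun ψ hψ => ?_), Finset.sum_const, nsmul_eq_mul, mul_one,
      ← card_linear_irr, Nat.card_eq_fintype_card, Fintype.card_subtype]
    have := normSq_linear ψ (Finset.mem_filter.mp hψ).2 g
    rw [Complex.mul_conj'] at this
    exact_mod_cast this
  rw [hlin] at hc'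
  have hle : (Nat.card (Subgroup.centralizer ({g} : Set G)) : ℝ) ≤ ((commutator G).index : ℝ) := by
    exact_mod_cast h
  have hmem : χ ∈ Finset.univ.filter (fun ψ : IrrCharacter G => ¬ (ψ : G → ℂ) 1 = 1) :=
    Finset.mem_filter.mpr ⟨Finset.mem_univ _, h1⟩
  have hone := Finset.single_le_sum (f := fun ψ : IrrCharacter G => ‖(ψ : G → ℂ) g‖ ^ 2)
    (fun ψ _ => sq_nonneg _) hmem
  have h0 : ‖(χ : G → ℂ) g‖ ^ 2 = 0 := le_antisymm (by linarith) (sq_nonneg _)
  simpa using h0

theorem mul_eq_zero_of_pair {x y : G} (χ : IrrCharacter G) (h1 : (χ : G → ℂ) 1 ≠ 1)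
    (h : ∀ g : G, IsConj x g → (χ : G → ℂ) (g * y) = (χ : G → ℂ) g * (χ : G → ℂ) y) :
    (χ : G → ℂ) x * (χ : G → ℂ) y = 0 := by
  classical
  haveI := Fintype.ofFinite G
  have hcl := isClassFunction_of_isIrr χ.2
  have e := ClassSum.char_mul_omega χ.2 (ClassSum.classInd_isClassWeight x) y
  rw [ClassSum.omega_classInd _ hcl] at e
  have hrhs : ∑ g, (ClassSum.classInd x g : ℂ) * (χ : G → ℂ) (y * g) =
      (Nat.card {g : G // IsConj x g} : ℂ) * ((χ : G → ℂ) x * (χ : G → ℂ) y) := by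
    rw [Nat.card_eq_fintype_card, Fintype.card_subtype, Finset.card_filter, Nat.cast_sum,
      Finset.sum_mul]
    refine Finset.sum_congr rfl fun g _ => ?_
    by_cases hg : IsConj x g
    · rw [ClassSum.classInd_pos hg, if_pos hg,
        show (χ : G → ℂ) (y * g) = (χ : G → ℂ) (g * y) by
          have := hcl (g * y) y
          simpa [mul_assoc] using this,
        h g hg, CT.isClassFunction_isConj hcl hg]
      simp
    · rw [ClassSum.classInd_neg hg, if_neg hg]
      simp
  rw [hrhs] at e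
  have hk : (Nat.card {g : G // IsConj x g} : ℂ) ≠ 0 := by
    haveI : Nonempty {g : G // IsConj x g} := ⟨⟨x, IsConj.refl x⟩⟩
    exact Nat.cast_ne_zero.mpr Nat.card_pos.ne'
  have hd : (χ : G → ℂ) 1 ≠ 0 := irr_one_ne_zero χ.2
  field_simp at e
  by_contra hne
  apply h1
  exact mul_left_cancel₀ hne (by linear_combination -e)

/-- The hypothesis. -/
def Mult (G : Type u) [Group G] : Prop :=
  ∀ (x y : G) (χ : IrrCharacter G), x ≠ 1 → y ≠ 1 →
    (∃ p q a b : ℕ, p.Prime ∧ q.Prime ∧ p ≠ q ∧ orderOf x = p ^ a ∧ orderOf y = q ^ b) →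
    (χ : G → ℂ) (x * y) = (χ : G → ℂ) x * (χ : G → ℂ) y

theorem orderOf_conj {x g : G} (h : IsConj x g) : orderOf g = orderOf x := by
  obtain ⟨c, rfl⟩ := isConj_iff.mp h
  exact (MulAut.conj c).orderOf_eq x

theorem Mult.mul_eq_zero (h : Mult G) {χ : IrrCharacter G} (h1 : (χ : G → ℂ) 1 ≠ 1) {x y : G}
    (hx : x ≠ 1) (hy : y ≠ 1) {p q a b : ℕ} (hp : p.Prime) (hq : q.Prime) (hpq : p ≠ q)
    (ha : orderOf x = p ^ a) (hb : orderOf y = q ^ b) :
    (χ : G → ℂ) x * (χ : G → ℂ) y = 0 :=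
  mul_eq_zero_of_pair χ h1 fun g hg => by
    refine h g y χ (fun e => hx ?_) hy ⟨p, q, a, b, hp, hq, hpq, (orderOf_conj hg).trans ha, hb⟩
    rw [e] at hg
    exact isConj_one_left.mp hg

/-- For a non-linear character there is a prime outside which it has defect zero. -/
theorem Mult.exists_prime (h : Mult G) {χ : IrrCharacter G} (h1 : (χ : G → ℂ) 1 ≠ 1) :
    ∃ p : ℕ, p.Prime ∧ ∀ q : ℕ, q.Prime → q ≠ p →
      q ^ (Nat.card G).factorization q ∣ CT.deg (χ : G → ℂ) := by
  classical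
  haveI := Fintype.ofFinite G
  obtain ⟨p, hp, hvan⟩ : ∃ p : ℕ, p.Prime ∧ ∀ q : ℕ, q.Prime → q ≠ p → ∀ y : G, y ≠ 1 →
      (∃ b : ℕ, orderOf y = q ^ b) → (χ : G → ℂ) y = 0 := by
    by_cases hex : ∃ (p a : ℕ) (x : G), p.Prime ∧ x ≠ 1 ∧ orderOf x = p ^ a ∧ (χ : G → ℂ) x ≠ 0
    · obtain ⟨p, a, x, hp, hx, ha, h0⟩ := hex
      exact ⟨p, hp, fun q hq hqp y hy ⟨b, hb⟩ =>
        (_root_.mul_eq_zero.mp (h.mul_eq_zero h1 hx hy hp hq hqp.symm ha hb)).resolve_left h0⟩
    · push Not at hex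
      exact ⟨2, Nat.prime_two, fun q hq _ y hy ⟨b, hb⟩ => hex q b y hq hy hb⟩
  refine ⟨p, hp, fun q hq hqp => ?_⟩
  haveI := Fact.mk hq
  obtain ⟨Q⟩ : Nonempty (Sylow q G) := inferInstance
  haveI := Fintype.ofFinite (Q : Subgroup G)
  have hres : IsCharacter (Q : Subgroup G) (fun x => (χ : G → ℂ) x) :=
    isCharacter_restrict _ (isCharacter_of_isIrr χ.2)
  obtain ⟨n, hn⟩ := classInner_character_nat hres isCharacter_one
  rw [classInner, Finset.sum_eq_single (1 : (Q : Subgroup G)) (fun z _ hz => by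
      obtain ⟨b, hb⟩ := IsPGroup.iff_orderOf.mp Q.2 z
      rw [hvan q hq hqp z (fun e => hz (Subtype.ext e)) ⟨b, by rw [Subgroup.orderOf_coe, hb]⟩,
        zero_mul]) (by simp), map_one, mul_one, OneMemClass.coe_one,
    deg_eq (isCharacter_of_isIrr χ.2)] at hn
  rw [inv_mul_eq_iff_eq_mul₀ (Nat.cast_ne_zero.mpr Nat.card_pos.ne')] at hn
  rw [← Q.card_eq_multiplicity]
  exact ⟨n, by exact_mod_cast hn⟩

theorem ordCompl_dvd {n d p : ℕ} (hn : n ≠ 0) (h : ∀ q : ℕ, q.Prime → q ≠ p →
    q ^ n.factorization q ∣ d) (hp : p.Prime) : n / p ^ n.factorization p ∣ d := by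
  rcases eq_or_ne d 0 with rfl | hd
  · exact dvd_zero _
  rw [← Nat.factorization_le_iff_dvd (Nat.ordCompl_pos p hn).ne' hd, Nat.factorization_ordCompl]
  intro q
  by_cases hqp : q = p
  · subst hqp; simp
  rw [Finsupp.erase_ne hqp]
  by_cases hq : q.Prime
  · exact (hq.pow_dvd_iff_le_factorization hd).mp (h q hq hqp)
  · simp [Nat.factorization_eq_zero_of_not_prime _ hq]

theorem Mult.structure (h : Mult G) (hnp : ¬ ∃ p : ℕ, p.Prime ∧ IsPGroup p G)
    (hna : ¬ IsMulCommutative G) :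
    ∃ (p : ℕ) (_ : Fact p.Prime) (P : Sylow p G), (P : Subgroup G).Normal ∧
      commutator G ≤ (P : Subgroup G) ∧
      ∀ g : G, g ∉ (P : Subgroup G) →
        Nat.card (Subgroup.centralizer ({g} : Set G)) = (commutator G).index := by
  classical
  haveI := Fintype.ofFinite G
  obtain ⟨χ0, hχ0⟩ : ∃ χ : IrrCharacter G, (χ : G → ℂ) 1 ≠ 1 := by
    by_contra hc
    push Not at hc
    exact hna ⟨⟨(comm_iff_all_linear).mpr hc⟩⟩
  have hdeg : ∀ χ : IrrCharacter G, CT.deg (χ : G → ℂ) ^ 2 < Nat.card G := by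
    intro χ
    have hsum : ∑ ψ : IrrCharacter G, CT.deg (ψ : G → ℂ) ^ 2 = Nat.card G := by
      have e : ∑ ψ : IrrCharacter G, (ψ : G → ℂ) 1 ^ 2 = (Nat.card G : ℂ) := CT.sum_degree_sq
      simp only [fun ψ : IrrCharacter G => deg_eq (isCharacter_of_isIrr ψ.2)] at e
      exact_mod_cast e
    rw [← hsum]
    by_cases hχ : χ = trivIrr G
    · refine Finset.single_lt_sum (i := χ) (j := χ0) (fun e => hχ0 ?_) (Finset.mem_univ _)
        (Finset.mem_univ _) (pow_pos (deg_pos χ0.2) 2) (fun _ _ _ => Nat.zero_le _) (f := fun ψ : IrrCharacter G => CT.deg (ψ : G → ℂ) ^ 2)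
      rw [e, hχ, trivIrr_apply]
    · exact Finset.single_lt_sum (i := χ) (j := trivIrr G) (Ne.symm hχ) (Finset.mem_univ _)
        (Finset.mem_univ _) (pow_pos (deg_pos (trivIrr G).2) 2) (fun _ _ _ => Nat.zero_le _) (f := fun ψ : IrrCharacter G => CT.deg (ψ : G → ℂ) ^ 2)
  have hbig : ∀ (χ : IrrCharacter G) (p : ℕ), p.Prime → (∀ q : ℕ, q.Prime → q ≠ p →
      q ^ (Nat.card G).factorization q ∣ CT.deg (χ : G → ℂ)) →
      Nat.card G / p ^ (Nat.card G).factorization p < p ^ (Nat.card G).factorization p := by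
    intro χ p hp hd
    have hle := Nat.le_of_dvd (deg_pos χ.2) (ordCompl_dvd Nat.card_pos.ne' hd hp)
    have h2 := Nat.mul_le_mul hle hle
    have h3 := hdeg χ
    have h4 := Nat.ordProj_mul_ordCompl_eq_self (Nat.card G) p
    rw [pow_two] at h3
    refine Nat.lt_of_mul_lt_mul_right (a := Nat.card G / p ^ (Nat.card G).factorization p) ?_
    omega
  obtain ⟨p, hp, hp0⟩ := h.exists_prime hχ0
  haveI := Fact.mk hp
  have hall : ∀ χ : IrrCharacter G, (χ : G → ℂ) 1 ≠ 1 → ∀ q : ℕ, q.Prime → q ≠ p →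
      q ^ (Nat.card G).factorization q ∣ CT.deg (χ : G → ℂ) := by
    intro χ h1
    obtain ⟨p', hp', hp1⟩ := h.exists_prime h1
    suffices p' = p by subst this; exact hp1
    by_contra hne
    have key : ∀ {a b : ℕ}, a.Prime → b.Prime → a ≠ b →
        a ^ (Nat.card G).factorization a ≤ Nat.card G / b ^ (Nat.card G).factorization b := by
      intro a b ha hb hab
      refine Nat.le_of_dvd (Nat.ordCompl_pos b Nat.card_pos.ne') ?_
      refine Nat.Coprime.dvd_of_dvd_mul_left (k := a ^ (Nat.card G).factorization a)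
        (m := b ^ (Nat.card G).factorization b) ?_
        (by rw [Nat.ordProj_mul_ordCompl_eq_self]; exact Nat.ordProj_dvd _ a)
      exact Nat.Coprime.pow _ _ ((Nat.coprime_primes ha hb).mpr hab)
    have b1 := hbig χ0 p hp hp0
    have b2 := hbig χ p' hp' hp1
    have k1 := key hp' hp hne
    have k2 := key hp hp' (Ne.symm hne)
    omega
  have hvan : ∀ g : G, (¬ ∃ k : ℕ, orderOf g = p ^ k) → ∀ χ : IrrCharacter G,
      (χ : G → ℂ) 1 ≠ 1 → (χ : G → ℂ) g = 0 := by
    intro g hg χ h1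
    obtain ⟨q, hq, hqp, hqd⟩ : ∃ q : ℕ, q.Prime ∧ q ≠ p ∧ q ∣ orderOf g := by
      by_contra hc
      push Not at hc
      exact hg ⟨_, Nat.eq_prime_pow_of_unique_prime_dvd (orderOf_pos g).ne'
        (fun {q} hq hd => by_contra fun hne => hc q hq hne hd)⟩
    exact ClassSum.char_eq_zero_of_defZero hq χ (hall χ h1 q hq hqp) hqd
  have hcomm : IsPGroup p (commutator G) := by
    rw [IsPGroup.iff_orderOf]
    intro g
    by_contra hg
    have hg' : ¬ ∃ k : ℕ, orderOf (g : G) = p ^ k := by simpa [Subgroup.orderOf_coe] using hg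
    have hg1 : (g : G) ≠ 1 := fun e => hg' ⟨0, by rw [e, orderOf_one, pow_zero]⟩
    have hc := column_orthogonality (g : G) 1
    rw [if_neg (fun e => hg1 (isConj_one_left.mp e))] at hc
    have e : ∑ χ : IrrCharacter G, (χ : G → ℂ) g * conj ((χ : G → ℂ) 1) =
        ∑ χ : IrrCharacter G, if (χ : G → ℂ) 1 = 1 then (1 : ℂ) else 0 :=
      Finset.sum_congr rfl fun χ _ => by
        split_ifs with h1
        · rw [linear_trivial_on_commutator (isCharacter_of_isIrr χ.2) h1 _ g.2, h1, map_one,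
            mul_one]
        · rw [hvan _ hg' χ h1, zero_mul]
    rw [e, Finset.sum_boole, Nat.cast_eq_zero, Finset.card_eq_zero] at hc
    have : trivIrr G ∈ (∅ : Finset (IrrCharacter G)) := by
      rw [← hc]; exact Finset.mem_filter.mpr ⟨Finset.mem_univ _, by simp⟩
    simp at this
  obtain ⟨P, hP⟩ := hcomm.exists_le_sylow
  have hPn : (P : Subgroup G).Normal := Subgroup.Normal.of_commutator_le (G := G) (H := (P : Subgroup G)) hP
  refine ⟨p, ⟨hp⟩, P, hPn, hP, fun g hg => card_centralizer_eq_index g (hvan g ?_)⟩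
  rintro ⟨k, hk⟩
  apply hg
  haveI := hPn
  haveI := Sylow.unique_of_normal P hPn
  obtain ⟨Q, hQ⟩ := (IsPGroup.of_card (p := p) (n := k)
    (show Nat.card (Subgroup.zpowers g) = p ^ k by rw [Nat.card_zpowers, hk])).exists_le_sylow
  exact (Subsingleton.elim Q P) ▸ hQ (Subgroup.mem_zpowers g)

theorem mem_sylow_iff {p : ℕ} [Fact p.Prime] (P : Sylow p G) (hP : (P : Subgroup G).Normal)
    (g : G) : g ∈ (P : Subgroup G) ↔ ∃ k : ℕ, orderOf g = p ^ k := by
  constructor
  · intro hg
    obtain ⟨k, hk⟩ := IsPGroup.iff_orderOf.mp P.2 ⟨g, hg⟩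
    exact ⟨k, by rw [← hk, ← Subgroup.orderOf_coe]⟩
  · rintro ⟨k, hk⟩
    haveI := Sylow.unique_of_normal P hP
    obtain ⟨Q, hQ⟩ := (IsPGroup.of_card (p := p) (n := k)
      (show Nat.card (Subgroup.zpowers g) = p ^ k by rw [Nat.card_zpowers, hk])).exists_le_sylow
    exact (Subsingleton.elim Q P) ▸ hQ (Subgroup.mem_zpowers g)

theorem forward (h : Mult G) (hnp : ¬ ∃ p : ℕ, p.Prime ∧ IsPGroup p G)
    (hna : ¬ IsMulCommutative G) :
    ∃ (p : ℕ) (_ : Fact p.Prime) (P : Sylow p G) (A : Subgroup G), (P : Subgroup G).Normal ∧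
      IsCyclic A ∧ A ≠ ⊥ ∧ (Nat.card A).Coprime p ∧ A ⊔ (P : Subgroup G) = ⊤ ∧
      IsMulCommutative ↥((P : Subgroup G) ⊓ Subgroup.centralizer (A : Set G)) ∧
      (⁅A, (P : Subgroup G)⁆).Normal ∧
      ((P : Subgroup G) ⊓ Subgroup.centralizer (A : Set G)) ⊔ ⁅A, (P : Subgroup G)⁆ = P ∧
      ((P : Subgroup G) ⊓ Subgroup.centralizer (A : Set G)) ⊓ ⁅A, (P : Subgroup G)⁆ = ⊥ ∧
      ∀ a ∈ A, a ≠ 1 → ∀ d ∈ ⁅A, (P : Subgroup G)⁆, a * d = d * a → d = 1 := by
  classical
  obtain ⟨p, hpf, P, hPn, hcP, hcard⟩ := h.structure hnp hna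
  haveI := hpf
  haveI := hPn
  obtain ⟨A, hA⟩ := Subgroup.exists_right_complement'_of_coprime (N := (P : Subgroup G))
    P.card_coprime_index
  have hAne : A ≠ ⊥ := by
    rintro rfl
    refine hnp ⟨p, hpf.out, ?_⟩
    have e : (P : Subgroup G) = ⊤ := Subgroup.isComplement'_bot_right.mp hA
    exact (e ▸ P.2).of_equiv Subgroup.topEquiv
  have hinf : A ⊓ (P : Subgroup G) = ⊥ := by rw [inf_comm]; exact hA.disjoint.eq_bot
  have hsup : A ⊔ (P : Subgroup G) = ⊤ := by rw [sup_comm]; exact hA.sup_eq_top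
  have hAab : ∀ a ∈ A, ∀ b ∈ A, a * b = b * a := by
    intro a ha b hb
    have h1 : a * b * a⁻¹ * b⁻¹ ∈ A ⊓ (P : Subgroup G) :=
      ⟨A.mul_mem (A.mul_mem (A.mul_mem ha hb) (A.inv_mem ha)) (A.inv_mem hb), hcP (by
        rw [← commutatorElement_def]
        exact Subgroup.commutator_mem_commutator (Subgroup.mem_top a) (Subgroup.mem_top b))⟩
    rw [hinf, Subgroup.mem_bot] at h1
    calc a * b = (a * b * a⁻¹ * b⁻¹) * (b * a) := by group
      _ = b * a := by rw [h1, one_mul]
  haveI : IsMulCommutative A := ⟨⟨fun a b => Subtype.ext (hAab a a.2 b b.2)⟩⟩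
  have hcopAP : (Nat.card A).Coprime (Nat.card (P : Subgroup G)) := by
    rw [← hA.symm.index_eq_card]
    exact P.card_coprime_index.symm
  have hcop : (Nat.card A).Coprime p := by
    rw [← hA.symm.index_eq_card]
    exact ((Fact.out : p.Prime).coprime_iff_not_dvd.mpr P.not_dvd_index).symm
  have hAN : A ≤ Subgroup.normalizer ((P : Subgroup G) : Set G) := Subgroup.le_normalizer_of_normal
  set C := (P : Subgroup G) ⊓ Subgroup.centralizer (A : Set G) with hC
  set D := ⁅A, (P : Subgroup G)⁆ with hD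
  have hDP : D ≤ (P : Subgroup G) := by
    rw [hD, Subgroup.commutator_comm]
    exact Subgroup.le_normalizer_iff_commutator_le_left.mp hAN
  have hCD : C ⊔ D = (P : Subgroup G) := by
    rw [sup_comm, hD, Subgroup.commutator_comm]
    exact Basics.commutator_sup_inf_centralizer A _ hAN hcopAP (Or.inl (Group.isSolvable_of_comm fun a b => Subtype.ext (hAab a a.2 b b.2)))
  have hDn : D.Normal := by
    rw [← Subgroup.normalizer_eq_top_iff, eq_top_iff, ← hsup]
    exact sup_le (Subgroup.normalizer_commutator_ge_left A (P : Subgroup G))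
      (Subgroup.normalizer_commutator_ge_right A (P : Subgroup G))
  set N := commutator G with hN
  have hDc : D ≤ N := Subgroup.commutator_mono le_top le_top
  -- orders
  have hAC : C ≤ Subgroup.normalizer (A : Set G) :=
    inf_le_right.trans (Subgroup.centralizer_le_normalizer _)
  have hdisjAC : A ⊓ C = ⊥ := le_bot_iff.mp (hinf ▸ inf_le_inf_left A inf_le_left)
  have hcardAC : Nat.card (A ⊔ C : Subgroup G) = Nat.card A * Nat.card C := by
    rw [Basics.card_mul_card_eq_card_sup_mul_card_inf hAC, hdisjAC, Subgroup.card_bot, mul_one]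
  have hNP : N ⊔ C = (P : Subgroup G) := le_antisymm (sup_le hcP inf_le_left)
    (hCD ▸ sup_le le_sup_right (hDc.trans le_sup_left))
  have hkey : N.index * Nat.card (N ⊓ C : Subgroup G) = Nat.card A * Nat.card C := by
    have h1 := Basics.card_mul_card_eq_card_sup_mul_card_inf
      (N := N) (H := C) Subgroup.le_normalizer_of_normal
    rw [hNP] at h1
    have h2 := N.card_mul_index
    rw [← (P : Subgroup G).card_mul_index, hA.symm.index_eq_card] at h2
    refine Nat.eq_of_mul_eq_mul_left (Nat.card_pos (α := N)) ?_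
    calc Nat.card N * (N.index * Nat.card (N ⊓ C : Subgroup G))
        = (Nat.card (P : Subgroup G) * Nat.card A) * Nat.card (N ⊓ C : Subgroup G) := by
          rw [← h2]; ring
      _ = Nat.card A * (Nat.card (P : Subgroup G) * Nat.card (N ⊓ C : Subgroup G)) := by ring
      _ = Nat.card N * (Nat.card A * Nat.card C) := by rw [← h1]; ring
  have hcent : ∀ a ∈ A, a ≠ 1 → A ⊔ C ≤ Subgroup.centralizer ({a} : Set G) := by
    intro a ha _
    refine sup_le (fun b hb => ?_) (fun c hc => ?_)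
    · rw [Subgroup.mem_centralizer_singleton_iff]; exact hAab b hb a ha
    · rw [Subgroup.mem_centralizer_singleton_iff]
      exact (Subgroup.mem_centralizer_iff.mp hc.2 a ha).symm
  have haP : ∀ a ∈ A, a ≠ 1 → a ∉ (P : Subgroup G) := fun a ha ha1 haP' =>
    ha1 (Subgroup.mem_bot.mp (hinf ▸ Subgroup.mem_inf.mpr ⟨ha, haP'⟩))
  obtain ⟨a0, ha0, ha01⟩ := (Subgroup.bot_or_exists_ne_one A).resolve_left hAne
  have hNC : N ⊓ C = ⊥ := by
    have h1 := Subgroup.card_le_of_le (hcent a0 ha0 ha01)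
    rw [hcard a0 (haP a0 ha0 ha01), hcardAC, ← hkey] at h1
    have h2 : Nat.card (N ⊓ C : Subgroup G) ≤ 1 :=
      Nat.le_of_mul_le_mul_left (by simpa using h1) (Nat.pos_of_ne_zero Subgroup.index_ne_zero_of_finite)
    exact Subgroup.card_eq_one.mp (le_antisymm h2 Nat.card_pos)
  rw [hNC, Subgroup.card_bot, mul_one] at hkey
  have hDC : C ⊓ D = ⊥ := le_bot_iff.mp (hNC ▸ le_inf (inf_le_right.trans hDc) inf_le_left)
  have hCab : IsMulCommutative C := by
    refine ⟨⟨fun a b => Subtype.ext ?_⟩⟩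
    have h1 : (a : G) * b * (a : G)⁻¹ * (b : G)⁻¹ ∈ N ⊓ C :=
      ⟨by rw [← commutatorElement_def]
          exact Subgroup.commutator_mem_commutator (Subgroup.mem_top _) (Subgroup.mem_top _),
        C.mul_mem (C.mul_mem (C.mul_mem a.2 b.2) (C.inv_mem a.2)) (C.inv_mem b.2)⟩
    rw [hNC, Subgroup.mem_bot] at h1
    calc (a : G) * b = ((a : G) * b * (a : G)⁻¹ * (b : G)⁻¹) * (b * a) := by group
      _ = b * a := by rw [h1, one_mul]
  have hfpf : ∀ a ∈ A, a ≠ 1 → ∀ d ∈ D, a * d = d * a → d = 1 := by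
    intro a ha ha1 d hd hda
    have heq : A ⊔ C = Subgroup.centralizer ({a} : Set G) :=
      Subgroup.eq_of_le_of_card_ge (hcent a ha ha1)
        (by rw [hcard a (haP a ha ha1), hcardAC, hkey])
    have hd' : d ∈ A ⊔ C := heq ▸ Subgroup.mem_centralizer_singleton_iff.mpr hda.symm
    obtain ⟨c, hc, b, hb, e⟩ := (Basics.mem_sup_of_le_normalizer hAC).mp hd'
    have hcA : c = 1 := by
      have : c ∈ A ⊓ (P : Subgroup G) := ⟨hc, by
        rw [show c = d * b⁻¹ by rw [e]; group]
        exact (P : Subgroup G).mul_mem (hDP hd) ((P : Subgroup G).inv_mem hb.1)⟩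
      rwa [hinf, Subgroup.mem_bot] at this
    subst hcA
    rw [one_mul] at e
    subst e
    exact Subgroup.mem_bot.mp (hDC ▸ Subgroup.mem_inf.mpr ⟨hb, hd⟩)
  have hDne : D ≠ ⊥ := by
    intro hbot
    apply hna
    have hAcent : A ≤ Subgroup.centralizer ((P : Subgroup G) : Set G) :=
      Subgroup.commutator_eq_bot_iff_le_centralizer.mp hbot
    have hCP : C = (P : Subgroup G) := by rw [← hCD, hbot, sup_bot_eq]
    have htop : (⊤ : Subgroup G) ≤ Subgroup.centralizer ((⊤ : Subgroup G) : Set G) := by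
      have hA' : A ≤ Subgroup.centralizer ((⊤ : Subgroup G) : Set G) := by
        rw [Subgroup.le_centralizer_iff, ← hsup]
        refine sup_le (fun b hb => ?_) (hCP ▸ inf_le_right)
        rw [Subgroup.mem_centralizer_iff]
        exact fun a ha => hAab a ha b hb
      have hP' : (P : Subgroup G) ≤ Subgroup.centralizer ((⊤ : Subgroup G) : Set G) := by
        rw [Subgroup.le_centralizer_iff, ← hsup]
        refine sup_le hAcent (fun b hb => ?_)
        rw [Subgroup.mem_centralizer_iff]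
        intro x hx
        exact congrArg Subtype.val
          (hCab.is_comm.comm (⟨x, hCP.symm ▸ hx⟩ : C) ⟨b, hCP.symm ▸ hb⟩)
      exact le_of_eq_of_le hsup.symm (sup_le hA' hP')
    exact ⟨⟨fun a b => Subgroup.mem_centralizer_iff.mp (htop (Subgroup.mem_top b)) a
      (Subgroup.mem_top a)⟩⟩
  have hcyc : IsCyclic A := Basics.fpf_abelian_isCyclic A D hDne
    (Subgroup.le_normalizer_of_normal) fun a ha ha1 => (Subgroup.eq_bot_iff_forall _).mpr
      fun d hd => hfpf a ha ha1 d hd.1 (Subgroup.mem_centralizer_singleton_iff.mp hd.2).symm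
  exact ⟨p, hpf, P, A, hPn, hcyc, hAne, hcop, hsup, hCab, hDn, hCD, hDC, hfpf⟩

theorem backward {p : ℕ} [hpf : Fact p.Prime] (P : Sylow p G) (A : Subgroup G)
    (hPn : (P : Subgroup G).Normal) (hAcyc : IsCyclic A) (hcop : (Nat.card A).Coprime p)
    (hsup : A ⊔ (P : Subgroup G) = ⊤)
    (hCab : IsMulCommutative ↥((P : Subgroup G) ⊓ Subgroup.centralizer (A : Set G)))
    (hDn : (⁅A, (P : Subgroup G)⁆).Normal)
    (hCD : ((P : Subgroup G) ⊓ Subgroup.centralizer (A : Set G)) ⊔ ⁅A, (P : Subgroup G)⁆ = P)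
    (hfpf : ∀ a ∈ A, a ≠ 1 → ∀ d ∈ ⁅A, (P : Subgroup G)⁆, a * d = d * a → d = 1) : Mult G := by
  classical
  haveI := hPn
  set C := (P : Subgroup G) ⊓ Subgroup.centralizer (A : Set G) with hC
  set D := ⁅A, (P : Subgroup G)⁆ with hD
  haveI := hDn
  have hcopAP : (Nat.card (P : Subgroup G)).Coprime (Nat.card A) := by
    obtain ⟨k, hk⟩ := IsPGroup.iff_card.mp P.2
    rw [hk]
    exact (hcop.pow_right k).symm
  have hle : commutator G ≤ D := by
    rw [← Subgroup.Normal.quotient_commutative_iff_commutator_le]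
    have hrange : (A ⊔ C).map (QuotientGroup.mk' D) = ⊤ := by
      have : (A ⊔ C) ⊔ D = ⊤ := by rw [sup_assoc, hCD, hsup]
      have h2 := congrArg (Subgroup.map (QuotientGroup.mk' D)) this
      rwa [Subgroup.map_sup, Subgroup.map_top_of_surjective _ (QuotientGroup.mk'_surjective D),
        (Subgroup.map_eq_bot_iff D).mpr (by simp), sup_bot_eq] at h2
    have hcomm : ∀ x ∈ A ⊔ C, ∀ y ∈ A ⊔ C, x * y = y * x := by
      letI : CommGroup A := IsCyclic.commGroup
      have h1 : A ⊔ C ≤ Subgroup.centralizer ((A ⊔ C : Subgroup G) : Set G) := by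
        have hA' : A ≤ Subgroup.centralizer ((A ⊔ C : Subgroup G) : Set G) := by
          rw [Subgroup.le_centralizer_iff]
          refine sup_le (fun b hb => ?_) inf_le_right
          rw [Subgroup.mem_centralizer_iff]
          exact fun a ha => congrArg Subtype.val (mul_comm (⟨a, ha⟩ : A) ⟨b, hb⟩)
        have hC' : C ≤ Subgroup.centralizer ((A ⊔ C : Subgroup G) : Set G) := by
          rw [Subgroup.le_centralizer_iff]
          refine sup_le ?_ (fun b hb => ?_)
          · rw [Subgroup.le_centralizer_iff]; exact inf_le_right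
          · rw [Subgroup.mem_centralizer_iff]
            exact fun a ha => congrArg Subtype.val (hCab.is_comm.comm (⟨a, ha⟩ : C) ⟨b, hb⟩)
        exact sup_le hA' hC'
      exact fun x hx y hy => Subgroup.mem_centralizer_iff.mp (h1 hy) x hx
    refine ⟨⟨fun a b => ?_⟩⟩
    obtain ⟨x, hx, rfl⟩ := (hrange.symm ▸ Subgroup.mem_top a : a ∈ (A ⊔ C).map _)
    obtain ⟨y, hy, rfl⟩ := (hrange.symm ▸ Subgroup.mem_top b : b ∈ (A ⊔ C).map _)
    rw [← map_mul, ← map_mul, hcomm x hx y hy]
  have hvan : ∀ g : G, g ∉ (P : Subgroup G) → ∀ χ : IrrCharacter G, (χ : G → ℂ) 1 ≠ 1 →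
      (χ : G → ℂ) g = 0 := by
    intro g hg χ h1
    refine vanish_of_card_le g ?_ χ h1
    obtain ⟨r, hr, hrp, hrd⟩ : ∃ r : ℕ, r.Prime ∧ r ≠ p ∧ r ∣ orderOf g := by
      by_contra hc
      push Not at hc
      exact hg ((mem_sylow_iff P hPn g).mpr ⟨_, Nat.eq_prime_pow_of_unique_prime_dvd
        (orderOf_pos g).ne' (fun {q} hq hd => by_contra fun hne => hc q hq hne hd)⟩)
    set b := g ^ (orderOf g / r) with hb
    have hbo : orderOf b = r := by
      rw [hb, orderOf_pow_orderOf_div (orderOf_pos g).ne' hrd]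
    have hb1 : b ≠ 1 := fun e => hr.one_lt.ne' (by rw [← hbo, e, orderOf_one])
    have hrP : (Nat.card (P : Subgroup G)).Coprime r := by
      obtain ⟨k, hk⟩ := IsPGroup.iff_card.mp P.2
      rw [hk]
      exact Nat.Coprime.pow_left k ((Nat.coprime_primes hpf.out hr).mpr hrp.symm)
    set K := A ⊓ ((P : Subgroup G) ⊔ Subgroup.zpowers b) with hK
    have hKcard : Nat.card K = Nat.card (Subgroup.zpowers b) := by
      have hKN : K ≤ Subgroup.normalizer ((P : Subgroup G) : Set G) := Subgroup.le_normalizer_of_normal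
      have hcopK : (Nat.card (P : Subgroup G)).Coprime (Nat.card K) :=
        hcopAP.coprime_dvd_right (Subgroup.card_dvd_of_le inf_le_left)
      have h1 := Basics.card_sup_of_coprime hKN hcopK
      have h2 := Basics.card_sup_of_coprime (N := (P : Subgroup G)) (H := Subgroup.zpowers b)
        Subgroup.le_normalizer_of_normal (by rwa [Nat.card_zpowers, hbo])
      have h3 : (P : Subgroup G) ⊔ K = (P : Subgroup G) ⊔ Subgroup.zpowers b := by
        refine le_antisymm (sup_le le_sup_left inf_le_right) (sup_le le_sup_left ?_)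
        intro x hx
        obtain ⟨u, hu, v, hv, e⟩ := (Basics.mem_sup_of_le_normalizer (N := (P : Subgroup G)) (H := A)
          Subgroup.le_normalizer_of_normal (x := x)).mp
          (by rw [sup_comm, hsup]; exact Subgroup.mem_top x)
        have hvK : v ∈ K := ⟨hv, by
          rw [show v = u⁻¹ * x by rw [e]; group]
          exact mul_mem (Subgroup.mem_sup_left (inv_mem hu)) (Subgroup.mem_sup_right hx)⟩
        rw [e]
        exact mul_mem (Subgroup.mem_sup_left hu) (Subgroup.mem_sup_right hvK)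
      rw [h3, h2] at h1
      exact (Nat.eq_of_mul_eq_mul_left Nat.card_pos h1).symm
    obtain ⟨n, -, hn⟩ := Basics.exists_conj_eq_of_coprime (P : Subgroup G) (Subgroup.zpowers b) K
      Subgroup.le_normalizer_of_normal (by rwa [Nat.card_zpowers, hbo]) inf_le_right hKcard
      (Or.inl (haveI := P.2.isNilpotent; inferInstance))
    have hna : n * b * n⁻¹ ∈ A :=
      (hn ▸ Basics.conj_mem_conj_smul (Subgroup.mem_zpowers b) : n * b * n⁻¹ ∈ K).1
    have hDb : D ⊓ Subgroup.centralizer ({g} : Set G) = ⊥ := by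
      rw [Subgroup.eq_bot_iff_forall]
      intro d hd
      obtain ⟨hdD, hdg⟩ := Subgroup.mem_inf.mp hd
      have hcomm : Commute d b :=
        (show Commute d g from Subgroup.mem_centralizer_singleton_iff.mp hdg).pow_right _
      have := hfpf _ hna (fun e => hb1 (by simpa using e)) (n * d * n⁻¹) (hDn.conj_mem d hdD n)
        (by simp only [mul_assoc, inv_mul_cancel_left]
            rw [← mul_assoc b, ← hcomm.eq, mul_assoc d])
      simpa using this
    have h1 := Basics.card_mul_card_eq_card_sup_mul_card_inf (N := D)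
      (H := Subgroup.centralizer ({g} : Set G)) Subgroup.le_normalizer_of_normal
    rw [hDb, Subgroup.card_bot, mul_one] at h1
    have h2 := Subgroup.card_le_card_group (D ⊔ Subgroup.centralizer ({g} : Set G))
    rw [← h1, ← D.card_mul_index] at h2
    exact (Nat.le_of_mul_le_mul_left h2 Nat.card_pos).trans
      (Nat.le_of_dvd (Nat.pos_of_ne_zero Subgroup.index_ne_zero_of_finite)
        (Subgroup.index_dvd_of_le hle))
  intro x y χ hx hy hxy
  by_cases h1 : (χ : G → ℂ) 1 = 1
  · obtain ⟨l, hl⟩ := exists_hom_of_degree_one (isCharacter_of_isIrr χ.2) h1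
    simp [hl]
  obtain ⟨r, q, a, b, hr, hq, hrq, ha, hb⟩ := hxy
  have hout : ∀ {z : G} {r c : ℕ}, r.Prime → r ≠ p → z ≠ 1 → orderOf z = r ^ c →
      z ∉ (P : Subgroup G) := by
    intro z r c hr hrp hz hc hzP
    obtain ⟨k, hk⟩ := (mem_sylow_iff P hPn z).mp hzP
    have hcop : Nat.Coprime (r ^ c) (p ^ k) :=
      Nat.Coprime.pow _ _ ((Nat.coprime_primes hr hpf.out).mpr hrp)
    rw [← hc, ← hk, Nat.coprime_self] at hcop
    exact hz (orderOf_eq_one_iff.mp hcop)
  have hmul : x * y ∉ (P : Subgroup G) := by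
    intro hxyP
    have e : (QuotientGroup.mk' (P : Subgroup G) x) = (QuotientGroup.mk' (P : Subgroup G) y)⁻¹ := by
      rw [eq_inv_iff_mul_eq_one, ← map_mul]
      exact (QuotientGroup.eq_one_iff _).mpr hxyP
    have d1 := orderOf_map_dvd (QuotientGroup.mk' (P : Subgroup G)) x
    have d2 := orderOf_map_dvd (QuotientGroup.mk' (P : Subgroup G)) y
    have d3 : orderOf (QuotientGroup.mk' (P : Subgroup G) x) ∣ q ^ b := by
      rw [e, orderOf_inv, ← hb]; exact d2
    have h0 : QuotientGroup.mk' (P : Subgroup G) x = 1 := orderOf_eq_one_iff.mp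
      (Nat.eq_one_of_dvd_coprimes (Nat.Coprime.pow a b ((Nat.coprime_primes hr hq).mpr hrq))
        (ha ▸ d1) d3)
    have hxP : x ∈ (P : Subgroup G) := (QuotientGroup.eq_one_iff x).mp h0
    have hyP : y ∈ (P : Subgroup G) := by
      have := mul_mem (inv_mem hxP) hxyP
      rwa [inv_mul_cancel_left] at this
    rcases eq_or_ne r p with hrp | hrp
    · exact hout hq (fun e' => hrq (hrp.trans e'.symm)) hy hb hyP
    · exact hout hr hrp hx ha hxP
  rw [hvan _ hmul χ h1]
  rcases eq_or_ne r p with hrp | hrp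
  · rw [hvan y (hout hq (fun e' => hrq (hrp.trans e'.symm)) hy hb) χ h1, mul_zero]
  · rw [hvan x (hout hr hrp hx ha) χ h1, zero_mul]

end Cfsg.Agent.PairMult
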