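import Cfsg.Agent.Lib.CT.Extend
import Cfsg.Agent.Lib.CT.Chief

/-!
# The commutator pairing of an invariant character
-/

namespace Cfsg.Agent.CT

open Module

universe u w

variable {G : Type u} [Group G] [Finite G] {N : Subgroup G} [hN : N.Normal]
  {W : Type w} [AddCommGroup W] [Module ℂ W] [FiniteDimensional ℂ W]
  {τ : Representation ℂ N W} [hτ : τ.IsIrreducible] {P : G → (Module.End ℂ W)ˣ}

/-- If `z` commutes modulo `N` with a subgroup `Y`, then `P z` commutes with `P y` modulo `τ`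
for `y ∈ ⁅Y, Y⁆ ⊔ N`. -/
theorem pairing_eq (hP : IsProjExt N τ P) (Y : Subgroup G) (hNY : N ≤ Y) (z : G)
    (hz : ∀ y ∈ Y, y * z * y⁻¹ * z⁻¹ ∈ N) {y : G} (hy : y ∈ ⁅Y, Y⁆ ⊔ N)
    (h : y * z * y⁻¹ * z⁻¹ ∈ N) :
    P y * P z * (P y)⁻¹ = τ.asGroupHom ⟨y * z * y⁻¹ * z⁻¹, h⟩ * P z := by
  haveI : Nontrivial W := ((isIrreducible_iff τ).mp hτ).1
  have hex : ∀ a : Y, ∃ c : ℂˣ, P a * P z * (P a)⁻¹ =
      scU c * (τ.asGroupHom ⟨a * z * (a : G)⁻¹ * z⁻¹, hz a a.2⟩ * P z) := fun a =>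
    intertwiner_unique (τ := τ) (g := (a : G) * z * (a : G)⁻¹)
      ((intertwiners N τ).mul_mem ((intertwiners N τ).mul_mem (hP.mem a) (hP.mem z))
        ((intertwiners N τ).inv_mem (hP.mem a)))
      (by
        have := (intertwiners N τ).mul_mem
          (mem_intertwiners_coe (τ := τ) (⟨a * z * (a : G)⁻¹ * z⁻¹, hz a a.2⟩ : N)) (hP.mem z)
        simpa using this)
  choose c hc using hex
  have hmul : ∀ a b : Y, c (a * b) = c a * c b := by
    intro a b
    obtain ⟨α, hα⟩ := hP.cocycle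
    have e1 : P a * P b * P z * (P a * P b)⁻¹ =
        P ((a : G) * b) * P z * (P ((a : G) * b))⁻¹ := by
      rw [hα, scU_comm, mul_inv_rev, mul_assoc (P _) (scU _) (P z), scU_comm]
      simp [mul_assoc]
    have e2 : P a * P b * P z * (P a * P b)⁻¹ =
        P a * (P b * P z * (P b)⁻¹) * (P a)⁻¹ := by simp [mul_assoc]
    set sb : N := ⟨b * z * (b : G)⁻¹ * z⁻¹, hz b b.2⟩
    set sa : N := ⟨a * z * (a : G)⁻¹ * z⁻¹, hz a a.2⟩
    have e3 : P a * (P b * P z * (P b)⁻¹) * (P a)⁻¹ =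
        scU (c a * c b) * (τ.asGroupHom ⟨(a * b : Y) * z * ((a * b : Y) : G)⁻¹ * z⁻¹,
          hz _ (a * b).2⟩ * P z) := by
      have hm := hP.2.2 a sb
      calc P a * (P b * P z * (P b)⁻¹) * (P a)⁻¹
          = scU (c b) * ((P a * τ.asGroupHom sb) * (P z * (P a)⁻¹)) := by
            rw [hc b, ← mul_assoc (P a), ← scU_comm]
            simp only [mul_assoc, sb]
        _ = scU (c b) * (τ.asGroupHom ⟨a * (sb : G) * (a : G)⁻¹, hN.conj_mem _ sb.2 a⟩ *
              (P a * P z * (P a)⁻¹)) := by rw [hm]; simp only [mul_assoc]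
        _ = _ := by
            rw [hc a, ← mul_assoc (τ.asGroupHom _) (scU (c a)), ← scU_comm, mul_assoc,
              ← mul_assoc (τ.asGroupHom _), ← map_mul, ← mul_assoc, ← scU_mul, mul_comm (c b)]
            refine congrArg (fun n => scU (c a * c b) * (τ.asGroupHom n * P z)) (Subtype.ext ?_)
            simp [sa, sb, mul_assoc]
    have h1 : P ((a : G) * b) * P z * (P ((a : G) * b))⁻¹ = _ := hc (a * b)
    rw [← e1, e2, e3] at h1
    exact (scU_injective (mul_right_cancel h1)).symm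
  let χ : Y →* ℂˣ := MonoidHom.mk' c hmul
  have hker : ⁅Y, Y⁆ ⊔ N ≤ χ.ker.map Y.subtype := by
    refine sup_le ?_ fun n hn => ?_
    · rw [← Subgroup.map_subtype_commutator]
      exact Subgroup.map_mono (Abelianization.commutator_subset_ker χ)
    · refine ⟨⟨n, hNY hn⟩, MonoidHom.mem_ker.mpr (scU_injective (W := W) ?_), rfl⟩
      set m : N := ⟨n, hn⟩
      have h1 := hc ⟨n, hNY hn⟩
      have hm : z * (n⁻¹ : G) * z⁻¹ ∈ N := hN.conj_mem _ (N.inv_mem hn) z
      have e : P n * P z * (P n)⁻¹ =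
          τ.asGroupHom ⟨n * z * n⁻¹ * z⁻¹, hz n (hNY hn)⟩ * P z := by
        rw [show P n = τ.asGroupHom m from hP.1 m, ← map_inv, mul_assoc, hP.2.2, ← mul_assoc,
          ← map_mul]
        refine congrArg (fun i => τ.asGroupHom i * P z) (Subtype.ext ?_)
        simp [m, mul_assoc]
      rw [e] at h1
      show scU (c ⟨n, hNY hn⟩) = scU 1
      rw [scU_one]
      exact mul_right_cancel ((one_mul _).trans h1).symm
  obtain ⟨a, ha, rfl⟩ := hker hy
  have := hc a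
  rw [show c a = 1 from ha, scU_one, one_mul] at this
  exact this

/-- An invariant `τ` extends to `Z` if the pairing on `Z` is trivial. -/
theorem exists_hom_of_trivial_pairing (hP : IsProjExt N τ P) (Z : Subgroup G) (hNZ : N ≤ Z)
    (hab : ∀ a ∈ Z, ∀ b ∈ Z, a * b * a⁻¹ * b⁻¹ ∈ N)
    (hcomm : ∀ a (ha : a ∈ Z) b (hb : b ∈ Z),
      P a * P b * (P a)⁻¹ = τ.asGroupHom ⟨a * b * a⁻¹ * b⁻¹, hab a ha b hb⟩ * P b) :
    ∃ Q : Z →* (Module.End ℂ W)ˣ, ∀ n : N, Q ⟨n, hNZ n.2⟩ = τ.asGroupHom n := by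
  classical
  let Ext : Subgroup G → Prop := fun T => N ≤ T ∧ T ≤ Z ∧
    ∃ Q : T →* (Module.End ℂ W)ˣ, ∀ (n : G) (hn : n ∈ N) (hn' : n ∈ T),
      Q ⟨n, hn'⟩ = τ.asGroupHom ⟨n, hn⟩
  obtain ⟨T, hT⟩ := (Set.toFinite {T | Ext T}).exists_maximal
    ⟨N, le_rfl, hNZ, τ.asGroupHom, fun _ _ _ => rfl⟩
  obtain ⟨hNT, hTZ, Q, hQ⟩ := hT.1
  suffices hTZ' : T = Z by
    subst hTZ'
    exact ⟨Q, fun n => hQ n n.2 _⟩
  by_contra hne
  obtain ⟨z, hzZ, hzT⟩ := SetLike.exists_of_lt (lt_of_le_of_ne hTZ hne)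
  set T' := T ⊔ Subgroup.zpowers z
  have hT'Z : T' ≤ Z := sup_le hTZ (Subgroup.zpowers_le.mpr hzZ)
  haveI : (T.subgroupOf T').Normal := ⟨fun t ht g => by
    rw [Subgroup.mem_subgroupOf] at ht ⊢
    have := T.mul_mem (hNT (hab _ (hT'Z g.2) _ (hTZ ht))) ht
    simpa [mul_assoc] using this⟩
  let τ' : Representation ℂ (T.subgroupOf T') W := (Units.coeHom (Module.End ℂ W)).comp
    (Q.comp (Subgroup.subgroupOfEquivOfLe (le_sup_left : T ≤ T')).toMonoidHom)
  have hτ' : ∀ t : T.subgroupOf T', τ' t =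
      (Q ⟨t.1, Subgroup.mem_subgroupOf.mp t.2⟩ : Module.End ℂ W) := fun t => rfl
  haveI : τ'.IsIrreducible := by
    obtain ⟨hW, h⟩ := (isIrreducible_iff τ).mp hτ
    refine (isIrreducible_iff τ').mpr ⟨hW, fun U hU => h U fun n v hv => ?_⟩
    have := hU ⟨⟨n, Subgroup.mem_sup_left (hNT n.2)⟩,
      Subgroup.mem_subgroupOf.mpr (hNT n.2)⟩ v hv
    rw [hτ', hQ n n.2] at this
    simpa [Representation.asGroupHom_apply] using this
  have hQmem : ∀ t : T, ((t : G), Q t) ∈ intertwiners N τ := fun t m => by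
    rw [← hQ m m.2 (hNT m.2), ← hQ _ (MulAut.conjNormal (t : G) m).2 (hNT (Subtype.prop _)),
      ← map_mul, ← map_mul]
    exact congrArg Q (Subtype.ext (by simp [MulAut.conjNormal_apply, mul_assoc]))
  have hinv : ∀ g, conjFun (T.subgroupOf T') g τ'.character = τ'.character := by
    intro g
    funext t
    have ht : ((t : T') : G) ∈ T := Subgroup.mem_subgroupOf.mp t.2
    obtain ⟨a, ha⟩ := intertwiner_unique (τ := τ) (hQmem ⟨_, ht⟩) (hP.mem ((t : T') : G))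
    have hs : (g : G) * ((t : T') : G) * (g : G)⁻¹ * ((t : T') : G)⁻¹ ∈ N :=
      hab _ (hT'Z g.2) _ (hTZ ht)
    have hconj : P g * Q ⟨_, ht⟩ * (P g)⁻¹ =
        Q ⟨(g : G) * ((t : T') : G) * (g : G)⁻¹, by simpa [mul_assoc] using T.mul_mem (hNT hs) ht⟩ := by
      calc P g * Q ⟨_, ht⟩ * (P g)⁻¹
          = scU a * (P g * P ((t : T') : G) * (P g)⁻¹) := by
            rw [ha, ← mul_assoc (P g), ← scU_comm]
            simp only [mul_assoc]
        _ = τ.asGroupHom ⟨_, hs⟩ * Q ⟨_, ht⟩ := by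
            rw [hcomm _ (hT'Z g.2) _ (hTZ ht), ← mul_assoc, scU_comm, mul_assoc, ← ha]
        _ = _ := by
            rw [← hQ _ hs (hNT hs), ← map_mul]
            exact congrArg Q (Subtype.ext (by simp))
    simp only [conjFun, Representation.character, hτ']
    have h2 := congrArg (fun u : (Module.End ℂ W)ˣ => LinearMap.trace ℂ W (u : Module.End ℂ W)) hconj
    simp only [Units.val_mul] at h2
    rw [LinearMap.trace_mul_comm, ← mul_assoc, Units.inv_mul, one_mul] at h2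
    exact h2.symm
  haveI : IsCyclic (T' ⧸ T.subgroupOf T') := by
    refine ⟨⟨QuotientGroup.mk (⟨z, Subgroup.mem_sup_right (Subgroup.mem_zpowers z)⟩ : T'),
      fun q => ?_⟩⟩
    obtain ⟨g, rfl⟩ := QuotientGroup.mk_surjective q
    have hnorm : Subgroup.zpowers z ≤ Subgroup.normalizer (T : Set G) := by
      refine Subgroup.le_normalizer_iff.2 fun x hx t ht => ?_
      have := T.mul_mem (hNT (hab _ (Subgroup.zpowers_le.mpr hzZ hx) _ (hTZ ht))) ht
      simpa [mul_assoc] using this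
    obtain ⟨t, ht, x, hx, he⟩ := (Basics.mem_sup_of_le_normalizer hnorm).mp g.2
    obtain ⟨i, rfl⟩ := Subgroup.mem_zpowers_iff.mp hx
    refine ⟨i, ?_⟩
    show (QuotientGroup.mk (⟨z, _⟩ : T') : T' ⧸ T.subgroupOf T') ^ i = _
    rw [← QuotientGroup.mk_zpow, QuotientGroup.eq, Subgroup.mem_subgroupOf]
    have : (z ^ i)⁻¹ * t * z ^ i ∈ T := by
      have h' := (Subgroup.le_normalizer_iff.1 hnorm) _
        ((Subgroup.zpowers z).inv_mem (Subgroup.zpow_mem_zpowers z i)) t ht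
      simpa using h'
    simpa [he, mul_assoc] using this
  obtain ⟨P', hP'⟩ := exists_projExt τ' hinv
  obtain ⟨Q', hQ'⟩ := exists_hom_of_cyclic hP'
  have hle : T' ≤ T := hT.2
    ⟨hNT.trans le_sup_left, hT'Z, Q', fun n hn hn' => by
      rw [← hQ n hn (hNT hn)]
      have := hQ' ⟨⟨n, hn'⟩, Subgroup.mem_subgroupOf.mpr (hNT hn)⟩
      rw [this]
      exact Units.ext (by rw [Representation.asGroupHom_apply, hτ'])⟩
    le_sup_left
  exact hzT (hle (Subgroup.mem_sup_right (Subgroup.mem_zpowers z)))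

end Cfsg.Agent.CT
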