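import Mathlib

/-! Counting for a group acting on an abelian group whose points have distinguished Sylow subgroups. -/

set_option autoImplicit false

namespace Cfsg.Agent.CT.Palfy

open Subgroup
open scoped Pointwise

variable {V : Type*} [CommGroup V] {H : Type*} [Group H]

/-- The stabiliser of a vector. -/
def stabv (α : H →* MulAut V) (v : V) : Subgroup H where
  carrier := {h | α h v = v}
  one_mem' := by simp
  mul_mem' {a b} ha hb := by
    show α (a * b) v = v
    rw [map_mul, MulAut.mul_apply]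
    exact (congrArg (α a) hb).trans ha
  inv_mem' {a} (ha : α a v = v) := by
    show α a⁻¹ v = v
    conv_lhs => rw [← ha]
    rw [map_inv, MulAut.inv_apply_self]

theorem mem_stabv {α : H →* MulAut V} {v : V} {h : H} : h ∈ stabv α v ↔ α h v = v := Iff.rfl

/-- The vectors fixed by a subgroup. -/
def fixs (α : H →* MulAut V) (S : Subgroup H) : Subgroup V where
  carrier := {v | ∀ h ∈ S, α h v = v}
  one_mem' := fun h _ => map_one _
  mul_mem' := fun {a b} ha hb h hh => by rw [map_mul, ha h hh, hb h hh]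
  inv_mem' := fun {a} ha h hh => by rw [map_inv, ha h hh]

theorem mem_fixs {α : H →* MulAut V} {S : Subgroup H} {v : V} :
    v ∈ fixs α S ↔ ∀ h ∈ S, α h v = v := Iff.rfl

theorem le_stabv_iff {α : H →* MulAut V} {S : Subgroup H} {v : V} :
    S ≤ stabv α v ↔ v ∈ fixs α S := Iff.rfl

/-- The vectors fixed by one element. -/
def fix1 (α : H →* MulAut V) (h : H) : Subgroup V where
  carrier := {v | α h v = v}
  one_mem' := map_one _
  mul_mem' := fun {a b} (ha : α h a = a) (hb : α h b = b) => by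
    show α h (a * b) = a * b
    rw [map_mul, ha, hb]
  inv_mem' := fun {a} (ha : α h a = a) => by
    show α h a⁻¹ = a⁻¹
    rw [map_inv, ha]

theorem mem_fix1 {α : H →* MulAut V} {h : H} {v : V} : v ∈ fix1 α h ↔ α h v = v := Iff.rfl

/-- Fixed points of a permutation of prime power order. -/
theorem card_modEq_fixed {X : Type*} [Finite X] {p : ℕ} [Fact p.Prime] {σ : Equiv.Perm X} {n : ℕ}
    (hσ : σ ^ p ^ n = 1) : Nat.card X ≡ Nat.card {x : X // σ x = x} [MOD p] := by
  have hp : IsPGroup p (zpowers σ) := by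
    intro g
    obtain ⟨k, hk⟩ := g.2
    refine ⟨n, Subtype.ext ?_⟩
    rw [SubmonoidClass.coe_pow, ← hk, ← zpow_natCast, zpow_comm, zpow_natCast, hσ]
    simp
  have h := hp.card_modEq_card_fixedPoints X
  refine h.trans ?_
  rw [Nat.card_congr (Equiv.subtypeEquivRight (p := fun x => x ∈ MulAction.fixedPoints (zpowers σ) X)
      (q := fun x => σ x = x) fun x => ?_)]
  constructor
  · intro hx
    exact hx ⟨σ, mem_zpowers σ⟩
  · intro hx g
    show (g : Equiv.Perm X) x = x
    obtain ⟨k, hk⟩ := g.2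
    rw [← hk]
    exact Equiv.Perm.zpow_apply_eq_self_of_apply_eq_self hx k

/-- The restriction of an automorphism to an invariant subgroup, as a permutation. -/
noncomputable def restrictPerm [Finite V] (f : MulAut V) (W : Subgroup V) (hW : ∀ w ∈ W, f w ∈ W) :
    Equiv.Perm W :=
  Equiv.ofBijective (fun w => ⟨f w, hW w w.2⟩) (Finite.injective_iff_bijective.mp
    fun _ _ h => Subtype.ext (f.injective (congrArg Subtype.val h)))

theorem restrictPerm_pow [Finite V] (f : MulAut V) (W : Subgroup V) (hW : ∀ w ∈ W, f w ∈ W) :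
    ∀ (k : ℕ) (w : W), ((restrictPerm f W hW ^ k) w : V) = (f ^ k) w := by
  intro k
  induction k with
  | zero => intro w; rfl
  | succ k ih => intro w; rw [pow_succ, pow_succ, Equiv.Perm.mul_apply, MulAut.mul_apply, ih]; rfl

/-- The size of an invariant subgroup is congruent to that of its fixed points. -/
theorem card_modEq_fix1 [Finite V] {α : H →* MulAut V} {p : ℕ} [Fact p.Prime] {h : H} {n : ℕ}
    (hh : h ^ p ^ n = 1) {W : Subgroup V} (hW : ∀ w ∈ W, α h w ∈ W) :
    Nat.card W ≡ Nat.card ↥(W ⊓ fix1 α h : Subgroup V) [MOD p] := by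
  have hσ : restrictPerm (α h) W hW ^ p ^ n = 1 := by
    refine Equiv.ext fun w => Subtype.ext ?_
    rw [restrictPerm_pow, ← map_pow, hh, map_one]
    rfl
  refine (card_modEq_fixed hσ).trans ?_
  rw [Nat.card_congr
    { toFun := fun w => (⟨(w.1 : V), w.1.2, congrArg Subtype.val w.2⟩ : ↥(W ⊓ fix1 α h : Subgroup V))
      invFun := fun v => ⟨⟨v, v.2.1⟩, Subtype.ext v.2.2⟩
      left_inv := fun w => rfl
      right_inv := fun v => rfl }]

/-- An element of primitive prime order leaves no proper subgroup invariant. -/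
theorem irreducible_of_primitive [Finite V] {α : H →* MulAut V} {s d ℓ : ℕ} (hs : s.Prime)
    (hV : Nat.card V = s ^ d) (hℓ : ℓ.Prime) (hdvd : ℓ ∣ s ^ d - 1)
    (hprim : ∀ k, 0 < k → k < d → ¬ ℓ ∣ s ^ k - 1) {y : H} (hy : y ^ ℓ = 1) (hne : α y ≠ 1)
    (W : Subgroup V) (hW : ∀ w ∈ W, α y w ∈ W) : W = ⊥ ∨ W = ⊤ := by
  haveI := Fact.mk hℓ
  have hd0 : d ≠ 0 := by
    rintro rfl
    refine hne (MulEquiv.ext fun v => ?_)
    haveI : Subsingleton V := (Nat.card_eq_one_iff_unique.mp (by rw [hV, pow_zero])).1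
    exact Subsingleton.elim _ _
  have hls : ℓ ≠ s := by
    rintro rfl
    have h1 : ℓ ∣ ℓ ^ d := dvd_pow_self ℓ hd0
    have h2 : 1 ≤ ℓ ^ d := Nat.one_le_pow _ _ hℓ.pos
    have h3 := Nat.dvd_sub h1 hdvd
    rw [Nat.sub_sub_self h2] at h3
    exact hℓ.one_lt.ne' (Nat.dvd_one.mp h3)
  have pow_card : ∀ U : Subgroup V, ∃ e ≤ d, Nat.card U = s ^ e := fun U =>
    (Nat.dvd_prime_pow hs).mp (hV ▸ card_subgroup_dvd_card U)
  have step : ∀ {e m : ℕ}, e ≤ d → m ≤ e → s ^ e ≡ s ^ m [MOD ℓ] → m = e ∨ (m = 0 ∧ e = d) := by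
    intro e m hed hme hmod
    rcases hme.eq_or_lt with h | h
    · exact Or.inl h
    right
    have h1 : ℓ ∣ s ^ e - s ^ m := (Nat.modEq_iff_dvd' (Nat.pow_le_pow_right hs.pos hme)).mp hmod.symm
    rw [show s ^ e - s ^ m = s ^ m * (s ^ (e - m) - 1) by
      rw [Nat.mul_sub_left_distrib, mul_one, ← pow_add, Nat.add_sub_cancel' hme]] at h1
    rcases hℓ.dvd_mul.mp h1 with h2 | h2
    · exact absurd ((Nat.prime_dvd_prime_iff_eq hℓ hs).mp (hℓ.dvd_of_dvd_pow h2)) hls
    · by_contra hc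
      exact hprim (e - m) (by omega) (by omega) h2
  have key : ∀ U : Subgroup V, (∀ u ∈ U, α y u ∈ U) →
      U ≤ fix1 α y ∨ (U = ⊤ ∧ U ⊓ fix1 α y = ⊥) := by
    intro U hU
    obtain ⟨e, he, hUc⟩ := pow_card U
    obtain ⟨m, -, hmc⟩ := pow_card (U ⊓ fix1 α y)
    have hmod := card_modEq_fix1 (n := 1) (by rw [pow_one]; exact hy) hU
    rw [hUc, hmc] at hmod
    have hme : m ≤ e := by
      have := card_le_of_le (inf_le_left : U ⊓ fix1 α y ≤ U)
      rw [hUc, hmc] at this
      exact (Nat.pow_le_pow_iff_right hs.one_lt).mp this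
    rcases step he hme hmod with h | ⟨h, h'⟩
    · exact Or.inl (inf_eq_left.mp (eq_of_le_of_card_ge inf_le_left (by rw [hUc, hmc, h])))
    · exact Or.inr ⟨eq_top_of_card_eq _ (by rw [hUc, h', hV]),
        eq_bot_of_card_eq _ (by rw [hmc, h, pow_zero])⟩
  rcases key ⊤ (fun u _ => mem_top _) with h | ⟨-, hfix⟩
  · exact absurd (MulEquiv.ext (fun v => h (mem_top v)) : α y = 1) hne
  rcases key W hW with h | h
  · left
    rw [top_inf_eq] at hfix
    exact le_bot_iff.mp (h.trans hfix.le)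
  · exact Or.inr h.1

/-- An element commuting with an irreducible element fixes all or nothing. -/
theorem fix1_eq_bot_or_top {α : H →* MulAut V} {y a : H}
    (hy : ∀ W : Subgroup V, (∀ w ∈ W, α y w ∈ W) → W = ⊥ ∨ W = ⊤) (hc : Commute a y) :
    fix1 α a = ⊥ ∨ fix1 α a = ⊤ := by
  refine hy _ fun w hw => ?_
  show α a (α y w) = α y w
  rw [← MulAut.mul_apply, ← map_mul, hc.eq, map_mul, MulAut.mul_apply]
  exact congrArg (α y) hw

section Count

variable [Finite V] [Finite H] {p : ℕ} [Fact p.Prime]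

omit [Finite V] [Finite H] in
theorem conj_mem_fixs {α : H →* MulAut V} {Q : Subgroup H} {g : H} {v : V} (hv : v ∈ fixs α Q)
    (R : Subgroup H) (hR : ∀ x ∈ R, g⁻¹ * x * g ∈ Q) : α g v ∈ fixs α R := by
  intro x hx
  have h := hv _ (hR x hx)
  rw [map_mul, map_mul, MulAut.mul_apply, MulAut.mul_apply, map_inv] at h
  conv_rhs => rw [← h]
  rw [MulAut.apply_inv_self]

omit [Finite V] [Finite H] in
theorem mem_smul_sylow {g x : H} {P : Sylow p H} :
    x ∈ ((g • P : Sylow p H) : Subgroup H) ↔ g⁻¹ * x * g ∈ (P : Subgroup H) := by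
  rw [Sylow.smul_def, Sylow.pointwise_smul_def, Subgroup.mem_pointwise_smul_iff_inv_smul_mem,
    MulAut.smul_def, MulAut.conj_inv_apply]

/-- Every nonidentity vector of `U` picks a unique Sylow subgroup, so the count is a product. -/
theorem card_count (α : H →* MulAut V) (U : Subgroup V) (hU : ∀ h : H, ∀ u ∈ U, α h u ∈ U)
    (hst : ∀ v ∈ U, v ≠ 1 → ∃ Q : Sylow p H, (Q : Subgroup H) ≤ stabv α v ∧
      stabv α v ≤ normalizer ((Q : Subgroup H) : Set H)) (Q₀ : Sylow p H) :
    Nat.card U - 1 = Nat.card (Sylow p H) * (Nat.card ↥(U ⊓ fixs α (Q₀ : Subgroup H) : Subgroup V) - 1) := by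
  classical
  haveI := Fintype.ofFinite V
  haveI := Fintype.ofFinite H
  haveI := Fintype.ofFinite (Sylow p H)
  have huniq : ∀ v ∈ U, v ≠ 1 → ∀ Q Q' : Sylow p H,
      v ∈ fixs α (Q : Subgroup H) → v ∈ fixs α (Q' : Subgroup H) → Q = Q' := by
    intro v hv hv1 Q Q' hQ hQ'
    obtain ⟨P, hP, hn⟩ := hst v hv hv1
    have key : ∀ R : Sylow p H, v ∈ fixs α (R : Subgroup H) → R = P := by
      intro R hR
      have hsup : IsPGroup p ↥((R : Subgroup H) ⊔ (P : Subgroup H) : Subgroup H) :=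
        R.2.to_sup_of_normal_right' P.2 ((le_stabv_iff.mpr hR).trans hn)
      exact (Sylow.ext (R.3 P.2 (le_sup_left.trans (P.3 hsup le_sup_right).le))).symm
    rw [key Q hQ, key Q' hQ']
  have hne : ∀ S : Subgroup V, Nat.card {v : S // v ≠ 1} = Nat.card S - 1 := fun S => by
    rw [Nat.card_eq_fintype_card, Fintype.card_subtype_compl, Fintype.card_subtype_eq,
      Nat.card_eq_fintype_card]
  rw [← hne U, ← hne]
  have hsig : Nat.card {v : U // v ≠ 1} =
      Nat.card (Σ Q : Sylow p H, {v : ↥(U ⊓ fixs α (Q : Subgroup H) : Subgroup V) // v ≠ 1}) := by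
    refine (Nat.card_congr (Equiv.ofBijective (fun x => (⟨⟨x.2.1.1, x.2.1.2.1⟩, fun h => x.2.2
      (Subtype.ext (congrArg Subtype.val h :))⟩ : {v : U // v ≠ 1})) ⟨?_, ?_⟩)).symm
    · rintro ⟨Q, v, hv⟩ ⟨Q', v', hv'⟩ h
      have he : (v : V) = v' := congrArg (fun z => ((z.1 : U) : V)) h
      obtain rfl := huniq v v.2.1 (fun e => hv (Subtype.ext e)) Q Q' v.2.2 (he ▸ v'.2.2)
      obtain rfl : v = v' := Subtype.ext he
      rfl
    · rintro ⟨⟨v, hv⟩, hv1⟩
      have hv1' : v ≠ 1 := fun h => hv1 (Subtype.ext h)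
      obtain ⟨Q, hQ, -⟩ := hst v hv hv1'
      exact ⟨⟨Q, ⟨v, hv, hQ⟩, fun h => hv1' (congrArg Subtype.val h)⟩, rfl⟩
  rw [hsig, Nat.card_sigma, Finset.sum_const_nat (m := Nat.card
    {v : ↥(U ⊓ fixs α (Q₀ : Subgroup H) : Subgroup V) // v ≠ 1}), Finset.card_univ,
    ← Nat.card_eq_fintype_card]
  intro Q _
  obtain ⟨g, rfl⟩ := MulAction.exists_smul_eq H Q₀ Q
  symm
  refine Nat.card_congr
    { toFun := fun v => ⟨⟨α g v.1, hU g _ v.1.2.1, conj_mem_fixs v.1.2.2 _ fun x hx =>
          mem_smul_sylow.mp hx⟩, fun h => v.2 (Subtype.ext ((α g).map_eq_one_iff.mp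
            (congrArg Subtype.val h :)))⟩
      invFun := fun v => ⟨⟨α g⁻¹ v.1, hU _ _ v.1.2.1, conj_mem_fixs v.1.2.2 _ fun x hx =>
          mem_smul_sylow.mpr (by simpa [mul_assoc] using hx)⟩, fun h => v.2 (Subtype.ext
            ((α g⁻¹).map_eq_one_iff.mp (congrArg Subtype.val h :)))⟩
      left_inv := fun v => Subtype.ext (Subtype.ext (by simp [map_inv]))
      right_inv := fun v => Subtype.ext (Subtype.ext (by simp [map_inv])) }

end Count

end Cfsg.Agent.CT.Palfy
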