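import Cfsg.Agent.Lib.CT.PalfyDegree
import Cfsg.Agent.Lib.CT.CentralReduction
import Cfsg.Agent.Lib.Components.FFThompson

/-! Pálfy's condition: the split abelian case. -/

set_option autoImplicit false

namespace Cfsg.Agent.CT.Palfy

open Subgroup Cfsg

universe u

/-- The prime divides some degree. -/
def InRho (G : Type u) [Group G] (x : ℕ) : Prop :=
  ∃ χ : IrrCharacter G, x ∣ charDegree (χ : G → ℂ)

/-- No degree is divisible by both primes. -/
def NAdj (G : Type u) [Group G] (x y : ℕ) : Prop :=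
  ∀ χ : IrrCharacter G, ¬ x * y ∣ charDegree (χ : G → ℂ)

theorem NAdj.symm {G : Type u} [Group G] {x y : ℕ} (h : NAdj G x y) : NAdj G y x :=
  fun χ hd => h χ (by rwa [mul_comm])

theorem NAdj.not_dvd {G : Type u} [Group G] {x y : ℕ} (h : NAdj G x y) (hx : x.Prime) (hy : y.Prime)
    (hne : x ≠ y) (χ : IrrCharacter G) (hd : x ∣ charDegree (χ : G → ℂ)) :
    ¬ y ∣ charDegree (χ : G → ℂ) := fun hd' =>
  h χ (((Nat.coprime_primes hx hy).mpr hne).mul_dvd_of_dvd_of_dvd hd hd')

variable {H : Type u} [Group H] [Finite H]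

theorem exists_sylow_le {q : ℕ} [Fact q.Prime] (S : Subgroup H) (hS : ¬ q ∣ S.index) :
    ∃ Q : Sylow q H, (Q : Subgroup H) ≤ S := by
  let P : Sylow q S := default
  refine ⟨Sylow.ofCard ((P : Subgroup S).map S.subtype) ?_, map_subtype_le _⟩
  rw [card_map_of_injective S.subtype_injective, P.card_eq_multiplicity, ← S.card_mul_index,
    Nat.factorization_mul Nat.card_pos.ne' Subgroup.index_ne_zero_of_finite]
  simp [Nat.factorization_eq_zero_of_not_dvd hS]

/-- A subgroup of index prime to `q` all whose degrees are prime to `q`. -/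
theorem pick_of [Group.IsSolvable H] {q : ℕ} [Fact q.Prime] (S : Subgroup H) (hS : ¬ q ∣ S.index)
    (hdeg : ∀ φ : IrrCharacter S, ¬ q ∣ charDegree (φ : S → ℂ)) :
    ∃ Q : Sylow q H, (Q : Subgroup H) ≤ S ∧ S ≤ normalizer ((Q : Subgroup H) : Set H) ∧
      IsMulCommutative ↥(Q : Subgroup H) := by
  obtain ⟨Q, hQ⟩ := exists_sylow_le S hS
  have hn := ItoMichler.sylow_normal (p := q) _ S rfl
    (Components.isPSolvable_of_isSolvable _ S le_rfl inferInstance) hdeg (Q.subtype hQ)
  haveI := hn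
  have hc := ItoMichler.sylow_comm (Q.subtype hQ) hdeg
  refine ⟨Q, hQ, (normal_subgroupOf_iff_le_normalizer hQ).mp hn, ⟨⟨fun a b => ?_⟩⟩⟩
  have := congrArg (fun z : ↥((Q.subtype hQ : Sylow q S) : Subgroup S) => ((z : S) : H))
    (hc.1.comm (⟨⟨a, hQ a.2⟩, a.2⟩ : ↥((Q.subtype hQ : Sylow q S) : Subgroup S)) ⟨⟨b, hQ b.2⟩, b.2⟩)
  exact Subtype.ext this

/-- If the prime does not divide the order of the image, picking makes its Sylow subgroup normal abelian. -/
theorem normal_of_not_dvd {V : Type u} [CommGroup V] {q : ℕ} [Fact q.Prime] (α : H →* MulAut V)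
    (h : Pick q α) {v : V} (hv : v ≠ 1) (hno : ¬ q ∣ Nat.card α.range) :
    ∃ Q : Sylow q H, (Q : Subgroup H).Normal ∧ IsMulCommutative ↥(Q : Subgroup H) ∧
      (Q : Subgroup H) ≤ α.ker := by
  rw [← index_ker] at hno
  obtain ⟨Q0, hQ0⟩ := exists_sylow_le α.ker hno
  obtain ⟨Q, hQs, hQn, hQc⟩ := h v hv
  have hall : ∀ R : Sylow q H, R = Q := by
    intro R
    obtain ⟨g, rfl⟩ := MulAction.exists_smul_eq H Q0 R
    have hle : ((g • Q0 : Sylow q H) : Subgroup H) ≤ normalizer ((Q : Subgroup H) : Set H) := by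
      refine fun x hx => hQn (?_ : α x v = v)
      have := Normal.conj_mem inferInstance _ (hQ0 (mem_smul_sylow.mp hx)) g
      rw [show g * (g⁻¹ * x * g) * g⁻¹ = x by group, MonoidHom.mem_ker] at this
      rw [this, MulAut.one_apply]
    exact (Sylow.ext ((g • Q0).3 Q.2 (le_sup_left.trans
      (Q.3 ((g • Q0).2.to_sup_of_normal_right' Q.2 hle) le_sup_right).le))).symm
  haveI : Subsingleton (Sylow q H) := ⟨fun a b => (hall a).trans (hall b).symm⟩
  refine ⟨Q, Q.normal_of_subsingleton, hQc, ?_⟩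
  rw [← hall Q0]
  exact hQ0

theorem dvd_range_of_pick {V : Type u} [CommGroup V] {q : ℕ} [Fact q.Prime] (α : H →* MulAut V)
    (h : Pick q α) {v : V} (hv : v ≠ 1) (hd : InRho H q) : q ∣ Nat.card α.range := by
  by_contra hno
  obtain ⟨Q, hQn, hQc, -⟩ := normal_of_not_dvd α h hv hno
  haveI := hQn
  obtain ⟨χ, hχ⟩ := hd
  exact ItoMichler.not_dvd_deg Q hQc χ hχ

/-- The core, for primes dividing degrees of the acting group. -/
theorem core_of_rho [Group.IsSolvable H] {V : Type u} [CommGroup V] [Finite V] (α : H →* MulAut V)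
    {s : ℕ} (hs : s.Prime) (hexp : ∀ v : V, v ^ s = 1) {q r : ℕ} (hq : q.Prime) (hr : r.Prime)
    (hqr : q ≠ r) {v : V} (hv : v ≠ 1) (hqd : InRho H q) (hrd : InRho H r)
    (hpq : Pick q α) (hpr : Pick r α) :
    ∃ χ : IrrCharacter H, q * r ∣ charDegree (χ : H → ℂ) := by
  haveI := Fact.mk hq
  haveI := Fact.mk hr
  exact core_app α hs hexp hq hr hqr (dvd_range_of_pick α hpq hv hqd)
    (dvd_range_of_pick α hpr hv hrd) hpq hpr

/-- The automorphisms of a commutative group, with its group multiplication. -/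
abbrev CAut (V : Type u) [CommGroup V] := MulAut V

/-- The dual action. -/
noncomputable def dualAct {M : Type u} [Group M] (f : H →* MulAut M) : H →* CAut (M →* ℂˣ) where
  toFun h :=
    { toFun := fun l => l.comp (f h⁻¹).toMonoidHom
      invFun := fun l => l.comp (f h).toMonoidHom
      left_inv := fun l => by ext m; simp [map_inv]
      right_inv := fun l => by ext m; simp [map_inv]
      map_mul' := fun a b => rfl }
  map_one' := by ext l m; simp
  map_mul' a b := by ext l m; simp [map_inv, mul_inv_rev]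

theorem dualAct_apply {M : Type u} [Group M] (f : H →* MulAut M) (h : H) (l : M →* ℂˣ) (m : M) :
    dualAct f h l m = l (f h⁻¹ m) := rfl

theorem eq_one_of_dualAct {M : Type u} [CommGroup M] [Finite M] (f : H →* MulAut M) {h : H}
    (hh : dualAct f h = 1) : f h = 1 := by
  have key : f h⁻¹ = 1 := by
    refine MulEquiv.ext fun m => ?_
    rw [MulAut.one_apply]
    by_contra hne
    obtain ⟨φ, hφ⟩ := CommGroup.exists_apply_ne_one_of_hasEnoughRootsOfUnity M ℂ
      (a := (f h⁻¹ m) / m) (by rwa [Ne, div_eq_one])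
    refine hφ ?_
    have := DFunLike.congr_fun (DFunLike.congr_fun hh φ) m
    rw [dualAct_apply, MulAut.one_apply] at this
    rw [map_div, this, div_self']
  rwa [map_inv, inv_eq_one] at key

/-- A group of characters separating points is everything. -/
theorem eq_top_of_separate {M : Type u} [CommGroup M] [Finite M] (W : Subgroup (M →* ℂˣ))
    (h : ∀ m : M, (∀ w ∈ W, w m = 1) → m = 1) : W = ⊤ := by
  have hV : Nat.card (M →* ℂˣ) = Nat.card M :=
    CommGroup.card_monoidHom_of_hasEnoughRootsOfUnity M ℂ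
  haveI : Finite (M →* ℂˣ) := Nat.finite_of_card_ne_zero (by rw [hV]; exact Nat.card_pos.ne')
  let ev : M →* (W →* ℂˣ) :=
    { toFun := fun m =>
        { toFun := fun w => (w : M →* ℂˣ) m
          map_one' := rfl
          map_mul' := fun a b => rfl }
      map_one' := by ext w; simp
      map_mul' := fun a b => by ext w; simp }
  have hW : Nat.card (W →* ℂˣ) = Nat.card W :=
    CommGroup.card_monoidHom_of_hasEnoughRootsOfUnity W ℂ
  haveI : Finite (W →* ℂˣ) := Nat.finite_of_card_ne_zero (by rw [hW]; exact Nat.card_pos.ne')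
  refine eq_top_of_le_card _ ?_
  rw [hV, ← hW]
  refine Nat.card_le_card_of_injective ev ((injective_iff_map_eq_one ev).mpr fun m hm => h m fun w hw => ?_)
  exact DFunLike.congr_fun hm (⟨w, hw⟩ : W)

variable {G : Type u} [Group G] [Finite G]

/-- The dual of a minimal normal subgroup is irreducible. -/
theorem dual_irreducible {L : Subgroup G} (M : Subgroup G) [M.Normal]
    (hmin : ∀ K : Subgroup G, K.Normal → K ≤ M → K = ⊥ ∨ K = M) (f : L →* MulAut M)
    (hf : ∀ (h : L) (m : M), ((f h m : M) : G) = (h : G) * m * (h : G)⁻¹)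
    (hcov : ∀ g : G, ∃ k : L, ∀ z ∈ M, g * z * g⁻¹ = (k : G) * z * (k : G)⁻¹)
    (W : Subgroup (M →* ℂˣ)) (hW : ∀ h, ∀ w ∈ W, dualAct f h w ∈ W) (hab : ∀ a b : M, a * b = b * a) :
    W = ⊥ ∨ W = ⊤ := by
  let Z : Subgroup G :=
    { carrier := {g | ∃ hg : g ∈ M, ∀ w ∈ W, w ⟨g, hg⟩ = 1}
      one_mem' := ⟨M.one_mem, fun w _ => map_one w⟩
      mul_mem' := fun {a b} ⟨ha, ha'⟩ ⟨hb, hb'⟩ => ⟨M.mul_mem ha hb, fun w hw => by
        rw [show (⟨a * b, M.mul_mem ha hb⟩ : M) = ⟨a, ha⟩ * ⟨b, hb⟩ from rfl, map_mul, ha' w hw,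
          hb' w hw, one_mul]⟩
      inv_mem' := fun {a} ⟨ha, ha'⟩ => ⟨M.inv_mem ha, fun w hw => by
        rw [show (⟨a⁻¹, M.inv_mem ha⟩ : M) = (⟨a, ha⟩ : M)⁻¹ from rfl, map_inv, ha' w hw, inv_one]⟩ }
  have hZn : Z.Normal := by
    refine ⟨fun z hz g => ?_⟩
    obtain ⟨hzM, hz'⟩ := hz
    obtain ⟨k, hk⟩ := hcov g
    refine ⟨Normal.conj_mem inferInstance _ hzM g, fun w hw => ?_⟩
    have h1 := hz' _ (hW k⁻¹ w hw)
    rw [dualAct_apply, inv_inv] at h1
    exact Eq.trans (congrArg w (Subtype.ext ((hk z hzM).trans (hf k ⟨z, hzM⟩).symm))) h1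
  rcases hmin Z hZn (fun g hg => hg.1) with hZ | hZ
  · right
    letI : CommGroup M := { (inferInstance : Group M) with mul_comm := hab }
    refine eq_top_of_separate W fun m hm => Subtype.ext ?_
    have : (m : G) ∈ Z := ⟨m.2, hm⟩
    rwa [hZ, mem_bot] at this
  · left
    rw [Subgroup.eq_bot_iff_forall]
    refine fun w hw => MonoidHom.ext fun m => ?_
    obtain ⟨_, h'⟩ := (hZ.symm ▸ m.2 : (m : G) ∈ Z)
    exact h' w hw

theorem inertia_index {N L : Subgroup G} [N.Normal] (h : IsComplement' N L) (θ : IrrCharacter N) :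
    (CT.inertia N (θ : N → ℂ)).index = ((CT.inertia N (θ : N → ℂ)).subgroupOf L).index := by
  rw [← index_comap_of_surjective ((CT.inertia N (θ : N → ℂ)).subgroupOf L) (proj_surjective h)]
  congr 1
  ext g
  have hn := CT.le_inertia N (CT.isClassFunction_of_isIrr θ.2) (proj_mem h g)
  rw [mem_comap, mem_subgroupOf]
  constructor
  · intro hg
    have := (CT.inertia N (θ : N → ℂ)).mul_mem ((CT.inertia N (θ : N → ℂ)).inv_mem hn) hg
    rwa [mul_inv_rev, inv_inv, inv_mul_cancel_right] at this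
  · intro hl
    have := (CT.inertia N (θ : N → ℂ)).mul_mem hn hl
    rwa [inv_mul_cancel_right] at this

theorem le_comap_proj {N L : Subgroup G} [N.Normal] (h : IsComplement' N L) (S : Subgroup L) :
    N ≤ S.comap (proj h) := fun n hn => by
  rw [mem_comap, proj_eq_one h hn]; exact S.one_mem

set_option maxHeartbeats 1000000 in
theorem caseA [Group.IsSolvable G] {p q r ℓ : ℕ} (hp : p.Prime) (hq : q.Prime) (hr : r.Prime)
    (hpq : p ≠ q) (hqr : q ≠ r) (hpr : p ≠ r) (hqd : InRho G q) (hrd : InRho G r)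
    (npq : NAdj G p q) (npr : NAdj G p r) (nqr : NAdj G q r) (hℓ : ℓ.Prime) (M : Subgroup G) [M.Normal]
    (hmin : ∀ K : Subgroup G, K.Normal → K ≤ M → K = ⊥ ∨ K = M) (hMne : M ≠ ⊥)
    (hab : ∀ a b : M, a * b = b * a) (hexp : ∀ x ∈ M, x ^ ℓ = 1) (P : Sylow p G)
    (hc : IsComplement' M (normalizer ((P : Subgroup G) : Set G)))
    (hMP : ¬ M ≤ normalizer ((P : Subgroup G) : Set G)) : False := by
  classical
  haveI := Fact.mk hp
  haveI := Fact.mk hq
  haveI := Fact.mk hr
  haveI := Fintype.ofFinite G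
  haveI := Fintype.ofFinite M
  set H := normalizer ((P : Subgroup G) : Set G) with hH
  letI : CommGroup M := { (inferInstance : Group M) with mul_comm := hab }
  set f : H →* MulAut M := (MulAut.conjNormal (H := M)).comp H.subtype with hf
  set α := dualAct f with hα
  have hV : Nat.card (M →* ℂˣ) = Nat.card M :=
    CommGroup.card_monoidHom_of_hasEnoughRootsOfUnity M ℂ
  haveI : Finite (M →* ℂˣ) := Nat.finite_of_card_ne_zero (by rw [hV]; exact Nat.card_pos.ne')
  have hVexp : ∀ v : M →* ℂˣ, v ^ ℓ = 1 := fun v => MonoidHom.ext fun m => by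
    rw [MonoidHom.pow_apply, ← map_pow, show m ^ ℓ = 1 from Subtype.ext (hexp m m.2), map_one]
    rfl
  have hirred : ∀ W : Subgroup (M →* ℂˣ), (∀ h, ∀ w ∈ W, α h w ∈ W) → W = ⊥ ∨ W = ⊤ :=
    fun W hW => dual_irreducible M hmin f (fun h m => MulAut.conjNormal_apply (h : G) m) (fun g => by
      refine ⟨proj hc g, fun z hz => ?_⟩
      have hcc := congrArg Subtype.val (hab ⟨_, proj_mem hc g⟩
        ⟨_, Normal.conj_mem inferInstance _ hz ((proj hc g : H) : G)⟩)
      simp only [Subgroup.coe_mul] at hcc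
      calc g * z * g⁻¹ = g * ((proj hc g : H) : G)⁻¹ * (((proj hc g : H) : G) * z *
            ((proj hc g : H) : G)⁻¹) * (g * ((proj hc g : H) : G)⁻¹)⁻¹ := by group
        _ = _ := by rw [hcc]; group) W hW hab
  -- stabilisers
  have hlin : ∀ v : M →* ℂˣ, IsIrrCharacter M (fun n => (v n : ℂ)) := fun v => CT.isIrrCharacter_lin v
  have hstab : ∀ v : M →* ℂˣ, stabv α v = (CT.inertia M (fun n => (v n : ℂ))).subgroupOf H := by
    intro v
    ext h
    rw [mem_subgroupOf, TwoDeg.inertia_eq_St, mem_stabv, ← (TwoDeg.St M v).inv_mem_iff, TwoDeg.mem_St]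
    exact Iff.rfl
  let PH : Sylow p H := P.subtype le_normalizer
  haveI hPH : (PH : Subgroup H).Normal := normal_subgroupOf_of_le_normalizer le_rfl
  have hP1 : ∀ v : M →* ℂˣ, v ≠ 1 → p ∣ (stabv α v).index := by
    intro v hv
    by_contra hno
    obtain ⟨R, hR⟩ := exists_sylow_le _ hno
    letI := PH.unique_of_normal hPH
    rw [Subsingleton.elim R PH] at hR
    have hinv : ∀ h : H, ∀ w ∈ fixs α (PH : Subgroup H), α h w ∈ fixs α (PH : Subgroup H) :=
      fun h w hw => conj_mem_fixs hw _ fun x hx => by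
        simpa using hPH.conj_mem x hx h⁻¹
    rcases hirred _ hinv with h0 | h0
    · exact hv (mem_bot.mp (h0 ▸ (le_stabv_iff.mp hR) : v ∈ (⊥ : Subgroup (M →* ℂˣ))))
    · refine hMP fun m hm => mem_normalizer_iff.mpr ?_
      have hcomm : ∀ x ∈ (P : Subgroup G), x * m * x⁻¹ = m := fun x hx => by
        have h1 := eq_one_of_dualAct f (h := ⟨x, le_normalizer hx⟩) (MulEquiv.ext fun l =>
          (h0 ▸ mem_top l : l ∈ fixs α (PH : Subgroup H)) ⟨x, le_normalizer hx⟩ hx)
        have h2 := congrArg Subtype.val (MulEquiv.congr_fun h1 (⟨m, hm⟩ : M))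
        exact (MulAut.conjNormal_apply x (⟨m, hm⟩ : M)).symm.trans h2
      have hfix : ∀ x ∈ (P : Subgroup G), m * x * m⁻¹ = x := fun x hx => by
        have := mul_inv_eq_iff_eq_mul.mp (hcomm x hx)
        rw [← this, mul_inv_cancel_right]
      intro x
      constructor
      · intro hx; rw [hfix x hx]; exact hx
      · intro hx
        have e : m * x * m⁻¹ = x := by
          have := hfix _ hx
          calc m * x * m⁻¹ = m⁻¹ * (m * (m * x * m⁻¹) * m⁻¹) * m := by group
            _ = m⁻¹ * (m * x * m⁻¹) * m := by rw [this]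
            _ = x := by group
        rwa [e] at hx
  have hdeg : ∀ v : M →* ℂˣ, v ≠ 1 → ∀ φ : IrrCharacter ↥(stabv α v),
      ∃ χ : IrrCharacter G, charDegree (χ : G → ℂ) =
        (stabv α v).index * charDegree (φ : ↥(stabv α v) → ℂ) := by
    intro v hv φ
    obtain ⟨χ, hχ⟩ := exists_degree hc ⟨_, hlin v⟩ (stabv α v) (hstab v) φ (le_comap_proj hc _)
      (exists_linear_ext hc v _ (fun s hs => by rw [hstab v] at hs; exact hs) _)
    refine ⟨χ, ?_⟩
    rw [hχ, show charDegree (fun n : M => (v n : ℂ)) = 1 from ?_, mul_one]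
    show CT.deg (fun n : M => (v n : ℂ)) = 1
    simp [CT.deg]
  have hpick : ∀ x : ℕ, x.Prime → p ≠ x → NAdj G p x → Pick (V := M →* ℂˣ) x α := by
    intro x hx hne hn v hv
    haveI := Fact.mk hx
    have key : ∀ φ : IrrCharacter ↥(stabv α v),
        ¬ x ∣ (stabv α v).index * charDegree (φ : ↥(stabv α v) → ℂ) := fun φ hd => by
      obtain ⟨χ, hχ⟩ := hdeg v hv φ
      exact hn.not_dvd hp hx hne χ (hχ ▸ dvd_mul_of_dvd_left (hP1 v hv) _) (hχ ▸ hd)
    exact pick_of _ (fun hd => key (CT.trivIrr _) (dvd_mul_of_dvd_left hd _))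
      fun φ hd => key φ (dvd_mul_of_dvd_right hd _)
  have hrho : ∀ x : ℕ, x.Prime → p ≠ x → NAdj G p x → InRho G x → InRho H x := by
    rintro x hx hne hn ⟨χ, hd⟩
    obtain ⟨l, hl⟩ := CT.exists_constituent_restrict M χ.2
    obtain ⟨v, hv⟩ := CT.exists_hom_of_comm hab l.2
    have e : (l : M → ℂ) = fun n => (v n : ℂ) := funext fun n => by simp [hv]
    by_cases hv1 : v = 1
    · subst hv1
      have e' : (l : M → ℂ) = fun _ => 1 := funext fun n => by rw [congrFun e n]; simp
      rw [e'] at hl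
      have hres := CT.restrict_eq_smul_of_invariant M χ.2 CT.isIrrCharacter_one hl (fun g => rfl)
      obtain ⟨ψ, hψ⟩ := CentralReduction.exists_descend (proj hc) (proj_surjective hc) χ.2 fun n hn' => by
        have hnM : n ∈ M := by
          have := proj_mem hc n
          rwa [show proj hc n = 1 from hn', OneMemClass.coe_one, inv_one, mul_one] at this
        exact (congrFun hres ⟨n, hnM⟩).trans (congrFun hres 1).symm
      refine ⟨ψ, ?_⟩
      rwa [show charDegree (ψ : H → ℂ) = charDegree ((χ : G → ℂ)) from ?_]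
      show CT.deg (ψ : H → ℂ) = CT.deg (χ : G → ℂ)
      simp only [CT.deg, ← hψ, map_one]
    · exfalso
      refine hn.not_dvd hp hx hne χ ?_ hd
      show p ∣ CT.deg (χ : G → ℂ)
      rw [e] at hl
      rw [CT.clifford_mult M χ.2 (hlin v) hl, inertia_index hc ⟨_, hlin v⟩]
      refine dvd_mul_of_dvd_left (dvd_mul_of_dvd_right ?_ _) _
      exact hstab v ▸ hP1 v hv1
  obtain ⟨v0, hv0⟩ : ∃ v : M →* ℂˣ, v ≠ 1 := by
    haveI : Nontrivial (M →* ℂˣ) := Finite.one_lt_card_iff_nontrivial.mp (by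
      rw [hV]; exact (one_lt_card_iff_ne_bot _).mpr hMne)
    exact exists_ne 1
  have hpkq := hpick q hq hpq npq
  have hpkr := hpick r hr hpr npr
  obtain ⟨φ, hφ⟩ := core_of_rho (V := M →* ℂˣ) α hℓ hVexp hq hr hqr hv0 (hrho q hq hpq npq hqd)
    (hrho r hr hpr npr hrd) hpkq hpkr
  obtain ⟨χ, hχ⟩ := lift_degree hc φ
  exact nqr χ (hχ ▸ hφ)

end Cfsg.Agent.CT.Palfy
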