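import Cfsg.Agent.Lib.CT.PalfyTheta

/-! Pálfy's condition: a normal nonabelian Sylow subgroup. -/

set_option autoImplicit false

namespace Cfsg.Agent.CT.Palfy

open Subgroup Cfsg
open scoped commutatorElement

universe u

variable {G : Type u} [Group G] [Finite G] {p : ℕ}

/-- A normal nonabelian Sylow subgroup with minimal commutator, and a complement. -/
structure Setup (P : Sylow p G) (M L : Subgroup G) : Prop where
  prime : p.Prime
  min : ∀ K : Subgroup G, K.Normal → K ≤ M → K = ⊥ ∨ K = M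
  ne_bot : M ≠ ⊥
  exp : ∀ x ∈ M, x ^ p = 1
  le : M ≤ (P : Subgroup G)
  central : ∀ m ∈ M, ∀ x ∈ (P : Subgroup G), m * x = x * m
  comm_eq : ⁅(P : Subgroup G), (P : Subgroup G)⁆ = M
  compl : IsComplement' (P : Subgroup G) L

variable {P : Sylow p G} [(P : Subgroup G).Normal] {M L : Subgroup G} [M.Normal]

local notation "N" => (P : Subgroup G)

/-- The action on the central subgroup. -/
noncomputable def fM (M L : Subgroup G) [M.Normal] : L →* MulAut M :=
  (MulAut.conjNormal (H := M)).comp L.subtype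

/-- The action on the commutative quotient. -/
noncomputable def fA (P : Sylow p G) [(P : Subgroup G).Normal] (L : Subgroup G) :
    L →* MulAut (Abelianization ↥(P : Subgroup G)) :=
  MonoidHom.mk' (fun l => (MulAut.conjNormal (l : G) : MulAut ↥(P : Subgroup G)).abelianizationCongr)
    fun a b => MulEquiv.ext fun x => by
      induction x using QuotientGroup.induction_on with
      | H x =>
        show Abelianization.of ((MulAut.conjNormal ((a : G) * b) : MulAut ↥(P : Subgroup G)) x) = _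
        rw [map_mul]
        rfl

theorem fA_of (l : L) (x : N) : fA P L l (Abelianization.of x) =
    Abelianization.of ((MulAut.conjNormal (l : G) : MulAut N) x) := rfl

theorem fM_coe (l : L) (m : M) : ((fM M L l m : M) : G) = (l : G) * m * (l : G)⁻¹ :=
  MulAut.conjNormal_apply (l : G) m

namespace Setup

variable (S : Setup P M L)

include S

theorem hc : ∀ x ∈ N, ∀ y ∈ N, x * y * x⁻¹ * y⁻¹ ∈ M := fun x hx y hy => by
  rw [← S.comm_eq]
  exact commutator_mem_commutator hx hy

theorem ab : ∀ a b : M, a * b = b * a := fun a b =>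
  Subtype.ext (S.central a a.2 b (S.le b.2))

theorem mem_commutator_iff (x : N) : x ∈ commutator N ↔ (x : G) ∈ M := by
  rw [← S.comm_eq, ← map_subtype_commutator (P : Subgroup G)]
  exact (mem_map_iff_mem Subtype.val_injective).symm

theorem coprime_L : Nat.Coprime (Nat.card L) p := by
  haveI := Fact.mk S.prime
  rw [← S.compl.symm.index_eq_card]
  exact ((Nat.Prime.coprime_iff_not_dvd S.prime).mpr P.not_dvd_index).symm

theorem coprime_order (l : L) : Nat.Coprime (orderOf (l : G)) p := by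
  rw [orderOf_coe]
  exact S.coprime_L.coprime_dvd_left (orderOf_dvd_natCard l)

theorem pow_N (x : N) : ∃ k, (x : G) ^ p ^ k = 1 := by
  haveI := Fact.mk S.prime
  obtain ⟨k, hk⟩ := P.2 x
  exact ⟨k, by simpa using congrArg Subtype.val hk⟩

theorem fin_dual : Finite (M →* ℂˣ) ∧ Nat.card (M →* ℂˣ) = Nat.card M := by
  letI : CommGroup M := { (inferInstance : Group M) with mul_comm := S.ab }
  have hV : Nat.card (M →* ℂˣ) = Nat.card M :=
    CommGroup.card_monoidHom_of_hasEnoughRootsOfUnity M ℂ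
  exact ⟨Nat.finite_of_card_ne_zero (by rw [hV]; exact Nat.card_pos.ne'), hV⟩

theorem dual_exp (v : M →* ℂˣ) : v ^ p = 1 := MonoidHom.ext fun m => by
  rw [MonoidHom.pow_apply, ← map_pow, show m ^ p = 1 from Subtype.ext (S.exp m m.2), map_one]
  rfl

theorem hne {μ : M →* ℂˣ} (hμ : μ ≠ 1) : ∃ x y : N, μ (com N M S.hc x y) ≠ 1 := by
  by_contra hno
  push Not at hno
  have hle : M ≤ μ.ker.map M.subtype := by
    exact le_of_eq_of_le S.comm_eq.symm (commutator_le.mpr fun x hx y hy =>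
      ⟨com N M S.hc ⟨x, hx⟩ ⟨y, hy⟩, hno ⟨x, hx⟩ ⟨y, hy⟩, rfl⟩)
  refine hμ (MonoidHom.ext fun m => ?_)
  obtain ⟨m', hm', e⟩ := hle m.2
  obtain rfl : m' = m := Subtype.ext e
  exact hm'

theorem stab_eq (v : M →* ℂˣ) :
    stabv (dualAct (fM M L)) v = (CT.inertia M (fun n => (v n : ℂ))).subgroupOf L := by
  ext h
  rw [mem_subgroupOf, TwoDeg.inertia_eq_St, mem_stabv, ← (TwoDeg.St M v).inv_mem_iff, TwoDeg.mem_St]
  exact Iff.rfl

/-- An element fixing a character of `N` over `μ` fixes `μ`. -/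
theorem inertia_le {v : M →* ℂˣ} {φ : N → ℂ} (h1 : φ 1 ≠ 0)
    (hφ : ∀ m : M, φ ⟨m, S.le m.2⟩ = φ 1 * (v m : ℂ)) :
    (CT.inertia N φ).subgroupOf L ≤ stabv (dualAct (fM M L)) v := by
  intro l hl
  rw [S.stab_eq, mem_subgroupOf, CT.mem_inertia_iff]
  intro m
  have h := (CT.mem_inertia_iff N).mp (show (l : G) ∈ CT.inertia N φ from hl) ⟨m, S.le m.2⟩
  have e := hφ ⟨(l : G) * m * (l : G)⁻¹, Normal.conj_mem inferInstance (m : G) m.2 (l : G)⟩
  rw [show φ _ = _ from h, hφ] at e
  exact (mul_left_cancel₀ h1 e).symm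

/-- A character of `N` over a character of `M`, with the same stabiliser in `L`. -/
theorem exists_over_stab {v : M →* ℂˣ} (hv : v ≠ 1) :
    ∃ θ : IrrCharacter N, stabv (dualAct (fM M L)) v = (CT.inertia N (θ : N → ℂ)).subgroupOf L ∧
      p ∣ charDegree (θ : N → ℂ) ∧
      (∀ m : M, (θ : N → ℂ) ⟨m, S.le m.2⟩ = (θ : N → ℂ) 1 * (v m : ℂ)) ∧
      ∀ z ∈ rad S.hc S.central v, (θ : N → ℂ) z ≠ 0 := by
  haveI := Fact.mk S.prime
  set T := stabv (dualAct (fM M L)) v with hT
  have hfix : T.map L.subtype ≤ CT.inertia M (fun n => (v n : ℂ)) := by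
    rintro _ ⟨t, ht, rfl⟩
    rw [hT, S.stab_eq] at ht
    exact ht
  obtain ⟨θ, h1, h2, h3, h4⟩ := exists_theta S.hc S.central P.2 S.le v (S.hne hv) (T.map L.subtype)
    (S.coprime_L.coprime_dvd_left (card_dvd_of_le (map_subtype_le _))) hfix
  exact ⟨θ, le_antisymm (fun t ht => h1 (mem_map_of_mem _ ht))
    (S.inertia_le (CT.irr_one_ne_zero θ.2) h3), h2, h3, h4⟩

/-- Invariant characters of `N` extend. -/
theorem exists_ext (θ : IrrCharacter N) (T : Subgroup L)
    (hT : T = (CT.inertia N (θ : N → ℂ)).subgroupOf L) (hNT : N ≤ T.comap (proj S.compl)) :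
    ∃ χ : IrrCharacter ↥(T.comap (proj S.compl)), ∀ n : N,
      (χ : ↥(T.comap (proj S.compl)) → ℂ) ⟨n, hNT n.2⟩ = (θ : N → ℂ) n := by
  classical
  haveI := Fact.mk S.prime
  haveI := Fintype.ofFinite G
  set U := T.comap (proj S.compl) with hU
  haveI := Fintype.ofFinite U
  set N' := (P : Subgroup G).subgroupOf U with hN'
  haveI : N'.Normal := normal_subgroupOf
  haveI := Fintype.ofFinite N'
  let e : N' ≃* N := subgroupOfEquivOfLe hNT
  let θ' : IrrCharacter N' :=
    ⟨fun n => (θ : N → ℂ) (e n), CT.isIrrCharacter_comp e.toMonoidHom e.surjective θ.2⟩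
  have hinv : ∀ (g : U) (n : N'),
      (θ' : N' → ℂ) ⟨g * n * g⁻¹, Normal.conj_mem inferInstance (n : U) n.2 g⟩ = (θ' : N' → ℂ) n := by
    intro g n
    have hg : (g : G) ∈ CT.inertia N (θ : N → ℂ) := by
      have h1 := CT.le_inertia N (CT.isClassFunction_of_isIrr θ.2) (proj_mem S.compl (g : G))
      have h2 : proj S.compl (g : G) ∈ T := g.2
      rw [hT, mem_subgroupOf] at h2
      have := (CT.inertia N (θ : N → ℂ)).mul_mem h1 h2
      rwa [inv_mul_cancel_right] at this
    exact (CT.mem_inertia_iff N).mp hg (e n)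
  have hidx : Nat.Coprime N'.index p := by
    refine Nat.Coprime.coprime_dvd_left ?_ S.coprime_L
    rw [← S.compl.symm.index_eq_card]
    exact relIndex_dvd_index_of_normal (P : Subgroup G) U
  obtain ⟨k, hk⟩ := IsPGroup.iff_card.mp (P.2.of_equiv e.symm)
  obtain ⟨χ, ⟨hχ, -⟩, -⟩ := CoprimeExt.exists_coprime_ext N' θ' hinv
    ((hk ▸ hidx.pow_right k).coprime_dvd_right (Glauberman.deg_dvd_card θ'))
    ((hk ▸ hidx.pow_right k).coprime_dvd_right
      (CoprimeExt.detOrder_dvd_card (CT.isCharacter_of_isIrr θ'.2)))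
  exact ⟨χ, fun n => hχ ⟨⟨n, hNT n.2⟩, n.2⟩⟩

theorem degree_over {v : M →* ℂˣ} (hv : v ≠ 1)
    (φ : IrrCharacter ↥(stabv (dualAct (fM M L)) v)) :
    ∃ χ : IrrCharacter G, p ∣ charDegree (χ : G → ℂ) ∧
      (stabv (dualAct (fM M L)) v).index * charDegree (φ : ↥(stabv (dualAct (fM M L)) v) → ℂ) ∣
        charDegree (χ : G → ℂ) := by
  obtain ⟨θ, hθ, hp, -, -⟩ := S.exists_over_stab hv
  obtain ⟨χ, hχ⟩ := exists_degree S.compl θ _ hθ φ (le_comap_proj S.compl _)
    (S.exists_ext θ _ hθ _)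
  exact ⟨χ, hχ ▸ dvd_mul_of_dvd_right hp _, hχ ▸ dvd_mul_right _ _⟩

theorem pick {x : ℕ} (hx : x.Prime) (hne : p ≠ x) [Group.IsSolvable G] (hn : NAdj G p x) :
    Pick (V := M →* ℂˣ) x (dualAct (fM M L)) := by
  intro v hv
  haveI := Fact.mk hx
  have key : ∀ φ : IrrCharacter ↥(stabv (dualAct (fM M L)) v),
      ¬ x ∣ (stabv (dualAct (fM M L)) v).index *
        charDegree (φ : ↥(stabv (dualAct (fM M L)) v) → ℂ) := fun φ hd => by
    obtain ⟨χ, hχp, hχ⟩ := S.degree_over hv φ
    exact hn.not_dvd S.prime hx hne χ hχp (hd.trans hχ)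
  exact pick_of _ (fun hd => key (CT.trivIrr _) (dvd_mul_of_dvd_left hd _))
    fun φ hd => key φ (dvd_mul_of_dvd_right hd _)

theorem irred (W : Subgroup (M →* ℂˣ)) (hW : ∀ h, ∀ w ∈ W, dualAct (fM M L) h w ∈ W) :
    W = ⊥ ∨ W = ⊤ := by
  refine dual_irreducible M S.min (fM M L) (fM_coe (M := M)) (fun g => ⟨proj S.compl g, fun z hz => ?_⟩)
    W hW S.ab
  have hcc := S.central _ (Normal.conj_mem inferInstance _ hz ((proj S.compl g : L) : G)) _
    (proj_mem S.compl g)
  calc g * z * g⁻¹ = g * ((proj S.compl g : L) : G)⁻¹ * (((proj S.compl g : L) : G) * z *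
        ((proj S.compl g : L) : G)⁻¹) * (g * ((proj S.compl g : L) : G)⁻¹)⁻¹ := by group
    _ = _ := by rw [← hcc]; group

theorem exists_ne : ∃ v : M →* ℂˣ, v ≠ 1 := by
  haveI := S.fin_dual.1
  haveI : Nontrivial (M →* ℂˣ) := Finite.one_lt_card_iff_nontrivial.mp (by
    rw [S.fin_dual.2]; exact (one_lt_card_iff_ne_bot _).mpr S.ne_bot)
  exact _root_.exists_ne 1

/-- A prime missing the image has a normal abelian Sylow subgroup fixing `M`. -/
theorem sylow_trivial [Group.IsSolvable G] {x : ℕ} [Fact x.Prime] (hne : p ≠ x) (hn : NAdj G p x)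
    (hno : ¬ x ∣ Nat.card (dualAct (fM M L)).range) :
    ∃ Q : Sylow x L, (Q : Subgroup L).Normal ∧ IsMulCommutative ↥(Q : Subgroup L) ∧
      (Q : Subgroup L) ≤ (dualAct (fM M L)).ker ∧ ∀ a ∈ (Q : Subgroup L), ∀ m : M,
        (a : G) * m * (a : G)⁻¹ = m := by
  obtain ⟨v, hv⟩ := S.exists_ne
  obtain ⟨Q, h1, h2, h3⟩ := normal_of_not_dvd (V := M →* ℂˣ) _ (S.pick Fact.out hne hn) hv hno
  refine ⟨Q, h1, h2, h3, fun a ha m => ?_⟩
  letI : CommGroup M := { (inferInstance : Group M) with mul_comm := S.ab }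
  have h := eq_one_of_dualAct (fM M L) (h3 ha)
  rw [← fM_coe a m, h]
  rfl

theorem card_A : Nat.card (Abelianization N) * Nat.card M = Nat.card N := by
  have h := card_eq_card_quotient_mul_card_subgroup (commutator N)
  have e : Nat.card (commutator N) = Nat.card M := by
    rw [← card_map_of_injective (K := commutator N) (P : Subgroup G).subtype_injective,
      map_subtype_commutator, S.comm_eq]
  rw [h, e]
  rfl

/-- The linear characters have finite dual of the same order. -/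
theorem fin_D : Finite (Abelianization N →* ℂˣ) ∧
    Nat.card (Abelianization N →* ℂˣ) = Nat.card (Abelianization N) := by
  have hV := CommGroup.card_monoidHom_of_hasEnoughRootsOfUnity (Abelianization N) ℂ
  exact ⟨Nat.finite_of_card_ne_zero (by rw [hV]; exact Nat.card_pos.ne'), hV⟩

theorem stabD_eq (d : Abelianization N →* ℂˣ) :
    stabv (dualAct (fA P L)) d =
      (CT.inertia N (fun n => (d (Abelianization.of n) : ℂ))).subgroupOf L := by
  ext l
  rw [← (stabv (dualAct (fA P L)) d).inv_mem_iff, mem_subgroupOf, CT.mem_inertia_iff, mem_stabv]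
  constructor
  · intro h n
    have h1 := DFunLike.congr_fun h (Abelianization.of n)
    rw [dualAct_apply, inv_inv, fA_of] at h1
    exact congrArg (fun u : ℂˣ => (u : ℂ)) (Eq.trans (congrArg (fun z => d (Abelianization.of z))
      (Subtype.ext (MulAut.conjNormal_apply (l : G) n).symm)) h1)
  · intro h
    refine MonoidHom.ext fun a => ?_
    obtain ⟨n, rfl⟩ : ∃ n, Abelianization.of n = a := QuotientGroup.mk_surjective a
    rw [dualAct_apply, inv_inv, fA_of]
    refine Units.ext (Eq.trans ?_ (h n))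
    exact congrArg (fun z => (d (Abelianization.of z) : ℂ)) (Subtype.ext (MulAut.conjNormal_apply (l : G) n))

theorem degree_D [Group.IsSolvable G] (d : Abelianization N →* ℂˣ)
    (φ : IrrCharacter ↥(stabv (dualAct (fA P L)) d)) :
    ∃ χ : IrrCharacter G, charDegree (χ : G → ℂ) =
      (stabv (dualAct (fA P L)) d).index * charDegree (φ : ↥(stabv (dualAct (fA P L)) d) → ℂ) := by
  obtain ⟨χ, hχ⟩ := exists_degree S.compl
    ⟨fun n => ((d.comp Abelianization.of) n : ℂ), CT.isIrrCharacter_lin (d.comp Abelianization.of)⟩ _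
    (S.stabD_eq d) φ (le_comap_proj S.compl _)
    (exists_linear_ext S.compl (d.comp Abelianization.of) _
      (fun s hs => by rw [S.stabD_eq] at hs; exact hs) _)
  refine ⟨χ, ?_⟩
  rw [hχ]
  refine (congrArg _ ?_).trans (mul_one _)
  show CT.deg (fun n : N => ((d.comp Abelianization.of) n : ℂ)) = 1
  simp [CT.deg]

/-- An element fixing `M` and every linear character centralises `N`. -/
theorem centralizes {a : L} (hM : ∀ m : M, (a : G) * m * (a : G)⁻¹ = m)
    (hD : ∀ d, dualAct (fA P L) a d = d) (x : N) : (a : G) * x * (a : G)⁻¹ = x := by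
  have h1 : fA P L a = 1 := eq_one_of_dualAct _ (MulEquiv.ext fun d => hD d)
  have h2 := MulEquiv.congr_fun h1 (Abelianization.of x)
  rw [fA_of, MulAut.one_apply] at h2
  have h3 : (MulAut.conjNormal (a : G) : MulAut N) x * x⁻¹ ∈ commutator N := by
    rw [← Abelianization.ker_of, MonoidHom.mem_ker, map_mul, map_inv, h2, mul_inv_cancel]
  rw [S.mem_commutator_iff, Subgroup.coe_mul, MulAut.conjNormal_apply] at h3
  refine mul_inv_eq_one.mp (coprime_fix (x := (x : G)) (k := 1) (by rw [pow_one]; exact S.exp _ h3)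
    (S.coprime_order a) (hM ⟨_, h3⟩) (inv_mul_cancel_right _ _).symm)

/-- A normal Sylow subgroup of `L` centralising `N` excludes its prime. -/
theorem not_rho_of_centralizes {x : ℕ} [Fact x.Prime] (hne : p ≠ x) (Q : Sylow x L)
    (hQn : (Q : Subgroup L).Normal) (hQc : IsMulCommutative ↥(Q : Subgroup L))
    (hcen : ∀ a ∈ (Q : Subgroup L), ∀ n : N, (a : G) * n * (a : G)⁻¹ = n) : ¬ InRho G x := by
  haveI := Fact.mk S.prime
  set R := (Q : Subgroup L).map L.subtype with hR
  have hcard : Nat.card R = x ^ (Nat.card G).factorization x := by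
    rw [hR, card_map_of_injective L.subtype_injective, Q.card_eq_multiplicity, ← S.compl.card_mul,
      Nat.factorization_mul Nat.card_pos.ne' Nat.card_pos.ne']
    obtain ⟨k, hk⟩ := IsPGroup.iff_card.mp P.2
    have h0 : ¬ x ∣ Nat.card N := fun hd => hne ((Nat.prime_dvd_prime_iff_eq Fact.out S.prime).mp
      ((Fact.out : x.Prime).dvd_of_dvd_pow (hk ▸ hd))).symm
    simp [Nat.factorization_eq_zero_of_not_dvd h0]
  have hnorm : R.Normal := by
    refine ⟨?_⟩
    rintro _ ⟨a, ha, rfl⟩ g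
    set l := proj S.compl g with hl
    refine ⟨l * a * l⁻¹, hQn.conj_mem a ha l, ?_⟩
    have hn := proj_mem S.compl g
    have hb := hcen (l * a * l⁻¹) (hQn.conj_mem a ha l) ⟨_, hn⟩
    simp only [Subgroup.coe_mul, InvMemClass.coe_inv, mul_inv_eq_iff_eq_mul, ← hl] at hb
    show (l : G) * a * (l : G)⁻¹ = g * a * g⁻¹
    calc (l : G) * a * (l : G)⁻¹ = (l : G) * a * (l : G)⁻¹ * (g * (l : G)⁻¹) * (g * (l : G)⁻¹)⁻¹ := by group
      _ = (g * (l : G)⁻¹) * ((l : G) * a * (l : G)⁻¹) * (g * (l : G)⁻¹)⁻¹ := by rw [hb]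
      _ = _ := by group
  haveI : (Sylow.ofCard R hcard : Subgroup G).Normal := hnorm
  rintro ⟨χ, hχ⟩
  refine ItoMichler.not_dvd_deg (Sylow.ofCard R hcard) ⟨⟨?_⟩⟩ χ hχ
  rintro ⟨_, a, ha, rfl⟩ ⟨_, b, hb, rfl⟩
  exact Subtype.ext (congrArg (fun z : (Q : Subgroup L) => ((z : L) : G))
    (hQc.1.comm (⟨a, ha⟩ : (Q : Subgroup L)) ⟨b, hb⟩))

theorem dvd_index_of_moved {x : ℕ} [Fact x.Prime] (Q : Sylow x L) (hQn : (Q : Subgroup L).Normal)
    (T : Subgroup L) (h : ¬ (Q : Subgroup L) ≤ T) : x ∣ T.index := by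
  by_contra hd
  obtain ⟨R, hR⟩ := exists_sylow_le T hd
  letI := Q.unique_of_normal hQn
  exact h (Subsingleton.elim R Q ▸ hR)

theorem both_trivial [Group.IsSolvable G] {q r : ℕ} (hq : q.Prime) (hr : r.Prime) (hpq : p ≠ q)
    (hpr : p ≠ r) (hqr : q ≠ r) (hqd : InRho G q) (hrd : InRho G r) (npq : NAdj G p q)
    (npr : NAdj G p r) (nqr : NAdj G q r) (hnq : ¬ q ∣ Nat.card (dualAct (fM M L)).range)
    (hnr : ¬ r ∣ Nat.card (dualAct (fM M L)).range) : False := by
  haveI := Fact.mk hq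
  haveI := Fact.mk hr
  haveI := Fact.mk S.prime
  obtain ⟨Q, hQn, hQc, -, hQM⟩ := S.sylow_trivial hpq npq hnq
  obtain ⟨R, hRn, hRc, -, hRM⟩ := S.sylow_trivial hpr npr hnr
  haveI := hQn
  haveI := hRn
  have hQR := commute_of_normalize hqr Q.2 R.2 le_normalizer_of_normal le_normalizer_of_normal
  set A := (Q : Subgroup L) ⊔ (R : Subgroup L) with hA
  have hle : A ≤ centralizer (A : Set L) := by
    have h1 : ∀ a ∈ (Q : Subgroup L), a ∈ centralizer (A : Set L) := fun a ha => by
      rw [mem_centralizer_iff]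
      intro z hz
      obtain ⟨u, hu, w, hw, rfl⟩ := mem_sup_of_normal_left.mp hz
      exact ((show Commute a u from congrArg Subtype.val
        (hQc.1.comm (⟨a, ha⟩ : (Q : Subgroup L)) ⟨u, hu⟩)).mul_right (hQR a ha w hw)).symm
    refine sup_le h1 fun b hb => ?_
    rw [mem_centralizer_iff]
    intro z hz
    obtain ⟨u, hu, w, hw, rfl⟩ := mem_sup_of_normal_left.mp hz
    exact ((show Commute b u from (hQR u hu b hb).symm).mul_right (show Commute b w from
      congrArg Subtype.val (hRc.1.comm (⟨b, hb⟩ : (R : Subgroup L)) ⟨w, hw⟩))).symm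
  haveI := S.fin_D.1
  obtain ⟨d, -, hd⟩ := Garrison.exists_regular (V := Abelianization N →* ℂˣ) (A := A)
    (fun a b => Subtype.ext (mem_centralizer_iff.mp (hle b.2) a a.2))
    (fun a => (dualAct (fA P L) a).toMonoidHom)
    (fun v => by simp) (fun a b v => by simp)
    (by
      obtain ⟨k, hk⟩ := IsPGroup.iff_card.mp (P.2.of_surjective _ (QuotientGroup.mk'_surjective
        (commutator N)))
      rw [S.fin_D.2, show Nat.card (Abelianization N) = p ^ k from hk]
      exact ((S.coprime_L.coprime_dvd_left (card_subgroup_dvd_card A))).pow_right k)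
    ⊤ (fun _ _ _ => mem_top _)
  have key : ∀ {x : ℕ} [Fact x.Prime] (X : Sylow x L), (X : Subgroup L).Normal →
      IsMulCommutative ↥(X : Subgroup L) → (X : Subgroup L) ≤ A → p ≠ x → InRho G x →
      (∀ a ∈ (X : Subgroup L), ∀ m : M, (a : G) * m * (a : G)⁻¹ = m) →
      x ∣ (stabv (dualAct (fA P L)) d).index := by
    intro x _ X hXn hXc hXA hne hrho hXM
    refine S.dvd_index_of_moved X hXn _ fun hX => S.not_rho_of_centralizes hne X hXn hXc
      (fun a ha n => ?_) hrho
    exact S.centralizes (hXM a ha) (fun d' => hd ⟨a, hXA ha⟩ (hX ha) d' (mem_top _)) n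
  have h := ((Nat.coprime_primes hq hr).mpr hqr).mul_dvd_of_dvd_of_dvd
    (key Q hQn hQc le_sup_left hpq hqd hQM) (key R hRn hRc le_sup_right hpr hrd hRM)
  obtain ⟨χ, hχ⟩ := S.degree_D d (CT.trivIrr _)
  exact nqr χ (hχ ▸ dvd_mul_of_dvd_left h _)

end Setup

end Cfsg.Agent.CT.Palfy
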