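import Cfsg.Agent.Lib.CT.PalfyAction
import Cfsg.Agent.Lib.CT.Garrison
import Cfsg.Agent.Lib.OddChar.CliffordExtra
import Cfsg.Agent.Lib.Recog.Zsigmondy
import Cfsg.Agent.Lib.Components.Fitting
import Cfsg.Agent.Lib.Basics.Cores

/-! The linear core of Pálfy's condition. -/

set_option autoImplicit false

namespace Cfsg.Agent.CT.Palfy

open Subgroup Cfsg

universe u

variable {V : Type u} [CommGroup V] [Finite V]

/-- An automorphism of two-power order of a group of order `s ≡ 3 mod 4` squares to the identity. -/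
theorem sq_eq_one_of_card_prime {s : ℕ} (hs : s.Prime) (hs4 : s % 4 = 3) (hV : Nat.card V = s)
    (α : MulAut V) {j : ℕ} (hα : α ^ 2 ^ j = 1) : ∀ v : V, α (α v) = v := by
  haveI := Fact.mk hs
  haveI : IsCyclic V := isCyclic_of_prime_card hV
  obtain ⟨g, hg⟩ := IsCyclic.exists_generator (α := V)
  obtain ⟨i, hi⟩ := mem_zpowers_iff.mp (hg (α g))
  -- the exponent map
  have hpow : ∀ k : ℕ, (α ^ k) g = g ^ (i ^ k) := by
    intro k
    induction k with
    | zero => simp
    | succ k ih => rw [pow_succ, MulAut.mul_apply, ← hi, map_zpow, ih, ← zpow_mul, pow_succ]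
  have hord : orderOf g = s := by rw [orderOf_eq_card_of_forall_mem_zpowers hg, hV]
  have h1 : ((i : ZMod s)) ^ 2 ^ j = 1 := by
    have h := hpow (2 ^ j)
    rw [hα, MulAut.one_apply] at h
    have h' : (orderOf g : ℤ) ∣ i ^ 2 ^ j - 1 := by
      rw [orderOf_dvd_iff_zpow_eq_one, zpow_sub, zpow_one, ← h, mul_inv_cancel]
    rw [hord, ← ZMod.intCast_zmod_eq_zero_iff_dvd] at h'
    push_cast at h'
    exact sub_eq_zero.mp h'
  have h2 : ((i : ZMod s)) ^ 2 = 1 := by
    have hne : (i : ZMod s) ≠ 0 := by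
      intro h0
      rw [h0, zero_pow (Nat.two_pow_pos j).ne'] at h1
      exact zero_ne_one h1
    have h3 := ZMod.pow_card_sub_one_eq_one hne
    have h4 : orderOf (i : ZMod s) ∣ Nat.gcd (2 ^ j) (s - 1) :=
      Nat.dvd_gcd (orderOf_dvd_of_pow_eq_one h1) (orderOf_dvd_of_pow_eq_one h3)
    refine orderOf_dvd_iff_pow_eq_one.mp (h4.trans ?_)
    obtain ⟨m, hm⟩ : ∃ m, s - 1 = 2 * (2 * m + 1) := ⟨s / 4, by omega⟩
    rw [hm]
    rcases j with _ | j
    · simp
    · rw [pow_succ', Nat.gcd_mul_left]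
      rw [Nat.Coprime.gcd_eq_one (Nat.Coprime.pow_left j (by simp))]
  intro v
  obtain ⟨k, rfl⟩ := mem_zpowers_iff.mp (hg v)
  rw [map_zpow, map_zpow]
  congr 1
  have h := hpow 2
  rw [pow_two, MulAut.mul_apply] at h
  rw [h]
  have h5 : (orderOf g : ℤ) ∣ i ^ 2 - 1 := by
    rw [hord, ← ZMod.intCast_zmod_eq_zero_iff_dvd]
    push_cast
    rw [h2, sub_self]
  rw [orderOf_dvd_iff_zpow_eq_one, zpow_sub, zpow_one, mul_inv_eq_one] at h5
  exact h5


/-- An involutory automorphism of a group of prime order. -/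
theorem id_or_inv {P : Subgroup V} {s : ℕ} (hs : s.Prime) (hP : Nat.card P = s) {β : MulAut V}
    (hinv : ∀ w ∈ P, β w ∈ P) (h2 : ∀ w ∈ P, β (β w) = w) :
    (∀ w ∈ P, β w = w) ∨ ∀ w ∈ P, β w = w⁻¹ := by
  by_cases h : ∀ w ∈ P, w * β w = 1
  · exact Or.inr fun w hw => (inv_eq_of_mul_eq_one_right (h w hw)).symm
  · left
    push Not at h
    obtain ⟨w, hw, hne⟩ := h
    intro z hz
    set u := w * β w with hu
    have huP : u ∈ P := P.mul_mem hw (hinv w hw)
    have hfix : β u = u := by rw [hu, map_mul, h2 w hw, mul_comm]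
    haveI := Fact.mk hs
    have hz' : (⟨z, hz⟩ : P) ∈ zpowers (⟨u, huP⟩ : P) :=
      mem_zpowers_of_prime_card hP fun e => hne (congrArg Subtype.val e)
    obtain ⟨k, hk⟩ := mem_zpowers_iff.mp hz'
    have hk' : u ^ k = z := congrArg Subtype.val hk
    rw [← hk', map_zpow, hfix]

/-- A commuting family of involutions on a group of order `s²`. -/
theorem card_le_four {H : Type*} [Group H] [Finite H] (α : H →* MulAut V)
    (hinj : Function.Injective α) {s : ℕ} (hs : s.Prime) (hodd : ∀ v : V, v * v = 1 → v = 1)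
    (hV : Nat.card V = s ^ 2) (E : Subgroup H) (hE : ∀ x ∈ E, x * x = 1) : Nat.card E ≤ 4 := by
  classical
  have hcomm : ∀ x ∈ E, ∀ z ∈ E, x * z = z * x := by
    intro x hx z hz
    have h := hE _ (E.mul_mem hx hz)
    calc x * z = (x * z)⁻¹ := (inv_eq_of_mul_eq_one_right h).symm
      _ = z⁻¹ * x⁻¹ := mul_inv_rev _ _
      _ = z * x := by rw [inv_eq_of_mul_eq_one_right (hE z hz), inv_eq_of_mul_eq_one_right (hE x hx)]
  have hsq : ∀ x ∈ E, ∀ v, α x (α x v) = v := fun x hx v => by
    rw [← MulAut.mul_apply, ← map_mul, hE x hx, map_one, MulAut.one_apply]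
  have hinvol : ∀ x ∈ E, fix1 α x = ⊥ → ∀ v, α x v = v⁻¹ := by
    intro x hx hb v
    have : v * α x v ∈ fix1 α x := by
      show α x (v * α x v) = v * α x v
      rw [map_mul, hsq x hx, mul_comm]
    rw [hb, mem_bot] at this
    exact (inv_eq_of_mul_eq_one_right this).symm
  by_cases hex : ∃ x ∈ E, fix1 α x ≠ ⊥ ∧ fix1 α x ≠ ⊤
  · obtain ⟨x, hx, hxb, hxt⟩ := hex
    set P := fix1 α x with hP
    let N : Subgroup V :=
      { carrier := {v | α x v = v⁻¹}
        one_mem' := by simp
        mul_mem' := fun {a b} (ha : α x a = a⁻¹) (hb : α x b = b⁻¹) => by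
          show α x (a * b) = (a * b)⁻¹
          rw [map_mul, ha, hb, mul_inv_rev, mul_comm]
        inv_mem' := fun {a} (ha : α x a = a⁻¹) => by
          show α x a⁻¹ = a⁻¹⁻¹
          rw [map_inv, ha] }
    have hinf : P ⊓ N = ⊥ := eq_bot_iff.mpr fun v hv => mem_bot.mpr (hodd v (by
      exact mul_eq_one_iff_eq_inv.mpr (hv.1.symm.trans hv.2)))
    have hdec : ∀ v, v * v = (v * α x v) * (v / α x v) ∧ v * α x v ∈ P ∧ v / α x v ∈ N := by
      intro v
      refine ⟨?_, ?_, ?_⟩
      · rw [div_eq_mul_inv]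
        calc v * v = v * v * (α x v * (α x v)⁻¹) := by rw [mul_inv_cancel, mul_one]
          _ = _ := by ac_rfl
      · show α x (v * α x v) = v * α x v
        rw [map_mul, hsq x hx, mul_comm]
      · show α x (v / α x v) = (v / α x v)⁻¹
        rw [map_div, hsq x hx, inv_div]
    have hsup : P ⊔ N = ⊤ := by
      rw [eq_top_iff]
      intro v _
      have hsurj : Function.Surjective fun v : V => v * v := Finite.surjective_of_injective
        fun a b (h : a * a = b * b) => div_eq_one.mp (hodd _ (by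
          rw [div_mul_div_comm, h, div_self']))
      obtain ⟨w, rfl⟩ := hsurj v
      show w * w ∈ P ⊔ N
      rw [(hdec w).1]
      exact mul_mem_sup (hdec w).2.1 (hdec w).2.2
    have hcards : Nat.card P = s ∧ Nat.card N = s := by
      have h1 := Basics.card_mul_card_eq_card_sup_mul_card_inf (N := P) (H := N)
        (le_top.trans (normalizer_eq_top_iff.mpr inferInstance).ge)
      rw [hsup, hinf, card_top, card_bot, mul_one, hV] at h1
      obtain ⟨i, hi, hPi⟩ := (Nat.dvd_prime_pow hs).mp (hV ▸ card_subgroup_dvd_card P)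
      have hi0 : i ≠ 0 := fun e => hxb (card_eq_one.mp (by rw [hPi, e, pow_zero]))
      have hi2 : i ≠ 2 := fun e => hxt (eq_top_of_card_eq _ (by rw [hPi, e, hV]))
      obtain rfl : i = 1 := by omega
      rw [hPi, pow_one, pow_two] at h1
      exact ⟨by rw [hPi, pow_one], Nat.eq_of_mul_eq_mul_left hs.pos h1⟩
    have hPinv : ∀ z ∈ E, ∀ w ∈ P, α z w ∈ P := fun z hz w hw => by
      show α x (α z w) = α z w
      rw [← MulAut.mul_apply, ← map_mul, hcomm x hx z hz, map_mul, MulAut.mul_apply, hw]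
    have hNinv : ∀ z ∈ E, ∀ w ∈ N, α z w ∈ N := fun z hz w hw => by
      show α x (α z w) = (α z w)⁻¹
      rw [← MulAut.mul_apply, ← map_mul, hcomm x hx z hz, map_mul, MulAut.mul_apply,
        show α x w = w⁻¹ from hw, map_inv]
    let f : E → Bool × Bool := fun z =>
      (decide (∀ w ∈ P, α (z : H) w = w), decide (∀ w ∈ N, α (z : H) w = w))
    have hf : Function.Injective f := by
      intro y z hyz
      simp only [f, Prod.mk.injEq, decide_eq_decide] at hyz
      have agree : ∀ M : Subgroup V, Nat.card M = s → (∀ z ∈ E, ∀ w ∈ M, α z w ∈ M) →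
          ((∀ w ∈ M, α (y : H) w = w) ↔ ∀ w ∈ M, α (z : H) w = w) →
          ∀ w ∈ M, α (y : H) w = α (z : H) w := by
        intro M hM hMi hiff w hw
        rcases id_or_inv hs hM (hMi y y.2) (fun w _ => hsq y y.2 w) with h1 | h1
        · rw [h1 w hw, hiff.mp h1 w hw]
        · rcases id_or_inv hs hM (hMi z z.2) (fun w _ => hsq z z.2 w) with h2 | h2
          · rw [hiff.mpr h2 w hw, h2 w hw]
          · rw [h1 w hw, h2 w hw]
      refine Subtype.ext (hinj (MulEquiv.ext fun v => ?_))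
      obtain ⟨p, hp, n, hn, rfl⟩ := mem_sup.mp (hsup ▸ mem_top v : v ∈ P ⊔ N)
      rw [map_mul, map_mul, agree P hcards.1 hPinv hyz.1 p hp, agree N hcards.2 hNinv hyz.2 n hn]
    have := Nat.card_le_card_of_injective f hf
    simpa using this
  · push Not at hex
    have hall : ∀ x ∈ E, x = 1 ∨ ∀ v, α x v = v⁻¹ := by
      intro x hx
      by_cases hb : fix1 α x = ⊥
      · exact Or.inr (hinvol x hx hb)
      · left
        exact hinj (MulEquiv.ext fun v => by
          rw [map_one, MulAut.one_apply]; exact (hex x hx hb ▸ mem_top v : v ∈ fix1 α x))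
    let f : E → Bool := fun z => decide ((z : H) = 1)
    have hf : Function.Injective f := by
      intro y z hyz
      simp only [f, decide_eq_decide] at hyz
      refine Subtype.ext ?_
      rcases hall y y.2 with h | h
      · rw [h, hyz.mp h]
      · rcases hall z z.2 with h' | h'
        · rw [h', hyz.mpr h']
        · exact hinj (MulEquiv.ext fun v => by rw [h v, h' v])
    exact (Nat.card_le_card_of_injective f hf).trans (by simp)

theorem exists_card_pow {s : ℕ} (hs : s.Prime) {d : ℕ} (hV : Nat.card V = s ^ d) (U : Subgroup V) :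
    ∃ i ≤ d, Nat.card U = s ^ i :=
  (Nat.dvd_prime_pow hs).mp (hV ▸ card_subgroup_dvd_card U)

/-- The congruence for an element of prime order fixing part of an invariant subgroup. -/
theorem prime_dvd_sub {H : Type*} [Group H] [Finite H] (α : H →* MulAut V) {p : ℕ} (hp : p.Prime)
    {a : H} (ha : a ^ p = 1) {W F : Subgroup V} (hW : ∀ w ∈ W, α a w ∈ W) (hF : W ⊓ fix1 α a = F) :
    p ∣ Nat.card W - Nat.card F := by
  haveI := Fact.mk hp
  have h := card_modEq_fix1 (n := 1) (by rw [pow_one]; exact ha) hW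
  rw [hF] at h
  exact (Nat.modEq_iff_dvd' (card_le_of_le (hF ▸ inf_le_left))).mp h.symm

/-- The exceptional space of order `64`. -/
theorem exists_irreducible_six {H : Type*} [Group H] [Finite H] (α : H →* MulAut V)
    (hinj : Function.Injective α) (hV : Nat.card V = 2 ^ 6) (K : Subgroup H) [K.Normal] {r : ℕ}
    (hr : r = 5 ∨ r = 31) (hKr : ¬ r ∣ Nat.card K) {R : Subgroup H} {b : H} (hbR : b ∈ R)
    (hb : b ^ r = 1) (hbne : α b ≠ 1) {v0 : V} (hv0 : v0 ≠ 1) (hv0b : α b v0 = v0) {n : ℕ}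
    (hn : n ∣ Nat.card K) (hcount : 2 ^ 6 - 1 = n * (Nat.card (fixs α R) - 1)) : False := by
  haveI : Fact (Nat.Prime 7) := ⟨by norm_num⟩
  have hrp : r.Prime := by rcases hr with rfl | rfl <;> norm_num
  haveI := Fact.mk hrp
  obtain ⟨i, hi6, hi⟩ := exists_card_pow Nat.prime_two hV (fix1 α b)
  have hfull : ∀ w ∈ (⊤ : Subgroup V), α b w ∈ (⊤ : Subgroup V) := fun _ _ => mem_top _
  have hri : r ∣ 64 - 2 ^ i := by
    have := prime_dvd_sub α hrp hb hfull (top_inf_eq _)
    rwa [card_top, hV, hi] at this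
  have hi0 : i ≠ 0 := by
    rintro rfl
    rw [pow_zero, card_eq_one] at hi
    exact hv0 (mem_bot.mp (hi ▸ (hv0b : v0 ∈ fix1 α b)))
  have hi5 : i ≠ 6 := by
    rintro rfl
    exact hbne (MulEquiv.ext fun v => (eq_top_of_card_eq _ (by rw [hi, hV]) ▸ mem_top v : v ∈ fix1 α b))
  have hi2 : i ≤ 2 := by
    rcases hr with rfl | rfl <;> interval_cases i <;> first | omega | (revert hri; norm_num)
  -- seven divides the order of `K`
  have h7 : 7 ∣ Nat.card K := by
    obtain ⟨c, hc6, hc⟩ := exists_card_pow Nat.prime_two hV (fixs α R)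
    have hci : c ≤ i := by
      have := card_le_of_le (show fixs α R ≤ fix1 α b from fun v hv => hv b hbR)
      rw [hc, hi] at this
      exact (Nat.pow_le_pow_iff_right (by norm_num)).mp this
    rw [hc] at hcount
    refine dvd_trans ?_ hn
    have : c = 0 ∨ c = 1 ∨ c = 2 := by omega
    rcases this with rfl | rfl | rfl <;> first | (norm_num at hcount) | skip
    all_goals omega
  -- a Sylow subgroup normalised by `b`
  have hconj : ∀ k : ℕ, (MulAut.conjNormal (H := K) b) ^ k = MulAut.conjNormal (b ^ k) :=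
    fun k => (map_pow _ b k).symm
  let σ : Equiv.Perm (Sylow 7 K) := MulAction.toPerm (MulAut.conjNormal (H := K) b)
  have hσ : σ ^ r ^ 1 = 1 := by
    rw [pow_one]
    show (MulAction.toPermHom (MulAut K) (Sylow 7 K) (MulAut.conjNormal b)) ^ r = 1
    rw [← map_pow, hconj, hb, map_one, map_one]
  obtain ⟨L, hL⟩ : ∃ L : Sylow 7 K, σ L = L := by
    haveI := Fintype.ofFinite (Sylow 7 K)
    refine Equiv.Perm.exists_fixed_point_of_prime ?_ hσ
    rw [← Nat.card_eq_fintype_card]
    exact fun h => hKr (h.trans (Sylow.card_dvd_index (default : Sylow 7 K) |>.trans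
      (index_dvd_card _)))
  have hLb : ∀ x : K, x ∈ (L : Subgroup K) → MulAut.conjNormal b x ∈ (L : Subgroup K) := by
    intro x hx
    have h1 : MulAut.conjNormal (H := K) b • x ∈ ((σ L : Sylow 7 K) : Subgroup K) :=
      Subgroup.smul_mem_pointwise_smul x _ _ hx
    rw [hL] at h1
    exact h1
  set Lh := (L : Subgroup K).map K.subtype with hLh
  have hLne : (L : Subgroup K) ≠ ⊥ := fun e => by
    have := L.dvd_card_of_dvd_card h7
    rw [e, card_bot] at this
    norm_num at this
  let Z : Subgroup H :=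
    { carrier := {x | x ∈ Lh ∧ x ^ 7 = 1 ∧ ∀ l ∈ Lh, l * x = x * l}
      one_mem' := ⟨one_mem _, one_pow _, fun l _ => by simp⟩
      mul_mem' := fun {x y} hx hy => ⟨mul_mem hx.1 hy.1, by
          rw [(show Commute x y from hy.2.2 x hx.1).mul_pow, hx.2.1, hy.2.1, one_mul],
        fun l hl => by rw [← mul_assoc, hx.2.2 l hl, mul_assoc, hy.2.2 l hl, mul_assoc]⟩
      inv_mem' := fun {x} hx => ⟨inv_mem hx.1, by rw [inv_pow, hx.2.1, inv_one],
        fun l hl => ((show Commute l x from hx.2.2 l hl).inv_right).eq⟩ }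
  have hZp : IsPGroup 7 Z := fun x => ⟨1, Subtype.ext (by rw [pow_one]; exact x.2.2.1)⟩
  have hZc : ∀ x y : Z, x * y = y * x := fun x y => Subtype.ext (y.2.2.2 x x.2.1)
  have hLp : IsPGroup 7 Lh := L.2.map _
  have hZne : Z ≠ ⊥ := by
    haveI : Nontrivial Lh := by
      rw [nontrivial_iff_ne_bot, hLh, Ne, map_eq_bot_iff_of_injective _ K.subtype_injective]
      exact hLne
    haveI := hLp.center_nontrivial
    obtain ⟨c, hc⟩ := exists_ne (1 : center Lh)
    have hcp : IsPGroup 7 (center Lh) := hLp.to_subgroup _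
    obtain ⟨e, he⟩ := hcp.exists_card_eq
    have he0 : e ≠ 0 := fun h0 => by
      rw [h0, pow_zero, card_eq_one] at he
      exact hc (Subtype.ext (mem_bot.mp (he ▸ c.2)))
    obtain ⟨z, hz⟩ := exists_prime_orderOf_dvd_card' (G := center Lh) 7 (he ▸ dvd_pow_self 7 he0)
    intro hb0
    have hzZ : (((z : Lh) : H)) ∈ Z := ⟨(z : Lh).2, by
        rw [← SubgroupClass.coe_pow, ← SubgroupClass.coe_pow, ← hz, pow_orderOf_eq_one]; rfl,
      fun l hl => congrArg Subtype.val (mem_center_iff.mp z.2 ⟨l, hl⟩)⟩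
    rw [hb0, mem_bot] at hzZ
    have hz1 : z = 1 := Subtype.ext (Subtype.ext hzZ)
    rw [hz1, orderOf_one] at hz
    norm_num at hz
  obtain ⟨k, hk⟩ := hZp.exists_card_eq
  have hk0 : k ≠ 0 := fun h0 => hZne (card_eq_one.mp (by rw [hk, h0, pow_zero]))
  have hk2 : k ≤ 2 := by
    obtain ⟨v, -, hv⟩ := Garrison.exists_regular hZc
      (fun z => (α (z : H)).toMonoidHom) (fun v => by simp) (fun a b v => by simp)
      (by rw [hk, hV]; exact Nat.Coprime.pow _ _ (by norm_num)) ⊤ (fun _ _ _ => mem_top _)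
    have hfinj : Function.Injective fun z : Z => α (z : H) v := by
      intro z z' (h : α (z : H) v = α (z' : H) v)
      have h' : α ((z⁻¹ * z' : Z) : H) v = v := by
        show α (((z : H))⁻¹ * z') v = v
        rw [map_mul, MulAut.mul_apply, ← h, ← MulAut.mul_apply, ← map_mul, inv_mul_cancel, map_one,
          MulAut.one_apply]
      refine inv_mul_eq_one.mp (Subtype.ext ?_)
      exact hinj (MulEquiv.ext fun w => by rw [OneMemClass.coe_one, map_one]; exact hv _ h' w (mem_top _))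
    have hle := Nat.card_le_card_of_injective _ hfinj
    rw [hk, hV] at hle
    by_contra hgt
    have : 7 ^ 3 ≤ 7 ^ k := Nat.pow_le_pow_right (by norm_num) (by omega)
    omega
  -- a nontrivial element of `Z` commuting with `b`
  have hZb : ∀ x ∈ Z, b * x * b⁻¹ ∈ Z := by
    intro x hx
    have hmem : ∀ l ∈ Lh, b * l * b⁻¹ ∈ Lh := by
      rintro _ ⟨l, hl, rfl⟩
      exact ⟨MulAut.conjNormal b l, hLb l hl, MulAut.conjNormal_apply b l⟩
    have hmap : Lh.map (MulAut.conj b).toMonoidHom = Lh := eq_of_le_of_card_ge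
      (map_le_iff_le_comap.mpr hmem) (card_map_of_injective (MulAut.conj b).injective).ge
    refine ⟨hmem x hx.1, by rw [conj_pow, hx.2.1]; group, fun l hl => ?_⟩
    obtain ⟨l', hl', rfl⟩ := (hmap.symm ▸ hl : l ∈ Lh.map (MulAut.conj b).toMonoidHom)
    show b * l' * b⁻¹ * (b * x * b⁻¹) = b * x * b⁻¹ * (b * l' * b⁻¹)
    calc b * l' * b⁻¹ * (b * x * b⁻¹) = b * (l' * x) * b⁻¹ := by group
      _ = b * (x * l') * b⁻¹ := by rw [hx.2.2 l' hl']
      _ = _ := by group
  obtain ⟨y, hyZ, hy1, hyb⟩ : ∃ y ∈ Z, y ≠ 1 ∧ b * y = y * b := by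
    let τ : Equiv.Perm Z := Equiv.ofBijective (fun x => (⟨b * x * b⁻¹, hZb x x.2⟩ : Z))
      (Finite.injective_iff_bijective.mp fun x x' h => Subtype.ext
        (mul_left_cancel (mul_right_cancel (congrArg Subtype.val h :))))
    have hτk : ∀ (m : ℕ) (x : Z), ((τ ^ m) x : H) = b ^ m * x * (b ^ m)⁻¹ := by
      intro m
      induction m with
      | zero => simp
      | succ m ih =>
        intro x
        rw [pow_succ', Equiv.Perm.mul_apply]
        show b * ((τ ^ m) x : H) * b⁻¹ = _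
        rw [ih, pow_succ']; group
    have hτ : τ ^ r ^ 1 = 1 := Equiv.ext fun x => Subtype.ext (by
      rw [pow_one, hτk, hb]; simp)
    have hmod := card_modEq_fixed (p := r) hτ
    by_contra hno
    push Not at hno
    have h1 : Nat.card {x : Z // τ x = x} = 1 := by
      rw [Nat.card_eq_one_iff_unique]
      refine ⟨⟨fun x y => ?_⟩, ⟨⟨1, Subtype.ext (by show b * 1 * b⁻¹ = 1; group)⟩⟩⟩
      have key : ∀ x : {x : Z // τ x = x}, ((x : Z) : H) = 1 := fun x => by
        by_contra hne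
        exact hno _ (x : Z).2 hne (mul_inv_eq_iff_eq_mul.mp (congrArg Subtype.val x.2))
      exact Subtype.ext (Subtype.ext ((key x).trans (key y).symm))
    rw [h1, hk] at hmod
    have hd := (Nat.modEq_iff_dvd' (Nat.one_le_pow _ _ (by norm_num))).mp hmod.symm
    rcases hr with rfl | rfl <;> interval_cases k <;> first | omega | (norm_num at hd)
  have hy7 : y ^ 7 = 1 := hyZ.2.1
  have hcy : ∀ v, α b (α y v) = α y (α b v) := fun v => by
    rw [← MulAut.mul_apply, ← map_mul, hyb, map_mul, MulAut.mul_apply]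
  have hyB : ∀ w ∈ fix1 α b, α y w ∈ fix1 α b := fun w hw => by
    show α b (α y w) = α y w
    rw [hcy, hw]
  obtain ⟨j, -, hj⟩ := exists_card_pow Nat.prime_two hV (fix1 α b ⊓ fix1 α y)
  have hji : j ≤ i := by
    have := card_le_of_le (inf_le_left : fix1 α b ⊓ fix1 α y ≤ fix1 α b)
    rw [hj, hi] at this
    exact (Nat.pow_le_pow_iff_right (by norm_num)).mp this
  have h7ij := prime_dvd_sub α (by norm_num : (7 : ℕ).Prime) hy7 hyB rfl
  rw [hi, hj] at h7ij
  have hji' : j = i := by interval_cases i <;> interval_cases j <;> first | omega | (norm_num at h7ij)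
  have hBy : fix1 α b ≤ fix1 α y := inf_eq_left.mp (eq_of_le_of_card_ge inf_le_left
    (by rw [hj, hi, hji']))
  obtain ⟨m, hm6, hm⟩ := exists_card_pow Nat.prime_two hV (fix1 α y)
  have hm5 : m ≠ 6 := by
    rintro rfl
    exact hy1 (hinj (MulEquiv.ext fun v => by
      rw [map_one, MulAut.one_apply]
      exact (eq_top_of_card_eq _ (by rw [hm, hV]) ▸ mem_top v : v ∈ fix1 α y)))
  have him : i ≤ m := by
    have := card_le_of_le hBy
    rw [hi, hm] at this
    exact (Nat.pow_le_pow_iff_right (by norm_num)).mp this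
  have h7m := prime_dvd_sub α (by norm_num : (7 : ℕ).Prime) hy7
    (W := ⊤) (fun _ _ => mem_top _) (top_inf_eq _)
  rw [card_top, hV, hm] at h7m
  have hrm := prime_dvd_sub α hrp hb (W := fix1 α y) (fun w (hw : α y w = w) => by
    show α y (α b w) = α b w
    rw [← hcy, hw]) (inf_eq_right.mpr hBy)
  rw [hm, hi] at hrm
  rcases hr with rfl | rfl <;> interval_cases i <;> interval_cases m <;>
    first | omega | (norm_num at hri) | (norm_num at hrm) | (norm_num at h7m)

/-- The exceptional space of order `64` for the primes two and seven. -/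
theorem false_two_seven {H : Type*} [Group H] [Finite H] (α : H →* MulAut V)
    (hV : Nat.card V = 2 ^ 6) (hexp : ∀ v : V, v ^ 2 = 1) {Q : Subgroup H} (hQ : IsPGroup 2 Q)
    (hQne : fixs α Q ≠ ⊤)
    {b : H} (hb : b ^ 7 = 1) (hbne : α b ≠ 1) (hcQ : ∀ a ∈ Q, a * b = b * a) {v0 : V} (hv0 : v0 ≠ 1)
    (hv0b : α b v0 = v0) (hv0Q : v0 ∈ fixs α Q) {n : ℕ} (hn : ¬ 7 ∣ n)
    (hcount : 2 ^ 6 - 1 = n * (Nat.card (fixs α Q) - 1)) : False := by
  haveI : Fact (Nat.Prime 7) := ⟨by norm_num⟩
  haveI : Fact (Nat.Prime 2) := ⟨Nat.prime_two⟩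
  have h7p : (7 : ℕ).Prime := by norm_num
  have hc : ∀ a ∈ Q, ∀ v, α a (α b v) = α b (α a v) := fun a ha v => by
    rw [← MulAut.mul_apply, ← map_mul, hcQ a ha, map_mul, MulAut.mul_apply]
  set W := fixs α Q with hW
  obtain ⟨c, hc6, hcW⟩ := exists_card_pow Nat.prime_two hV W
  have hc6' : c ≠ 6 := by
    rintro rfl
    exact hQne (eq_top_of_card_eq _ (by rw [hcW, hV]))
  have hc3 : c = 3 := by
    rw [hcW] at hcount
    interval_cases c <;> first | omega | (norm_num at hcount) | skip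
    all_goals (norm_num at hcount; omega)
  subst hc3
  obtain ⟨i, hi6, hi⟩ := exists_card_pow Nat.prime_two hV (fix1 α b)
  have h7i := prime_dvd_sub α h7p hb (W := ⊤) (fun _ _ => mem_top _) (top_inf_eq _)
  rw [card_top, hV, hi] at h7i
  obtain ⟨j, hj6, hj⟩ := exists_card_pow Nat.prime_two hV (W ⊓ fix1 α b)
  have hWb : ∀ w ∈ W, α b w ∈ W := fun w hw a ha => by rw [hc a ha, hw a ha]
  have h7j := prime_dvd_sub α h7p hb hWb rfl
  rw [hcW, hj] at h7j
  have hj0 : j ≠ 0 := by
    rintro rfl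
    rw [pow_zero, card_eq_one] at hj
    exact hv0 (mem_bot.mp (hj ▸ (⟨hv0Q, hv0b⟩ : v0 ∈ W ⊓ fix1 α b)))
  have hj3 : j ≤ 3 := by
    have := card_le_of_le (inf_le_left : W ⊓ fix1 α b ≤ W)
    rw [hj, hcW] at this
    exact (Nat.pow_le_pow_iff_right (by norm_num)).mp this
  have hi0 : i ≠ 6 := by
    rintro rfl
    exact hbne (MulEquiv.ext fun v => (eq_top_of_card_eq _ (by rw [hi, hV]) ▸ mem_top v : v ∈ fix1 α b))
  have hj' : j = 3 := by interval_cases j <;> first | omega | (norm_num at h7j)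
  have hji : j ≤ i := by
    have := card_le_of_le (inf_le_right : W ⊓ fix1 α b ≤ fix1 α b)
    rw [hj, hi] at this
    exact (Nat.pow_le_pow_iff_right (by norm_num)).mp this
  have hi3 : i = 3 := by subst hj'; interval_cases i <;> first | omega | (norm_num at h7i)
  have hWle : W ≤ fix1 α b := inf_eq_left.mp (eq_of_le_of_card_ge inf_le_left
    (by rw [hj, hcW, hj']))
  -- the image of `b - 1`
  let δ : V →* V := (α b).toMonoidHom / MonoidHom.id V
  have hδ : ∀ v, δ v = α b v / v := fun v => rfl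
  have hker : δ.ker = fix1 α b := by
    ext v
    rw [MonoidHom.mem_ker, hδ, div_eq_one]
    rfl
  have hD : Nat.card δ.range = 2 ^ 3 := by
    have h1 := Subgroup.index_mul_card δ.ker
    rw [Subgroup.index_ker, hker, hi, hi3, hV] at h1
    norm_num at h1 ⊢
    omega
  have hDi : ∀ a ∈ Q, ∀ u ∈ δ.range, α a u ∈ δ.range := by
    rintro a ha _ ⟨v, rfl⟩
    exact ⟨α a v, by rw [hδ, hδ, map_div, hc a ha]⟩
  letI : MulAction Q δ.range :=
    { smul := fun a u => ⟨α (a : H) (u : V), hDi a a.2 u u.2⟩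
      one_smul := fun u => Subtype.ext (by show α 1 (u : V) = u; rw [map_one]; rfl)
      mul_smul := fun a a' u => Subtype.ext (by
        show α ((a : H) * a') (u : V) = α a (α a' (u : V))
        rw [map_mul]; rfl) }
  obtain ⟨u, hu, hu1⟩ := hQ.exists_fixed_point_of_prime_dvd_card_of_fixed_point δ.range
    (by rw [hD]; norm_num) (a := 1) (fun a => Subtype.ext (map_one (α (a : H))))
  refine hu1 (Subtype.ext ?_)
  have huW : (u : V) ∈ W := fun a ha => congrArg Subtype.val (hu ⟨a, ha⟩)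
  obtain ⟨x, hx⟩ := u.2
  rw [hδ, div_eq_iff_eq_mul] at hx
  have hit : ∀ k : ℕ, α (b ^ k) x = (u : V) ^ k * x := by
    intro k
    induction k with
    | zero => simp
    | succ k ih =>
      rw [pow_succ', map_mul, MulAut.mul_apply, ih, map_mul, map_pow,
        show α b (u : V) = u from hWle huW, hx, pow_succ, mul_assoc]
  have h7u := hit 7
  rw [hb, map_one, MulAut.one_apply, right_eq_mul, pow_succ, show (6 : ℕ) = 2 * 3 from rfl, pow_mul,
    hexp, one_pow, one_mul] at h7u
  exact h7u.symm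

end Cfsg.Agent.CT.Palfy
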