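import Cfsg.Agent.Lib.CT.PalfyLinear
import Cfsg.Agent.Lib.CT.GallagherExt
import Cfsg.Agent.Lib.CT.ItoMichlerPSolv
import Cfsg.Agent.Lib.CoprimeExt.CoprimeDegree
import Cfsg.Agent.Lib.Glauberman.Conj

/-! Degrees of characters over an extendible character of a complemented normal subgroup. -/

set_option autoImplicit false

namespace Cfsg.Agent.CT.Palfy

open Subgroup Cfsg

universe u

variable {G : Type u} [Group G] [Finite G]

/-- The projection to a complement. -/
noncomputable def proj {N L : Subgroup G} [N.Normal] (h : IsComplement' N L) : G →* L :=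
  h.symm.QuotientMulEquiv.toMonoidHom.comp (QuotientGroup.mk' N)

omit [Finite G] in
theorem proj_surjective {N L : Subgroup G} [N.Normal] (h : IsComplement' N L) :
    Function.Surjective (proj h) :=
  h.symm.QuotientMulEquiv.surjective.comp (QuotientGroup.mk'_surjective N)

omit [Finite G] in
theorem proj_mem {N L : Subgroup G} [N.Normal] (h : IsComplement' N L) (g : G) :
    g * ((proj h g : L) : G)⁻¹ ∈ N := by
  have he : (QuotientGroup.mk ((proj h g : L) : G) : G ⧸ N) = QuotientGroup.mk g :=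
    h.symm.QuotientMulEquiv.symm_apply_apply (QuotientGroup.mk g)
  rw [QuotientGroup.eq] at he
  simpa [mul_assoc] using Normal.conj_mem inferInstance _ he ((proj h g : L) : G)

omit [Finite G] in
theorem proj_coe {N L : Subgroup G} [N.Normal] (h : IsComplement' N L) (l : L) : proj h (l : G) = l := by
  refine Subtype.ext (inv_mul_eq_one.mp (mem_bot.mp (h.disjoint.eq_bot ▸ (⟨?_, ?_⟩ :
    (((proj h (l : G) : L) : G))⁻¹ * l ∈ N ⊓ L))))
  · simpa [mul_assoc] using Normal.conj_mem inferInstance _ (proj_mem h (l : G))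
      ((proj h (l : G) : L) : G)⁻¹
  · exact L.mul_mem (L.inv_mem (proj h (l : G)).2) l.2

omit [Finite G] in
theorem proj_eq_one {N L : Subgroup G} [N.Normal] (h : IsComplement' N L) {n : G} (hn : n ∈ N) :
    proj h n = 1 := by
  show h.symm.QuotientMulEquiv (QuotientGroup.mk n) = 1
  rw [(QuotientGroup.eq_one_iff n).mpr hn, map_one]

/-- Degrees of `L` are degrees of the group. -/
theorem lift_degree {N L : Subgroup G} [N.Normal] (h : IsComplement' N L) (φ : IrrCharacter L) :
    ∃ χ : IrrCharacter G, charDegree (χ : G → ℂ) = charDegree (φ : L → ℂ) := by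
  refine ⟨⟨fun g => (φ : L → ℂ) (proj h g), CT.isIrrCharacter_comp _ (proj_surjective h) φ.2⟩, ?_⟩
  show CT.deg (fun g => (φ : L → ℂ) (proj h g)) = CT.deg (φ : L → ℂ)
  simp [CT.deg]

/-- A degree over an extendible character. -/
theorem exists_degree {N L : Subgroup G} [N.Normal] (h : IsComplement' N L) (θ : IrrCharacter N)
    (S : Subgroup L) (hS : S = (CT.inertia N (θ : N → ℂ)).subgroupOf L) (φ : IrrCharacter S)
    (hNT : N ≤ S.comap (proj h))
    (hext : ∃ χ : IrrCharacter ↥(S.comap (proj h)), ∀ n : N,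
      (χ : ↥(S.comap (proj h)) → ℂ) ⟨n, hNT n.2⟩ = (θ : N → ℂ) n) :
    ∃ χ : IrrCharacter G, charDegree (χ : G → ℂ) =
      S.index * charDegree (φ : S → ℂ) * charDegree (θ : N → ℂ) := by
  classical
  haveI := Fintype.ofFinite G
  set T := S.comap (proj h) with hTdef
  haveI := Fintype.ofFinite N
  haveI := Fintype.ofFinite T
  have hN := CT.le_inertia N (CT.isClassFunction_of_isIrr θ.2)
  have hTi : T = CT.inertia N (θ : N → ℂ) := by
    ext g
    have hn := hN (proj_mem h g)
    rw [hTdef, mem_comap, hS, mem_subgroupOf]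
    constructor
    · intro hl
      have := (CT.inertia N (θ : N → ℂ)).mul_mem hn hl
      rwa [inv_mul_cancel_right] at this
    · intro hg
      have := (CT.inertia N (θ : N → ℂ)).mul_mem ((CT.inertia N (θ : N → ℂ)).inv_mem hn) hg
      rwa [mul_inv_rev, inv_inv, inv_mul_cancel_right] at this
  obtain ⟨χ0, hχ0⟩ := hext
  let π : T →* S := ((proj h).comp T.subtype).codRestrict S fun t => t.2
  have hπ : Function.Surjective π := fun s =>
    ⟨⟨((s : L) : G), show proj h ((s : L) : G) ∈ S by rw [proj_coe]; exact s.2⟩,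
      Subtype.ext (proj_coe h _)⟩
  set η : IrrCharacter T := ⟨fun t => (φ : S → ℂ) (π t), CT.isIrrCharacter_comp π hπ φ.2⟩ with hη
  set N' := N.subgroupOf T with hN'
  haveI : N'.Normal := normal_subgroupOf
  haveI := Fintype.ofFinite N'
  have hηN : ∀ n : T, (n : G) ∈ N → (η : T → ℂ) n = (φ : S → ℂ) 1 := fun n hn => by
    show (φ : S → ℂ) (π n) = _
    rw [show π n = 1 from Subtype.ext (proj_eq_one h hn)]
  let e : N' ≃* N := subgroupOfEquivOfLe hNT
  set θ' : N' → ℂ := fun n => (θ : N → ℂ) (e n) with hθ'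
  have hθ'i : IsIrrCharacter N' θ' := CT.isIrrCharacter_comp e.toMonoidHom e.surjective θ.2
  have hext' : ∀ n : N', (χ0 : T → ℂ) n = θ' n := fun n => hχ0 (e n)
  have hθinv : ∀ g, CT.conjFun N' g θ' = θ' := fun g => funext fun n => by
    exact congrFun ((hTi ▸ g.2 : (g : G) ∈ CT.inertia N (θ : N → ℂ))) (e n)
  have h1 : (fun _ : N' => (1 : ℂ)) * θ' = θ' := one_mul _
  have hover : classInner (indFun N' fun _ : N' => (1 : ℂ)) η ≠ 0 := by
    rw [CT.frobenius_reciprocity N' _ (CT.isClassFunction_of_isIrr η.2),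
      show (fun n : N' => (η : T → ℂ) n) = (φ : S → ℂ) 1 • fun _ : N' => (1 : ℂ) from funext fun n => by
        rw [Pi.smul_apply, smul_eq_mul, mul_one]; exact hηN n n.2,
      CT.classInner_smul_right, CT.irr_inner_self CT.isIrrCharacter_one, mul_one]
    simpa using CT.irr_one_ne_zero φ.2
  have hψ : IsIrrCharacter T ((η : T → ℂ) * (χ0 : T → ℂ)) :=
    CT.isIrr_of_inner_self (CT.isCharacter_mul (CT.isCharacter_of_isIrr η.2) (CT.isCharacter_of_isIrr χ0.2))
      (by rw [CT.GallagherExt.inner_mul_ext N' CT.isIrrCharacter_one (fun g => funext fun n => rfl) hθinv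
        (h1.symm ▸ hθ'i) χ0.2 hext' η η hover hover, if_pos rfl])
  have hres : CT.resTo N T hNT ((η : T → ℂ) * (χ0 : T → ℂ)) = (φ : S → ℂ) 1 • (θ : N → ℂ) := by
    funext n
    show (η : T → ℂ) ⟨n, hNT n.2⟩ * (χ0 : T → ℂ) ⟨n, hNT n.2⟩ = _
    rw [hηN _ n.2, hχ0]
    rfl
  have hne : classInner (CT.resTo N T hNT ((η : T → ℂ) * (χ0 : T → ℂ))) (θ : N → ℂ) ≠ 0 := by
    rw [hres, CT.classInner_smul_left, CT.irr_inner_self θ.2, mul_one]
    exact CT.irr_one_ne_zero φ.2
  have hirr := CT.isIrr_indFun_of_over N θ.2 T hTi hNT hψ hne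
  refine ⟨⟨_, hirr⟩, ?_⟩
  show CT.deg (indFun T ((η : T → ℂ) * (χ0 : T → ℂ))) = S.index * CT.deg (φ : S → ℂ) * CT.deg (θ : N → ℂ)
  have hd := CT.deg_eq (CT.isCharacter_of_isIrr hirr)
  rw [CT.indFun_one_eval, Pi.mul_apply, show (η : T → ℂ) 1 = (φ : S → ℂ) 1 from hηN 1 N.one_mem,
    show (χ0 : T → ℂ) 1 = (θ : N → ℂ) 1 from hχ0 1, CT.deg_eq (CT.isCharacter_of_isIrr φ.2),
    CT.deg_eq (CT.isCharacter_of_isIrr θ.2),
    show T.index = S.index from index_comap_of_surjective _ (proj_surjective h)] at hd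
  rw [← Nat.cast_inj (R := ℂ), ← hd]
  push_cast
  ring

/-- An invariant linear character extends over the complement. -/
theorem exists_linear_ext {N L : Subgroup G} [N.Normal] (h : IsComplement' N L) (l : N →* ℂˣ)
    (S : Subgroup L) (hinv : ∀ s ∈ S, ((s : L) : G) ∈ CT.inertia N (fun n => (l n : ℂ)))
    (hNT : N ≤ S.comap (proj h)) :
    ∃ χ : IrrCharacter ↥(S.comap (proj h)), ∀ n : N,
      (χ : ↥(S.comap (proj h)) → ℂ) ⟨n, hNT n.2⟩ = (l n : ℂ) := by
  let lh : ↥(S.comap (proj h)) →* ℂˣ := MonoidHom.mk' (fun t => l ⟨_, proj_mem h (t : G)⟩) fun s t => by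
    set u : L := proj h (s : G) with hu
    have hin := (CT.mem_inertia_iff N).mp (hinv u s.2) ⟨_, proj_mem h (t : G)⟩
    show l ⟨(s : G) * t * ((proj h ((s : G) * t) : L) : G)⁻¹, _⟩ =
      l ⟨(s : G) * (u : G)⁻¹, _⟩ * l ⟨(t : G) * ((proj h (t : G) : L) : G)⁻¹, _⟩
    rw [← Units.ext hin, ← map_mul]
    refine congrArg l (Subtype.ext ?_)
    simp only [Subgroup.coe_mul, map_mul, ← hu]
    group
  refine ⟨⟨fun t => (lh t : ℂ), CT.isIrrCharacter_lin lh⟩, fun n => ?_⟩
  show (l ⟨_, proj_mem h (n : G)⟩ : ℂ) = (l n : ℂ)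
  congr 2
  refine Subtype.ext ?_
  show (n : G) * ((proj h (n : G) : L) : G)⁻¹ = n
  rw [proj_eq_one h n.2]
  simp

end Cfsg.Agent.CT.Palfy
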