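import Cfsg.Agent.Lib.CT.PalfyMain

/-! A module with picked Sylow subgroups gives a character whose degree two primes divide. -/

set_option autoImplicit false

namespace Cfsg.Agent.CT.Palfy

open Subgroup Cfsg

universe u v

variable {H : Type u} [Group H] [Finite H]

theorem mem_of_mul_mem {q r : ℕ} (hqr : Nat.Coprime r q) {a b : H} (hc : Commute a b)
    (ha : a ^ q = 1) (hb : b ^ r = 1) (S : Subgroup H) (h : a * b ∈ S) : a ∈ S := by
  have h1 : a ^ r ∈ S := by
    have := S.pow_mem h r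
    rwa [hc.mul_pow, hb, mul_one] at this
  have e := Nat.gcd_eq_gcd_ab r q
  rw [hqr.gcd_eq_one, Nat.cast_one] at e
  have h2 : a = (a ^ r) ^ r.gcdA q := by
    conv_lhs => rw [← zpow_one a, e, zpow_add, zpow_mul, zpow_mul, zpow_natCast, zpow_natCast, ha,
      one_zpow, mul_one]
  rw [h2]
  exact S.zpow_mem h1 _

/-- Two Sylow subgroups of different primes, each normalising the other, commute. -/
theorem commute_of_normalize {q r : ℕ} [Fact q.Prime] [Fact r.Prime] (hqr : q ≠ r) {Q R : Subgroup H}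
    (hQ : IsPGroup q Q) (hR : IsPGroup r R) (hQR : Q ≤ normalizer (R : Set H))
    (hRQ : R ≤ normalizer (Q : Set H)) : ∀ a ∈ Q, ∀ b ∈ R, a * b = b * a := by
  intro a ha b hb
  have h1 : a * b * a⁻¹ ∈ R := ((mem_normalizer_iff.mp (hQR ha)) b).mp hb
  have h2 : b * a⁻¹ * b⁻¹ ∈ Q := ((mem_normalizer_iff.mp (hRQ hb)) a⁻¹).mp (Q.inv_mem ha)
  have h : a * b * a⁻¹ * b⁻¹ ∈ Q ⊓ R := ⟨by simpa [mul_assoc] using Q.mul_mem ha h2,
    R.mul_mem h1 (R.inv_mem hb)⟩
  rw [(IsPGroup.disjoint_of_ne q r hqr Q R hQ hR).eq_bot, mem_bot, mul_inv_eq_one, mul_inv_eq_iff_eq_mul] at h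
  exact h

/-- The stabiliser of a class of a normal subgroup. -/
def classStab (K : Subgroup H) [K.Normal] (C : ConjClasses K) : Subgroup H where
  carrier := {g | ConjClasses.map (MulAut.conjNormal g : K ≃* K).toMonoidHom C = C}
  one_mem' := by
    obtain ⟨x, rfl⟩ := ConjClasses.mk_surjective C
    show ConjClasses.mk ((MulAut.conjNormal (1 : H) : K ≃* K) x) = _
    rw [map_one]; rfl
  mul_mem' {a b} ha hb := by
    obtain ⟨x, rfl⟩ := ConjClasses.mk_surjective C
    show ConjClasses.mk ((MulAut.conjNormal (a * b) : K ≃* K) x) = _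
    rw [map_mul]
    show ConjClasses.map (MulAut.conjNormal a : K ≃* K).toMonoidHom
      (ConjClasses.map (MulAut.conjNormal b : K ≃* K).toMonoidHom (ConjClasses.mk x)) = _
    rw [show ConjClasses.map (MulAut.conjNormal b : K ≃* K).toMonoidHom (ConjClasses.mk x) =
      ConjClasses.mk x from hb]
    exact ha
  inv_mem' {a} ha := by
    obtain ⟨x, rfl⟩ := ConjClasses.mk_surjective C
    show ConjClasses.map (MulAut.conjNormal a⁻¹ : K ≃* K).toMonoidHom (ConjClasses.mk x) = _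
    conv_lhs => rw [← (show ConjClasses.map (MulAut.conjNormal a : K ≃* K).toMonoidHom
      (ConjClasses.mk x) = ConjClasses.mk x from ha)]
    show ConjClasses.mk ((MulAut.conjNormal a⁻¹ : K ≃* K) ((MulAut.conjNormal a : K ≃* K) x)) = _
    rw [map_inv, MulAut.inv_apply_self]

/-- Brauer's lemma for two commuting elements of coprime orders. -/
theorem exists_irr_moved {q r : ℕ} (hqr : Nat.Coprime r q) (K : Subgroup H) [K.Normal] {a b : H}
    (hc : Commute a b) (ha : a ^ q = 1) (hb : b ^ r = 1)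
    (h : ∃ C : ConjClasses K, a ∉ classStab K C ∧ b ∉ classStab K C) :
    ∃ θ : IrrCharacter K, a ∉ CT.inertia K (θ : K → ℂ) ∧ b ∉ CT.inertia K (θ : K → ℂ) := by
  classical
  haveI := Fintype.ofFinite H
  haveI := CT.irr_finite K
  haveI : Finite (ConjClasses K) := Finite.of_surjective _ ConjClasses.mk_surjective
  by_contra hno
  push Not at hno
  have key : ∀ {X : Type u} [Finite X] (S : X → Subgroup H),
      {x | a ∈ S x ∨ b ∈ S x}.ncard + {x | a * b ∈ S x}.ncard =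
        Nat.card {x // a ∈ S x} + Nat.card {x // b ∈ S x} := by
    intro X _ S
    have hi : {x | a * b ∈ S x} = {x | a ∈ S x} ∩ {x | b ∈ S x} := by
      ext x
      refine ⟨fun hx => ⟨mem_of_mul_mem hqr hc ha hb _ hx, ?_⟩, fun hx => (S x).mul_mem hx.1 hx.2⟩
      exact mem_of_mul_mem hqr.symm hc.symm hb ha _ (by rw [← hc.eq]; exact hx)
    rw [hi, show {x | a ∈ S x ∨ b ∈ S x} = {x | a ∈ S x} ∪ {x | b ∈ S x} from rfl,
      Set.ncard_union_add_ncard_inter]
    rfl
  have e1 := key (fun θ : IrrCharacter K => CT.inertia K (θ : K → ℂ))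
  have e2 := key (fun C : ConjClasses K => classStab K C)
  have hA : ∀ g : H, Nat.card {θ : IrrCharacter K // g ∈ CT.inertia K (θ : K → ℂ)} =
      Nat.card {C : ConjClasses K // g ∈ classStab K C} := fun g => OddChar.card_fixed_irr K g
  have hab : {θ : IrrCharacter K | a * b ∈ CT.inertia K (θ : K → ℂ)}.ncard =
      {C : ConjClasses K | a * b ∈ classStab K C}.ncard := hA (a * b)
  rw [hA, hA, ← e2, hab, add_left_inj,
    show {θ : IrrCharacter K | a ∈ CT.inertia K (θ : K → ℂ) ∨ b ∈ CT.inertia K (θ : K → ℂ)} =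
      Set.univ from Set.eq_univ_of_forall fun θ => (em _).imp_right (hno θ),
    Set.ncard_univ, CT.card_irr_eq_card_conjClasses, ← Set.ncard_univ] at e1
  obtain ⟨C, hCa, hCb⟩ := h
  have := Set.eq_of_subset_of_ncard_le (Set.subset_univ _) e1.le
  exact (this ▸ Set.mem_univ C : C ∈ {C | a ∈ classStab K C ∨ b ∈ classStab K C}).elim hCa hCb

/-- If no Sylow subgroup of the prime lies in a subgroup, the prime divides the index. -/
theorem dvd_index {q : ℕ} [Fact q.Prime] (K : Subgroup H) (Q : Sylow q H)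
    (hg : K ⊔ normalizer ((Q : Subgroup H) : Set H) = ⊤) [K.Normal] (I : Subgroup H) (hKI : K ≤ I)
    {a : H} (haQ : a ∈ (Q : Subgroup H)) (haI : a ∉ I) : q ∣ I.index := by
  by_contra hdvd
  let P : Sylow q I := default
  have hPc : Nat.card ↥((P : Subgroup I).map I.subtype) = q ^ (Nat.card H).factorization q := by
    rw [card_map_of_injective I.subtype_injective, P.card_eq_multiplicity, ← I.card_mul_index,
      Nat.factorization_mul Nat.card_pos.ne' Subgroup.index_ne_zero_of_finite]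
    simp [Nat.factorization_eq_zero_of_not_dvd hdvd]
  obtain ⟨g, hg'⟩ := MulAction.exists_smul_eq H Q (Sylow.ofCard _ hPc)
  obtain ⟨k, hk, n, hn, rfl⟩ : ∃ k ∈ K, ∃ n ∈ normalizer ((Q : Subgroup H) : Set H), k * n = g := by
    have : g ∈ K ⊔ normalizer ((Q : Subgroup H) : Set H) := by rw [hg]; trivial
    obtain ⟨k, hk, n, hn, e⟩ := mem_sup_of_normal_left.mp this
    exact ⟨k, hk, n, hn, e⟩
  refine haI ?_
  have hmem : k * a * k⁻¹ ∈ ((k * n) • Q : Sylow q H) := by
    show k * a * k⁻¹ ∈ (((k * n) • Q : Sylow q H) : Subgroup H)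
    rw [mem_smul_sylow, show (k * n)⁻¹ * (k * a * k⁻¹) * (k * n) = n⁻¹ * a * n by group]
    have := (mem_normalizer_iff.mp ((normalizer _).inv_mem hn) a).mp haQ
    simpa using this
  rw [hg'] at hmem
  have hI : k * a * k⁻¹ ∈ I := map_subtype_le _ hmem
  have := I.mul_mem (I.mul_mem (I.inv_mem (hKI hk)) hI) (hKI hk)
  simpa [mul_assoc] using this

variable {V : Type u} [CommGroup V] [Finite V]

theorem smul_stab_fixes {p : ℕ} [Fact p.Prime] {α : H →* MulAut V} (hinj : Function.Injective α)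
    (h : Pick p α) {N : Subgroup H} [N.Normal] (hN : IsPGroup p N) : N = ⊥ := by
  rw [Subgroup.eq_bot_iff_forall]
  intro x hx
  refine hinj (MulEquiv.ext fun v => ?_)
  rw [map_one, MulAut.one_apply]
  rcases eq_or_ne v 1 with rfl | hv
  · exact map_one _
  · obtain ⟨Q, hQ, -⟩ := h v hv
    exact hQ ((Basics.le_pCore (hN)).trans (Basics.pCore_le_sylow p Q) hx)

/-- The faithful case. -/
theorem core [Group.IsSolvable H] (α : H →* MulAut V) (hinj : Function.Injective α) {s : ℕ}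
    (hs : s.Prime) (hexp : ∀ v : V, v ^ s = 1) {q r : ℕ} (hq : q.Prime) (hr : r.Prime) (hqr : q ≠ r)
    (hqH : q ∣ Nat.card H) (hrH : r ∣ Nat.card H)
    (hpq : Pick q α) (hpr : Pick r α) :
    ∃ χ : IrrCharacter H, q * r ∣ charDegree (χ : H → ℂ) := by
  classical
  haveI := Fact.mk hq
  haveI := Fact.mk hr
  haveI := Fintype.ofFinite H
  obtain ⟨v0, hv0⟩ : ∃ v : V, v ≠ 1 := by
    by_contra hno
    push Not at hno
    have : Subsingleton H := ⟨fun x z => hinj (MulEquiv.ext fun v => by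
      rw [hno v, map_one, map_one])⟩
    rw [Nat.card_unique] at hqH
    exact hq.ne_one (Nat.dvd_one.mp hqH)
  obtain ⟨Q, hQs, hQn, hQc⟩ := hpq v0 hv0
  obtain ⟨R, hRs, hRn, hRc⟩ := hpr v0 hv0
  have hQR := commute_of_normalize hqr Q.2 R.2 (hQs.trans hRn) (hRs.trans hQn)
  have hQne : (Q : Subgroup H) ≠ ⊥ := Q.ne_bot_of_dvd_card hqH
  have hRne : (R : Subgroup H) ≠ ⊥ := R.ne_bot_of_dvd_card hrH
  -- the largest normal subgroup of order prime to `q` and `r`
  obtain ⟨K, ⟨hKn, hKq, hKr⟩, hKmax⟩ := Set.Finite.exists_maximalFor (fun K : Subgroup H => Nat.card K)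
    {K | K.Normal ∧ ¬ q ∣ Nat.card K ∧ ¬ r ∣ Nat.card K} (Set.toFinite _)
    ⟨⊥, inferInstance, by rw [card_bot, Nat.dvd_one]; exact hq.ne_one,
      by rw [card_bot, Nat.dvd_one]; exact hr.ne_one⟩
  haveI := hKn
  set π := QuotientGroup.mk' K with hπ
  let Qb : Sylow q (H ⧸ K) := Q.mapSurjective (QuotientGroup.mk'_surjective K)
  let Rb : Sylow r (H ⧸ K) := R.mapSurjective (QuotientGroup.mk'_surjective K)
  have hQb : (Qb : Subgroup (H ⧸ K)) = (Q : Subgroup H).map π := rfl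
  have hRb : (Rb : Subgroup (H ⧸ K)) = (R : Subgroup H).map π := rfl
  have hother : ∀ l : ℕ, l.Prime → l ≠ q → l ≠ r → pCore l (H ⧸ K) = ⊥ := by
    intro l hl hlq hlr
    haveI := Fact.mk hl
    set L := (pCore l (H ⧸ K)).comap π with hL
    haveI : L.Normal := inferInstanceAs ((pCore l (H ⧸ K)).comap π).Normal
    obtain ⟨k, hk⟩ := IsPGroup.iff_card.mp (Basics.pCore_isPGroup (G := H ⧸ K) l)
    have hLc : Nat.card L = l ^ k * Nat.card K := by
      rw [hL, hπ, Basics.card_comap_mk', hk]; ring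
    have hnd : ∀ p : ℕ, p.Prime → l ≠ p → ¬ p ∣ Nat.card K → ¬ p ∣ Nat.card L := fun p hp hne hK hd => by
      rw [hLc] at hd
      rcases hp.dvd_mul.mp hd with h | h
      · exact hne ((Nat.prime_dvd_prime_iff_eq hp hl).mp (hp.dvd_of_dvd_pow h)).symm
      · exact hK h
    have hle : Nat.card L ≤ Nat.card K :=
      hKmax ⟨inferInstance, hnd q hq hlq hKq, hnd r hr hlr hKr⟩
        (by show Nat.card K ≤ Nat.card L; rw [hLc]; exact Nat.le_mul_of_pos_left _ (pow_pos hl.pos _))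
    refine card_eq_one.mp ?_
    rw [hk]
    rw [hLc] at hle
    have h1 : l ^ k * Nat.card K ≤ 1 * Nat.card K := by rwa [one_mul]
    exact le_antisymm (Nat.le_of_mul_le_mul_right h1 Nat.card_pos) (pow_pos hl.pos _)
  have hcommb : ∀ x ∈ (Qb : Subgroup (H ⧸ K)), ∀ z ∈ (Rb : Subgroup (H ⧸ K)), x * z = z * x := by
    rintro _ ⟨a, ha, rfl⟩ _ ⟨b, hb, rfl⟩
    rw [← map_mul, ← map_mul, hQR a ha b hb]
  have habel : ∀ {p : ℕ} (P : Sylow p H), IsMulCommutative ↥(P : Subgroup H) →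
      (P : Subgroup H).map π ≤ centralizer (((P : Subgroup H).map π : Subgroup (H ⧸ K)) : Set (H ⧸ K)) := by
    rintro p P hP _ ⟨a, ha, rfl⟩
    rw [mem_centralizer_iff]
    rintro _ ⟨b, hb, rfl⟩
    rw [← map_mul, ← map_mul]
    exact congrArg π (congrArg Subtype.val (hP.1.comm (⟨b, hb⟩ : (P : Subgroup H)) ⟨a, ha⟩))
  have hF : fittingSubgroup (H ⧸ K) ≤ pCore q (H ⧸ K) ⊔ pCore r (H ⧸ K) := by
    rw [Basics.fittingSubgroup_eq_iSup_pCore]
    refine iSup_le fun l => ?_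
    by_cases h1 : (l : ℕ) = q
    · rw [h1]; exact le_sup_left
    by_cases h2 : (l : ℕ) = r
    · rw [h2]; exact le_sup_right
    rw [hother l l.2 h1 h2]; exact bot_le
  -- each of the two images is normal
  have hnorm : ∀ {p l : ℕ} [Fact p.Prime] [Fact l.Prime] (P : Sylow p (H ⧸ K)) (L : Sylow l (H ⧸ K)),
      p ≠ l → fittingSubgroup (H ⧸ K) ≤ pCore p (H ⧸ K) ⊔ pCore l (H ⧸ K) →
      (P : Subgroup (H ⧸ K)) ≤ centralizer ((P : Subgroup (H ⧸ K)) : Set (H ⧸ K)) →
      (∀ x ∈ (P : Subgroup (H ⧸ K)), ∀ z ∈ (L : Subgroup (H ⧸ K)), x * z = z * x) →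
      (P : Subgroup (H ⧸ K)) = pCore p (H ⧸ K) := by
    intro p l _ _ P L hpl hFle hPc hPL
    have hFc : fittingSubgroup (H ⧸ K) ≤ centralizer ((P : Subgroup (H ⧸ K)) : Set (H ⧸ K)) := by
      refine hFle.trans (sup_le ((Basics.pCore_le_sylow p P).trans hPc) fun z hz => ?_)
      rw [mem_centralizer_iff]
      exact fun x hx => hPL x hx z (Basics.pCore_le_sylow l L hz)
    have hPF := (Subgroup.le_centralizer_iff.mp hFc).trans Basics.centralizer_fittingSubgroup_le
    refine le_antisymm (fun x hx => ?_) (Basics.pCore_le_sylow p P)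
    obtain ⟨u, hu, w, hw, rfl⟩ := mem_sup_of_normal_left.mp (hFle (hPF hx))
    have hwP : w ∈ (P : Subgroup (H ⧸ K)) := by
      have := (P : Subgroup (H ⧸ K)).mul_mem ((P : Subgroup (H ⧸ K)).inv_mem
        (Basics.pCore_le_sylow p P hu)) hx
      rwa [inv_mul_cancel_left] at this
    have : w = 1 := mem_bot.mp ((IsPGroup.disjoint_of_ne p l hpl (P : Subgroup (H ⧸ K))
      (pCore l (H ⧸ K)) P.2 (Basics.pCore_isPGroup l)).eq_bot ▸ (⟨hwP, hw⟩ : w ∈ (P : Subgroup (H ⧸ K)) ⊓ pCore l (H ⧸ K)))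
    rwa [this, mul_one]
  have hgen : ∀ {p : ℕ} [Fact p.Prime] (P : Sylow p H), ((P : Subgroup H).map π).Normal →
      K ⊔ normalizer ((P : Subgroup H) : Set H) = ⊤ := by
    intro p _ P hn
    haveI := hn
    set N := ((P : Subgroup H).map π).comap π with hN
    haveI : N.Normal := hn.comap π
    have hNe : N = (P : Subgroup H) ⊔ K := by
      rw [hN, comap_map_eq, hπ, QuotientGroup.ker_mk']
    have := Sylow.normalizer_sup_eq_top' (N := N) P (hNe ▸ le_sup_left)
    rw [hNe, ← sup_assoc, sup_eq_left.mpr (show (P : Subgroup H) ≤ normalizer (P : Set H) from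
      le_normalizer)] at this
    rw [sup_comm]
    exact this
  have hgQ := hgen Q (by
    rw [← hQb, hnorm Qb Rb hqr hF (habel Q hQc) hcommb]; infer_instance)
  have hgR := hgen R (by
    rw [← hRb, hnorm Rb Qb hqr.symm (hF.trans (le_of_eq (sup_comm _ _))) (habel R hRc)
      fun x hx z hz => (hcommb z hz x hx).symm]
    infer_instance)
  obtain ⟨y, hyK, hy⟩ := exists_irreducible_elt α hinj hs hexp hqr K hKq hKr hpq hpr Q R hgQ hgR
    hQne hRne hQR hv0 hQs hRs
  have elt : ∀ {p : ℕ} [Fact p.Prime] (P : Sylow p H), p ∣ Nat.card H →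
      (P : Subgroup H) ≤ stabv α v0 → ¬ p ∣ Nat.card K →
      ∃ a ∈ (P : Subgroup H), a ^ p = 1 ∧ a ∉ classStab K (ConjClasses.mk ⟨y, hyK⟩) := by
    intro p _ P hpH hPs hpK
    obtain ⟨k, hk⟩ := IsPGroup.iff_card.mp P.2
    have hk0 : k ≠ 0 := fun h0 => P.ne_bot_of_dvd_card hpH (card_eq_one.mp (by rw [hk, h0, pow_zero]))
    obtain ⟨a, ha⟩ := exists_prime_orderOf_dvd_card' (G := ↥(P : Subgroup H)) p
      (hk ▸ dvd_pow_self p hk0)
    rw [← Subgroup.orderOf_coe] at ha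
    refine ⟨a, a.2, orderOf_dvd_iff_pow_eq_one.mp ha.dvd, fun hfix => ?_⟩
    obtain ⟨h, hh⟩ := isConj_iff.mp (ConjClasses.mk_eq_mk_iff_isConj.mp
      (show ConjClasses.mk ⟨y, hyK⟩ =
        ConjClasses.mk ((MulAut.conjNormal (a : H) : K ≃* K) ⟨y, hyK⟩) from hfix.symm))
    have e : (a : H) * y * (a : H)⁻¹ = h * y * (h : H)⁻¹ := by
      have := congrArg Subtype.val hh
      simpa using this.symm
    obtain ⟨t, -, hta⟩ := OddChar.coprime_class_meets K
      (by rw [ha]; exact (Nat.Prime.coprime_iff_not_dvd Fact.out).mpr hpK) h.2 e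
    have hy' : ∀ W : Subgroup V, (∀ w ∈ W, α (t * y * t⁻¹) w ∈ W) → W = ⊥ ∨ W = ⊤ := by
      intro W hW
      refine (hy (W.map (α t⁻¹).toMonoidHom) ?_).imp (fun h => ?_) (fun h => ?_)
      · rintro _ ⟨w, hw, rfl⟩
        refine ⟨_, hW w hw, ?_⟩
        show α t⁻¹ (α (t * y * t⁻¹) w) = α y (α t⁻¹ w)
        rw [← MulAut.mul_apply, ← map_mul, ← MulAut.mul_apply, ← map_mul]
        congr 2; group
      · exact (map_eq_bot_iff_of_injective _ (α t⁻¹).injective).mp h
      · refine eq_top_of_card_eq _ ?_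
        rw [← Subgroup.card_map_of_injective (K := W) (show Function.Injective (α t⁻¹).toMonoidHom from (α t⁻¹).injective)]
        exact (congrArg (fun S : Subgroup V => Nat.card S) h).trans card_top
    rcases fix1_eq_bot_or_top hy' hta with h0 | h0
    · exact hv0 (mem_bot.mp (h0 ▸ (hPs a.2 : v0 ∈ fix1 α (a : H))))
    · have h1 : (a : H) = 1 := hinj (MulEquiv.ext fun v => by
        rw [map_one]; exact (h0 ▸ mem_top v : v ∈ fix1 α (a : H)))
      rw [h1, orderOf_one] at ha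
      exact (Fact.out : p.Prime).ne_one ha.symm
  obtain ⟨a, haQ, haq, haC⟩ := elt Q hqH hQs hKq
  obtain ⟨b, hbR, hbr, hbC⟩ := elt R hrH hRs hKr
  obtain ⟨θ, hθa, hθb⟩ := exists_irr_moved ((Nat.coprime_primes hr hq).mpr hqr.symm) K
    (hQR a haQ b hbR) haq hbr ⟨_, haC, hbC⟩
  have hKI := CT.le_inertia K (CT.isClassFunction_of_isIrr θ.2)
  obtain ⟨χ, hχ⟩ := CT.exists_irr_over K θ.2
  refine ⟨χ, ?_⟩
  show q * r ∣ CT.deg (χ : H → ℂ)
  rw [CT.clifford_mult K χ.2 θ.2 hχ]
  refine dvd_mul_of_dvd_left (dvd_mul_of_dvd_right ?_ _) _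
  exact ((Nat.coprime_primes hq hr).mpr hqr).mul_dvd_of_dvd_of_dvd
    (dvd_index K Q hgQ _ hKI haQ hθa) (dvd_index K R hgR _ hKI hbR hθb)

/-- The core, for an action which need not be faithful. -/
theorem core_app [Group.IsSolvable H] (α : H →* MulAut V) {s : ℕ} (hs : s.Prime)
    (hexp : ∀ v : V, v ^ s = 1) {q r : ℕ} (hq : q.Prime) (hr : r.Prime) (hqr : q ≠ r)
    (hqH : q ∣ Nat.card α.range) (hrH : r ∣ Nat.card α.range)
    (hpq : Pick q α) (hpr : Pick r α) :
    ∃ χ : IrrCharacter H, q * r ∣ charDegree (χ : H → ℂ) := by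
  haveI := Fact.mk hq
  haveI := Fact.mk hr
  set β : H ⧸ α.ker →* MulAut V := QuotientGroup.kerLift α with hβ
  have hβi : Function.Injective β := QuotientGroup.kerLift_injective α
  have hmap : ∀ {p : ℕ} [Fact p.Prime], Pick p α → Pick p β := by
    intro p _ hp v hv
    obtain ⟨P, hPs, hPn, hPc⟩ := hp v hv
    refine ⟨P.mapSurjective (QuotientGroup.mk'_surjective α.ker), ?_, ?_, ?_⟩
    · rintro _ ⟨a, ha, rfl⟩
      exact hPs ha
    · intro x hx
      obtain ⟨a, rfl⟩ := QuotientGroup.mk'_surjective α.ker x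
      exact le_normalizer_map _ (mem_map_of_mem _ (hPn (show α a v = v from hx)))
    · refine ⟨⟨?_⟩⟩
      rintro ⟨_, a, ha, rfl⟩ ⟨_, b, hb, rfl⟩
      refine Subtype.ext ?_
      show QuotientGroup.mk' α.ker a * QuotientGroup.mk' α.ker b =
        QuotientGroup.mk' α.ker b * QuotientGroup.mk' α.ker a
      rw [← map_mul, ← map_mul]
      exact congrArg _ (congrArg Subtype.val (hPc.1.comm (⟨a, ha⟩ : (P : Subgroup H)) ⟨b, hb⟩))
  have hcard : Nat.card (H ⧸ α.ker) = Nat.card α.range :=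
    Nat.card_congr (QuotientGroup.quotientKerEquivRange α).toEquiv
  obtain ⟨χ, hχ⟩ := core β hβi hs hexp hq hr hqr (hcard ▸ hqH) (hcard ▸ hrH) (hmap hpq) (hmap hpr)
  exact ⟨⟨fun g => (χ : H ⧸ α.ker → ℂ) (QuotientGroup.mk g), CT.isIrr_inflate α.ker χ.2 fun g => rfl⟩, hχ⟩

end Cfsg.Agent.CT.Palfy
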