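import Cfsg.Agent.Lib.CT.PalfyCore

/-! Adjacency of two primes from a module all of whose points have abelian normal Sylow subgroups. -/

set_option autoImplicit false

namespace Cfsg.Agent.CT.Palfy

open Subgroup Cfsg

universe u

variable {V : Type u} [CommGroup V] [Finite V] {H : Type u} [Group H] [Finite H]

/-- Every nonidentity point picks a Sylow subgroup, normal in its stabiliser and abelian. -/
def Pick (p : ℕ) (α : H →* MulAut V) : Prop :=
  ∀ v : V, v ≠ 1 → ∃ Q : Sylow p H, (Q : Subgroup H) ≤ stabv α v ∧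
    stabv α v ≤ normalizer ((Q : Subgroup H) : Set H) ∧ IsMulCommutative ↥(Q : Subgroup H)

theorem card_pick {p : ℕ} [Fact p.Prime] {α : H →* MulAut V} (h : Pick p α) (Q : Sylow p H) :
    Nat.card V - 1 = Nat.card (Sylow p H) * (Nat.card (fixs α (Q : Subgroup H)) - 1) := by
  have := card_count α ⊤ (fun _ _ _ => mem_top _)
    (fun v _ hv => (h v hv).imp fun Q hQ => ⟨hQ.1, hQ.2.1⟩) Q
  rwa [card_top, top_inf_eq] at this

omit [Finite V] in
theorem sylow_card_dvd {p : ℕ} [Fact p.Prime] (Q : Sylow p H) (K : Subgroup H) [K.Normal]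
    (hg : K ⊔ normalizer ((Q : Subgroup H) : Set H) = ⊤) : Nat.card (Sylow p H) ∣ Nat.card K := by
  have h := Basics.card_mul_card_eq_card_sup_mul_card_inf (N := K)
    (H := normalizer ((Q : Subgroup H) : Set H)) le_normalizer_of_normal
  rw [hg, card_top, ← Subgroup.index_mul_card (normalizer ((Q : Subgroup H) : Set H)),
    mul_comm (Nat.card K), mul_comm (normalizer ((Q : Subgroup H) : Set H)).index, mul_assoc] at h
  rw [Q.card_eq_index_normalizer]
  exact ⟨_, Nat.eq_of_mul_eq_mul_left Nat.card_pos h⟩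

/-- Some element of `K` leaves no proper subgroup invariant. -/
theorem exists_irreducible_elt (α : H →* MulAut V) (hinj : Function.Injective α) {s : ℕ} (hs : s.Prime)
    (hexp : ∀ v : V, v ^ s = 1) {q r : ℕ} [Fact q.Prime] [Fact r.Prime] (hqr : q ≠ r) (K : Subgroup H)
    [K.Normal] (hKq : ¬ q ∣ Nat.card K) (hKr : ¬ r ∣ Nat.card K) (hpq : Pick q α) (hpr : Pick r α)
    (Q : Sylow q H) (R : Sylow r H) (hgQ : K ⊔ normalizer ((Q : Subgroup H) : Set H) = ⊤)
    (hgR : K ⊔ normalizer ((R : Subgroup H) : Set H) = ⊤) (hQne : (Q : Subgroup H) ≠ ⊥)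
    (hRne : (R : Subgroup H) ≠ ⊥)
    (hQR : ∀ a ∈ (Q : Subgroup H), ∀ b ∈ (R : Subgroup H), a * b = b * a)
    {v0 : V} (hv0 : v0 ≠ 1) (hvQ : v0 ∈ fixs α (Q : Subgroup H)) (hvR : v0 ∈ fixs α (R : Subgroup H)) :
    ∃ y ∈ K, ∀ W : Subgroup V, (∀ w ∈ W, α y w ∈ W) → W = ⊥ ∨ W = ⊤ := by
  haveI := Fact.mk hs
  have hVp : IsPGroup s V := fun v => ⟨1, by rw [pow_one]; exact hexp v⟩
  obtain ⟨d, hd⟩ := hVp.exists_card_eq
  have hfixne : ∀ {p : ℕ} [Fact p.Prime] (P : Sylow p H), (P : Subgroup H) ≠ ⊥ →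
      fixs α (P : Subgroup H) ≠ ⊤ := by
    intro p _ P hP htop
    refine hP ((Subgroup.eq_bot_iff_forall _).mpr fun a ha => hinj (MulEquiv.ext fun v => ?_))
    rw [map_one, MulAut.one_apply]
    exact (htop ▸ mem_top v : v ∈ fixs α (P : Subgroup H)) a ha
  obtain ⟨c, hcd, hc⟩ := exists_card_pow hs hd (fixs α (Q : Subgroup H))
  have hc0 : c ≠ 0 := by
    rintro rfl
    rw [pow_zero, card_eq_one] at hc
    exact hv0 (mem_bot.mp (hc ▸ hvQ))
  have hcd' : c < d := by
    refine lt_of_le_of_ne hcd fun e => hfixne Q hQne (eq_top_of_card_eq _ ?_)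
    rw [hc, hd, e]
  have hcnt := card_pick hpq Q
  rw [hd, hc] at hcnt
  have hn : Nat.card (Sylow q H) ∣ Nat.card K := sylow_card_dvd Q K hgQ
  have elt : ∀ {p : ℕ} [Fact p.Prime] (P : Sylow p H), (P : Subgroup H) ≠ ⊥ →
      ∃ a ∈ (P : Subgroup H), a ^ p = 1 ∧ α a ≠ 1 := by
    intro p _ P hP
    obtain ⟨k, hk⟩ := IsPGroup.iff_card.mp P.2
    have hk0 : k ≠ 0 := fun h0 => hP (card_eq_one.mp (by rw [hk, h0, pow_zero]))
    obtain ⟨a, ha⟩ := exists_prime_orderOf_dvd_card' (G := ↥(P : Subgroup H)) p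
      (hk ▸ dvd_pow_self p hk0)
    refine ⟨a, a.2, ?_, fun h => ?_⟩
    · have e := pow_orderOf_eq_one a
      rw [ha] at e
      exact congrArg Subtype.val e
    have : (a : H) = 1 := hinj (h.trans (map_one α).symm)
    rw [← Subgroup.orderOf_coe, this, orderOf_one] at ha
    exact (Fact.out : p.Prime).ne_one ha.symm
  obtain ⟨a, haQ, haq, hane⟩ := elt Q hQne
  obtain ⟨b, hbR, hbr, hbne⟩ := elt R hRne
  by_cases h6 : s = 2 ∧ d = 6
  · exfalso
    obtain ⟨rfl, rfl⟩ := h6
    -- the possible primes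
    have hprimes : ∀ (p : ℕ), p.Prime → ∀ x : H, x ^ p = 1 → α x ≠ 1 → α x v0 = v0 →
        p = 2 ∨ p = 3 ∨ p = 5 ∨ p = 7 ∨ p = 31 := by
      intro p hp x hx hxne hxv
      obtain ⟨i, hi6, hi⟩ := exists_card_pow Nat.prime_two hd (fix1 α x)
      have hdv := prime_dvd_sub α hp hx (W := ⊤) (fun _ _ => mem_top _) (top_inf_eq _)
      rw [card_top, hd, hi] at hdv
      have hi0 : i ≠ 0 := by
        rintro rfl
        rw [pow_zero, card_eq_one] at hi
        exact hv0 (mem_bot.mp (hi ▸ (hxv : v0 ∈ fix1 α x)))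
      have hi6' : i ≠ 6 := by
        rintro rfl
        exact hxne (MulEquiv.ext fun v => (eq_top_of_card_eq _ (by rw [hi, hd]) ▸ mem_top v : v ∈ fix1 α x))
      have h1 : 2 ^ i < 2 ^ 6 := Nat.pow_lt_pow_right (by norm_num) (by omega)
      have h2 := Nat.one_le_two_pow (n := i)
      have hle : p < 64 := lt_of_le_of_lt (Nat.le_of_dvd (by omega) hdv) (by omega)
      have key : ∀ p ∈ Finset.range 64, ∀ i ∈ Finset.range 6, 1 ≤ i → p ∣ 2 ^ 6 - 2 ^ i →
          Nat.Prime p → p = 2 ∨ p = 3 ∨ p = 5 ∨ p = 7 ∨ p = 31 := by decide +kernel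
      exact key p (Finset.mem_range.mpr hle) i (Finset.mem_range.mpr (by omega)) (by omega) hdv hp
    have h3 : 3 ∣ Nat.card (Sylow q H) := by
      interval_cases c <;> norm_num at hcnt <;> omega
    have hq3 : q ≠ 3 := fun h => hKq (by rw [h]; exact h3.trans hn)
    have hr3 : r ≠ 3 := fun h => hKr (by rw [h]; exact h3.trans hn)
    have hq := hprimes q Fact.out a haq hane (hvQ a haQ)
    have hr := hprimes r Fact.out b hbr hbne (hvR b hbR)
    have hcntR : 2 ^ 6 - 1 = Nat.card (Sylow r H) * (Nat.card (fixs α (R : Subgroup H)) - 1) := by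
      rw [← card_pick hpr R, hd]
    have hnR := sylow_card_dvd R K hgR
    by_cases hr' : r = 5 ∨ r = 31
    · exact exists_irreducible_six α hinj hd K hr' hKr hbR hbr hbne hv0 (hvR b hbR) hnR hcntR
    by_cases hq' : q = 5 ∨ q = 31
    · refine exists_irreducible_six α hinj hd K hq' hKq haQ haq hane hv0 (hvQ a haQ) hn ?_
      rw [← card_pick hpq Q, hd]
    have hq2 : (q = 2 ∧ r = 7) ∨ (q = 7 ∧ r = 2) := by omega
    have hexp2 : ∀ v : V, v ^ 2 = 1 := hexp
    rcases hq2 with ⟨rfl, rfl⟩ | ⟨rfl, rfl⟩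
    · refine false_two_seven α hd hexp2 Q.2 (hfixne Q hQne) hbr hbne
        (fun x hx => hQR x hx b hbR) hv0 (hvR b hbR) hvQ (fun h => hKr (h.trans hn)) ?_
      rw [← card_pick hpq Q, hd]
    · exact false_two_seven α hd hexp2 R.2 (hfixne R hRne) haq hane
        (fun x hx => (hQR a haQ x hx).symm) hv0 (hvQ a haQ) hvR (fun h => hKq (h.trans hnR)) hcntR
  by_cases h2 : d = 2 ∧ ∃ m : ℕ, s + 1 = 2 ^ m
  · obtain ⟨rfl, m, hm⟩ := h2
    obtain rfl : c = 1 := by omega
    have hs3 : 3 ≤ s := by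
      rcases hs.eq_two_or_odd with rfl | h
      · exfalso
        rcases m with _ | _ | m <;> norm_num at hm
        have : 4 ≤ 2 ^ (m + 2) := by rw [pow_add]; have := Nat.one_le_two_pow (n := m); omega
        omega
      · have := hs.two_le; omega
    have hm2 : 2 ≤ m := by
      by_contra h
      interval_cases m <;> omega
    have hs4 : s % 4 = 3 := by
      obtain ⟨k, rfl⟩ : ∃ k, m = k + 2 := ⟨m - 2, by omega⟩
      rw [pow_add] at hm
      omega
    have hodd : ∀ v : V, v * v = 1 → v = 1 := by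
      intro v hv
      have h1 : orderOf v ∣ 2 := orderOf_dvd_of_pow_eq_one (by rw [pow_two]; exact hv)
      have h2 : orderOf v ∣ s := orderOf_dvd_of_pow_eq_one (hexp v)
      have h3 : Nat.Coprime 2 s := (Nat.coprime_primes Nat.prime_two hs).mpr (by omega)
      exact orderOf_eq_one_iff.mp (Nat.eq_one_of_dvd_coprimes h3 h1 h2)
    have hnq : Nat.card (Sylow q H) = s + 1 := by
      rw [pow_one] at hcnt
      have e : s ^ 2 - 1 = (s + 1) * (s - 1) := by
        rw [← one_pow 2, Nat.sq_sub_sq, one_pow]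
      rw [e] at hcnt
      exact (Nat.eq_of_mul_eq_mul_right (by omega) hcnt).symm
    by_contra hno
    push Not at hno
    -- every element of two-power order of `K` squares to the identity
    have hsq : ∀ y ∈ K, (∃ j, y ^ 2 ^ j = 1) → y * y = 1 := by
      rintro y hy ⟨j, hj⟩
      obtain ⟨W, hW, hWb, hWt⟩ := hno y hy
      obtain ⟨i, hi, hWc⟩ := exists_card_pow hs hd W
      have hi1 : i = 1 := by
        have h0 : i ≠ 0 := fun e => hWb (card_eq_one.mp (by rw [hWc, e, pow_zero]))
        have h2' : i ≠ 2 := fun e => hWt (eq_top_of_card_eq _ (by rw [hWc, e, hd]))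
        omega
      subst hi1
      rw [pow_one] at hWc
      have hWy : W.map (α y).toMonoidHom = W :=
        eq_of_le_of_card_ge (map_le_iff_le_comap.mpr hW) (card_map_of_injective (α y).injective).ge
      let β : MulAut W := ((α y).subgroupMap W).trans (MulEquiv.subgroupCongr hWy)
      have hβ : ∀ w : W, ((β w : W) : V) = α y (w : V) := fun w => rfl
      have hβk : ∀ (k : ℕ) (w : W), (((β ^ k) w : W) : V) = α (y ^ k) (w : V) := by
        intro k
        induction k with
        | zero => intro w; simp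
        | succ k ih =>
          intro w
          rw [pow_succ, MulAut.mul_apply, ih, hβ, pow_succ, map_mul, MulAut.mul_apply]
      have hβ1 : β ^ 2 ^ j = 1 := MulEquiv.ext fun w => Subtype.ext (by rw [hβk, hj]; simp)
      have hW2 : ∀ w ∈ W, α y (α y w) = w := fun w hw => by
        have h := congrArg Subtype.val (sq_eq_one_of_card_prime hs hs4 hWc β hβ1 ⟨w, hw⟩)
        rwa [hβ, hβ] at h
      -- the quotient
      let γ : MulAut (V ⧸ W) := QuotientGroup.congr W W (α y) hWy
      have hγ : ∀ v : V, γ (QuotientGroup.mk v) = QuotientGroup.mk (α y v) := fun v => rfl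
      have hγk : ∀ (k : ℕ) (v : V), (γ ^ k) (QuotientGroup.mk v) = QuotientGroup.mk (α (y ^ k) v) := by
        intro k
        induction k with
        | zero => intro v; simp
        | succ k ih =>
          intro v
          rw [pow_succ, MulAut.mul_apply, hγ, ih, pow_succ, map_mul, MulAut.mul_apply]
      have hγ1 : γ ^ 2 ^ j = 1 := MulEquiv.ext fun x => by
        obtain ⟨v, rfl⟩ := QuotientGroup.mk_surjective x
        rw [hγk, hj]; simp
      have hQc : Nat.card (V ⧸ W) = s := by
        have h := W.index_mul_card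
        rw [Subgroup.index_eq_card, hWc, hd, pow_two] at h
        exact Nat.eq_of_mul_eq_mul_right hs.pos h
      refine hinj (MulEquiv.ext fun v => ?_)
      rw [map_one, MulAut.one_apply, map_mul, MulAut.mul_apply]
      have h := sq_eq_one_of_card_prime hs hs4 hQc γ hγ1 (QuotientGroup.mk v)
      rw [hγ, hγ, QuotientGroup.eq] at h
      set u := α y (α y v) with hu
      set w := u⁻¹ * v with hw
      have hit : ∀ k : ℕ, α ((y * y) ^ k) v = v * (w ^ k)⁻¹ := by
        intro k
        induction k with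
        | zero => simp
        | succ k ih =>
          rw [pow_succ', map_mul, MulAut.mul_apply, ih, map_mul, map_inv, map_pow, map_mul,
            MulAut.mul_apply, MulAut.mul_apply, ← hu, hW2 w h, pow_succ', mul_inv_rev]
          rw [show u = v * w⁻¹ by rw [hw, mul_inv_rev, inv_inv, mul_inv_cancel_left]]
          simp only [mul_assoc, mul_comm, mul_left_comm]
      have h1 := hit (2 ^ j)
      rw [← pow_two, ← pow_mul, mul_comm, pow_mul, hj, one_pow, map_one, MulAut.one_apply,
        left_eq_mul, inv_eq_one] at h1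
      have h2 : orderOf w ∣ 2 ^ j := orderOf_dvd_of_pow_eq_one h1
      have h3 : orderOf w ∣ s := orderOf_dvd_of_pow_eq_one (hexp w)
      have h4 : Nat.Coprime (2 ^ j) s :=
        Nat.Coprime.pow_left j ((Nat.coprime_primes Nat.prime_two hs).mpr (by omega))
      exact inv_mul_eq_one.mp (orderOf_eq_one_iff.mp (Nat.eq_one_of_dvd_coprimes h4 h2 h3))
    haveI : Fact (Nat.Prime 2) := ⟨Nat.prime_two⟩
    let E := (default : Sylow 2 K)
    have hE2 : ∀ x ∈ (E : Subgroup K).map K.subtype, x * x = 1 := by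
      rintro _ ⟨x, hx, rfl⟩
      obtain ⟨j, hj⟩ := E.2 ⟨x, hx⟩
      exact hsq x x.2 ⟨j, congrArg (fun z : K => (z : H)) (congrArg Subtype.val hj :)⟩
    have hle := card_le_four α hinj hs hodd hd _ hE2
    rw [card_map_of_injective K.subtype_injective] at hle
    have hdvd : 2 ^ m ∣ Nat.card ↥(E : Subgroup K) :=
      E.pow_dvd_card_of_pow_dvd_card (hm ▸ hnq ▸ hn)
    have hm2' : m = 2 := by
      have h := (Nat.le_of_dvd Nat.card_pos hdvd).trans hle
      rw [show (4 : ℕ) = 2 ^ 2 by norm_num, Nat.pow_le_pow_iff_right (by norm_num)] at h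
      omega
    subst hm2'
    obtain rfl : s = 3 := by omega
    -- the prime of `q` and `r` would be three
    have hthree : ∀ (p : ℕ), p.Prime → p ≠ 2 → ∀ x : H, x ^ p = 1 → α x ≠ 1 → α x v0 = v0 → p = 3 := by
      intro p hp hp2 x hx hxne hxv
      obtain ⟨i, hi2, hi⟩ := exists_card_pow hs hd (fix1 α x)
      have hdv := prime_dvd_sub α hp hx (W := ⊤) (fun _ _ => mem_top _) (top_inf_eq _)
      rw [card_top, hd, hi] at hdv
      have hi0 : i ≠ 0 := by
        rintro rfl
        rw [pow_zero, card_eq_one] at hi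
        exact hv0 (mem_bot.mp (hi ▸ (hxv : v0 ∈ fix1 α x)))
      have hi2' : i ≠ 2 := by
        rintro rfl
        exact hxne (MulEquiv.ext fun v => (eq_top_of_card_eq _ (by rw [hi, hd]) ▸ mem_top v : v ∈ fix1 α x))
      obtain rfl : i = 1 := by omega
      have hle : p ≤ 6 := Nat.le_of_dvd (by norm_num) hdv
      norm_num at hdv
      interval_cases p <;> first | omega | (norm_num at hp)
    have h2K : 2 ∣ Nat.card K := (show 2 ∣ Nat.card (Sylow q H) by rw [hnq]; norm_num).trans hn
    exact hqr ((hthree q Fact.out (fun h => hKq (h ▸ h2K)) a haq hane (hvQ a haQ)).trans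
      (hthree r Fact.out (fun h => hKr (h ▸ h2K)) b hbr hbne (hvR b hbR)).symm)
  -- a primitive prime divisor
  obtain ⟨ℓ, hℓ, hℓd, hprim⟩ := Recog.Zsig.exists_primitive_prime s d hs.one_lt (by omega) h6 h2
  have hℓn : ℓ ∣ Nat.card (Sylow q H) := by
    rcases hℓ.dvd_mul.mp (hcnt ▸ hℓd) with h | h
    · exact h
    · exact absurd h (hprim c (by omega) hcd')
  haveI := Fact.mk hℓ
  obtain ⟨y, hy⟩ := exists_prime_orderOf_dvd_card' (G := K) ℓ (hℓn.trans hn)
  refine ⟨y, y.2, irreducible_of_primitive hs hd hℓ hℓd hprim ?_ ?_⟩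
  · rw [← SubmonoidClass.coe_pow, ← hy, pow_orderOf_eq_one]; rfl
  · intro h
    have : (y : H) = 1 := hinj (h.trans (map_one α).symm)
    rw [← Subgroup.orderOf_coe, this, orderOf_one] at hy
    exact hℓ.ne_one hy.symm

end Cfsg.Agent.CT.Palfy
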