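import Cfsg.Agent.Lib.CT.PalfyCaseB

/-! Pálfy's condition: one prime acts on the commutator subgroup, the other does not. -/

set_option autoImplicit false

namespace Cfsg.Agent.CT.Palfy

open Subgroup Cfsg

universe u

/-- The two counts are incompatible. -/
theorem count_false {p d d' c e n : ℕ} (hp : p.Prime) (hd : 0 < d) (hdd : d < d') (hc : c < d)
    (he : e ≤ d') (h1 : p ^ d - 1 = n * (p ^ c - 1)) (h2 : p ^ d' - 1 = n * (p ^ e - 1)) : False := by
  have hp1 := hp.one_lt
  have hpd : 1 < p ^ d := Nat.one_lt_pow hd.ne' hp1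
  have hpd' : 1 < p ^ d' := Nat.one_lt_pow (by omega) hp1
  have hc0 : c ≠ 0 := by
    rintro rfl
    simp at h1
    omega
  have he0 : e ≠ 0 := by
    rintro rfl
    simp at h2
    omega
  have hed : e ≠ d' := by
    rintro rfl
    have hn : n = 1 := Nat.eq_of_mul_eq_mul_right (show 0 < p ^ e - 1 by omega)
      (by rw [one_mul]; exact h2.symm)
    rw [hn, one_mul] at h1
    have := Nat.pow_lt_pow_right hp1 hc
    have := Nat.one_le_pow c p hp.pos
    omega
  by_cases h6 : p = 2 ∧ d' = 6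
  · obtain ⟨rfl, rfl⟩ := h6
    have hn : n ∣ 2 ^ d - 1 := h1 ▸ dvd_mul_right _ _
    have he' : e < 6 := by omega
    have hn' : n = 63 ∨ n = 21 ∨ n = 9 := by interval_cases e <;> omega
    rcases hn' with rfl | rfl | rfl <;> interval_cases d <;> norm_num at hn
  obtain ⟨ℓ, hℓ, hℓd, hprim⟩ := Recog.Zsig.exists_primitive_prime p d' hp1 (by omega) h6
    (fun h => by obtain ⟨rfl, -⟩ := h; omega)
  rw [h2] at hℓd
  rcases hℓ.dvd_mul.mp hℓd with h | h
  · exact hprim d hd hdd (h1 ▸ h.mul_right _)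
  · exact hprim e (by omega) (by omega) h

variable {G : Type u} [Group G] [Finite G] {p : ℕ} {P : Sylow p G} [(P : Subgroup G).Normal]
  {M L : Subgroup G} [M.Normal]

local notation "N" => (P : Subgroup G)
set_option quotPrecheck false in
local notation "D" => (Abelianization ↥(P : Subgroup G) →* ℂˣ)

namespace Setup

variable (S : Setup P M L)

include S

/-- The radical of a nontrivial character is centralised by a prime fixing `M`. -/
theorem rad_centralized [Group.IsSolvable G] {q : ℕ} [Fact q.Prime] (hne : p ≠ q) (npq : NAdj G p q)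
    (Q : Sylow q L) (hQn : (Q : Subgroup L).Normal)
    (hQM : ∀ a ∈ (Q : Subgroup L), ∀ m : M, (a : G) * m * (a : G)⁻¹ = m) {v : M →* ℂˣ} (hv : v ≠ 1)
    {z : N} (hz : z ∈ rad S.hc S.central v) {b : L} (hb : b ∈ (Q : Subgroup L)) :
    (b : G) * z * (b : G)⁻¹ = z := by
  classical
  haveI := Fintype.ofFinite G
  haveI := Fintype.ofFinite N
  haveI := Fact.mk S.prime
  obtain ⟨θ, hθ, hp, hres, hnz⟩ := S.exists_over_stab hv
  set w : N := (MulAut.conjNormal (b : G) : MulAut N) z * z⁻¹ with hw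
  have hwc : (w : G) = (b : G) * z * (b : G)⁻¹ * (z : G)⁻¹ := by simp [hw]
  by_cases hwM : (w : G) ∈ M
  · have h1 := coprime_fix (x := (z : G)) (m := (w : G)) (k := 1) (by rw [pow_one]; exact S.exp _ hwM)
      (S.coprime_order b) (hQM b hb ⟨_, hwM⟩) (by rw [hwc, inv_mul_cancel_right])
    rw [hwc, mul_inv_eq_one] at h1
    exact h1
  exfalso
  have hw1 : Abelianization.of w ≠ 1 := fun h => hwM ((S.mem_commutator_iff w).mp (by
    rw [← Abelianization.ker_of]; exact h))
  obtain ⟨d, hd⟩ := CommGroup.exists_apply_ne_one_of_hasEnoughRootsOfUnity (Abelianization N) ℂ hw1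
  let θ' : IrrCharacter N := ⟨fun x => ((d.comp Abelianization.of) x : ℂ) * (θ : N → ℂ) x,
    Garrison.isIrr_lin_mul _ θ.2⟩
  have h1' : (θ' : N → ℂ) 1 = (θ : N → ℂ) 1 := by simp [θ']
  have hres' : ∀ m : M, (θ' : N → ℂ) ⟨m, S.le m.2⟩ = (θ' : N → ℂ) 1 * (v m : ℂ) := fun m => by
    rw [h1', ← hres]
    show ((d (Abelianization.of (⟨m, S.le m.2⟩ : N)) : ℂˣ) : ℂ) * _ = _
    rw [show Abelianization.of (⟨m, S.le m.2⟩ : N) = 1 from (Abelianization.ker_of N).ge
      ((S.mem_commutator_iff _).mpr m.2), map_one, Units.val_one, one_mul]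
  have hbθ' : (b : G) ∉ CT.inertia N (θ' : N → ℂ) := by
    intro hin
    have e := (CT.mem_inertia_iff N).mp hin z
    have hbθ : (b : G) ∈ CT.inertia N (θ : N → ℂ) := by
      have : b ∈ stabv (dualAct (fM M L)) v := by
        rw [S.stab_eq, mem_subgroupOf, CT.mem_inertia_iff]
        intro m
        exact congrArg (fun u => (v u : ℂ)) (Subtype.ext (hQM b hb m))
      rw [hθ] at this
      exact this
    have e2 := (CT.mem_inertia_iff N).mp hbθ z
    set z' : N := ⟨(b : G) * z * (b : G)⁻¹, Normal.conj_mem inferInstance (z : G) z.2 (b : G)⟩ with hz'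
    change ((d.comp Abelianization.of) z' : ℂ) * (θ : N → ℂ) z' =
      ((d.comp Abelianization.of) z : ℂ) * (θ : N → ℂ) z at e
    rw [e2] at e
    refine hd ?_
    have e3 : (d.comp Abelianization.of) z' = (d.comp Abelianization.of) z :=
      Units.ext (mul_right_cancel₀ (hnz z hz) e)
    rw [show w = z' * z⁻¹ from Subtype.ext (by simp [hwc, hz']), ← MonoidHom.comp_apply, map_mul, e3,
      map_inv, mul_inv_cancel]
  obtain ⟨χ, hχ⟩ := CT.exists_irr_over N θ'.2
  refine npq.not_dvd S.prime Fact.out hne χ ?_ ?_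
  · show p ∣ CT.deg (χ : G → ℂ)
    rw [CT.clifford_mult N χ.2 θ'.2 hχ]
    refine dvd_mul_of_dvd_right ?_ _
    have e : CT.deg (θ' : N → ℂ) = CT.deg (θ : N → ℂ) := by
      have h1 := CT.deg_eq (CT.isCharacter_of_isIrr θ'.2)
      rw [h1', CT.deg_eq (CT.isCharacter_of_isIrr θ.2)] at h1
      exact_mod_cast h1.symm
    rw [e]; exact hp
  · show q ∣ CT.deg (χ : G → ℂ)
    rw [CT.clifford_mult N χ.2 θ'.2 hχ, inertia_index S.compl θ']
    exact dvd_mul_of_dvd_left (dvd_mul_of_dvd_right
      (S.dvd_index_of_moved Q hQn _ fun h => hbθ' (h hb)) _) _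

/-- The mixed case. -/
theorem mixed [Group.IsSolvable G] {q r : ℕ} (hq : q.Prime) (hr : r.Prime) (hpq : p ≠ q) (hpr : p ≠ r)
    (hqr : q ≠ r) (hqd : InRho G q) (npq : NAdj G p q) (npr : NAdj G p r) (nqr : NAdj G q r)
    (hnq : ¬ q ∣ Nat.card (dualAct (fM M L)).range) (hyr : r ∣ Nat.card (dualAct (fM M L)).range) :
    False := by
  classical
  haveI := Fact.mk hq
  haveI := Fact.mk hr
  haveI := Fact.mk S.prime
  haveI := Fintype.ofFinite G
  obtain ⟨Q, hQn, hQc, -, hQM⟩ := S.sylow_trivial hpq npq hnq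
  haveI := hQn
  haveI := S.fin_D.1
  haveI := S.fin_dual.1
  haveI := Fintype.ofFinite (Q : Subgroup L)
  set A := Abelianization N with hA
  set β := dualAct (fA P L) with hβ
  have hDp : IsPGroup p D := by
    obtain ⟨k, hk⟩ := IsPGroup.iff_card.mp (P.2.of_surjective _ (QuotientGroup.mk'_surjective
      (commutator N)))
    exact IsPGroup.of_card (n := k) (by rw [S.fin_D.2]; exact hk)
  -- the commutator part of the linear characters
  set e : D →* D := ∏ a : (Q : Subgroup L), (β (a : L)).toMonoidHom with he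
  have heval : ∀ d, e d = ∏ a : (Q : Subgroup L), β (a : L) d := fun d => by
    rw [he, MonoidHom.finsetProd_apply]; rfl
  set U := e.ker with hU
  set F := fixs β (Q : Subgroup L) with hF
  have hrange : e.range ≤ F := by
    rintro _ ⟨d, rfl⟩ b hb
    rw [heval, map_prod]
    refine Fintype.prod_equiv (Equiv.mulLeft (⟨b, hb⟩ : (Q : Subgroup L))) _ _ fun a => ?_
    show β b (β (a : L) d) = β (b * (a : L)) d
    rw [map_mul]; rfl
  have hUinv : ∀ h : L, ∀ u ∈ U, β h u ∈ U := by
    intro h u hu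
    have hu' : e u = 1 := hu
    show e (β h u) = 1
    rw [← map_one (β h), ← hu', heval, heval, map_prod]
    refine Fintype.prod_equiv (Equiv.ofBijective
      (fun a : (Q : Subgroup L) => (⟨h⁻¹ * a * h, by simpa using hQn.conj_mem a a.2 h⁻¹⟩ :
        (Q : Subgroup L))) (Finite.injective_iff_bijective.mp fun a b hab => by
          simpa using congrArg Subtype.val hab)) _ _ fun a => ?_
    show β (a : L) (β h u) = β h (β (h⁻¹ * a * h) u)
    rw [← MulAut.mul_apply, ← map_mul, ← MulAut.mul_apply, ← map_mul]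
    congr 2; group
  have hUfix : ∀ u ∈ U, u ∈ F → u = 1 := by
    intro u hu huF
    have hu' : e u = 1 := hu
    rw [heval, Finset.prod_congr rfl (g := fun _ => u) fun (a : (Q : Subgroup L)) _ => huF (a : L) a.2, Finset.prod_const,
      Finset.card_univ, ← Nat.card_eq_fintype_card] at hu'
    obtain ⟨k, hk⟩ := hDp u
    refine orderOf_eq_one_iff.mp (Nat.eq_one_of_dvd_coprimes ?_ (orderOf_dvd_of_pow_eq_one hu')
      (orderOf_dvd_of_pow_eq_one hk))
    exact (S.coprime_L.coprime_dvd_left (card_subgroup_dvd_card _)).pow_right k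
  have hDle : Nat.card D ≤ Nat.card U * Nat.card F := by
    rw [← Subgroup.index_mul_card U, hU, index_ker, mul_comm]
    exact Nat.mul_le_mul_left _ (card_le_of_le hrange)
  -- an element moved by `Q`
  obtain ⟨a, haQ, x, hax⟩ : ∃ a ∈ (Q : Subgroup L), ∃ x : N, (a : G) * x * (a : G)⁻¹ ≠ x := by
    by_contra hno
    push Not at hno
    exact S.not_rho_of_centralizes hpq Q hQn hQc hno hqd
  set C : Subgroup N := (centralizer (((Q : Subgroup L).map L.subtype : Subgroup G) : Set G)).subgroupOf N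
    with hC
  have hCmem : ∀ n : N, n ∈ C ↔ ∀ b ∈ (Q : Subgroup L), (b : G) * n * (b : G)⁻¹ = n := by
    intro n
    rw [hC, mem_subgroupOf, mem_centralizer_iff]
    constructor
    · intro h b hb
      rw [mul_inv_eq_iff_eq_mul]
      exact h b (mem_map_of_mem _ hb)
    · rintro h _ ⟨b, hb, rfl⟩
      exact mul_inv_eq_iff_eq_mul.mp (h b hb)
  have hMC : ∀ n : N, (n : G) ∈ M → n ∈ C := fun n hn => (hCmem n).mpr fun b hb => hQM b hb ⟨n, hn⟩
  set a' : N → N := fun n => (MulAut.conjNormal (a : G) : MulAut N) n with ha'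
  set w : N := a' x * x⁻¹ with hw
  have hwC : w ∉ C := by
    intro hwC
    obtain ⟨k, hk⟩ := S.pow_N w
    have hwc : (w : G) = (a : G) * x * (a : G)⁻¹ * (x : G)⁻¹ := by simp [hw, ha']
    have h1 := coprime_fix (x := (x : G)) hk (S.coprime_order a) ((hCmem w).mp hwC a haQ)
      (by rw [hwc, inv_mul_cancel_right])
    rw [hwc, mul_inv_eq_one] at h1
    exact hax h1
  -- the commutator map of `w` is onto
  let φ : N →* M := MonoidHom.mk' (com N M S.hc w) (com_mul_right S.hc S.central w)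
  have honto : φ.range = ⊤ := by
    by_contra hne
    letI : CommGroup M := { (inferInstance : Group M) with mul_comm := S.ab }
    obtain ⟨m, hm⟩ : ∃ m, m ∉ φ.range := by
      by_contra hh
      push Not at hh
      exact hne ((eq_top_iff' _).mpr hh)
    obtain ⟨μ0, hμ0⟩ := CommGroup.exists_apply_ne_one_of_hasEnoughRootsOfUnity (M ⧸ φ.range) ℂ
      (a := QuotientGroup.mk m) (by rwa [Ne, QuotientGroup.eq_one_iff])
    set μ : M →* ℂˣ := μ0.comp (QuotientGroup.mk' φ.range) with hμ
    have hμ1 : μ ≠ 1 := fun h => hμ0 (DFunLike.congr_fun h m)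
    have hrad : w ∈ rad S.hc S.central μ := fun y => by
      show μ0 (QuotientGroup.mk (φ y)) = 1
      rw [(QuotientGroup.eq_one_iff _).mpr (MonoidHom.mem_range.mpr ⟨y, rfl⟩), map_one]
    exact hwC ((hCmem w).mpr fun b hb => S.rad_centralized hpq npq Q hQn hQM hμ1 hrad hb)
  have hCk : ∀ n ∈ C, n ∈ φ.ker := by
    intro n hn
    have hn' := (hCmem n).mp hn a haQ
    show com N M S.hc w n = 1
    rw [hw, com_mul_left S.hc S.central]
    have h1 : com N M S.hc (a' x) n = com N M S.hc x n := by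
      refine Subtype.ext ?_
      show (a' x : G) * n * (a' x : G)⁻¹ * (n : G)⁻¹ = (x : G) * n * (x : G)⁻¹ * (n : G)⁻¹
      have hfix : (a : G) * ((x : G) * n * (x : G)⁻¹ * (n : G)⁻¹) * (a : G)⁻¹ =
          (x : G) * n * (x : G)⁻¹ * (n : G)⁻¹ := hQM a haQ (com N M S.hc x n)
      rw [← hfix, show (a' x : G) = (a : G) * x * (a : G)⁻¹ by simp [ha']]
      conv_lhs => rw [← hn']
      group
    have h2 := com_mul_left S.hc S.central x x⁻¹ n
    rw [mul_inv_cancel, com_one_left S.hc S.central] at h2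
    rw [h1, ← h2]
  have hwk : w ∈ φ.ker := by
    show com N M S.hc w w = 1
    exact Subtype.ext (by simp [com])
  have hlt : Nat.card C < Nat.card φ.ker := by
    refine lt_of_le_of_ne (card_le_of_le hCk) fun e => hwC ?_
    rw [eq_of_le_of_card_ge hCk e.ge]
    exact hwk
  have hNk : Nat.card φ.ker * Nat.card M = Nat.card N := by
    rw [← φ.ker.card_mul_index, index_ker, honto, card_top]
  -- fixed linear characters
  set ψ : C →* A := Abelianization.of.comp C.subtype with hψ
  have hψk : Nat.card ψ.ker = Nat.card M := by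
    refine Nat.card_congr
      { toFun := fun c => ⟨((c : C) : N), (S.mem_commutator_iff ((c : C) : N)).mp (by
          rw [← Abelianization.ker_of]; exact c.2)⟩
        invFun := fun m => ⟨⟨⟨m, S.le m.2⟩, hMC _ m.2⟩, (Abelianization.ker_of N).ge
          ((S.mem_commutator_iff _).mpr m.2)⟩
        left_inv := fun c => rfl
        right_inv := fun m => rfl }
  have hF' : Nat.card F ≤ Nat.card ψ.range := by
    have hV := CommGroup.card_monoidHom_of_hasEnoughRootsOfUnity ψ.range ℂ
    haveI : Finite (ψ.range →* ℂˣ) := Nat.finite_of_card_ne_zero (by rw [hV]; exact Nat.card_pos.ne')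
    rw [← hV]
    let res : F →* (ψ.range →* ℂˣ) :=
      { toFun := fun d => (d : D).comp ψ.range.subtype
        map_one' := rfl
        map_mul' := fun a b => rfl }
    refine Nat.card_le_card_of_injective res ((injective_iff_map_eq_one res).mpr fun d hd => ?_)
    refine Subtype.ext (MonoidHom.ext fun y => ?_)
    obtain ⟨n, rfl⟩ : ∃ n, Abelianization.of n = y := QuotientGroup.mk_surjective y
    set Y : A := ∏ b : (Q : Subgroup L), fA P L (b : L) (Abelianization.of n) with hY
    have hterm : ∀ b : (Q : Subgroup L), (d : D) (fA P L (b : L) (Abelianization.of n)) =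
        (d : D) (Abelianization.of n) := fun b => by
      have h := DFunLike.congr_fun (d.2 _ ((Q : Subgroup L).inv_mem b.2)) (Abelianization.of n)
      rwa [hβ, dualAct_apply, inv_inv] at h
    have hYfix : ∀ b ∈ (Q : Subgroup L), fA P L b Y = Y := fun b hb => by
      rw [hY, map_prod]
      refine Fintype.prod_equiv (Equiv.mulLeft (⟨b, hb⟩ : (Q : Subgroup L))) _ _ fun c => ?_
      show fA P L b (fA P L (c : L) _) = fA P L (b * (c : L)) _
      rw [map_mul]; rfl
    obtain ⟨y, hy⟩ : ∃ y, Abelianization.of y = Y := QuotientGroup.mk_surjective Y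
    have hyC : y ∈ C := (hCmem y).mpr fun b hb => by
      have h := hYfix b hb
      rw [← hy, fA_of] at h
      have h3 : (MulAut.conjNormal (b : G) : MulAut N) y * y⁻¹ ∈ commutator N := by
        rw [← Abelianization.ker_of, MonoidHom.mem_ker, map_mul, map_inv, h, mul_inv_cancel]
      rw [S.mem_commutator_iff, Subgroup.coe_mul, MulAut.conjNormal_apply] at h3
      exact mul_inv_eq_one.mp (coprime_fix (x := (y : G)) (k := 1) (by rw [pow_one]; exact S.exp _ h3)
        (S.coprime_order b) (hQM b hb ⟨_, h3⟩) (inv_mul_cancel_right _ _).symm)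
    have h1 : (d : D) Y = 1 := by
      have := DFunLike.congr_fun hd ⟨Y, ⟨⟨y, hyC⟩, hy⟩⟩
      exact this
    rw [hY, map_prod, Finset.prod_congr rfl (g := fun _ => (d : D) (Abelianization.of n))
      fun b _ => hterm b, Finset.prod_const, Finset.card_univ, ← Nat.card_eq_fintype_card] at h1
    obtain ⟨k, hk⟩ := hDp (d : D)
    have h2 : (d : D) (Abelianization.of n) ^ p ^ k = 1 := by
      rw [← MonoidHom.pow_apply, hk]; rfl
    exact orderOf_eq_one_iff.mp (Nat.eq_one_of_dvd_coprimes
      ((S.coprime_L.coprime_dvd_left (card_subgroup_dvd_card _)).pow_right k)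
      (orderOf_dvd_of_pow_eq_one h1) (orderOf_dvd_of_pow_eq_one h2))
  have hbig : Nat.card M < Nat.card U := by
    have h1 : Nat.card C = Nat.card ψ.range * Nat.card M := by
      rw [← ψ.ker.card_mul_index, index_ker, hψk, mul_comm]
    have h2 := S.card_A
    have h3 : Nat.card C * Nat.card M < Nat.card A * Nat.card M := by
      rw [h2, ← hNk]; exact Nat.mul_lt_mul_of_pos_right hlt Nat.card_pos
    have h4 : Nat.card F * Nat.card M < Nat.card U * Nat.card F := by
      refine lt_of_le_of_lt ?_ ((Nat.lt_of_mul_lt_mul_right h3).trans_le (S.fin_D.2 ▸ hDle))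
      rw [h1]
      exact Nat.mul_le_mul_right _ hF'
    rw [mul_comm] at h4
    exact Nat.lt_of_mul_lt_mul_right h4
  -- picks on `U`
  have hpU : ∀ u ∈ U, u ≠ 1 → ∃ R : Sylow r L, (R : Subgroup L) ≤ stabv β u ∧
      stabv β u ≤ normalizer ((R : Subgroup L) : Set L) := by
    intro u hu hu1
    have hq' : q ∣ (stabv β u).index :=
      S.dvd_index_of_moved Q hQn _ fun h => hu1 (hUfix u hu (le_stabv_iff.mp h))
    have key : ∀ φ : IrrCharacter ↥(stabv β u),
        ¬ r ∣ (stabv β u).index * charDegree (φ : ↥(stabv β u) → ℂ) := fun φ hd => by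
      obtain ⟨χ, hχ⟩ := S.degree_D u φ
      exact nqr.not_dvd hq hr hqr χ (hχ ▸ dvd_mul_of_dvd_left hq' _) (hχ ▸ hd)
    obtain ⟨R, h1, h2, -⟩ := pick_of (stabv β u) (fun hd => key (CT.trivIrr _) (dvd_mul_of_dvd_left hd _))
      fun φ hd => key φ (dvd_mul_of_dvd_right hd _)
    exact ⟨R, h1, h2⟩
  obtain ⟨R0⟩ : Nonempty (Sylow r L) := inferInstance
  have hcU := card_count β U hUinv hpU R0
  have hcV := card_pick (V := M →* ℂˣ) (S.pick hr hpr npr) R0
  obtain ⟨d, hd⟩ : ∃ d, Nat.card (M →* ℂˣ) = p ^ d := by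
    obtain ⟨k, hk⟩ := IsPGroup.iff_card.mp (P.2.to_le S.le)
    exact ⟨k, by rw [S.fin_dual.2, hk]⟩
  obtain ⟨d', hd'⟩ := IsPGroup.iff_card.mp (hDp.to_subgroup U)
  obtain ⟨c, hcd, hc⟩ := (Nat.dvd_prime_pow S.prime).mp
    (hd ▸ card_subgroup_dvd_card (fixs (dualAct (fM M L)) (R0 : Subgroup L)))
  obtain ⟨e', hed, he'⟩ := (Nat.dvd_prime_pow S.prime).mp
    (hd' ▸ card_dvd_of_le (inf_le_left : U ⊓ fixs β (R0 : Subgroup L) ≤ U))
  rw [hd, hc] at hcV
  rw [hd', he'] at hcU
  have hd0 : 0 < d := Nat.pos_of_ne_zero fun h0 => by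
    have : Nat.card M = 1 := by rw [← S.fin_dual.2, hd, h0, pow_zero]
    exact S.ne_bot (card_eq_one.mp this)
  refine count_false S.prime hd0 ?_ (lt_of_le_of_ne hcd fun h => ?_) hed hcV hcU
  · rw [← S.fin_dual.2, hd, hd'] at hbig
    exact (Nat.pow_lt_pow_iff_right S.prime.one_lt).mp hbig
  · have htop := eq_top_of_card_eq (fixs (dualAct (fM M L)) (R0 : Subgroup L)) (by rw [hc, hd, h])
    have hker : (R0 : Subgroup L) ≤ (dualAct (fM M L)).ker := fun b hb => MulEquiv.ext fun v =>
      (htop ▸ mem_top v : v ∈ fixs (dualAct (fM M L)) (R0 : Subgroup L)) b hb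
    rw [← index_ker] at hyr
    exact R0.not_dvd_index (hyr.trans (index_dvd_of_le hker))

/-- The case of a normal nonabelian Sylow subgroup. -/
theorem caseB [Group.IsSolvable G] {q r : ℕ} (hq : q.Prime) (hr : r.Prime) (hpq : p ≠ q) (hpr : p ≠ r)
    (hqr : q ≠ r) (hqd : InRho G q) (hrd : InRho G r) (npq : NAdj G p q) (npr : NAdj G p r)
    (nqr : NAdj G q r) : False := by
  haveI := S.fin_dual.1
  by_cases h1 : q ∣ Nat.card (dualAct (fM M L)).range
  · by_cases h2 : r ∣ Nat.card (dualAct (fM M L)).range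
    · obtain ⟨φ, hφ⟩ := core_app (V := M →* ℂˣ) (dualAct (fM M L)) S.prime S.dual_exp hq hr hqr h1 h2
        (S.pick hq hpq npq) (S.pick hr hpr npr)
      obtain ⟨χ, hχ⟩ := lift_degree S.compl φ
      exact nqr χ (hχ ▸ hφ)
    · exact S.mixed hr hq hpr hpq hqr.symm hrd npr npq nqr.symm h2 h1
  · by_cases h2 : r ∣ Nat.card (dualAct (fM M L)).range
    · exact S.mixed hq hr hpq hpr hqr hqd npq npr nqr h1 h2
    · exact S.both_trivial hq hr hpq hpr hqr hqd hrd npq npr nqr h1 h2

end Setup

end Cfsg.Agent.CT.Palfy
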