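import Cfsg.Agent.Lib.CT.PalfyCaseA

/-! Characters of a normal `p`-subgroup over a central commutator. -/

set_option autoImplicit false

namespace Cfsg.Agent.CT.Palfy

open Subgroup Cfsg

universe u

variable {G : Type u} [Group G] [Finite G]

/-- An element of coprime order which multiplies by a fixed factor fixes. -/
theorem coprime_fix {a x m : G} {p k : ℕ} (hm : m ^ p ^ k = 1) (hp : Nat.Coprime (orderOf a) p)
    (hfix : a * m * a⁻¹ = m) (h : a * x * a⁻¹ = m * x) : m = 1 := by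
  have key : ∀ i : ℕ, a ^ i * x * (a ^ i)⁻¹ = m ^ i * x := by
    intro i
    induction i with
    | zero => simp
    | succ i ih =>
      calc a ^ (i + 1) * x * (a ^ (i + 1))⁻¹ = a * (a ^ i * x * (a ^ i)⁻¹) * a⁻¹ := by group
        _ = (a * m * a⁻¹) ^ i * (a * x * a⁻¹) := by rw [ih, conj_pow]; group
        _ = m ^ (i + 1) * x := by rw [hfix, h, pow_succ, mul_assoc]
  have h1 := key (orderOf a)
  rw [pow_orderOf_eq_one, one_mul, inv_one, mul_one, right_eq_mul] at h1
  exact orderOf_eq_one_iff.mp (Nat.eq_one_of_dvd_coprimes (hp.pow_right k)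
    (orderOf_dvd_of_pow_eq_one h1) (orderOf_dvd_of_pow_eq_one hm))

variable (N M : Subgroup G)

/-- The commutator, as an element of the central subgroup. -/
def com (hc : ∀ x ∈ N, ∀ y ∈ N, x * y * x⁻¹ * y⁻¹ ∈ M) (x y : N) : M :=
  ⟨x * y * (x : G)⁻¹ * (y : G)⁻¹, hc x x.2 y y.2⟩

variable {N M}

section Com

variable (hc : ∀ x ∈ N, ∀ y ∈ N, x * y * x⁻¹ * y⁻¹ ∈ M) (hz : ∀ m ∈ M, ∀ x ∈ N, m * x = x * m)

include hz in
theorem com_mul_left (x x' y : N) : com N M hc (x * x') y = com N M hc x' y * com N M hc x y := by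
  refine Subtype.ext ?_
  show ((x : G) * x') * y * ((x : G) * x')⁻¹ * (y : G)⁻¹ =
    ((x' : G) * y * (x' : G)⁻¹ * (y : G)⁻¹) * ((x : G) * y * (x : G)⁻¹ * (y : G)⁻¹)
  have h := hz _ (hc x' x'.2 y y.2) x x.2
  calc ((x : G) * x') * y * ((x : G) * x')⁻¹ * (y : G)⁻¹
      = (x : G) * ((x' : G) * y * (x' : G)⁻¹ * (y : G)⁻¹) * ((y : G) * (x : G)⁻¹ * (y : G)⁻¹) := by group
    _ = _ := by rw [← h]; group

include hz in
theorem com_mul_right (x y y' : N) : com N M hc x (y * y') = com N M hc x y * com N M hc x y' := by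
  refine Subtype.ext ?_
  show (x : G) * (y * y') * (x : G)⁻¹ * ((y : G) * y')⁻¹ =
    ((x : G) * y * (x : G)⁻¹ * (y : G)⁻¹) * ((x : G) * y' * (x : G)⁻¹ * (y' : G)⁻¹)
  have h := hz _ (hc x x.2 y' y'.2) y y.2
  calc (x : G) * (y * y') * (x : G)⁻¹ * ((y : G) * y')⁻¹
      = (x : G) * y * (x : G)⁻¹ * (((x : G) * y' * (x : G)⁻¹ * (y' : G)⁻¹) * (y : G)⁻¹) := by group
    _ = (x : G) * y * (x : G)⁻¹ * ((y : G)⁻¹ * ((x : G) * y' * (x : G)⁻¹ * (y' : G)⁻¹)) := by
        congr 1
        exact hz _ (hc x x.2 y' y'.2) _ (N.inv_mem y.2)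
    _ = _ := by group

include hz in
theorem com_one_left (y : N) : com N M hc 1 y = 1 := Subtype.ext (by simp [com])

/-- The radical of the commutator form of a character of the central subgroup. -/
def rad (μ : M →* ℂˣ) : Subgroup N where
  carrier := {x | ∀ y, μ (com N M hc x y) = 1}
  one_mem' y := by rw [com_one_left hc hz, map_one]
  mul_mem' {a b} ha hb y := by rw [com_mul_left hc hz, map_mul, ha y, hb y, one_mul]
  inv_mem' {a} ha y := by
    have := com_mul_left hc hz a a⁻¹ y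
    rw [mul_inv_cancel, com_one_left hc hz] at this
    have h2 := congrArg μ this
    rw [map_one, map_mul, ha y, mul_one] at h2
    exact h2.symm

theorem mem_rad {μ : M →* ℂˣ} {x : N} :
    x ∈ rad hc hz μ ↔ ∀ y, μ (com N M hc x y) = 1 := Iff.rfl

theorem mem_rad_of_mem (μ : M →* ℂˣ) {x : N} (hx : (x : G) ∈ M) : x ∈ rad hc hz μ := fun y => by
  rw [show com N M hc x y = 1 from Subtype.ext (by simp [com, hz _ hx y y.2]), map_one]

instance rad_normal (μ : M →* ℂˣ) : (rad hc hz μ).Normal :=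
  ⟨fun x hx g => by
    rw [show g * x * g⁻¹ = (⟨_, N.mul_mem (N.mul_mem (N.mul_mem g.2 x.2) (N.inv_mem g.2)) (N.inv_mem x.2)⟩ :
      N) * x from Subtype.ext (by simp)]
    exact (rad hc hz μ).mul_mem (mem_rad_of_mem hc hz μ (hc g g.2 x x.2)) hx⟩

variable [hN : N.Normal] [hM : M.Normal]

theorem mem_rad_conj {μ : M →* ℂˣ} {g : G} (hg : g ∈ CT.inertia M (fun n => (μ n : ℂ))) {x : N}
    (hx : x ∈ rad hc hz μ) : (⟨g * x * g⁻¹, hN.conj_mem x x.2 g⟩ : N) ∈ rad hc hz μ := by
  intro y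
  have h := hx ⟨g⁻¹ * y * g, by simpa using hN.conj_mem y y.2 g⁻¹⟩
  have h2 := (CT.mem_inertia_iff M).mp hg (com N M hc x ⟨g⁻¹ * y * g, by simpa using hN.conj_mem y y.2 g⁻¹⟩)
  rw [h] at h2
  refine Units.ext (Eq.trans ?_ h2)
  congr 2
  exact Subtype.ext (by simp [com, mul_assoc])

include hc hz in
/-- A character over a character of the central subgroup, invariant under a coprime group fixing it. -/
theorem exists_theta {p : ℕ} [Fact p.Prime] (hNp : IsPGroup p N) (hMN : M ≤ N) (μ : M →* ℂˣ)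
    (hne : ∃ x y : N, μ (com N M hc x y) ≠ 1) (T : Subgroup G) (hT : Nat.Coprime (Nat.card T) p)
    (hfix : T ≤ CT.inertia M (fun n => (μ n : ℂ))) :
    ∃ θ : IrrCharacter N, T ≤ CT.inertia N (θ : N → ℂ) ∧ p ∣ charDegree (θ : N → ℂ) ∧
      (∀ m : M, (θ : N → ℂ) ⟨m, hMN m.2⟩ = (θ : N → ℂ) 1 * (μ m : ℂ)) ∧
      ∀ z ∈ rad hc hz μ, (θ : N → ℂ) z ≠ 0 := by
  classical
  haveI := Fintype.ofFinite G
  haveI := Fintype.ofFinite N
  haveI := Fintype.ofFinite T
  set Z := rad hc hz μ with hZ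
  haveI := Fintype.ofFinite Z
  -- some extension
  let j : M →* Z :=
    { toFun := fun m => ⟨⟨m, hMN m.2⟩, mem_rad_of_mem hc hz μ m.2⟩
      map_one' := rfl
      map_mul' := fun a b => rfl }
  let mbar : M →* Abelianization Z := Abelianization.of.comp j
  have hker : mbar.ker ≤ μ.ker := by
    intro m hm
    have hcomm : j m ∈ commutator Z := by
      rw [← Abelianization.ker_of]; exact hm
    have hle : commutator Z ≤ (μ.ker.map j) := by
      rw [commutator_def, commutator_le]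
      rintro x - y -
      refine ⟨com N M hc x y, x.2 (y : N), Subtype.ext (Subtype.ext ?_)⟩
      simp [j, com, commutatorElement_def]
    obtain ⟨m', hm', he⟩ := hle hcomm
    obtain rfl : m' = m := Subtype.ext (congrArg (fun z : Z => ((z : N) : G)) he)
    exact hm'
  obtain ⟨τ0, hτ0⟩ : ∃ τ0 : Z →* ℂˣ, ∀ m, τ0 (j m) = μ m := by
    let μbar : mbar.range →* ℂˣ :=
      mbar.rangeRestrict.liftOfSurjective mbar.rangeRestrict_surjective
        ⟨μ, by rwa [MonoidHom.ker_rangeRestrict]⟩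
    obtain ⟨ψ, hψ⟩ := MonoidHom.domRestrict_surjective ℂ mbar.range μbar
    refine ⟨ψ.comp Abelianization.of, fun m => ?_⟩
    have h1 := DFunLike.congr_fun hψ (mbar.rangeRestrict m)
    exact h1.trans (mbar.rangeRestrict.liftOfRightInverse_comp_apply _ _ _ m)
  -- the average
  let c : T → Z →* Z := fun t =>
    { toFun := fun z => ⟨⟨(t : G) * (z : N) * (t : G)⁻¹, hN.conj_mem _ (z : N).2 t⟩,
        mem_rad_conj hc hz (hfix t.2) z.2⟩
      map_one' := Subtype.ext (Subtype.ext (by simp))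
      map_mul' := fun a b => Subtype.ext (Subtype.ext (by simp [mul_assoc])) }
  have hT' : Nat.Coprime (Nat.card T) (Nat.card M) := by
    obtain ⟨k, hk⟩ := IsPGroup.iff_card.mp (hNp.to_le hMN)
    rw [hk]; exact hT.pow_right k
  obtain ⟨k, hk⟩ : ∃ k : ℤ, ∀ m : M, m ^ ((Nat.card T : ℤ) * k) = m := by
    refine ⟨Nat.gcdA (Nat.card T) (Nat.card M), fun m => ?_⟩
    have e := Nat.gcd_eq_gcd_ab (Nat.card T) (Nat.card M)
    rw [hT'.gcd_eq_one, Nat.cast_one] at e
    conv_rhs => rw [← zpow_one m, e, zpow_add, zpow_mul (a := m) ((Nat.card M : ℕ) : ℤ), zpow_natCast,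
      pow_card_eq_one', one_zpow, mul_one]
  let τ : Z →* ℂˣ := (∏ t : T, τ0.comp (c t)) ^ k
  have hτinv : ∀ s : T, τ.comp (c s) = τ := by
    intro s
    refine MonoidHom.ext fun z => ?_
    show ((∏ t : T, τ0.comp (c t)) (c s z)) ^ k = ((∏ t : T, τ0.comp (c t)) z) ^ k
    rw [MonoidHom.finsetProd_apply, MonoidHom.finsetProd_apply]
    congr 1
    refine Fintype.prod_equiv (Equiv.mulRight s) _ _ fun t => ?_
    show τ0 (c t (c s z)) = τ0 (c (t * s) z)
    congr 1
    exact Subtype.ext (Subtype.ext (by simp [c, mul_assoc]))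
  have hτμ : ∀ m : M, τ (j m) = μ m := by
    intro m
    have hterm : ∀ t : T, τ0 (c t (j m)) = μ m := fun t => by
      rw [show c t (j m) = j ⟨(t : G) * m * (t : G)⁻¹, hM.conj_mem _ m.2 t⟩ from rfl, hτ0]
      exact Units.ext ((CT.mem_inertia_iff M).mp (hfix t.2) m)
    show ((∏ t : T, τ0.comp (c t)) (j m)) ^ k = μ m
    rw [MonoidHom.finsetProd_apply, Finset.prod_congr rfl (g := fun _ => μ m) fun t _ => (show (τ0.comp (c t)) (j m) = μ m from hterm t),
      Finset.prod_const, Finset.card_univ, ← Nat.card_eq_fintype_card, ← zpow_natCast, ← zpow_mul,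
      ← map_zpow, hk]
  have hZm : ∀ (z : Z) (g : N), CT.conjFun Z g (fun n => (τ n : ℂ)) z = (τ z : ℂ) := by
    intro z g
    rw [CT.conjFun_eq_comp]
    have e : (MulAut.conjNormal g : Z ≃* Z) z = j (com N M hc g z) * z :=
      Subtype.ext (Subtype.ext (by simp [j, com]))
    show (τ ((MulAut.conjNormal g : Z ≃* Z) z) : ℂ) = _
    have h1 : μ (com N M hc g z) = 1 := by
      have hinv : com N M hc g (z : N) = (com N M hc (z : N) g)⁻¹ :=
        Subtype.ext (by simp [com, mul_assoc])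
      rw [hinv, map_inv, z.2 g, inv_one]
    rw [e, map_mul, hτμ, h1, one_mul]
  have hτi : IsIrrCharacter Z (fun n => (τ n : ℂ)) := CT.isIrrCharacter_lin τ
  obtain ⟨θ, hθ⟩ := CT.exists_irr_over Z hτi
  have hres := CT.restrict_eq_smul_of_invariant Z θ.2 hτi hθ fun g => funext fun z => hZm z g
  set e := classInner (fun n : Z => (θ : N → ℂ) n) (fun n => (τ n : ℂ)) with he
  have hval : ∀ z : Z, (θ : N → ℂ) z = (θ : N → ℂ) 1 * (τ z : ℂ) := by
    intro z
    have h1 := congrFun hres z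
    have h2 := congrFun hres 1
    simp only [Pi.smul_apply, smul_eq_mul, map_one, Units.val_one, mul_one, OneMemClass.coe_one] at h1 h2
    rw [h1, h2]
  have hvan : ∀ x : N, x ∉ Z → (θ : N → ℂ) x = 0 := by
    intro x hx
    rw [hZ, mem_rad, not_forall] at hx
    obtain ⟨y, hy⟩ := hx
    have hy' : μ (com N M hc y x) ≠ 1 := by
      rw [show com N M hc y x = (com N M hc x y)⁻¹ from Subtype.ext (by simp [com, mul_assoc]),
        map_inv, Ne, inv_eq_one]
      exact hy
    let w : N := ⟨(com N M hc y x : G), hMN (com N M hc y x).2⟩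
    have hconj : (θ : N → ℂ) (w * x) = (θ : N → ℂ) x := by
      rw [show w * x = y * x * y⁻¹ from Subtype.ext (by simp [w, com])]
      exact (CT.isClassFunction_isConj (CT.isClassFunction_of_isIrr θ.2) (isConj_iff.mpr ⟨y, rfl⟩)).symm
    obtain ⟨d, ρ, hρ, hρe⟩ := id θ.2
    have hcen : (θ : N → ℂ) (w * x) = (μ (com N M hc y x) : ℂ) * (θ : N → ℂ) x := by
      have hw : (θ : N → ℂ) w = (θ : N → ℂ) 1 * (μ (com N M hc y x) : ℂ) := by
        rw [← hτμ]; exact hval (j (com N M hc y x))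
      haveI := hρ
      obtain ⟨ω, hω, -⟩ := CT.central_scalar ρ (z := w)
        (mem_center_iff.mpr fun n => (Subtype.ext (hz _ (com N M hc y x).2 n n.2)).symm)
      have hsc : ∀ u, (θ : N → ℂ) (w * u) = ω * (θ : N → ℂ) u := fun u => by
        rw [← hρe]
        simp only [Representation.character, map_mul, hω]
        rw [show (ω • LinearMap.id) * ρ u = ω • ρ u from LinearMap.ext fun v => rfl, map_smul,
          smul_eq_mul]
      have h1 := hsc 1
      rw [mul_one, hw, mul_comm ω] at h1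
      rw [hsc, mul_left_cancel₀ (CT.irr_one_ne_zero θ.2) h1]
    rw [hconj] at hcen
    by_contra h0
    exact hy' (Units.ext (mul_right_cancel₀ h0 ((one_mul _).trans hcen).symm))
  refine ⟨θ, fun t ht => (CT.mem_inertia_iff N).mpr fun x => ?_, ?_, fun m => ?_, fun z hz0 h0 => ?_⟩
  · by_cases hx : x ∈ Z
    · rw [show (θ : N → ℂ) x = _ from hval ⟨x, hx⟩,
        show (θ : N → ℂ) ⟨t * x * t⁻¹, hN.conj_mem _ x.2 t⟩ = _ from hval (c ⟨t, ht⟩ ⟨x, hx⟩),
        show τ (c ⟨t, ht⟩ ⟨x, hx⟩) = τ ⟨x, hx⟩ from DFunLike.congr_fun (hτinv ⟨t, ht⟩) _]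
    · rw [hvan x hx, hvan]
      intro hx'
      refine hx ?_
      have := mem_rad_conj hc hz ((CT.inertia M _).inv_mem (hfix ht)) hx'
      convert this using 1
      exact Subtype.ext (by simp [mul_assoc])
  · obtain ⟨n, ρ, hρ, hρθ⟩ := id θ.2
    obtain ⟨k, hk⟩ := IsPGroup.iff_card.mp hNp
    have hd : CT.deg (θ : N → ℂ) ∣ p ^ k := hk ▸ Glauberman.deg_dvd_card θ
    obtain ⟨i, -, hi⟩ := (Nat.dvd_prime_pow Fact.out).mp hd
    show p ∣ CT.deg (θ : N → ℂ)
    rw [hi]
    refine dvd_pow_self p fun hi0 => ?_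
    subst hi0
    obtain ⟨x, y, hxy⟩ := hne
    have h1 : (θ : N → ℂ) 1 = 1 := by
      rw [CT.deg_eq (CT.isCharacter_of_isIrr θ.2), hi, pow_zero, Nat.cast_one]
    have hct := CT.linear_trivial_on_commutator (CT.isCharacter_of_isIrr θ.2) h1
    have hmem : (⟨(com N M hc x y : G), hMN (com N M hc x y).2⟩ : N) ∈ commutator N := by
      rw [_root_.commutator_def]
      have := commutator_mem_commutator (mem_top x) (mem_top y)
      convert this using 1
      exact Subtype.ext (by simp [com, commutatorElement_def])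
    have h2 := hct _ hmem
    have h3 := hval (j (com N M hc x y))
    rw [hτμ, h1, one_mul] at h3
    exact hxy (Units.ext (h3.symm.trans (h2.trans h1)))
  · rw [← hτμ]; exact hval (j m)
  · rw [show (θ : N → ℂ) z = _ from hval ⟨z, hz0⟩, mul_eq_zero] at h0
    exact h0.elim (CT.irr_one_ne_zero θ.2) (Units.ne_zero _)

end Com

end Cfsg.Agent.CT.Palfy
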