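import Cfsg.Agent.Lib.CT.PalfyMixed

/-! Among three primes dividing degrees of a solvable group, two divide a common degree. -/

set_option autoImplicit false

namespace Cfsg.Agent.CT.Palfy

open Subgroup Cfsg

universe u

variable {G : Type u} [Group G] [Finite G]

theorem InRho.nontrivial {x : ℕ} (hx : x.Prime) (h : InRho G x) : Nontrivial G := by
  obtain ⟨χ, hχ⟩ := h
  classical
  haveI := Fintype.ofFinite G
  by_contra hn
  rw [not_nontrivial_iff_subsingleton] at hn
  have h1 : CT.deg (χ : G → ℂ) ∣ 1 := by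
    have := Glauberman.deg_dvd_card χ
    rwa [Nat.card_unique] at this
  exact hx.ne_one (Nat.dvd_one.mp (hχ.trans h1))

theorem NAdj.quotient {x y : ℕ} (h : NAdj G x y) (M : Subgroup G) [M.Normal] : NAdj (G ⧸ M) x y :=
  fun ψ hd => h ⟨fun g => (ψ : G ⧸ M → ℂ) (QuotientGroup.mk g), CT.isIrr_inflate M ψ.2 fun _ => rfl⟩ hd

/-- The step at a prime dropping out of the quotient. -/
theorem step [Group.IsSolvable G] {p q r : ℕ} (hp : p.Prime) (hq : q.Prime) (hr : r.Prime) (hpq : p ≠ q)
    (hqr : q ≠ r) (hpr : p ≠ r) (hpd : InRho G p) (hqd : InRho G q) (hrd : InRho G r)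
    (npq : NAdj G p q) (npr : NAdj G p r) (nqr : NAdj G q r) (M : Subgroup G) [M.Normal]
    (hmin : ∀ K : Subgroup G, K.Normal → K ≤ M → K = ⊥ ∨ K = M) (hMne : M ≠ ⊥)
    (hnot : ¬ InRho (G ⧸ M) p) : False := by
  classical
  haveI := Fact.mk hp
  obtain ⟨hMab, ℓ, hℓ, hexp, hMℓ⟩ := Basics.minimal_normal_solvable hMne inferInstance hmin
  obtain ⟨P⟩ : Nonempty (Sylow p G) := inferInstance
  have hab : ∀ a b : M, a * b = b * a := fun a b => hMab.1.comm a b
  let Pb : Sylow p (G ⧸ M) := P.mapSurjective (QuotientGroup.mk'_surjective M)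
  have hdeg : ∀ χ : IrrCharacter (G ⧸ M), ¬ p ∣ CT.deg (χ : G ⧸ M → ℂ) := fun χ hd => hnot ⟨χ, hd⟩
  have hPbn := ItoMichler.sylow_normal (p := p) _ (G ⧸ M) rfl
    (Components.isPSolvable_of_isSolvable _ (G ⧸ M) le_rfl inferInstance) hdeg Pb
  haveI := hPbn
  have hPbc := ItoMichler.sylow_comm Pb hdeg
  have hcomm : ∀ x ∈ (P : Subgroup G), ∀ y ∈ (P : Subgroup G), x * y * x⁻¹ * y⁻¹ ∈ M := by
    intro x hx y hy
    rw [← QuotientGroup.eq_one_iff]
    have h := congrArg Subtype.val (hPbc.1.comm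
      (⟨QuotientGroup.mk' M x, mem_map_of_mem _ hx⟩ : (Pb : Subgroup (G ⧸ M)))
      ⟨QuotientGroup.mk' M y, mem_map_of_mem _ hy⟩)
    simp only [Subgroup.coe_mul, QuotientGroup.mk'_apply] at h
    rw [QuotientGroup.mk_mul, QuotientGroup.mk_mul, QuotientGroup.mk_mul, QuotientGroup.mk_inv,
      QuotientGroup.mk_inv, h]
    group
  set K := (P : Subgroup G) ⊔ M with hK
  haveI hKn : K.Normal := by
    have : K = ((Pb : Subgroup (G ⧸ M))).comap (QuotientGroup.mk' M) := by
      rw [hK, Sylow.coe_mapSurjective, comap_map_eq, QuotientGroup.ker_mk']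
    rw [this]
    exact hPbn.comap _
  by_cases hℓp : ℓ = p
  · rw [hℓp] at hMℓ hexp
    have hMP : M ≤ (P : Subgroup G) := hMℓ.le_sylow_of_normal P
    haveI hPn : (P : Subgroup G).Normal := by
      have : K = (P : Subgroup G) := sup_eq_left.mpr hMP
      rwa [this] at hKn
    have hnab : ⁅(P : Subgroup G), (P : Subgroup G)⁆ ≠ ⊥ := by
      intro h
      obtain ⟨χ, hχ⟩ := hpd
      refine ItoMichler.not_dvd_deg P ⟨⟨fun a b => Subtype.ext ?_⟩⟩ χ hχ
      have := h ▸ commutator_mem_commutator a.2 b.2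
      exact commutatorElement_eq_one_iff_mul_comm.mp (mem_bot.mp this)
    have hle : ⁅(P : Subgroup G), (P : Subgroup G)⁆ ≤ M :=
      commutator_le.mpr fun x hx y hy => hcomm x hx y hy
    haveI : (⁅(P : Subgroup G), (P : Subgroup G)⁆).Normal := commutator_normal _ _
    have hMe := (hmin _ inferInstance hle).resolve_left hnab
    set Z := M ⊓ centralizer ((P : Subgroup G) : Set G) with hZ
    haveI : (centralizer ((P : Subgroup G) : Set G)).Normal := Subgroup.normal_centralizer
    have hZne : Z ≠ ⊥ := by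
      letI : MulAction (P : Subgroup G) M :=
        MulAction.compHom M ((MulAut.conjNormal (H := M)).comp (P : Subgroup G).subtype)
      have hdvd : p ∣ Nat.card M := by
        obtain ⟨j, hj⟩ := hMℓ.exists_card_eq
        rw [hj]
        refine dvd_pow_self p fun h0 => hMne ?_
        rw [h0, pow_zero, card_eq_one] at hj
        exact hj
      have h1 : (1 : M) ∈ MulAction.fixedPoints (P : Subgroup G) M := fun y => by
        show (MulAut.conjNormal (H := M) (y : G)) (1 : M) = 1
        rw [map_one]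
      obtain ⟨b, hb, hne⟩ := P.2.exists_fixed_point_of_prime_dvd_card_of_fixed_point M hdvd h1
      intro h
      have hbC : (b : G) ∈ Z := ⟨b.2, mem_centralizer_iff.mpr fun y hy => by
        have h2 : y * (b : G) * y⁻¹ = b :=
          (MulAut.conjNormal_apply y b).symm.trans (congrArg Subtype.val (hb ⟨y, hy⟩))
        conv_rhs => rw [← h2]
        group⟩
      rw [h, mem_bot] at hbC
      exact hne (Subtype.ext hbC).symm
    have hZe : Z = M := (hmin Z (normal_inf_normal _ _) inf_le_left).resolve_left hZne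
    obtain ⟨L, hL⟩ := exists_right_complement'_of_coprime (N := (P : Subgroup G)) P.card_coprime_index
    have S : Setup P M L := ⟨hp, hmin, hMne, hexp, hMP,
      fun m hm x hx => (mem_centralizer_iff.mp (hZe.ge hm).2 x hx).symm, hMe, hL⟩
    exact S.caseB hq hr hpq hpr hqr hqd hrd npq npr nqr
  have hdisj : (P : Subgroup G) ⊓ M = ⊥ := by
    haveI := Fact.mk hℓ
    exact (IsPGroup.disjoint_of_ne p ℓ (Ne.symm hℓp) _ M P.2 hMℓ).eq_bot
  set H := normalizer ((P : Subgroup G) : Set G) with hH
  have hsup : H ⊔ M = ⊤ := by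
    have := Sylow.normalizer_sup_eq_top' (N := K) P le_sup_left
    rw [hK, ← sup_assoc, sup_eq_left.mpr (show (P : Subgroup G) ≤ normalizer (P : Set G) from
      le_normalizer)] at this
    exact this
  by_cases hPn : (P : Subgroup G).Normal
  · obtain ⟨χ, hχ⟩ := hpd
    refine ItoMichler.not_dvd_deg P ⟨⟨fun a b => Subtype.ext ?_⟩⟩ χ hχ
    have h1 : (a : G) * b * (a : G)⁻¹ * (b : G)⁻¹ ∈ (P : Subgroup G) ⊓ M :=
      ⟨(P : Subgroup G).mul_mem ((P : Subgroup G).mul_mem ((P : Subgroup G).mul_mem a.2 b.2)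
        ((P : Subgroup G).inv_mem a.2)) ((P : Subgroup G).inv_mem b.2), hcomm a a.2 b b.2⟩
    rw [hdisj, mem_bot, mul_inv_eq_one, mul_inv_eq_iff_eq_mul] at h1
    exact h1
  have hint : M ⊓ H = ⊥ := by
    have hn : (M ⊓ H).Normal := by
      rw [← normalizer_eq_top_iff, eq_top_iff, ← hsup]
      refine sup_le ?_ ?_
      · intro h hh
        rw [mem_normalizer_iff]
        intro x
        constructor
        · exact fun hx => ⟨Normal.conj_mem inferInstance x hx.1 h, H.mul_mem (H.mul_mem hh hx.2) (H.inv_mem hh)⟩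
        · intro hx
          refine ⟨?_, ?_⟩
          · simpa [mul_assoc] using Normal.conj_mem inferInstance _ hx.1 h⁻¹
          · simpa [mul_assoc] using H.mul_mem (H.mul_mem (H.inv_mem hh) hx.2) hh
      · intro m hm
        rw [mem_normalizer_iff]
        intro x
        constructor
        · intro hx
          have e : m * x * m⁻¹ = x := by
            rw [mul_inv_eq_iff_eq_mul]
            exact congrArg Subtype.val (hab ⟨m, hm⟩ ⟨x, hx.1⟩)
          rw [e]; exact hx
        · intro hx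
          have hxM : x ∈ M := by
            simpa [mul_assoc] using M.mul_mem (M.mul_mem (M.inv_mem hm) hx.1) hm
          have e : m * x * m⁻¹ = x := by
            rw [mul_inv_eq_iff_eq_mul]
            exact congrArg Subtype.val (hab ⟨m, hm⟩ ⟨x, hxM⟩)
          rwa [e] at hx
    refine (hmin _ hn inf_le_left).resolve_right fun e => hPn ?_
    have hMH : M ≤ H := inf_eq_left.mp e
    rw [← normalizer_eq_top_iff, ← hH, ← hsup, sup_eq_left.mpr hMH]
  have hc : IsComplement' M H := by
    refine isComplement'_of_disjoint_and_mul_eq_univ (disjoint_iff.mpr hint) ?_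
    rw [← normal_mul, sup_comm, hsup]
    rfl
  refine caseA hp hq hr hpq hqr hpr hqd hrd npq npr nqr hℓ M hmin hMne hab hexp P hc fun hle => ?_
  exact hMne (by rw [← hint, inf_eq_left.mpr hle])

theorem three : ∀ (n : ℕ) (G : Type u) [Group G] [Finite G] [Group.IsSolvable G], Nat.card G ≤ n →
    ∀ p q r : ℕ, p.Prime → q.Prime → r.Prime → p ≠ q → q ≠ r → p ≠ r → InRho G p → InRho G q →
      InRho G r → NAdj G p q → NAdj G p r → NAdj G q r → False := by
  intro n
  induction n using Nat.strong_induction_on with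
  | h n ih =>
  intro G _ _ _ hn p q r hp hq hr hpq hqr hpr hpd hqd hrd npq npr nqr
  haveI := hpd.nontrivial hp
  obtain ⟨M, hMn, -, hM, hmin⟩ := Basics.exists_minimal_normal (N := (⊤ : Subgroup G)) top_ne_bot
  haveI := hMn
  by_cases h1 : InRho (G ⧸ M) p
  swap
  · exact step hp hq hr hpq hqr hpr hpd hqd hrd npq npr nqr M hmin hM h1
  by_cases h2 : InRho (G ⧸ M) q
  swap
  · exact step hq hp hr hpq.symm hpr hqr hqd hpd hrd npq.symm nqr npr M hmin hM h2
  by_cases h3 : InRho (G ⧸ M) r
  swap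
  · exact step hr hp hq hpr.symm hpq hqr.symm hrd hpd hqd npr.symm nqr.symm npq M hmin hM h3
  exact ih (Nat.card (G ⧸ M)) (lt_of_lt_of_le (Basics.card_quotient_lt hM) hn) (G ⧸ M) le_rfl p q r hp hq
    hr hpq hqr hpr h1 h2 h3 (npq.quotient M) (npr.quotient M) (nqr.quotient M)

end Cfsg.Agent.CT.Palfy
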