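import Cfsg.Agent.Lib.Blocks.DefectOnePrincipal
import Cfsg.Agent.Lib.Blocks.Regular
import Cfsg.Agent.Lib.Blocks.Knorr
import Cfsg.Agent.Lib.CT.Degree
import Cfsg.Agent.Lib.CT.Kernel
import Cfsg.Agent.Lib.Transfer.Abelian
import Cfsg.Agent.S4782

/-!
# Groups all of whose non-linear irreducible characters have prime degree
-/

set_option autoImplicit false
set_option linter.all false

namespace Cfsg.Agent.PrimeDeg

open Cfsg.Agent.CT Module

universe u

/-- All degrees are one or prime. -/
def AllPrime (G : Type u) [Group G] : Prop :=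
  ∀ χ : IrrCharacter G, deg (χ : G → ℂ) ≠ 1 → (deg (χ : G → ℂ)).Prime

theorem AllPrime.subgroup {G : Type u} [Group G] [Finite G] (h : AllPrime G) (N : Subgroup G)
    [N.Normal] : AllPrime N := by
  intro θ hθ
  haveI := Fintype.ofFinite G
  haveI := Fintype.ofFinite N
  obtain ⟨χ, hχ⟩ := exists_irr_over N θ.2
  obtain ⟨k, hk, -⟩ := deg_ratio_dvd_index N χ.2 θ.2 hχ
  by_cases h1 : deg (χ : G → ℂ) = 1
  · rw [h1] at hk
    exact absurd (Nat.eq_one_of_mul_eq_one_left hk.symm) hθ
  · rcases (Nat.dvd_prime (h χ h1)).mp (Dvd.intro_left k hk.symm) with e | e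
    · exact absurd e hθ
    · exact e ▸ h χ h1

theorem AllPrime.quotient {G : Type u} [Group G] (h : AllPrime G) (N : Subgroup G) [N.Normal] :
    AllPrime (G ⧸ N) := fun ψ hψ =>
  h ⟨_, isIrr_inflate N ψ.2 (fun g => rfl)⟩ hψ

theorem solvable_aux (m : ℕ) : ∀ (G : Type u) [Group G] [Finite G], Nat.card G = m →
    AllPrime G → Group.IsSolvable G := by
  induction m using Nat.strong_induction_on with
  | _ m ih =>
    intro G _ _ hm h
    classical
    haveI := Fintype.ofFinite G
    by_contra hns
    haveI : Nontrivial G := not_subsingleton_iff_nontrivial.mp fun hs => hns inferInstance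
    haveI hsimp : IsSimpleGroup G := by
      refine @IsSimpleGroup.mk G _ inferInstance fun H hH => ?_
      by_contra hc
      push Not at hc
      haveI := hH
      haveI : Nontrivial H := (Subgroup.nontrivial_iff_ne_bot H).mpr hc.1
      have h1 : Nat.card H < m := by
        rw [← hm]
        exact lt_of_le_of_ne (Subgroup.card_le_card_group H)
          fun e => hc.2 (Subgroup.eq_top_of_card_eq H e)
      have h2 : Nat.card (G ⧸ H) < m := by
        rw [← hm, H.card_eq_card_quotient_mul_card_subgroup]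
        exact lt_mul_of_one_lt_right Nat.card_pos Finite.one_lt_card
      haveI := ih _ h1 H rfl (h.subgroup H)
      haveI := ih _ h2 (G ⧸ H) rfl (h.quotient H)
      exact hns (Group.isSolvable_of_ker_le_range H.subtype (QuotientGroup.mk' H) (by simp))
    have hcen : Subgroup.center G = ⊥ := by
      refine ((Subgroup.center G).normal_of_characteristic.eq_bot_or_eq_top).resolve_right fun e => ?_
      exact hns (Group.isSolvable_of_comm fun a b => Subgroup.mem_center_iff.mp (e ▸ Subgroup.mem_top b) a)
    have hlin : ∀ χ : IrrCharacter G, deg (χ : G → ℂ) = 1 → χ = trivIrr G := by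
      intro χ h1
      obtain ⟨l, hl⟩ := exists_hom_of_degree_one (isCharacter_of_isIrr χ.2)
        (by rw [deg_eq (isCharacter_of_isIrr χ.2), h1, Nat.cast_one])
      refine Subtype.ext (funext fun x => ?_)
      show (χ : G → ℂ) x = 1
      rcases l.normal_ker.eq_bot_or_eq_top with hk | hk
      · refine absurd (Group.isSolvable_of_comm fun a b => ?_) hns
        exact l.ker_eq_bot_iff.mp hk (by rw [map_mul, map_mul, mul_comm])
      · have : l x = 1 := MonoidHom.mem_ker.mp (hk ▸ Subgroup.mem_top x)
        simp [hl, this]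
    have hvan : ∀ (χ : IrrCharacter G) (g : G), g ≠ 1 → deg (χ : G → ℂ) ≠ 1 →
        Nat.Coprime (deg (χ : G → ℂ)) (Subgroup.centralizer ({g} : Set G)).index →
        (χ : G → ℂ) g = 0 := by
      intro χ g hg hne hc
      obtain ⟨n, ρ, hρ, hχ⟩ := χ.2
      rw [← hχ] at hc ⊢
      rw [deg_eq_finrank] at hc
      rcases zero_or_norm_of_coprime ρ g hc with h0 | h0
      · exact h0
      exfalso
      have hs := scalar_of_norm_eq ρ h0
      let f := ρ.asGroupHom
      rcases f.normal_ker.eq_bot_or_eq_top with hk | hk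
      · refine hg (Subgroup.mem_bot.mp (hcen ▸ Subgroup.mem_center_iff.mpr fun x => ?_))
        apply f.ker_eq_bot_iff.mp hk
        apply Units.ext
        simp only [map_mul, Units.val_mul, f, Representation.asGroupHom_apply]
        rw [hs]
        ext v
        simp
      · have hid : ∀ x, ρ x = 1 := fun x => by
          have : f x = 1 := MonoidHom.mem_ker.mp (hk ▸ Subgroup.mem_top x)
          exact congrArg Units.val this
        have hV := (isIrreducible_iff ρ).mp hρ
        apply hne
        rw [← hχ, deg_eq_finrank]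
        obtain ⟨v, hv⟩ := @exists_ne _ hV.1 (0 : Fin n → ℂ)
        rcases hV.2 (Submodule.span ℂ {v}) (fun x w hw => by simpa [hid x] using hw) with e | e
        · simp [hv] at e
        · rw [← finrank_top ℂ, ← e, finrank_span_singleton hv]
    have hfaith : ∀ (χ : IrrCharacter G), deg (χ : G → ℂ) ≠ 1 → ∀ g : G,
        (χ : G → ℂ) g = (χ : G → ℂ) 1 → g = 1 := by
      intro χ hne g hg
      haveI : (kerChar (χ : G → ℂ)).Normal := ⟨fun a ha x => by
        rw [mem_kerChar_iff (isCharacter_of_isIrr χ.2)] at ha ⊢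
        rw [isClassFunction_of_isIrr χ.2, ha]⟩
      have hmem : g ∈ kerChar (χ : G → ℂ) := (mem_kerChar_iff (isCharacter_of_isIrr χ.2)).mpr hg
      rcases (‹(kerChar (χ : G → ℂ)).Normal›).eq_bot_or_eq_top with e | e
      · rw [e] at hmem; exact Subgroup.mem_bot.mp hmem
      · exfalso
        obtain ⟨x, hx⟩ := exists_ne (1 : G)
        have hcoe : ∀ y : G, (χ : G → ℂ) y = (χ : G → ℂ) 1 := fun y =>
          (mem_kerChar_iff (isCharacter_of_isIrr χ.2)).mp (e ▸ Subgroup.mem_top y)
        have h0 := CT.irr_inner_of_ne χ.2 (trivIrr G).2 (fun e' => hne (by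
          rw [e']; simp [deg]))
        simp only [classInner, trivIrr_apply, map_one, mul_one] at h0
        rw [Finset.sum_congr rfl (fun y _ => hcoe y), Finset.sum_const, nsmul_eq_mul] at h0
        simp [irr_one_ne_zero χ.2, Nat.card_pos.ne'] at h0
    have hsylow : ∀ (χ : IrrCharacter G) (r : ℕ) [Fact r.Prime] (R : Sylow r G),
        deg (χ : G → ℂ) = r → Nat.card (R : Subgroup G) = r := by
      intro χ r _ R hr
      have hrp := (Fact.out : r.Prime)
      have hne : deg (χ : G → ℂ) ≠ 1 := hr ▸ hrp.one_lt.ne'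
      have hc := isCharacter_of_isIrr χ.2
      haveI := Fintype.ofFinite (R : Subgroup G)
      have hres : IsCharacter (R : Subgroup G) (fun x => (χ : G → ℂ) x) := isCharacter_restrict _ hc
      have hdvdG : r ∣ Nat.card G := hr ▸ Blocks.charDegree_dvd_card χ
      haveI : Nontrivial (R : Subgroup G) :=
        (Subgroup.nontrivial_iff_ne_bot _).mpr (R.ne_bot_of_dvd_card hdvdG)
      haveI := R.2.center_nontrivial
      have hz : ∀ z : (R : Subgroup G), (∀ y, z * y = y * z) → z ≠ 1 →
          (χ : G → ℂ) z = 0 := by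
        intro z hzc hz1
        refine hvan χ z (fun e => hz1 (Subtype.ext e)) hne ?_
        rw [hr, hrp.coprime_iff_not_dvd]
        intro hd
        refine R.not_dvd_index (hd.trans (Subgroup.index_dvd_of_le fun y hy => ?_))
        rw [Subgroup.mem_centralizer_singleton_iff]
        exact (congrArg Subtype.val (hzc ⟨y, hy⟩)).symm
      have hall : ∀ η : IrrCharacter (R : Subgroup G),
          classInner (fun x : (R : Subgroup G) => (χ : G → ℂ) x) η.1 ≠ 0 →
          η.1 1 = 1 := by
        intro η hη
        by_contra hη1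
        have hdeg : r ≤ deg η.1 := by
          obtain ⟨k, hk⟩ := IsPGroup.iff_card.mp R.2
          have hd : deg η.1 ∣ r ^ k := hk ▸ Blocks.charDegree_dvd_card η
          obtain ⟨j, -, hj⟩ := (Nat.dvd_prime_pow hrp).mp hd
          rcases Nat.eq_zero_or_pos j with rfl | hj0
          · exact absurd (by rw [deg_eq (isCharacter_of_isIrr η.2), hj, pow_zero, Nat.cast_one]) hη1
          · rw [hj]; exact Nat.le_self_pow hj0.ne' r
        have e := eq_of_deg_le hres η.2 hη (le_of_eq_of_le (by simpa [deg] using hr) hdeg)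
        obtain ⟨z, hz1⟩ := exists_ne (1 : Subgroup.center (R : Subgroup G))
        have hz0 := hz z.1 (fun y => (Subgroup.mem_center_iff.mp z.2 y).symm)
          (fun e' => hz1 (Subtype.ext e'))
        obtain ⟨n, ρ, hρ, hη'⟩ := η.2
        obtain ⟨ω, hω, hnorm⟩ := central_scalar ρ z.2
        have : (χ : G → ℂ) ((z.1 : (R : Subgroup G)) : G) = ω * ρ.character 1 := by
          rw [show (χ : G → ℂ) ((z.1 : (R : Subgroup G)) : G) = η.1 z.1 from
            congrFun e z.1, ← hη']
          simp [Representation.character, hω]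
        rw [hz0, hη', eq_comm, mul_eq_zero] at this
        rcases this with h' | h'
        · rw [h'] at hnorm; simp at hnorm
        · exact irr_one_ne_zero η.2 h'
      have hab : ∀ a b : (R : Subgroup G), a * b = b * a := by
        intro a b
        have key : (χ : G → ℂ) ((a * b * a⁻¹ * b⁻¹ : (R : Subgroup G)) : G) = (χ : G → ℂ) 1 := by
          have e1 := congrFun (character_eq_sum hres) (a * b * a⁻¹ * b⁻¹)
          have e2 := congrFun (character_eq_sum hres) (1 : (R : Subgroup G))
          simp only [Finset.sum_apply, Pi.smul_apply, smul_eq_mul, OneMemClass.coe_one] at e1 e2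
          rw [e1, e2]
          refine Finset.sum_congr rfl fun η _ => ?_
          by_cases hη : classInner (fun x : (R : Subgroup G) => (χ : G → ℂ) x) η.1 = 0
          · rw [mult_spec hres (isCharacter_of_isIrr η.2)] at hη
            simp [hη]
          · rw [linear_trivial_on_commutator (isCharacter_of_isIrr η.2) (hall η hη) (a * b * a⁻¹ * b⁻¹) (by
              rw [← commutatorElement_def]
              exact Subgroup.commutator_mem_commutator (Subgroup.mem_top a) (Subgroup.mem_top b))]
        have := hfaith χ hne _ key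
        have h' : a * b * a⁻¹ * b⁻¹ = 1 := Subtype.ext this
        calc a * b = (a * b * a⁻¹ * b⁻¹) * (b * a) := by group
          _ = b * a := by rw [h', one_mul]
      obtain ⟨n, hn⟩ := classInner_character_nat hres isCharacter_one
      rw [classInner, Finset.sum_eq_single (1 : (R : Subgroup G)) (fun z _ hz1 => by
        rw [hz z (fun y => hab z y) hz1, zero_mul]) (by simp), map_one, mul_one, OneMemClass.coe_one,
        deg_eq hc, hr] at hn
      have hdvd : Nat.card (R : Subgroup G) ∣ r := by
        refine ⟨n, ?_⟩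
        rw [inv_mul_eq_iff_eq_mul₀ (Nat.cast_ne_zero.mpr Nat.card_pos.ne')] at hn
        exact_mod_cast hn
      exact ((Nat.dvd_prime hrp).mp hdvd).resolve_left fun e =>
        absurd (Finite.one_lt_card (α := (R : Subgroup G))) (by omega)
    -- the largest degree
    let D : Finset ℕ := Finset.univ.image fun χ : IrrCharacter G => deg (χ : G → ℂ)
    have hDne : D.Nonempty := ⟨_, Finset.mem_image_of_mem _ (Finset.mem_univ (trivIrr G))⟩
    obtain ⟨χ0, -, hχ0⟩ := Finset.mem_image.mp (D.max'_mem hDne)
    set p := D.max' hDne with hpdef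
    have hle : ∀ χ : IrrCharacter G, deg (χ : G → ℂ) ≤ p := fun χ =>
      D.le_max' _ (Finset.mem_image_of_mem _ (Finset.mem_univ χ))
    by_cases hp1 : p = 1
    · refine hns (Group.isSolvable_of_comm ((comm_iff_all_linear).mpr fun χ => ?_))
      have h1 := hle χ
      have h2 := deg_pos χ.2
      rw [deg_eq (isCharacter_of_isIrr χ.2), show deg (χ : G → ℂ) = 1 by omega, Nat.cast_one]
    have hpp : p.Prime := hχ0 ▸ h χ0 (hχ0 ▸ hp1)
    by_cases hp3 : p ≤ 3
    · refine hns (S4782.solvable_of_degreePrimes Nat.prime_two Nat.prime_three _ G rfl ?_)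
      rintro r ⟨hr, d, ⟨χ, rfl⟩, hd⟩
      have h1 : r ≤ 3 := (Nat.le_of_dvd (deg_pos χ.2) hd).trans ((hle χ).trans hp3)
      have h2 := hr.two_le
      simp only [Set.mem_insert_iff, Set.mem_singleton_iff]
      omega
    haveI := Fact.mk hpp
    obtain ⟨P⟩ : Nonempty (Sylow p G) := inferInstance
    have hP : Nat.card P = p := hsylow χ0 p P hχ0
    obtain ⟨M, hM⟩ := Blocks.exists_isPModular hpp
    haveI := hM.2.1.isPrime
    obtain ⟨X, Y, εX, ε, hed, hXY, -, hXc, -, hX, -, -, -, -⟩ :=
      Blocks.D1.exists_principal_structure hM P hP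
        (e := (Blocks.D1.cC P).relIndex (Blocks.D1.cN P)) rfl
    set e := (Blocks.D1.cC P).relIndex (Blocks.D1.cN P) with hedef
    have he2 : 2 ≤ e := by
      by_contra hlt
      have he0 : e ≠ 0 := fun h0 => by
        rw [h0, zero_dvd_iff] at hed
        have := hpp.two_le
        omega
      have he1 : e = 1 := by omega
      obtain ⟨P', K, hK, hKc⟩ := Transfer.hasNormalPComplement_of_normalizer_le P
        (Subgroup.relIndex_eq_one.mp he1)
      rcases hK.eq_bot_or_eq_top with hb | ht
      · subst hb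
        refine hns ?_
        have htop : (P' : Subgroup G) = ⊤ := Subgroup.isComplement'_bot_left.mp hKc
        haveI : Group.IsNilpotent (P' : Subgroup G) := P'.2.isNilpotent
        haveI : Group.IsSolvable (P' : Subgroup G) := inferInstance
        exact Group.isSolvable_of_surjective (f := (P' : Subgroup G).subtype)
          (fun x => ⟨⟨x, htop ▸ Subgroup.mem_top x⟩, rfl⟩)
      · subst ht
        have hbot : (P' : Subgroup G) = ⊥ := Subgroup.isComplement'_top_left.mp hKc
        exact P'.ne_bot_of_dvd_card (hχ0 ▸ Blocks.charDegree_dvd_card χ0) hbot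
    obtain ⟨χ, hχX, hχ1⟩ : ∃ χ ∈ X, χ ≠ trivIrr G := by
      by_contra hno
      push Not at hno
      have : Nat.card X ≤ 1 := by
        rw [Finite.card_le_one_iff_subsingleton]
        exact ⟨fun a b => Subtype.ext ((hno _ a.2).trans (hno _ b.2).symm)⟩
      omega
    obtain ⟨hs, hm', -⟩ := hX χ hχX
    have hd1 : deg (χ : G → ℂ) ≠ 1 := fun e' => hχ1 (hlin χ e')
    have hdp := h χ hd1
    have hdle := hle χ
    have h2 := hdp.two_le
    have hm'' : (deg (χ : G → ℂ) : ℤ) ≡ εX χ [ZMOD p] := hm'
    rw [Int.modEq_iff_dvd] at hm''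
    rcases hs with hs | hs <;> rw [hs] at hm''
    · rcases lt_or_eq_of_le hdle with hlt | heq
      · have := Int.eq_zero_of_dvd_of_nonneg_of_lt (m := (deg (χ : G → ℂ) : ℤ) - 1) (n := (p : ℤ)) (by omega)
          (by omega) (by rw [← dvd_neg]; simpa [neg_sub] using hm'')
        omega
      · rw [heq] at hm''
        have h1 : (p : ℤ) ∣ 1 := by simpa using dvd_add hm'' (dvd_refl (p : ℤ))
        have := Int.le_of_dvd one_pos h1
        omega
    · have hdvd : (p : ℤ) ∣ (deg (χ : G → ℂ) : ℤ) + 1 := by
        rw [← dvd_neg]; simpa [neg_add, add_comm, sub_eq_add_neg] using hm''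
      have hdvd' : p ∣ deg (χ : G → ℂ) + 1 := by exact_mod_cast hdvd
      obtain ⟨k, hk⟩ := hdvd'
      have hk1 : k = 1 := by
        rcases Nat.lt_or_ge k 2 with hk2 | hk2
        · rcases Nat.eq_zero_or_pos k with rfl | hk0 <;> omega
        · have := Nat.mul_le_mul_left p hk2
          omega
      subst hk1
      have hodd := hpp.odd_of_ne_two (by omega)
      rcases hdp.eq_two_or_odd' with h2' | ⟨j, hj⟩
      · omega
      · obtain ⟨i, hi⟩ := hodd
        omega

theorem solvable {G : Type u} [Group G] [Finite G] (h : AllPrime G) : Group.IsSolvable G :=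
  solvable_aux _ G rfl h

theorem dvd_deg_of_vanish {G : Type u} [Group G] [Finite G] {l : ℕ} [Fact l.Prime]
    (χ : IrrCharacter G) {x : G} (hx : ∃ k : ℕ, x ^ l ^ k = 1) (h0 : (χ : G → ℂ) x = 0) :
    l ∣ deg (χ : G → ℂ) := by
  haveI := Fintype.ofFinite G
  obtain ⟨M, hM⟩ := Blocks.exists_isPModular (Fact.out : l.Prime)
  haveI := hM.2.1.isPrime
  haveI := Blocks.charP_res hM
  have h := Blocks.red_charL_mul (M := M) (p := l) χ (Commute.one_right x) hx
    (by rw [orderOf_one]; exact (Fact.out : l.Prime).not_dvd_one)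
  rw [mul_one] at h
  have e1 : Blocks.charL M χ x = 0 := Subtype.ext (by rw [Blocks.coe_charL, h0]; rfl)
  have e2 : Blocks.charL M χ 1 = (deg (χ : G → ℂ) : Blocks.Loc M) := Subtype.ext (by
    rw [Blocks.coe_charL, deg_eq (isCharacter_of_isIrr χ.2)]; simp)
  rw [e1, e2, map_zero, map_natCast] at h
  exact (CharP.cast_eq_zero_iff (Blocks.Res M) l _).mp h.symm

theorem two_primes_aux (m : ℕ) : ∀ (G : Type u) [Group G] [Finite G], Nat.card G = m →
    AllPrime G → ∃ a b : ℕ, ∀ χ : IrrCharacter G,
      deg (χ : G → ℂ) = 1 ∨ deg (χ : G → ℂ) = a ∨ deg (χ : G → ℂ) = b := by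
  induction m using Nat.strong_induction_on with
  | _ m ih =>
    intro G _ _ hm h
    classical
    haveI := Fintype.ofFinite G
    haveI := solvable h
    by_cases hsub : Subsingleton G
    · refine ⟨1, 1, fun χ => Or.inl ?_⟩
      have := irr_degree_one_of_comm (fun a b => Subsingleton.elim _ _) χ.2
      rw [deg_eq (isCharacter_of_isIrr χ.2)] at this
      exact_mod_cast this
    haveI : Nontrivial G := not_subsingleton_iff_nontrivial.mp hsub
    obtain ⟨s, hs, N, hN, hidx⟩ : ∃ s : ℕ, s.Prime ∧ ∃ N : Subgroup G, N.Normal ∧ N.index = s := by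
      have hlt : commutator G < ⊤ := Group.IsSolvable.commutator_lt_top_of_nontrivial G
      obtain ⟨N, hN, hle⟩ := (eq_top_or_exists_le_coatom (commutator G)).resolve_left hlt.ne
      have hnorm : N.Normal := Subgroup.Normal.of_commutator_le (G := G) (H := N) hle
      haveI := hnorm
      haveI : Nontrivial (G ⧸ N) := QuotientGroup.nontrivial_iff.mpr hN.1
      haveI : IsSimpleGroup (G ⧸ N) := by
        refine ⟨fun H hH => ?_⟩
        have hc := hN.2
        rcases eq_or_lt_of_le (show N ≤ H.comap (QuotientGroup.mk' N) by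
          intro x hx
          rw [Subgroup.mem_comap, QuotientGroup.mk'_apply, (QuotientGroup.eq_one_iff x).mpr hx]
          exact H.one_mem) with e | e
        · left
          rw [← Subgroup.map_comap_eq_self_of_surjective (QuotientGroup.mk'_surjective N) H, ← e]
          exact (Subgroup.map_eq_bot_iff _).mpr (by simp)
        · right
          rw [← Subgroup.map_comap_eq_self_of_surjective (QuotientGroup.mk'_surjective N) H, hc _ e,
            Subgroup.map_top_of_surjective _ (QuotientGroup.mk'_surjective N)]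
      letI : CommGroup (G ⧸ N) :=
        { (inferInstance : Group (G ⧸ N)) with
          mul_comm := fun a b => (Subgroup.Normal.quotient_commutative_iff_commutator_le.mpr hle).is_comm.comm a b }
      exact ⟨_, IsSimpleGroup.prime_card, N, hnorm, N.index_eq_card⟩
    haveI := Fintype.ofFinite N
    have hltN : Nat.card N < m := by
      rw [← hm, ← N.card_mul_index, hidx]
      exact lt_mul_of_one_lt_right Nat.card_pos hs.one_lt
    obtain ⟨a, b, hab⟩ := ih _ hltN N rfl (h.subgroup N)
    by_contra hcon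
    push Not at hcon
    -- every degree is one of `a`, `b`, `s`
    have hcases : ∀ χ : IrrCharacter G, deg (χ : G → ℂ) = 1 ∨
        (∃ θ : IrrCharacter N, deg (θ : N → ℂ) = deg (χ : G → ℂ)) ∨ deg (χ : G → ℂ) = s := by
      intro χ
      by_cases h1 : deg (χ : G → ℂ) = 1
      · exact Or.inl h1
      obtain ⟨θ, hθ⟩ := exists_constituent_restrict N χ.2
      obtain ⟨k, hk, hkd⟩ := deg_ratio_dvd_index N χ.2 θ.2 hθ
      rw [hidx] at hkd
      rcases (Nat.dvd_prime hs).mp hkd with rfl | rfl
      · exact Or.inr (Or.inl ⟨θ, by rw [hk, one_mul]⟩)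
      · have hp := h χ h1
        rw [hk] at hp
        rcases Nat.prime_mul_iff.mp hp with ⟨-, e⟩ | ⟨-, e⟩
        · exact Or.inr (Or.inr (by rw [hk, e, mul_one]))
        · exact absurd e hs.one_lt.ne'
    have habs : ∀ χ : IrrCharacter G, deg (χ : G → ℂ) = 1 ∨ deg (χ : G → ℂ) = a ∨
        deg (χ : G → ℂ) = b ∨ deg (χ : G → ℂ) = s := by
      intro χ
      rcases hcases χ with e | ⟨θ, e⟩ | e
      · exact Or.inl e
      · rcases hab θ with e' | e' | e'
        · exact Or.inl (e ▸ e')
        · exact Or.inr (Or.inl (e ▸ e'))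
        · exact Or.inr (Or.inr (Or.inl (e ▸ e')))
      · exact Or.inr (Or.inr (Or.inr e))
    -- the three values are distinct and attained
    obtain ⟨χa, hχa⟩ : ∃ χ : IrrCharacter G, deg (χ : G → ℂ) = a ∧ a ≠ 1 ∧ a ≠ b ∧ a ≠ s := by
      obtain ⟨χ, h1, h2, h3⟩ := hcon b s
      have := (habs χ).resolve_left h1
      have e : deg (χ : G → ℂ) = a := by
        rcases this with e | e | e
        · exact e
        · exact absurd e h2
        · exact absurd e h3
      exact ⟨χ, e, e ▸ h1, e ▸ h2, e ▸ h3⟩
    obtain ⟨χb, hχb⟩ : ∃ χ : IrrCharacter G, deg (χ : G → ℂ) = b ∧ b ≠ 1 ∧ b ≠ s := by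
      obtain ⟨χ, h1, h2, h3⟩ := hcon a s
      have := (habs χ).resolve_left h1
      have e : deg (χ : G → ℂ) = b := by
        rcases this with e | e | e
        · exact absurd e h2
        · exact e
        · exact absurd e h3
      exact ⟨χ, e, e ▸ h1, e ▸ h3⟩
    obtain ⟨χs, hχs, hnots⟩ : ∃ χ : IrrCharacter G, deg (χ : G → ℂ) = s ∧
        ∀ θ : IrrCharacter N, deg (θ : N → ℂ) ≠ s := by
      obtain ⟨χ, h1, h2, h3⟩ := hcon a b
      have := (habs χ).resolve_left h1
      have e : deg (χ : G → ℂ) = s := by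
        rcases this with e | e | e
        · exact absurd e h2
        · exact absurd e h3
        · exact e
      refine ⟨χ, e, fun θ hθ => ?_⟩
      rcases hab θ with e' | e' | e' <;> rw [hθ] at e'
      · exact hs.one_lt.ne' e'
      · exact hχa.2.2.2 e'.symm
      · exact hχb.2.2 e'.symm
    -- constituents of large degree are invariant
    have hinv : ∀ θ : IrrCharacter N, deg (θ : N → ℂ) ≠ 1 → ∀ g, conjFun N g (θ : N → ℂ) = θ := by
      intro θ h1 g
      obtain ⟨χ, hχ⟩ := exists_irr_over N θ.2
      obtain ⟨k, hk, -⟩ := deg_ratio_dvd_index N χ.2 θ.2 hχ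
      have hc : deg (χ : G → ℂ) ≠ 1 := fun e => h1 (Nat.eq_one_of_mul_eq_one_left (hk.symm.trans e))
      have hk1 : k = 1 := by
        rcases Nat.prime_mul_iff.mp (hk ▸ h χ hc) with ⟨-, e⟩ | ⟨-, e⟩
        · exact absurd e h1
        · exact e
      have e := eq_of_deg_le (isCharacter_restrict N (isCharacter_of_isIrr χ.2)) θ.2 hχ
        (by rw [show deg (fun n : N => (χ : G → ℂ) n) = deg (χ : G → ℂ) by simp [deg], hk, hk1, one_mul])
      funext n
      show (θ : N → ℂ) ⟨g * n * g⁻¹, _⟩ = _
      rw [← congrFun e n, ← congrFun e ⟨g * n * g⁻¹, _⟩]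
      exact isClassFunction_of_isIrr χ.2 n g
    obtain ⟨lc, hlam⟩ := exists_constituent_restrict N χs.2
    have hl1 : deg (lc : N → ℂ) = 1 := by
      obtain ⟨k, hk, -⟩ := deg_ratio_dvd_index N χs.2 lc.2 hlam
      rcases (Nat.dvd_prime hs).mp (Dvd.intro_left k (hk.symm.trans hχs)) with e | e
      · exact e
      · exact absurd e (hnots lc)
    obtain ⟨l, hl⟩ := exists_hom_of_degree_one (isCharacter_of_isIrr lc.2)
      (by rw [deg_eq (isCharacter_of_isIrr lc.2), hl1, Nat.cast_one])
    obtain ⟨g, hg⟩ : ∃ g, conjFun N g (lc : N → ℂ) ≠ lc := by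
      by_contra hno
      push Not at hno
      have e := restrict_eq_smul_of_invariant N χs.2 lc.2 hlam hno
      set c := classInner (fun n : N => (χs : G → ℂ) n) (lc : N → ℂ) with hc
      have hc1 : c = (s : ℂ) := by
        have := congrFun e 1
        simp only [Pi.smul_apply, smul_eq_mul, OneMemClass.coe_one] at this
        rw [deg_eq (isCharacter_of_isIrr χs.2), hχs, deg_eq (isCharacter_of_isIrr lc.2), hl1,
          Nat.cast_one, mul_one] at this
        exact this.symm
      have hN : classInner (fun n : N => (χs : G → ℂ) n) (fun n : N => (χs : G → ℂ) n) =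
          (s : ℂ) * s := by
        rw [e, CT.classInner_smul_left, CT.classInner_smul_right, irr_inner_self lc.2, hc1]
        simp
      have hle : ∑ n : N, ‖(χs : G → ℂ) n‖ ^ 2 ≤ ∑ x : G, ‖(χs : G → ℂ) x‖ ^ 2 := by
        rw [← Finset.sum_image (f := fun x : G => ‖(χs : G → ℂ) x‖ ^ 2)
          (g := fun n : N => (n : G)) (fun a _ b _ e => Subtype.ext e)]
        exact Finset.sum_le_sum_of_subset_of_nonneg (Finset.subset_univ _) fun _ _ _ => sq_nonneg _
      have hG := irr_inner_self χs.2
      simp only [classInner, Complex.mul_conj'] at hN hG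
      rw [inv_mul_eq_iff_eq_mul₀ (Nat.cast_ne_zero.mpr Nat.card_pos.ne')] at hN hG
      have hN' : ∑ n : N, ‖(χs : G → ℂ) n‖ ^ 2 = (Nat.card N : ℝ) * (s * s) := by exact_mod_cast hN
      have hG' : ∑ x : G, ‖(χs : G → ℂ) x‖ ^ 2 = (Nat.card G : ℝ) * 1 := by exact_mod_cast hG
      rw [hN', hG', ← N.card_mul_index, hidx] at hle
      push_cast at hle
      have hpos : (0 : ℝ) < Nat.card N := Nat.cast_pos.mpr Nat.card_pos
      have h2 : (2 : ℝ) ≤ s := by exact_mod_cast hs.two_le
      nlinarith [mul_pos (mul_pos hpos (show (0 : ℝ) < s by linarith)) (show (0 : ℝ) < s - 1 by linarith)]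
    let l' : N →* ℂˣ := l.comp ((MulAut.conjNormal g).toMonoidHom)
    let μ : N →* ℂˣ := l' * l⁻¹
    have hμ : μ ≠ 1 := by
      intro e
      apply hg
      funext n
      have := congrArg (fun f : N →* ℂˣ => f n) e
      simp only [μ, MonoidHom.mul_apply, MonoidHom.inv_apply, MonoidHom.one_apply,
        mul_inv_eq_one] at this
      show (lc : N → ℂ) ⟨g * n * g⁻¹, _⟩ = _
      rw [hl]
      refine Eq.trans ?_ (congrArg Units.val this)
      rfl
    have hzero : ∀ θ : IrrCharacter N, deg (θ : N → ℂ) ≠ 1 → ∀ n, μ n ≠ 1 → (θ : N → ℂ) n = 0 := by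
      intro θ h1 n hn
      haveI := Fintype.ofFinite N
      let θ' : IrrCharacter N := ⟨fun x => (l x : ℂ) * (θ : N → ℂ) x, by
        refine isIrr_of_inner_self ?_ ?_
        · exact isCharacter_mul (isCharacter_lin l) (isCharacter_of_isIrr θ.2)
        · rw [← irr_inner_self θ.2]
          simp only [classInner]
          congr 1
          refine Finset.sum_congr rfl fun x _ => ?_
          have hu : ‖(l x : ℂ)‖ = 1 := by
            refine Complex.norm_eq_one_of_pow_eq_one (n := orderOf x) ?_ (orderOf_pos x).ne'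
            rw [← Units.val_pow_eq_pow_val, ← map_pow, pow_orderOf_eq_one, map_one, Units.val_one]
          rw [map_mul, mul_mul_mul_comm, Complex.mul_conj', hu]
          simp⟩
      have hd : deg (θ' : N → ℂ) ≠ 1 := by
        simpa [θ', deg] using h1
      have e1 := congrFun (hinv θ' hd g) n
      have e2 := congrFun (hinv θ h1 g) n
      simp only [conjFun, θ'] at e1 e2
      rw [e2] at e1
      by_contra hne
      apply hn
      have : (l ⟨g * n * g⁻¹, _⟩ : ℂ) = l n := mul_right_cancel₀ hne e1
      simp only [μ, MonoidHom.mul_apply, MonoidHom.inv_apply, mul_inv_eq_one]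
      exact (Units.ext this : _)
    -- a prime power element outside the kernel
    have hne : μ.ker ≠ ⊤ := fun e => hμ (MonoidHom.ext fun x =>
      MonoidHom.mem_ker.mp (e ▸ Subgroup.mem_top x))
    obtain ⟨r, hr, hrd⟩ := Nat.exists_prime_and_dvd (fun e => hne (Subgroup.index_eq_one.mp e))
    haveI := Fact.mk hr
    obtain ⟨R⟩ : Nonempty (Sylow r N) := inferInstance
    obtain ⟨x, hxR, hx⟩ : ∃ x ∈ (R : Subgroup N), μ x ≠ 1 := by
      by_contra hno
      push Not at hno
      exact R.not_dvd_index (hrd.trans (Subgroup.index_dvd_of_le fun x hx =>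
        MonoidHom.mem_ker.mpr (hno x hx)))
    have hxp : ∃ k : ℕ, x ^ r ^ k = 1 := by
      obtain ⟨k, hk⟩ := R.2 ⟨x, hxR⟩
      exact ⟨k, congrArg Subtype.val hk⟩
    have hdiv : ∀ χ : IrrCharacter G, deg (χ : G → ℂ) ≠ 1 → deg (χ : G → ℂ) ≠ s →
        r = deg (χ : G → ℂ) := by
      intro χ h1 h2
      obtain ⟨θ, hθ⟩ := ((hcases χ).resolve_left h1).resolve_right h2
      have hθ1 : deg (θ : N → ℂ) ≠ 1 := hθ ▸ h1
      exact (Nat.prime_dvd_prime_iff_eq hr (h χ h1)).mp
        (hθ ▸ dvd_deg_of_vanish θ hxp (hzero θ hθ1 x hx))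
    have e1 := hdiv χa (hχa.1.symm ▸ hχa.2.1) (hχa.1.symm ▸ hχa.2.2.2)
    have e2 := hdiv χb (hχb.1.symm ▸ hχb.2.1) (hχb.1.symm ▸ hχb.2.2)
    exact hχa.2.2.1 (hχa.1.symm.trans (e1.symm.trans (e2.trans hχb.1)))

end Cfsg.Agent.PrimeDeg
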