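import Cfsg.Agent.Lib.CT.Integral
import Cfsg.Agent.Lib.CT.Clifford
import Mathlib.LinearAlgebra.Contraction
import Mathlib.LinearAlgebra.PID

/-!
# Invariant characters of normal subgroups: projective extensions, multiplicity spaces
-/

namespace Cfsg.Agent.CT

open scoped ComplexConjugate TensorProduct
open Module

universe u v w

section Linear

variable {V : Type v} {W : Type w} [AddCommGroup V] [Module ℂ V] [FiniteDimensional ℂ V]
  [AddCommGroup W] [Module ℂ W] [FiniteDimensional ℂ W]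

/-- The map `F ↦ X ∘ F ∘ Y`. -/
noncomputable def sandwich (X : Module.End ℂ V) (Y : Module.End ℂ W) : Module.End ℂ (W →ₗ[ℂ] V) where
  toFun F := X ∘ₗ F ∘ₗ Y
  map_add' a b := by ext; simp
  map_smul' c a := by ext; simp

theorem sandwich_apply (X : Module.End ℂ V) (Y : Module.End ℂ W) (F : W →ₗ[ℂ] V) :
    sandwich X Y F = X ∘ₗ F ∘ₗ Y := rfl

theorem sandwich_mul (X X' : Module.End ℂ V) (Y Y' : Module.End ℂ W) :
    sandwich X Y * sandwich X' Y' = sandwich (X * X') (Y' * Y) := by
  ext F x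
  rfl

theorem trace_sandwich (X : Module.End ℂ V) (Y : Module.End ℂ W) :
    LinearMap.trace ℂ _ (sandwich X Y) = LinearMap.trace ℂ V X * LinearMap.trace ℂ W Y := by
  let e := dualTensorHomEquiv ℂ W V
  have he : e.conj (TensorProduct.map (Module.Dual.transpose (R := ℂ) Y) X) = sandwich X Y := by
    refine LinearMap.ext fun F => ?_
    obtain ⟨t, rfl⟩ := e.surjective F
    rw [LinearEquiv.conj_apply_apply, LinearEquiv.symm_apply_apply]
    induction t using TensorProduct.induction_on with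
    | zero => simp
    | add a b ha hb => simp only [map_add, ha, hb]
    | tmul φ v =>
      ext w
      simp [e, sandwich_apply, Module.Dual.transpose_apply]
  rw [← he, LinearMap.trace_conj', LinearMap.trace_tensorProduct', LinearMap.trace_transpose',
    mul_comm]

end Linear

section Proj

variable {G : Type u} [Group G] [Finite G] (N : Subgroup G) [hN : N.Normal]
  {W : Type w} [AddCommGroup W] [Module ℂ W] [FiniteDimensional ℂ W]

/-- A scalar as a unit of the endomorphism ring. -/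
noncomputable def scU (c : ℂˣ) : (Module.End ℂ W)ˣ :=
  Units.map (algebraMap ℂ (Module.End ℂ W)).toMonoidHom c

theorem coe_scU (c : ℂˣ) : ((scU (W := W) c : (Module.End ℂ W)ˣ) : Module.End ℂ W) =
    (c : ℂ) • LinearMap.id := by
  simp [scU, Algebra.algebraMap_eq_smul_one]
  rfl

theorem scU_mul (a b : ℂˣ) : scU (W := W) (a * b) = scU a * scU b := map_mul _ a b

@[simp] theorem scU_one : scU (W := W) 1 = 1 := map_one _

theorem scU_comm (c : ℂˣ) (x : (Module.End ℂ W)ˣ) : scU c * x = x * scU c := by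
  ext1
  simp only [Units.val_mul, scU, Units.coe_map, RingHom.toMonoidHom_eq_coe, MonoidHom.coe_coe]
  exact Algebra.commutes _ _

theorem scU_injective [Nontrivial W] : Function.Injective (scU (W := W)) := fun a b h =>
  Units.ext ((algebraMap ℂ (Module.End ℂ W)).injective (congrArg Units.val h))

/-- A projective extension of `τ` to `G`. -/
def IsProjExt (τ : Representation ℂ N W) (P : G → (Module.End ℂ W)ˣ) : Prop :=
  (∀ n : N, P n = τ.asGroupHom n) ∧ (∀ (g : G) (n : N), P (g * n) = P g * τ.asGroupHom n) ∧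
    ∀ (g : G) (n : N), P g * τ.asGroupHom n =
      τ.asGroupHom ⟨g * n * g⁻¹, hN.conj_mem (n : G) n.2 g⟩ * P g

variable {N}

theorem exists_projExt (τ : Representation ℂ N W)
    (hinv : ∀ g, conjFun N g τ.character = τ.character) :
    ∃ P : G → (Module.End ℂ W)ˣ, IsProjExt N τ P := by
  classical
  have hex : ∀ g : G, ∃ u : (Module.End ℂ W)ˣ, ∀ n : N, u * τ.asGroupHom n =
      τ.asGroupHom ⟨g * n * g⁻¹, hN.conj_mem (n : G) n.2 g⟩ * u := by
    intro g
    let σ : Representation ℂ N W := τ.comp (MulAut.conjNormal g).toMonoidHom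
    have hch : τ.character = σ.character := by
      rw [← hinv g, conjFun_eq_comp]
      rfl
    obtain ⟨e⟩ := equiv_of_character_eq τ σ hch
    refine ⟨⟨e.toLinearEquiv.toLinearMap, e.toLinearEquiv.symm.toLinearMap,
      LinearMap.ext fun x => e.toLinearEquiv.apply_symm_apply x,
      LinearMap.ext fun x => e.toLinearEquiv.symm_apply_apply x⟩, fun n => ?_⟩
    refine Units.ext (LinearMap.ext fun x => ?_)
    simp only [Units.val_mul, Module.End.mul_apply, Representation.asGroupHom_apply]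
    have h := e.toIntertwiningMap.isIntertwining τ σ n x
    have hσ : σ n = τ ⟨g * n * g⁻¹, hN.conj_mem (n : G) n.2 g⟩ := by
      show τ (MulAut.conjNormal g n) = _
      exact congrArg τ (Subtype.ext (MulAut.conjNormal_apply g n))
    rw [hσ] at h
    exact h
  choose u hu using hex
  let r : G → G := fun g => (QuotientGroup.mk g : G ⧸ N).out
  have hr : ∀ g, (r g)⁻¹ * g ∈ N := fun g =>
    QuotientGroup.eq.mp (QuotientGroup.out_eq' (QuotientGroup.mk g : G ⧸ N))
  let P0 : G → (Module.End ℂ W)ˣ := fun x =>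
    if h : x ∈ N then τ.asGroupHom ⟨x, h⟩ else u x
  let P : G → (Module.End ℂ W)ˣ := fun g => P0 (r g) * τ.asGroupHom ⟨(r g)⁻¹ * g, hr g⟩
  have hP0 : ∀ (x : G) (n : N), P0 x * τ.asGroupHom n =
      τ.asGroupHom ⟨x * n * x⁻¹, hN.conj_mem (n : G) n.2 x⟩ * P0 x := by
    intro x n
    by_cases h : x ∈ N
    · simp only [P0, dif_pos h, ← map_mul]
      congr 1
      exact Subtype.ext (by simp)
    · simp only [P0, dif_neg h]
      exact hu x n
  refine ⟨P, ?_, ?_, ?_⟩
  · intro n
    have hmem : r n ∈ N := by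
      have := N.mul_mem n.2 (N.inv_mem (hr n))
      simpa using this
    simp only [P, P0, dif_pos hmem, ← map_mul]
    congr 1
    exact Subtype.ext (by simp)
  · intro g n
    have e : r (g * n) = r g := by
      simp only [r]
      congr 1
      exact QuotientGroup.mk_mul_of_mem g n.2
    simp only [P, mul_assoc, ← map_mul]
    congr 1
    · rw [e]
    · congr 1
      exact Subtype.ext (by simp [e, mul_assoc])
  · intro g n
    simp only [P]
    set m : N := ⟨(r g)⁻¹ * g, hr g⟩ with hm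
    have hg : g = r g * (m : G) := by simp [hm]
    calc P0 (r g) * τ.asGroupHom m * τ.asGroupHom n
        = P0 (r g) * τ.asGroupHom (m * n * m⁻¹) * τ.asGroupHom m := by
          simp only [mul_assoc, ← map_mul, inv_mul_cancel, mul_one]
      _ = τ.asGroupHom ⟨r g * ((m * n * m⁻¹ : N) : G) * (r g)⁻¹,
            hN.conj_mem _ (m * n * m⁻¹).2 (r g)⟩ * P0 (r g) * τ.asGroupHom m := by rw [hP0]
      _ = _ := by
          rw [mul_assoc]
          congr 2
          refine Subtype.ext ?_
          show r g * ((m : G) * n * (m : G)⁻¹) * (r g)⁻¹ = g * n * g⁻¹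
          conv_rhs => rw [hg]
          group

variable {τ : Representation ℂ N W} {P : G → (Module.End ℂ W)ˣ}

theorem IsProjExt.left_mul (hP : IsProjExt N τ P) (n : N) (g : G) :
    τ.asGroupHom n * P g = P ((n : G) * g) := by
  have hm : g⁻¹ * (n : G) * g ∈ N := by simpa using hN.conj_mem (n : G) n.2 g⁻¹
  have e : (n : G) * g = g * ((⟨g⁻¹ * (n : G) * g, hm⟩ : N) : G) := by group
  rw [e, hP.2.1, hP.2.2]
  congr 2
  exact Subtype.ext (by group)

theorem IsProjExt.one (hP : IsProjExt N τ P) : P 1 = 1 := by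
  simpa using hP.1 1

theorem unit_scalar [hτ : τ.IsIrreducible] (x : (Module.End ℂ W)ˣ)
    (hx : ∀ n : N, x * τ.asGroupHom n = τ.asGroupHom n * x) : ∃ c : ℂˣ, x = scU c := by
  haveI := ((isIrreducible_iff τ).mp hτ).1
  haveI := Fintype.ofFinite N
  have h := eq_scalar_of_commute τ (x : Module.End ℂ W) fun n => by
    have := congrArg Units.val (hx n)
    simpa [Representation.asGroupHom_apply] using this
  refine ⟨Units.mk0 _ ?_, Units.ext (by rw [coe_scU]; exact h)⟩
  intro h0
  rw [h0, zero_smul] at h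
  exact Units.ne_zero x h

theorem IsProjExt.cocycle [τ.IsIrreducible] (hP : IsProjExt N τ P) :
    ∃ α : G → G → ℂˣ, ∀ g h, P g * P h = scU (α g h) * P (g * h) := by
  have : ∀ g h, ∃ c : ℂˣ, P g * P h = scU c * P (g * h) := by
    intro g h
    obtain ⟨c, hc⟩ := unit_scalar (τ := τ) ((P (g * h))⁻¹ * (P g * P h)) fun n => by
      have h1 : P g * P h * τ.asGroupHom n =
          τ.asGroupHom ⟨g * h * n * (g * h)⁻¹, hN.conj_mem (n : G) n.2 (g * h)⟩ * (P g * P h) := by
        rw [mul_assoc, hP.2.2 h n, ← mul_assoc, hP.2.2, mul_assoc]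
        congr 2
        exact Subtype.ext (by simp [mul_assoc])
      have h2 := hP.2.2 (g * h) n
      rw [mul_assoc, h1, ← mul_assoc, eq_mul_inv_iff_mul_eq.mpr h2.symm]
      simp [mul_assoc]
    refine ⟨c, ?_⟩
    rw [scU_comm, ← hc, mul_inv_cancel_left]
  choose α hα using this
  exact ⟨α, hα⟩

theorem isIntegral_proj_scalar {U : Type v} [AddCommGroup U] [Module ℂ U] [FiniteDimensional ℂ U]
    [Nontrivial U] [Fintype G] (Q : G → Module.End ℂ U) (α : G → G → ℂ)
    (hQ : ∀ g h, Q g * Q h = α g h • Q (g * h)) (hα : ∀ g h, IsIntegral ℤ (α g h))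
    (hone : Q 1 = 1) (a : G → ℂ) (ha : ∀ g, IsIntegral ℤ (a g)) (c : ℂ)
    (h : ∑ g, a g • Q g = c • LinearMap.id) : IsIntegral ℤ c := by
  classical
  obtain ⟨v, hv⟩ := exists_ne (0 : U)
  set B := Algebra.adjoin ℤ (Set.range a ∪ Set.range fun p : G × G => α p.1 p.2) with hB
  have hfg : B.toSubmodule.FG :=
    fg_adjoin_of_finite ((Set.finite_range a).union (Set.finite_range _)) (by
      rintro _ (⟨g, rfl⟩ | ⟨p, rfl⟩)
      · exact ha g
      · exact hα _ _)
  obtain ⟨s, hs⟩ := hfg
  set M : Submodule ℤ U :=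
    Submodule.span ℤ (Set.image2 (fun b g => b • Q g v) (↑s : Set ℂ) Set.univ)
  have key : ∀ b ∈ B, ∀ g, b • Q g v ∈ M := by
    intro b hb g
    have hb' : b ∈ Submodule.span ℤ (↑s : Set ℂ) := hs ▸ hb
    induction hb' using Submodule.span_induction with
    | mem x hx => exact Submodule.subset_span ⟨x, hx, g, trivial, rfl⟩
    | zero => simp
    | add x y hx hy ihx ihy =>
      rw [add_smul]
      exact add_mem (ihx (by have := hs ▸ hx; exact this)) (ihy (by have := hs ▸ hy; exact this))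
    | smul m x hx ih =>
      rw [smul_assoc]
      exact M.smul_mem m (ih (by have := hs ▸ hx; exact this))
  refine isIntegral_of_smul_mem_submodule M ?_
    (Submodule.fg_span (Set.Finite.image2 _ s.finite_toSet Set.finite_univ)) c ?_
  · intro e
    have := key 1 B.one_mem 1
    rw [e, hone] at this
    simp [hv] at this
  · intro n hn
    induction hn using Submodule.span_induction with
    | mem x hx =>
      obtain ⟨b, hb, g, -, rfl⟩ := hx
      have hbB : b ∈ B := by
        have : b ∈ Submodule.span ℤ (↑s : Set ℂ) := Submodule.subset_span hb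
        rwa [hs] at this
      have e : c • (b • Q g v) = ∑ x : G, (b * a x * α x g) • Q (x * g) v := by
        rw [smul_comm]
        have := LinearMap.congr_fun h.symm (Q g v)
        simp only [LinearMap.smul_apply, LinearMap.id_apply, LinearMap.sum_apply] at this
        rw [this, Finset.smul_sum]
        refine Finset.sum_congr rfl fun x _ => ?_
        rw [← Module.End.mul_apply, hQ, LinearMap.smul_apply, smul_smul, smul_smul, mul_assoc]
      show c • (b • Q g v) ∈ M
      rw [e]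
      refine Submodule.sum_mem _ fun x _ => key _ (B.mul_mem (B.mul_mem hbB
        (Algebra.subset_adjoin (Or.inl ⟨x, rfl⟩))) (Algebra.subset_adjoin (Or.inr ⟨(x, g), rfl⟩))) _
    | zero => simp
    | add x y _ _ ihx ihy => rw [smul_add]; exact add_mem ihx ihy
    | smul m x _ ih => rw [smul_comm]; exact M.smul_mem m ih

theorem det_mul_root {U : Type v} [AddCommGroup U] [Module ℂ U] [FiniteDimensional ℂ U]
    [Nontrivial U] (Q : Module.End ℂ U) (hQ : LinearMap.det Q ≠ 0) :
    ∃ c : ℂ, c ≠ 0 ∧ LinearMap.det (c • Q) = 1 := by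
  obtain ⟨c, hc⟩ :=
    IsAlgClosed.exists_pow_nat_eq (LinearMap.det Q)⁻¹ (Module.finrank_pos (R := ℂ) (M := U))
  refine ⟨c, fun h0 => ?_, ?_⟩
  · rw [h0, zero_pow (Module.finrank_pos (R := ℂ) (M := U)).ne'] at hc
    exact inv_ne_zero hQ hc.symm
  · rw [LinearMap.det_smul, hc, inv_mul_cancel₀ hQ]

end Proj

section Degree

variable {G : Type u} [Group G] [Fintype G] (N : Subgroup G) [hN : N.Normal]

/-- For an invariant constituent the multiplicity divides the index. -/
theorem mult_dvd_index_of_invariant [Fintype N] {χ : G → ℂ} (hχ : IsIrrCharacter G χ) {φ : N → ℂ}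
    (hφ : IsIrrCharacter N φ) (hcon : classInner (fun n : N => χ n) φ ≠ 0)
    (hinv : ∀ g, conjFun N g φ = φ) : mult (fun n : N => χ n) φ ∣ N.index := by
  classical
  have hdeg := clifford_mult N hχ hφ hcon
  obtain ⟨m, ρ, hρ, rfl⟩ := id hχ
  obtain ⟨d, τ, hτ, rfl⟩ := id hφ
  have hT : (inertia N τ.character).index = 1 := by
    rw [Subgroup.index_eq_one]
    exact eq_top_iff.mpr fun g _ => hinv g
  rw [hT, mul_one, deg_eq_finrank, deg_eq_finrank, Module.finrank_fin_fun,
    Module.finrank_fin_fun] at hdeg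
  set e := mult (fun n : N => ρ.character n) τ.character with he
  obtain ⟨P, hP⟩ := exists_projExt (N := N) τ hinv
  obtain ⟨α, hα⟩ := hP.cocycle
  haveI : Nontrivial (Fin d → ℂ) := ((isIrreducible_iff τ).mp hτ).1
  let ρN : Representation ℂ N (Fin m → ℂ) := ρ.comp N.subtype
  let L := Representation.linHom τ ρN
  set U := L.invariants with hU
  have hdimU : Module.finrank ℂ U = e := by
    rw [LinearEquiv.finrank_eq (Representation.invariantsEquivIntertwiningMap τ ρN)]
    have h := classInner_char_char ρN τ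
    rw [mult_spec (isCharacter_character ρN) (isCharacter_character τ)] at h
    exact_mod_cast h.symm
  have hepos : 0 < e := by
    rcases Nat.eq_zero_or_pos e with h | h
    · exfalso
      have := finrank_pos_of_irreducible ρ
      rw [Module.finrank_fin_fun, hdeg, h, zero_mul] at this
      omega
    · exact h
  haveI : Nontrivial U := Module.nontrivial_of_finrank_pos (R := ℂ) (hdimU ▸ hepos)
  haveI hfinU : FiniteDimensional ℂ U := FiniteDimensional.finiteDimensional_submodule U
  haveI hfreeU : Module.Free ℂ U := Module.Free.of_divisionRing ℂ U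
  let Lg : G → Module.End ℂ ((Fin d → ℂ) →ₗ[ℂ] (Fin m → ℂ)) := fun g =>
    sandwich (ρ g) (((P g)⁻¹ : (Module.End ℂ (Fin d → ℂ))ˣ) : Module.End ℂ (Fin d → ℂ))
  have hLmem : ∀ g, ∀ F ∈ U, Lg g F ∈ U := by
    intro g F hF n
    have hm : g⁻¹ * (n : G) * g ∈ N := by simpa using hN.conj_mem (n : G) n.2 g⁻¹
    set k : N := ⟨g⁻¹ * (n : G) * g, hm⟩
    have hk := hF k
    rw [Representation.linHom_apply] at hk
    rw [Representation.linHom_apply]
    have e1 : ρN n * ρ g = ρ g * ρN k := by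
      show ρ (n : G) * ρ g = ρ g * ρ (k : G)
      rw [← map_mul, ← map_mul]
      congr 1
      simp [k, mul_assoc]
    have hc : P g * τ.asGroupHom k⁻¹ = τ.asGroupHom n⁻¹ * P g := by
      rw [hP.2.2]
      congr 2
      exact Subtype.ext (by simp [k, mul_assoc])
    have e2 : (((P g)⁻¹ : (Module.End ℂ (Fin d → ℂ))ˣ) : Module.End ℂ (Fin d → ℂ)) * τ n⁻¹ =
        τ k⁻¹ * (((P g)⁻¹ : (Module.End ℂ (Fin d → ℂ))ˣ) : Module.End ℂ (Fin d → ℂ)) := by
      rw [← Representation.asGroupHom_apply, ← Representation.asGroupHom_apply, ← Units.val_mul,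
        ← Units.val_mul]
      congr 1
      rw [eq_mul_inv_iff_mul_eq, mul_assoc, ← hc, inv_mul_cancel_left]
    show ρN n ∘ₗ (ρ g ∘ₗ F ∘ₗ _) ∘ₗ τ n⁻¹ = ρ g ∘ₗ F ∘ₗ _
    conv_rhs => rw [← hk]
    simp only [Module.End.mul_eq_comp] at e1 e2
    rw [LinearMap.comp_assoc, LinearMap.comp_assoc, e2, ← LinearMap.comp_assoc _ (ρ g) (ρN n), e1]
    simp only [LinearMap.comp_assoc]
  let Q : G → Module.End ℂ U := fun g => (Lg g).restrict (hLmem g)
  have hQmul : ∀ g h, Q g * Q h = ((α g h)⁻¹ : ℂˣ).1 • Q (g * h) := by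
    intro g h
    have hu : (P h)⁻¹ * (P g)⁻¹ = scU (α g h)⁻¹ * (P (g * h))⁻¹ := by
      rw [← mul_inv_rev, hα, mul_inv_rev, scU_comm]
      congr 1
    have hL : Lg g * Lg h = ((α g h)⁻¹ : ℂˣ).1 • Lg (g * h) := by
      simp only [Lg, sandwich_mul, ← map_mul, ← Units.val_mul, hu]
      ext F x
      simp [sandwich_apply, coe_scU, Units.val_mul]
    refine LinearMap.ext fun F => Subtype.ext ?_
    exact LinearMap.congr_fun hL F
  have hQ1 : Q 1 = 1 := by
    refine LinearMap.ext fun F => Subtype.ext ?_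
    show sandwich (ρ 1) _ (F : (Fin d → ℂ) →ₗ[ℂ] (Fin m → ℂ)) = _
    simp [sandwich_apply, hP.one, Module.End.one_eq_id]
  -- trace formula
  have htr : ∀ g, ∑ n : N, ρ.character (g * n) * LinearMap.trace ℂ _
      (τ n⁻¹ * (((P g)⁻¹ : (Module.End ℂ (Fin d → ℂ))ˣ) : Module.End ℂ (Fin d → ℂ))) =
      (Nat.card N : ℂ) * LinearMap.trace ℂ U (Q g) := by
    intro g
    let A : Module.End ℂ ((Fin d → ℂ) →ₗ[ℂ] (Fin m → ℂ)) := (Nat.card N : ℂ)⁻¹ • ∑ n : N, L n
    have hAmem : ∀ F, A F ∈ U := by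
      intro F k
      simp only [A, LinearMap.smul_apply, LinearMap.sum_apply, map_smul, map_sum]
      congr 1
      refine Fintype.sum_equiv (Equiv.mulLeft k) _ _ fun n => ?_
      rw [Equiv.coe_mulLeft, map_mul, Module.End.mul_apply]
    have hAid : ∀ F ∈ U, A F = F := by
      intro F hF
      simp only [A, LinearMap.smul_apply, LinearMap.sum_apply]
      rw [Finset.sum_congr rfl fun n _ => hF n, Finset.sum_const, Finset.card_univ,
        ← Nat.card_eq_fintype_card, ← Nat.cast_smul_eq_nsmul ℂ, smul_smul,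
        inv_mul_cancel₀ (Nat.cast_ne_zero.mpr Nat.card_pos.ne'), one_smul]
    have hmem' : ∀ F, (Lg g * A) F ∈ U := fun F => hLmem g _ (hAmem F)
    have h1 := LinearMap.trace_restrict_eq_of_forall_mem U (Lg g * A) hmem'
    have h2 : (Lg g * A).restrict (fun F _ => hmem' F) = Q g := by
      refine LinearMap.ext fun F => Subtype.ext ?_
      show Lg g (A F) = Lg g F
      rw [hAid _ F.2]
    rw [h2] at h1
    rw [h1]
    have h3 : Lg g * A = (Nat.card N : ℂ)⁻¹ • ∑ n : N, sandwich (ρ (g * n))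
        (τ n⁻¹ * (((P g)⁻¹ : (Module.End ℂ (Fin d → ℂ))ˣ) : Module.End ℂ (Fin d → ℂ))) := by
      simp only [A, mul_smul_comm, Finset.mul_sum]
      congr 1
      refine Finset.sum_congr rfl fun n _ => ?_
      rw [map_mul, ← sandwich_mul]
      rfl
    rw [h3, map_smul, map_sum, smul_eq_mul, ← mul_assoc,
      mul_inv_cancel₀ (Nat.cast_ne_zero.mpr Nat.card_pos.ne'), one_mul]
    exact Finset.sum_congr rfl fun n _ => (trace_sandwich _ _).symm
  -- the scalar identity on `U`
  let M : G → Module.End ℂ (Fin d → ℂ) := fun g => ∑ n : N, ρ.character ((g * (n : G))⁻¹) • τ n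
  have hPM : ∀ g, (P g : Module.End ℂ (Fin d → ℂ)) * M g =
      ((Nat.card N : ℂ) * LinearMap.trace ℂ U (Q g⁻¹) * ((α g g⁻¹ : ℂˣ) : ℂ) / (d : ℂ)) •
        LinearMap.id := by
    intro g
    have hcomm : ∀ k : N, ((P g : Module.End ℂ (Fin d → ℂ)) * M g) * τ k =
        τ k * ((P g : Module.End ℂ (Fin d → ℂ)) * M g) := by
      intro k
      have hm : g⁻¹ * (k : G) * g ∈ N := by simpa using hN.conj_mem (k : G) k.2 g⁻¹
      set k' : N := ⟨g⁻¹ * (k : G) * g, hm⟩
      have hc : τ k * (P g : Module.End ℂ (Fin d → ℂ)) = (P g : Module.End ℂ (Fin d → ℂ)) * τ k' := by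
        have h := congrArg Units.val (hP.2.2 g k')
        simp only [Units.val_mul, Representation.asGroupHom_apply] at h
        rw [h]
        congr 2
        exact Subtype.ext (by simp [k', mul_assoc])
      rw [← mul_assoc (τ k), hc, mul_assoc, mul_assoc]
      congr 1
      simp only [M, Finset.sum_mul, Finset.mul_sum, smul_mul_assoc, mul_smul_comm, ← map_mul]
      refine Fintype.sum_equiv ((Equiv.mulRight k).trans (Equiv.mulLeft k'⁻¹)) _ _ fun n => ?_
      simp only [Equiv.trans_apply, Equiv.coe_mulRight, Equiv.coe_mulLeft, mul_inv_cancel_left]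
      congr 1
      have e : g * ((k'⁻¹ * (n * k) : N) : G) = (k : G)⁻¹ * (g * (n : G)) * k := by
        simp [k', mul_assoc]
      have e' : ((k : G)⁻¹ * (g * (n : G)) * k)⁻¹ = (k : G)⁻¹ * (g * (n : G))⁻¹ * ((k : G)⁻¹)⁻¹ := by
        group
      rw [e, e', Representation.char_conj]
    have h := eq_scalar_of_commute τ _ hcomm
    rw [h]
    congr 1
    rw [Module.finrank_fin_fun]
    congr 1
    rw [← htr, Finset.mul_sum]
    simp only [M, Finset.mul_sum, Finset.sum_mul, mul_smul_comm, map_sum, map_smul, smul_eq_mul]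
    refine Finset.sum_bij' (fun (n : N) _ => (⟨g * ((n : G)⁻¹) * g⁻¹, hN.conj_mem _ (N.inv_mem n.2) g⟩ : N))
      (fun (n : N) _ => (⟨g⁻¹ * ((n : G)⁻¹) * g, by simpa using hN.conj_mem _ (N.inv_mem n.2) g⁻¹⟩ : N))
      (fun _ _ => Finset.mem_univ _) (fun _ _ => Finset.mem_univ _)
      (fun n _ => Subtype.ext (by simp [mul_assoc])) (fun n _ => Subtype.ext (by simp [mul_assoc]))
      fun n _ => ?_
    have e1 : g⁻¹ * (g * (n : G)⁻¹ * g⁻¹) = (g * (n : G))⁻¹ := by group
    rw [show g⁻¹ * ((⟨g * ((n : G)⁻¹) * g⁻¹, hN.conj_mem _ (N.inv_mem n.2) g⟩ : N) : G) =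
      (g * (n : G))⁻¹ from e1, mul_assoc]
    congr 1
    -- the two traces
    have hinvP : (P g⁻¹)⁻¹ = scU (α g g⁻¹)⁻¹ * P g := by
      refine inv_eq_of_mul_eq_one_left ?_
      rw [mul_assoc, hα g g⁻¹, mul_inv_cancel, hP.one, mul_one, ← scU_mul, inv_mul_cancel, scU_one]
    have hn : (⟨g * ((n : G)⁻¹) * g⁻¹, hN.conj_mem _ (N.inv_mem n.2) g⟩ : N)⁻¹ =
        ⟨g * (n : G) * g⁻¹, hN.conj_mem _ n.2 g⟩ := Subtype.ext (by simp [mul_assoc])
    rw [hn, hinvP, Units.val_mul, coe_scU, smul_mul_assoc, mul_smul_comm, map_smul, smul_eq_mul]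
    have h := congrArg Units.val (hP.2.2 g n)
    simp only [Units.val_mul, Representation.asGroupHom_apply] at h
    have e3 : (LinearMap.id : (Fin d → ℂ) →ₗ[ℂ] (Fin d → ℂ)) * (P g : Module.End ℂ (Fin d → ℂ)) =
        P g := by rw [← Module.End.one_eq_id, one_mul]
    rw [e3, ← h]
    simp [mul_comm, mul_assoc, Units.inv_mul]
  have hχS : ∑ g : G, conj (ρ.character g) • ρ g = ((Nat.card G : ℂ) / (m : ℂ)) • LinearMap.id := by
    have h := weighted_sum_scalar ρ (f := fun g => conj (ρ.character g)) fun g x => by simp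
    rw [sum_conj_char_mul ρ, Module.finrank_fin_fun] at h
    exact h
  let rep : G → Prop := fun g => (QuotientGroup.mk g : G ⧸ N).out = g
  have hS : ∑ g ∈ Finset.univ.filter rep,
      ((Nat.card N : ℂ) / (d : ℂ) * (LinearMap.trace ℂ U (Q g⁻¹) * ((α g g⁻¹ : ℂˣ) : ℂ))) • Q g =
        ((Nat.card G : ℂ) / (m : ℂ)) • LinearMap.id := by
    refine LinearMap.ext fun F => Subtype.ext ?_
    simp only [LinearMap.sum_apply, AddSubmonoidClass.coe_finset_sum, LinearMap.smul_apply,
      SetLike.val_smul, LinearMap.id_apply]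
    have hsplit : ((Nat.card G : ℂ) / (m : ℂ)) • (F : (Fin d → ℂ) →ₗ[ℂ] (Fin m → ℂ)) =
        ∑ g : G, conj (ρ.character g) • (ρ g ∘ₗ (F : (Fin d → ℂ) →ₗ[ℂ] (Fin m → ℂ))) := by
      have h := congrArg (fun T => T ∘ₗ (F : (Fin d → ℂ) →ₗ[ℂ] (Fin m → ℂ))) hχS
      simp only [LinearMap.smul_comp, LinearMap.id_comp] at h
      rw [← h]
      refine LinearMap.ext fun v => ?_
      simp [LinearMap.sum_apply]
    conv_rhs => rw [hsplit, ← Finset.sum_fiberwise_of_maps_to
      (g := fun g : G => (QuotientGroup.mk g : G ⧸ N)) (t := Finset.univ)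
      (fun _ _ => Finset.mem_univ _)]
    refine Finset.sum_bij' (fun (g : G) _ => (QuotientGroup.mk g : G ⧸ N)) (fun (q : G ⧸ N) _ => q.out)
      (fun g _ => Finset.mem_univ _) (fun q _ => by simp [rep])
      (fun g hg => (Finset.mem_filter.mp hg).2) (fun q _ => QuotientGroup.out_eq' q) (fun g hg => ?_)
    have hfib : ∑ x ∈ Finset.univ.filter (fun x => (QuotientGroup.mk x : G ⧸ N) = QuotientGroup.mk g),
        conj (ρ.character x) • (ρ x ∘ₗ (F : (Fin d → ℂ) →ₗ[ℂ] (Fin m → ℂ))) =
        ∑ n : N, conj (ρ.character (g * n)) •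
          (ρ (g * n) ∘ₗ (F : (Fin d → ℂ) →ₗ[ℂ] (Fin m → ℂ))) := by
      symm
      refine Finset.sum_bij' (fun n _ => g * (n : G))
        (fun x hx => ⟨g⁻¹ * x, QuotientGroup.eq.mp (Finset.mem_filter.mp hx).2.symm⟩)
        (fun n _ => Finset.mem_filter.mpr ⟨Finset.mem_univ _, QuotientGroup.mk_mul_of_mem g n.2⟩)
        (fun _ _ => Finset.mem_univ _) (fun n _ => Subtype.ext (by simp))
        (fun x _ => by simp) (fun n _ => rfl)
    rw [hfib]
    have hFn : ∀ n : N, ρ (n : G) ∘ₗ (F : (Fin d → ℂ) →ₗ[ℂ] (Fin m → ℂ)) =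
        (F : (Fin d → ℂ) →ₗ[ℂ] (Fin m → ℂ)) ∘ₗ τ n := by
      intro n
      have h := F.2 n
      rw [Representation.linHom_apply] at h
      conv_rhs => rw [← h]
      simp only [LinearMap.comp_assoc, ← Module.End.mul_eq_comp (τ n⁻¹), ← map_mul, inv_mul_cancel,
        map_one, Module.End.one_eq_id, LinearMap.comp_id]
      rfl
    have hterm : ∀ n : N, ρ (g * n) ∘ₗ (F : (Fin d → ℂ) →ₗ[ℂ] (Fin m → ℂ)) =
        (Q g F : (Fin d → ℂ) →ₗ[ℂ] (Fin m → ℂ)) ∘ₗ
          ((P g : Module.End ℂ (Fin d → ℂ)) * τ n) := by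
      intro n
      show _ = (ρ g ∘ₗ (F : (Fin d → ℂ) →ₗ[ℂ] (Fin m → ℂ)) ∘ₗ _) ∘ₗ _
      rw [map_mul, Module.End.mul_eq_comp, LinearMap.comp_assoc, hFn]
      simp only [LinearMap.comp_assoc, ← Module.End.mul_eq_comp, Units.inv_mul_cancel_left]
    simp only [hterm, ← LinearMap.comp_smul, ← char_inv, ← mul_smul_comm]
    have hcs : ∀ T : N → Module.End ℂ (Fin d → ℂ),
        ∑ n : N, (Q g F : (Fin d → ℂ) →ₗ[ℂ] (Fin m → ℂ)) ∘ₗ ((P g : Module.End ℂ (Fin d → ℂ)) * T n) =
          (Q g F : (Fin d → ℂ) →ₗ[ℂ] (Fin m → ℂ)) ∘ₗ ((P g : Module.End ℂ (Fin d → ℂ)) * ∑ n : N, T n) := by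
      intro T
      refine LinearMap.ext fun v => ?_
      simp [LinearMap.sum_apply, map_sum]
    rw [hcs]
    rw [show ∑ n : N, ρ.character ((g * (n : G))⁻¹) • τ n = M g from rfl, hPM g,
      LinearMap.comp_smul, LinearMap.comp_id]
    congr 1
    ring
  -- normalise the determinants
  have hdet : ∀ g, LinearMap.det (Q g) ≠ 0 := by
    intro g h0
    have h1 := congrArg (fun T : Module.End ℂ U => LinearMap.det T) (hQmul g g⁻¹)
    rw [map_mul, h0, zero_mul, mul_inv_cancel, hQ1, LinearMap.det_smul, map_one, mul_one] at h1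
    exact pow_ne_zero _ (Units.ne_zero _) h1.symm
  choose c hc0 hc using fun g => det_mul_root (Q g) (hdet g)
  let R : G → Module.End ℂ U := fun g => if g = 1 then 1 else c g • Q g
  let sc : G → ℂ := fun g => if g = 1 then 1 else c g
  have hR : ∀ g, R g = sc g • Q g := fun g => by
    by_cases h : g = 1
    · simp [R, sc, h, hQ1]
    · simp [R, sc, h]
  have hsc : ∀ g, sc g ≠ 0 := fun g => by
    by_cases h : g = 1 <;> simp [sc, h, hc0 g]
  have hRdet : ∀ g, LinearMap.det (R g) = 1 := fun g => by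
    by_cases h : g = 1
    · simp [R, h]
    · simp only [R, if_neg h, hc g]
  let β : G → G → ℂ := fun g h => sc g * sc h * ((α g h)⁻¹ : ℂˣ).1 / sc (g * h)
  have hRmul : ∀ g h, R g * R h = β g h • R (g * h) := by
    intro g h
    rw [hR, hR, hR, smul_mul_smul_comm, hQmul, smul_smul, smul_smul]
    congr 1
    simp only [β]
    field_simp [hsc (g * h)]
  have hβ : ∀ g h, IsIntegral ℤ (β g h) := by
    intro g h
    have h1 := congrArg (fun T : Module.End ℂ U => LinearMap.det T) (hRmul g h)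
    rw [map_mul, hRdet, hRdet, LinearMap.det_smul, hRdet, hdimU] at h1
    refine IsIntegral.of_pow hepos ?_
    rw [show β g h ^ e = 1 by simpa using h1.symm]
    exact isIntegral_one
  have htrR : ∀ g, IsIntegral ℤ (LinearMap.trace ℂ U (R g)) := by
    intro g
    have hpow : ∀ k, ∃ b : ℂ, R g ^ k = b • R (g ^ k) := by
      intro k
      induction k with
      | zero => exact ⟨1, by simp [R]⟩
      | succ k ih =>
        obtain ⟨b, hb⟩ := ih
        exact ⟨b * β (g ^ k) g, by rw [pow_succ, hb, smul_mul_assoc, hRmul, smul_smul, pow_succ]⟩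
    obtain ⟨b, hb⟩ := hpow (orderOf g)
    rw [pow_orderOf_eq_one, show R 1 = 1 from if_pos rfl] at hb
    have hbe : b ^ e = 1 := by
      have := congrArg (fun T : Module.End ℂ U => LinearMap.det T) hb
      rw [map_pow, hRdet, one_pow, LinearMap.det_smul, map_one, mul_one, hdimU] at this
      exact this.symm
    have hfin : R g ^ (orderOf g * e) = 1 := by
      rw [pow_mul, hb, smul_pow, hbe, one_smul, one_pow]
    have hpos : 0 < orderOf g * e := Nat.mul_pos (orderOf_pos g) hepos
    obtain ⟨bs, ω, hbs, hω⟩ := exists_eigenbasis (V := U) (R g) hpos hfin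
    rw [trace_eq_sum_of_eigenbasis (V := U) (R g) bs ω hbs]
    exact IsIntegral.sum _ fun i _ => IsIntegral.of_pow hpos (by rw [hω i]; exact isIntegral_one)
  let a : G → ℂ := fun g => if rep g then
    (LinearMap.trace ℂ U (Q g⁻¹) * ((α g g⁻¹ : ℂˣ) : ℂ)) / sc g else 0
  have haint : ∀ g, IsIntegral ℤ (a g) := by
    intro g
    simp only [a]
    split_ifs
    · have h1 : (LinearMap.trace ℂ U (Q g⁻¹) * ((α g g⁻¹ : ℂˣ) : ℂ)) / sc g =
          LinearMap.trace ℂ U (R g⁻¹) * (β g g⁻¹) ^ (e - 1) := by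
        have hβe : β g g⁻¹ ^ (e - 1) * β g g⁻¹ = 1 := by
          rw [← pow_succ, Nat.sub_add_cancel hepos]
          have h1 := congrArg (fun T : Module.End ℂ U => LinearMap.det T) (hRmul g g⁻¹)
          rw [map_mul, hRdet, hRdet, LinearMap.det_smul, hRdet, hdimU] at h1
          simpa using h1.symm
        have hs1 : sc (g * g⁻¹) = 1 := by simp [sc]
        have hβval : β g g⁻¹ = sc g * sc g⁻¹ * ((α g g⁻¹)⁻¹ : ℂˣ).1 := by
          simp only [β, hs1, div_one]
        rw [hR, map_smul, smul_eq_mul, eq_inv_of_mul_eq_one_left hβe, hβval,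
          Units.val_inv_eq_inv_val]
        have := hsc g
        have := hsc g⁻¹
        field_simp
      rw [h1]
      exact (htrR _).mul ((hβ _ _).pow _)
    · exact isIntegral_zero
  refine dvd_of_isIntegral_div hepos.ne' ?_
  refine isIntegral_proj_scalar (G := G) (U := U) R β hRmul hβ (if_pos rfl) a haint _ ?_
  have hN0 : (Nat.card N : ℂ) ≠ 0 := Nat.cast_ne_zero.mpr Nat.card_pos.ne'
  have hd0 : (d : ℂ) ≠ 0 := by
    have := finrank_pos_of_irreducible τ
    rw [Module.finrank_fin_fun] at this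
    exact_mod_cast this.ne'
  have hscalar : ((Nat.card G : ℂ) / (m : ℂ)) * ((d : ℂ) / (Nat.card N : ℂ)) =
      (N.index : ℂ) / (e : ℂ) := by
    have he0 : (e : ℂ) ≠ 0 := Nat.cast_ne_zero.mpr hepos.ne'
    rw [hdeg, ← N.index_mul_card]
    push_cast
    field_simp
  rw [← hscalar]
  have h := congrArg (fun T => ((d : ℂ) / (Nat.card N : ℂ)) • T) hS
  simp only [Finset.smul_sum, smul_smul] at h
  rw [mul_comm ((Nat.card G : ℂ) / (m : ℂ)), ← h, Finset.sum_filter]
  refine Finset.sum_congr rfl fun g _ => ?_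
  by_cases hr : rep g
  · rw [show a g = _ from if_pos hr, if_pos hr, hR, smul_smul]
    congr 1
    have := hsc g
    field_simp
  · rw [show a g = _ from if_neg hr, if_neg hr, zero_smul]

end Degree

end Cfsg.Agent.CT
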