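import Cfsg.Agent.Lib.CT.Induced
import Cfsg.Agent.Lib.CT.Banaschewski
import Mathlib.GroupTheory.PGroup
import Mathlib.GroupTheory.Sylow
import Mathlib.GroupTheory.GroupAction.Quotient
import Mathlib.GroupTheory.SpecificGroups.Cyclic

/-!
# Quasi-elementary subgroups and permutation characters (Solomon)
-/

namespace Cfsg.Agent.CT

open scoped ComplexConjugate
open MulAction

universe u v

variable {G : Type u} [Group G]

/-- `H` has a cyclic normal subgroup of order prime to `p` and of `p`-power index. -/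
def IsPQE (p : ℕ) (H : Subgroup G) : Prop :=
  ∃ C : Subgroup G, C ≤ H ∧ H ≤ Subgroup.normalizer (C : Set G) ∧ IsCyclic C ∧
    Nat.Coprime (Nat.card C) p ∧ ∃ k : ℕ, C.relIndex H = p ^ k

theorem indFun_congr [Fintype G] {H H' : Subgroup G} (h : H = H') {θ : H → ℂ} {θ' : H' → ℂ}
    (he : ∀ x : H, θ x = θ' ⟨x, h ▸ x.2⟩) : indFun H θ = indFun H' θ' := by
  subst h
  exact congrArg (indFun H) (funext he)

/-- Inducing in stages from a subgroup of a subgroup. -/
theorem indFun_map [Fintype G] (T : Subgroup G) [Fintype T] (E : Subgroup T)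
    (θ' : (E.map T.subtype) → ℂ) :
    indFun T (indFun E (fun x => θ' ⟨((x : T) : G), ⟨(x : T), x.2, rfl⟩⟩)) =
      indFun (E.map T.subtype) θ' := by
  have hle : E.map T.subtype ≤ T := Subgroup.map_subtype_le E
  rw [← indFun_trans (E.map T.subtype) T hle θ']
  congr 1
  refine indFun_congr ?_ fun x => rfl
  exact (Subgroup.comap_map_eq_self_of_injective T.subtype_injective E).symm

theorem IsPQE.mono [Finite G] {p : ℕ} (hp : p.Prime) {H U : Subgroup G} (h : IsPQE p H)
    (hU : U ≤ H) : IsPQE p U := by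
  obtain ⟨C, hCH, hHC, hcyc, hcop, k, hk⟩ := h
  haveI := hcyc
  refine ⟨C ⊓ U, inf_le_right, fun u hu => ?_,
    isCyclic_of_injective (Subgroup.inclusion (inf_le_left : C ⊓ U ≤ C))
      (Subgroup.inclusion_injective _),
    hcop.coprime_dvd_left (Subgroup.card_dvd_of_le inf_le_left), ?_⟩
  · have := Subgroup.mem_normalizer_iff.mp (hHC (hU hu))
    refine Subgroup.mem_normalizer_iff.mpr fun c => ?_
    simp only [Subgroup.mem_inf]
    exact and_congr (this c) ⟨fun h => U.mul_mem (U.mul_mem hu h) (U.inv_mem hu),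
      fun h => by simpa [mul_assoc] using U.mul_mem (U.mul_mem (U.inv_mem hu) h) hu⟩
  · haveI : (C.subgroupOf H).Normal := (Subgroup.normal_subgroupOf_iff_le_normalizer hCH).mpr hHC
    have h1 := (C.subgroupOf H).relIndex_dvd_index_of_normal (U.subgroupOf H)
    rw [Subgroup.relIndex_subgroupOf hU] at h1
    have h2 : (C.subgroupOf H).index = p ^ k := hk
    rw [h2] at h1
    obtain ⟨j, -, hj⟩ := (Nat.dvd_prime_pow hp).mp h1
    exact ⟨j, by rw [Subgroup.inf_relIndex_right, hj]⟩

section Perm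

variable [Fintype G]

/-- A permutation character is a sum of induced trivial characters, one for each orbit. -/
theorem fixedBy_eq_sum_orbits (X : Type v) [MulAction G X] [Finite X] :
    ∃ (s : Finset X), (fun g : G => (Nat.card (fixedBy X g) : ℂ)) =
      ∑ x ∈ s, indFun (stabilizer G x) (fun _ => 1) := by
  classical
  haveI := Fintype.ofFinite X
  refine ⟨(Finset.univ : Finset (orbitRel.Quotient G X)).image Quotient.out, ?_⟩
  funext g
  rw [Finset.sum_image (fun a _ b _ h => Quotient.out_injective h), Finset.sum_apply]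
  have hω : ∀ ω : orbitRel.Quotient G X, indFun (stabilizer G ω.out) (fun _ => 1) g =
      ((Finset.univ.filter fun x : X => g • x = x ∧ Quotient.mk'' x = ω).card : ℂ) := by
    intro ω
    have h := indFun_one_eq_fixedBy (orbit G ω.out) ⟨ω.out, mem_orbit_self _⟩ g
    have hs : stabilizer G (⟨ω.out, mem_orbit_self _⟩ : orbit G ω.out) = stabilizer G ω.out := by
      ext a
      simp [mem_stabilizer_iff, Subtype.ext_iff]
    rw [← indFun_congr hs (θ := fun _ => 1) (θ' := fun _ => 1) (fun _ => rfl), h,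
      Nat.card_eq_fintype_card, ← Finset.card_univ]
    norm_cast
    refine Finset.card_bij (fun y _ => ((y : orbit G ω.out) : X)) (fun y _ => ?_)
      (fun a _ b _ e => Subtype.ext (Subtype.ext e))
      (fun x hx => ?_)
    · have hy : g • ((y : orbit G ω.out) : X) = (y : orbit G ω.out) :=
        congrArg Subtype.val y.2
      simp only [Finset.mem_filter, Finset.mem_univ, true_and]
      refine ⟨hy, ?_⟩
      exact (Quotient.sound (s := orbitRel G X) (y : orbit G ω.out).2).trans ω.out_eq
    · simp only [Finset.mem_filter, Finset.mem_univ, true_and] at hx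
      have hmem : x ∈ orbit G ω.out := by
        have := Quotient.exact (s := orbitRel G X) (hx.2.trans ω.out_eq.symm)
        exact this
      exact ⟨⟨⟨x, hmem⟩, Subtype.ext hx.1⟩, Finset.mem_univ _, rfl⟩
  simp only [hω]
  rw [Nat.card_eq_fintype_card, Fintype.card_subtype, ← Nat.cast_sum]
  norm_cast
  rw [Finset.card_eq_sum_card_fiberwise (f := fun x : X => (Quotient.mk'' x : orbitRel.Quotient G X))
    (t := Finset.univ) (fun _ _ => Finset.mem_univ _)]
  refine Finset.sum_congr rfl fun ω _ => ?_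
  congr 1
  ext x
  simp [mem_fixedBy]

theorem indFun_one_eq_coset (H : Subgroup G) (g : G) :
    indFun H (fun _ => 1) g = (Nat.card (fixedBy (G ⧸ H) g) : ℂ) := by
  rw [← indFun_one_eq_fixedBy (G ⧸ H) ((1 : G) : G ⧸ H) g]
  exact congrFun (indFun_congr (stabilizer_quotient H).symm (θ' := fun _ => 1) fun _ => rfl) g

/-- Product of two permutation characters. -/
theorem indFun_one_mul (H K : Subgroup G) :
    ∃ a : Subgroup G → ℕ, (∀ U, a U ≠ 0 → U ≤ H) ∧
      indFun H (fun _ => 1) * indFun K (fun _ => 1) =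
        ∑ U : Subgroup G, (a U : ℂ) • indFun U (fun _ => 1) := by
  classical
  obtain ⟨s, hs⟩ := fixedBy_eq_sum_orbits (G := H) (G ⧸ K)
  refine ⟨fun U => (s.filter fun x => (stabilizer H x).map H.subtype = U).card, fun U hU => ?_, ?_⟩
  · obtain ⟨x, hx⟩ := Finset.card_ne_zero.mp hU |> Finset.nonempty_iff_ne_empty.mp
      |> Finset.nonempty_iff_ne_empty.mpr
    rw [← (Finset.mem_filter.mp hx).2]
    exact Subgroup.map_subtype_le _
  have h1 : indFun H (fun _ => 1) * indFun K (fun _ => 1) =
      indFun H (fun h : H => indFun K (fun _ => 1) h) := by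
    rw [← indFun_mul_restrict H _ (isClassFunction_indFun K _)]
    congr 1
    funext h
    simp
  have h2 : (fun h : H => indFun K (fun _ => 1) (h : G)) =
      ∑ x ∈ s, indFun (stabilizer H x) (fun _ => 1) := by
    rw [← hs]
    funext h
    rw [indFun_one_eq_coset]
    rfl
  rw [h1, h2, indFun_sum]
  have h3 : ∀ x : G ⧸ K, indFun H (indFun (stabilizer H x) (fun _ => 1)) =
      indFun ((stabilizer H x).map H.subtype) (fun _ => 1) :=
    fun x => indFun_map H (stabilizer H x) (fun _ => 1)
  simp only [h3]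
  rw [← Finset.sum_fiberwise_of_maps_to (g := fun x => (stabilizer H x).map H.subtype)
    (t := (Finset.univ : Finset (Subgroup G))) (fun _ _ => Finset.mem_univ _)]
  refine Finset.sum_congr rfl fun U _ => ?_
  rw [Finset.sum_congr rfl (g := fun _ => indFun U (fun _ => 1)) fun x hx =>
    indFun_congr (Finset.mem_filter.mp hx).2 fun _ => rfl, Finset.sum_const, Nat.cast_smul_eq_nsmul]

theorem indFun_one_of_conj_mem {H N : Subgroup G} (hHN : H ≤ N) {x : G} (hx : x ∈ N)
    (h : ∀ g : G, g⁻¹ * x * g ∈ H → g ∈ N) [Fintype N] :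
    indFun H (fun _ => 1) x = indFun (H.subgroupOf N) (fun _ => 1) ⟨x, hx⟩ := by
  classical
  simp only [indFun, Nat.card_congr (Subgroup.subgroupOfEquivOfLe hHN).toEquiv]
  congr 1
  rw [← Finset.sum_subset (Finset.subset_univ (Finset.univ.filter fun g => g ∈ N))
    (fun g _ hg => extendByZero_not_mem H _ fun hh => hg (by simpa using h g hh)),
    Finset.sum_subtype (Finset.univ.filter fun g => g ∈ N) (p := fun g => g ∈ N) (by simp)]
  refine Finset.sum_congr rfl fun y _ => ?_
  by_cases hy : (y : G)⁻¹ * x * y ∈ H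
  · rw [extendByZero_mem H _ hy, extendByZero_mem (H.subgroupOf N) _
      (Subgroup.mem_subgroupOf.mpr (by simpa using hy))]
  · rw [extendByZero_not_mem H _ hy, extendByZero_not_mem (H.subgroupOf N) _
      (fun hh => hy (by simpa using Subgroup.mem_subgroupOf.mp hh))]

/-- For each element there is a quasi-elementary subgroup whose permutation character there is
prime to `p`. -/
theorem exists_pqe_not_dvd (x : G) {p : ℕ} (hp : p.Prime) :
    ∃ H : Subgroup G, IsPQE p H ∧ ∃ n : ℕ, indFun H (fun _ => 1) x = (n : ℂ) ∧ ¬ p ∣ n := by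
  classical
  haveI := Fact.mk hp
  obtain ⟨a, m, hm, hn⟩ := Nat.exists_eq_pow_mul_and_not_dvd (orderOf_pos x).ne' p hp.ne_one
  have hco : Nat.Coprime (p ^ a) m := (hp.coprime_iff_not_dvd.mpr hm).pow_left a
  set u := Nat.gcdA (p ^ a) m
  set v := Nat.gcdB (p ^ a) m
  have huv : (1 : ℤ) = (p ^ a : ℕ) * u + m * v := by
    rw [← Nat.gcd_eq_gcd_ab]; simp [show Nat.gcd (p ^ a) m = 1 from hco]
  set xp := x ^ ((m : ℤ) * v) with hxp
  set xq := x ^ (((p ^ a : ℕ) : ℤ) * u) with hxq
  have hx : x = xq * xp := by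
    rw [hxq, hxp, ← zpow_add, ← huv, zpow_one]
  have hord : ∀ z : ℤ, x ^ ((orderOf x : ℤ) * z) = 1 := fun z => by
    rw [zpow_mul, zpow_natCast, pow_orderOf_eq_one, one_zpow]
  have hpp : xp ^ (p ^ a) = 1 := by
    rw [hxp, ← zpow_natCast, ← zpow_mul,
      show (m : ℤ) * v * ((p ^ a : ℕ) : ℤ) = (orderOf x : ℤ) * v by rw [hn]; push_cast; ring]
    exact hord v
  have hqm : xq ^ m = 1 := by
    rw [hxq, ← zpow_natCast, ← zpow_mul,
      show ((p ^ a : ℕ) : ℤ) * u * (m : ℤ) = (orderOf x : ℤ) * u by rw [hn]; push_cast; ring]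
    exact hord u
  set C := Subgroup.zpowers xq with hC
  set N := Subgroup.normalizer (C : Set G) with hN
  have hcomm : Commute xp xq := (Commute.refl x).zpow_zpow _ _
  have hCcop : Nat.Coprime (Nat.card C) p := by
    rw [hC, Nat.card_zpowers]
    exact (hp.coprime_iff_not_dvd.mpr hm).symm.coprime_dvd_left (orderOf_dvd_of_pow_eq_one hqm)
  have hCN : C ≤ N := Subgroup.le_normalizer
  have hxpN : xp ∈ N := by
    rw [hN, Subgroup.mem_normalizer_iff]
    intro c
    have hc : ∀ d ∈ C, xp * d * xp⁻¹ = d := by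
      rintro d ⟨k, rfl⟩
      simp [(hcomm.zpow_right k).eq]
    refine ⟨fun h => (hc c h).symm ▸ h, fun h => ?_⟩
    have := hc _ h
    have e : c = xp * c * xp⁻¹ := by
      calc c = xp⁻¹ * (xp * c * xp⁻¹) * xp := by group
        _ = xp⁻¹ * (xp * (xp * c * xp⁻¹) * xp⁻¹) * xp := by rw [this]
        _ = xp * c * xp⁻¹ := by group
    exact e ▸ h
  have hxqN : xq ∈ N := hCN (Subgroup.mem_zpowers xq)
  have hxN : x ∈ N := hx ▸ N.mul_mem hxqN hxpN
  obtain ⟨P, hP⟩ := IsPGroup.exists_le_sylow (G := N) (p := p)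
    (P := Subgroup.zpowers (⟨xp, hxpN⟩ : N)) (IsPGroup.of_card_dvd_pow (n := a) (by
      rw [Nat.card_zpowers]
      exact orderOf_dvd_of_pow_eq_one (Subtype.ext (by simpa using hpp))))
  set C' := C.subgroupOf N with hC'
  haveI : C'.Normal := Subgroup.normal_in_normalizer
  set H' := (P : Subgroup N) ⊔ C' with hH'
  set H := H'.map N.subtype with hH
  have hHN : H ≤ N := Subgroup.map_subtype_le _
  have hCH : C ≤ H := fun c hc => ⟨⟨c, hCN hc⟩, Subgroup.mem_sup_right hc, rfl⟩
  have hHsub : H.subgroupOf N = H' :=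
    Subgroup.comap_map_eq_self_of_injective N.subtype_injective H'
  have hrel : ∃ k, C.relIndex H = p ^ k := by
    have h1 : C.relIndex H = C'.relIndex H' := by
      rw [hC', ← hHsub, Subgroup.relIndex_subgroupOf hHN]
    rw [h1, hH', Subgroup.relIndex_sup_right]
    have h2 := Subgroup.relIndex_dvd_card C' (P : Subgroup N)
    obtain ⟨k, hk⟩ := P.2.exists_card_eq
    rw [hk] at h2
    obtain ⟨j, -, hj⟩ := (Nat.dvd_prime_pow hp).mp h2
    exact ⟨j, hj⟩
  have hpqe : IsPQE p H := ⟨C, hCH, hHN, inferInstance, hCcop, hrel⟩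
  refine ⟨H, hpqe, Nat.card (fixedBy (N ⧸ H') (⟨x, hxN⟩ : N)), ?_, ?_⟩
  · rw [indFun_one_of_conj_mem hHN hxN ?_,
      congrFun (indFun_congr hHsub (θ' := fun _ => 1) fun _ => rfl) _, indFun_one_eq_coset]
    intro g hg
    -- the p'-part lands in C
    have hgq : g⁻¹ * xq * g ∈ C := by
      have hmemH : g⁻¹ * xq * g ∈ H := by
        have e : g⁻¹ * xq * g = (g⁻¹ * x * g) ^ (((p ^ a : ℕ) : ℤ) * u) := by
          have hc := conj_zpow (i := ((p ^ a : ℕ) : ℤ) * u) (a := g⁻¹) (b := x)
          rw [inv_inv] at hc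
          rw [hc, hxq]
        rw [e]
        exact H.zpow_mem hg _
      obtain ⟨k, hk⟩ := hrel
      haveI hnorm : (C.subgroupOf H).Normal :=
        (Subgroup.normal_subgroupOf_iff_le_normalizer hCH).mpr hHN
      set y : H := ⟨g⁻¹ * xq * g, hmemH⟩
      have hy1 : orderOf (QuotientGroup.mk y : H ⧸ C.subgroupOf H) ∣ m := by
        refine (orderOf_map_dvd (QuotientGroup.mk' (C.subgroupOf H)) y).trans
          (orderOf_dvd_of_pow_eq_one (Subtype.ext ?_))
        show (g⁻¹ * xq * g) ^ m = 1
        have e : g⁻¹ * xq * g = g⁻¹ * xq * g⁻¹⁻¹ := by rw [inv_inv]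
        rw [e, conj_pow, hqm]
        group
      have hy2 : orderOf (QuotientGroup.mk y : H ⧸ C.subgroupOf H) ∣ p ^ k := by
        rw [← hk]
        exact orderOf_dvd_natCard _
      have hy3 := Nat.eq_one_of_dvd_coprimes ((hp.coprime_iff_not_dvd.mpr hm).pow_left k) hy2 hy1
      rw [orderOf_eq_one_iff, QuotientGroup.eq_one_iff] at hy3
      exact hy3
    rw [hN, Subgroup.mem_normalizer_iff]
    have hmap : C.map (MulAut.conj g⁻¹).toMonoidHom = C := by
      refine Subgroup.eq_of_le_of_card_ge ?_ ?_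
      · rw [hC, MonoidHom.map_zpowers, Subgroup.zpowers_le]
        simpa using hgq
      · rw [Subgroup.card_map_of_injective (MulAut.conj g⁻¹).injective]
    intro c
    constructor
    · intro hc
      rw [← hmap] at hc
      obtain ⟨d, hd, rfl⟩ := hc
      have : g * ((MulAut.conj g⁻¹).toMonoidHom d) * g⁻¹ = d := by simp [mul_assoc]
      rw [this]; exact hd
    · intro hc
      rw [← hmap]
      exact ⟨_, hc, by simp [mul_assoc]⟩
  · -- fixed points of the p-part
    intro hdvd
    set Q := Subgroup.zpowers (⟨xp, hxpN⟩ : N)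
    have hQ : IsPGroup p Q := P.2.to_le hP
    have hxqfix : ∀ y : N ⧸ H', (⟨xq, hxqN⟩ : N) • y = y := by
      intro y
      induction y using QuotientGroup.induction_on with
      | _ n =>
        refine QuotientGroup.eq.mpr ?_
        refine Subgroup.mem_sup_right ?_
        have hq' : (⟨xq, hxqN⟩ : N)⁻¹ ∈ C' := C'.inv_mem (Subgroup.mem_zpowers xq)
        have := (inferInstance : C'.Normal).conj_mem _ hq' n⁻¹
        simpa [mul_assoc] using this
    have hfix : fixedBy (N ⧸ H') (⟨x, hxN⟩ : N) = fixedPoints Q (N ⧸ H') := by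
      have hxeq : (⟨x, hxN⟩ : N) = ⟨xq, hxqN⟩ * ⟨xp, hxpN⟩ := Subtype.ext hx
      ext y
      rw [mem_fixedBy, mem_fixedPoints, hxeq, mul_smul, hxqfix]
      constructor
      · intro hy q
        have hst : Q ≤ stabilizer N y := Subgroup.zpowers_le.mpr hy
        exact hst q.2
      · intro hy
        exact hy ⟨⟨xp, hxpN⟩, Subgroup.mem_zpowers _⟩
    have h1 : (P : Subgroup N) ≤ H' := le_sup_left
    have h2 := (hQ.card_modEq_card_fixedPoints (N ⧸ H')).dvd_iff dvd_rfl
    rw [← Subgroup.index_eq_card] at h2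
    rw [hfix] at hdvd
    exact P.not_dvd_index ((h2.mpr hdvd).trans (Subgroup.index_dvd_of_le h1))

/-- Integral combinations of permutation characters of quasi-elementary subgroups. -/
def permRing (S : Set (Subgroup G)) : AddSubgroup (G → ℂ) :=
  AddSubgroup.closure ((fun H : Subgroup G => indFun H (fun _ => 1)) '' S)

theorem mem_permRing_iff {S : Set (Subgroup G)} {f : G → ℂ} (h : f ∈ permRing S) :
    ∃ a : Subgroup G → ℤ, (∀ H, a H ≠ 0 → H ∈ S) ∧
      f = ∑ H : Subgroup G, (a H : ℂ) • indFun H (fun _ => 1) := by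
  classical
  induction h using AddSubgroup.closure_induction with
  | mem f hf =>
    obtain ⟨H, hH, rfl⟩ := hf
    refine ⟨fun U => if U = H then 1 else 0, fun U hU => ?_, ?_⟩
    · by_cases e : U = H
      · exact e ▸ hH
      · exact absurd (if_neg e) hU
    · rw [Finset.sum_eq_single H] <;> simp +contextual
  | zero => exact ⟨0, fun H hH => absurd rfl hH, by simp⟩
  | add f g _ _ ihf ihg =>
    obtain ⟨a, ha, rfl⟩ := ihf
    obtain ⟨b, hb, rfl⟩ := ihg
    refine ⟨a + b, fun H hH => ?_, by simp [add_smul, Finset.sum_add_distrib]⟩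
    by_cases e : a H = 0
    · exact hb H (by simpa [e] using hH)
    · exact ha H e
  | neg f _ ihf =>
    obtain ⟨a, ha, rfl⟩ := ihf
    exact ⟨-a, fun H hH => ha H (by simpa using hH), by simp [neg_smul]⟩

theorem mul_mem_permRing {S : Set (Subgroup G)} (hS : ∀ H ∈ S, ∀ U, U ≤ H → U ∈ S)
    {f g : G → ℂ} (hf : f ∈ permRing S) (hg : g ∈ permRing S) : f * g ∈ permRing S := by
  induction hf using AddSubgroup.closure_induction with
  | mem f hf =>
    induction hg using AddSubgroup.closure_induction with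
    | mem g hg =>
      obtain ⟨H, hH, rfl⟩ := hf
      obtain ⟨K, -, rfl⟩ := hg
      obtain ⟨a, ha, he⟩ := indFun_one_mul H K
      simp only
      rw [he]
      refine AddSubgroup.sum_mem _ fun U _ => ?_
      by_cases h0 : a U = 0
      · simp [h0]
      · rw [Nat.cast_smul_eq_nsmul]
        have hmem : indFun U (fun _ => (1 : ℂ)) ∈ permRing S :=
          AddSubgroup.subset_closure ⟨U, hS H hH U (ha U h0), rfl⟩
        exact AddSubgroup.nsmul_mem _ hmem _
    | zero => simp
    | add a b _ _ iha ihb => rw [mul_add]; exact add_mem iha ihb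
    | neg a _ iha => rw [mul_neg]; exact neg_mem iha
  | zero => simp
  | add a b _ _ iha ihb => rw [add_mul]; exact add_mem iha ihb
  | neg a _ iha => rw [neg_mul]; exact neg_mem iha

/-- Solomon's theorem, local form. -/
theorem solomon_local {p : ℕ} (hp : p.Prime) :
    ∃ m : ℤ, ¬ (p : ℤ) ∣ m ∧ (fun _ : G => (m : ℂ)) ∈ permRing {H | IsPQE p H} := by
  let φ : (G → ℤ) →+ (G → ℂ) :=
    { toFun := fun f g => (f g : ℂ), map_zero' := by ext; simp, map_add' := fun f g => by ext; simp }
  obtain ⟨m, hm, hmR⟩ := exists_const_mem ((permRing {H : Subgroup G | IsPQE p H}).comap φ)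
    (fun f hf g hg => by
      rw [AddSubgroup.mem_comap] at hf hg ⊢
      have : φ (f * g) = φ f * φ g := by ext; simp [φ]
      rw [this]
      exact mul_mem_permRing (fun H hH U hU => IsPQE.mono hp hH hU) hf hg) hp
    (fun x => by
      obtain ⟨H, hH, n, hn, hpn⟩ := exists_pqe_not_dvd x hp
      refine ⟨fun g => (Nat.card (fixedBy (G ⧸ H) g) : ℤ), ?_, ?_⟩
      · rw [AddSubgroup.mem_comap]
        exact AddSubgroup.subset_closure ⟨H, hH, funext fun g => by
          simp [φ, indFun_one_eq_coset]⟩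
      · rw [indFun_one_eq_coset] at hn
        show ¬ (p : ℤ) ∣ (Nat.card (fixedBy (G ⧸ H) x) : ℤ)
        rw [Nat.cast_injective hn]
        exact fun h => hpn (Int.natCast_dvd_natCast.mp h))
  exact ⟨m, hm, hmR⟩

end Perm

end Cfsg.Agent.CT
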