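import Cfsg.Agent.Lib.CT.GoodCount
import Cfsg.Agent.Lib.CT.GallagherExt
import Cfsg.Agent.Lib.CT.CliffordLe

/-!
# Sylow subgroups above a fully ramified character

If `χ` vanishes off the normal subgroup `Z` and `e ^ 2` has the `p`-part of `|H : Z|`, then a Sylow
subgroup above `Z` is itself fully ramified, and one obtains subgroups of `p`-power index.
-/

set_option autoImplicit false
set_option linter.unusedSectionVars false

namespace Cfsg.Agent.CT.RamifiedSylow

open scoped ComplexConjugate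

universe u

variable {G : Type u} [Group G]

theorem classInner_equiv {A : Type u} {B : Type u} [Group A] [Group B] [Fintype A] [Fintype B]
    (e : A ≃* B) (f f' : B → ℂ) :
    classInner (fun a => f (e a)) (fun a => f' (e a)) = classInner f f' := by
  simp only [classInner]
  rw [Nat.card_congr e.toEquiv]
  congr 1
  exact Fintype.sum_equiv e.toEquiv _ _ fun m => rfl

theorem inner_of_vanish (B Y : Subgroup G) [Fintype B] [Fintype Y] (hBY : B ≤ Y) (f f' : Y → ℂ)
    (h : ∀ y : Y, (y : G) ∉ B → f y = 0) :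
    classInner f f' * Nat.card Y = classInner (resTo B Y hBY f) (resTo B Y hBY f') * Nat.card B := by
  have hs : ∑ y : Y, f y * conj (f' y) =
      ∑ b : B, resTo B Y hBY f b * conj (resTo B Y hBY f' b) := by
    refine (Fintype.sum_of_injective (Subgroup.inclusion hBY) (Subgroup.inclusion_injective hBY) _ _
      (fun y hy => ?_) fun b => rfl).symm
    rw [h y fun hb => hy ⟨⟨y, hb⟩, rfl⟩, zero_mul]
  simp only [classInner]
  rw [hs]
  have h1 : (Nat.card Y : ℂ) ≠ 0 := card_ne_zero
  have h2 : (Nat.card B : ℂ) ≠ 0 := card_ne_zero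
  field_simp

theorem resTo_subchar (Z Y : Subgroup G) [Fintype Z] [Fintype Y] (hZY : Z ≤ Y) {χY : Y → ℂ}
    (hc : IsCharacter Y χY) {ξ : Y → ℂ} (hξ : IsIrrCharacter Y ξ) (hin : classInner χY ξ ≠ 0)
    {θ : Z → ℂ} (hθ : IsIrrCharacter Z θ) {e : ℕ} (hres : resTo Z Y hZY χY = (e : ℂ) • θ) :
    ∃ a : ℕ, 0 < a ∧ resTo Z Y hZY ξ = (a : ℂ) • θ ∧ deg ξ = a * deg θ := by
  classical
  have hξc := isCharacter_of_isIrr hξ
  have hm : 1 ≤ mult χY ξ := by
    rw [Nat.one_le_iff_ne_zero]
    intro h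
    exact hin (by rw [mult_spec hc hξc, h, Nat.cast_zero])
  have hd := isCharacter_sub_constituent hc hξ hm
  rw [Nat.cast_one, one_smul] at hd
  have hrξ : IsCharacter Z (resTo Z Y hZY ξ) := isCharacter_comp (Subgroup.inclusion hZY) hξc
  have hrd : IsCharacter Z (resTo Z Y hZY (χY - ξ)) := isCharacter_comp (Subgroup.inclusion hZY) hd
  have hadd : resTo Z Y hZY ξ + resTo Z Y hZY (χY - ξ) = (e : ℂ) • θ := by
    rw [← hres]; funext z; simp [resTo]
  have hzero : ∀ η : IrrCharacter Z, (η : Z → ℂ) ≠ θ → mult (resTo Z Y hZY ξ) η = 0 := by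
    intro η hη
    have h := congrArg (fun f => classInner f (η : Z → ℂ)) hadd
    simp only [classInner_add_left, classInner_smul_left, irr_inner_of_ne hθ η.2 (Ne.symm hη),
      mul_zero, mult_spec hrξ (isCharacter_of_isIrr η.2), mult_spec hrd (isCharacter_of_isIrr η.2)] at h
    have h' : mult (resTo Z Y hZY ξ) η + mult (resTo Z Y hZY (χY - ξ)) η = 0 := by exact_mod_cast h
    omega
  set a := mult (resTo Z Y hZY ξ) θ with ha
  have heq : resTo Z Y hZY ξ = (a : ℂ) • θ := by
    conv_lhs => rw [character_eq_sum hrξ]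
    rw [Finset.sum_eq_single (⟨θ, hθ⟩ : IrrCharacter Z)]
    · intro η _ hη
      rw [hzero η fun h => hη (Subtype.ext h), Nat.cast_zero, zero_smul]
    · simp
  have hdeg : deg ξ = a * deg θ := by
    have h := congrFun heq 1
    have h' : ξ 1 = (a : ℂ) * θ 1 := h
    rw [deg_eq hξc, deg_eq (isCharacter_of_isIrr hθ)] at h'
    exact_mod_cast h'
  exact ⟨a, Nat.pos_of_ne_zero fun h0 => (deg_pos hξ).ne' (by rw [hdeg, h0, Nat.zero_mul]), heq, hdeg⟩

/-- A Sylow subgroup above a fully ramified character is fully ramified. -/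
theorem sylow_ramified [Fintype G] {p : ℕ} [hp : Fact p.Prime] (Z Q : Subgroup G) [Fintype Z] [Fintype Q]
    (hZQ : Z ≤ Q) {χ : G → ℂ} (hχ : IsCharacter G χ) {θ : Z → ℂ} (hθ : IsIrrCharacter Z θ) {e : ℕ}
    (hres : (fun z : Z => χ z) = (e : ℂ) • θ) (hvan : ∀ g ∉ Z, χ g = 0) {r c : ℕ}
    (hr : Z.relIndex Q = p ^ r) (he : e ^ 2 = c * p ^ r) (hc : ¬ p ∣ c) {ξ : Q → ℂ}
    (hξ : IsIrrCharacter Q ξ) (hin : classInner (fun y : Q => χ y) ξ ≠ 0) :
    ∃ s k : ℕ, e = p ^ s * k ∧ ¬ p ∣ k ∧ deg ξ = p ^ s * deg θ ∧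
      (∀ y : Q, (y : G) ∉ Z → ξ y = 0) ∧ ∀ y : Q, χ y = (k : ℂ) * ξ y := by
  classical
  have hcQ := isCharacter_restrict Q hχ
  obtain ⟨a, ha, hra, hdeg⟩ := resTo_subchar Z Q hZQ hcQ hξ hin hθ hres
  have he0 : e ≠ 0 := fun h => by
    rw [h, zero_pow two_ne_zero] at he
    rcases mul_eq_zero.mp he.symm with h1 | h1
    · exact hc (h1 ▸ dvd_zero p)
    · exact pow_ne_zero r hp.out.ne_zero h1
  obtain ⟨s, k, hk, hek⟩ := Nat.exists_eq_pow_mul_and_not_dvd he0 p hp.out.ne_one
  have hrs : r = 2 * s := by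
    have h := congrArg (fun n => n.factorization p) he
    have hk0 : k ≠ 0 := fun h => hk (h ▸ dvd_zero p)
    have hc0 : c ≠ 0 := fun h => hc (h ▸ dvd_zero p)
    rw [hek, mul_pow, ← pow_mul, Nat.factorization_mul (pow_ne_zero _ hp.out.ne_zero) (pow_ne_zero _ hk0),
      Nat.factorization_mul hc0 (pow_ne_zero _ hp.out.ne_zero), hp.out.factorization_pow,
      hp.out.factorization_pow, Nat.factorization_pow] at h
    simp [Nat.factorization_eq_zero_of_not_dvd hk, Nat.factorization_eq_zero_of_not_dvd hc] at h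
    omega
  have hcard : Nat.card Q = Nat.card Z * p ^ r := by
    rw [← hr, Subgroup.relIndex, ← Subgroup.card_mul_index (Z.subgroupOf Q),
      Nat.card_congr (Subgroup.subgroupOfEquivOfLe hZQ).toEquiv]
  have hZ0 : (Nat.card Z : ℂ) ≠ 0 := card_ne_zero
  -- the multiplicity
  have h1 := inner_of_vanish Z Q hZQ (fun y : Q => χ y) ξ fun y hy => hvan _ hy
  rw [hra, show resTo Z Q hZQ (fun y : Q => χ y) = (e : ℂ) • θ from hres, classInner_smul_left,
    classInner_smul_right, irr_inner_self hθ, mult_spec hcQ (isCharacter_of_isIrr hξ), map_natCast,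
    hcard, mul_one, Nat.cast_mul, mul_comm (Nat.card Z : ℂ), ← mul_assoc] at h1
  have h1' : mult (fun y : Q => χ y) ξ * p ^ r = e * a := by
    exact_mod_cast mul_right_cancel₀ hZ0 h1
  have hsa : p ^ s ∣ a := by
    have : p ^ s * (p ^ s * mult (fun y : Q => χ y) ξ) = p ^ s * (k * a) := by
      rw [← mul_assoc, ← pow_add, ← two_mul, ← hrs, ← mul_assoc, ← hek, ← h1', mul_comm]
    refine (Nat.Coprime.pow_left s ((hp.out.coprime_iff_not_dvd).mpr hk)).dvd_of_dvd_mul_left ?_
    exact ⟨_, (Nat.eq_of_mul_eq_mul_left (pow_pos hp.out.pos s) this).symm⟩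
  -- the norm
  have hnorm : ∑ y : Q, Complex.normSq (ξ y) = (Nat.card Q : ℝ) := by
    have h := classInner_self_eq_sum ξ
    rw [irr_inner_self hξ, mul_one] at h
    rw [← Complex.ofReal_inj, Complex.ofReal_sum, Complex.ofReal_natCast, h]
    exact Finset.sum_congr rfl fun y _ => (Complex.mul_conj _).symm
  have hZsum : ∑ y ∈ Finset.univ.filter (fun y : Q => (y : G) ∈ Z), Complex.normSq (ξ y) =
      ((a ^ 2 * Nat.card Z : ℕ) : ℝ) := by
    have h := classInner_self_eq_sum θ
    rw [irr_inner_self hθ, mul_one] at h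
    rw [← Complex.ofReal_inj, Complex.ofReal_sum, Complex.ofReal_natCast, Nat.cast_mul, h,
      Finset.mul_sum]
    refine Finset.sum_bij' (fun y hy => ⟨(y : G), (Finset.mem_filter.mp hy).2⟩)
      (fun z _ => ⟨(z : G), hZQ z.2⟩) (fun y _ => Finset.mem_univ _)
      (fun z _ => Finset.mem_filter.mpr ⟨Finset.mem_univ _, z.2⟩) (fun y _ => rfl) (fun z _ => rfl)
      fun y hy => ?_
    have hv := congrFun hra ⟨(y : G), (Finset.mem_filter.mp hy).2⟩
    rw [show ξ y = (a : ℂ) * θ ⟨(y : G), (Finset.mem_filter.mp hy).2⟩ from hv, map_mul,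
      Complex.normSq_natCast, Complex.ofReal_mul, ← Complex.mul_conj]
    push_cast
    ring
  have hsplit := Finset.sum_filter_add_sum_filter_not Finset.univ (fun y : Q => (y : G) ∈ Z)
    (fun y => Complex.normSq (ξ y))
  rw [hnorm, hZsum] at hsplit
  have hnn : ∀ y ∈ Finset.univ.filter (fun y : Q => ¬ (y : G) ∈ Z), 0 ≤ Complex.normSq (ξ y) :=
    fun y _ => Complex.normSq_nonneg _
  have haps : a = p ^ s := by
    refine le_antisymm ?_ (Nat.le_of_dvd ha hsa)
    have hle : ((a ^ 2 * Nat.card Z : ℕ) : ℝ) ≤ Nat.card Q := by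
      have := Finset.sum_nonneg hnn
      linarith
    rw [hcard, hrs, mul_comm 2 s, pow_mul, mul_comm (Nat.card Z)] at hle
    exact (Nat.pow_le_pow_iff_left two_ne_zero).mp
      (Nat.le_of_mul_le_mul_right (by exact_mod_cast hle) Nat.card_pos)
  have hrest : ∀ y : Q, (y : G) ∉ Z → ξ y = 0 := by
    intro y hy
    rw [hcard, hrs, haps, mul_comm 2 s, pow_mul, mul_comm (Nat.card Z), add_eq_left] at hsplit
    exact Complex.normSq_eq_zero.mp ((Finset.sum_eq_zero_iff_of_nonneg hnn).mp hsplit y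
      (Finset.mem_filter.mpr ⟨Finset.mem_univ _, hy⟩))
  refine ⟨s, k, hek, hk, by rw [hdeg, haps], hrest, fun y => ?_⟩
  by_cases hy : (y : G) ∈ Z
  · have hv : χ y = (e : ℂ) * θ ⟨(y : G), hy⟩ := congrFun hres ⟨(y : G), hy⟩
    have hv' : ξ y = (a : ℂ) * θ ⟨(y : G), hy⟩ := congrFun hra ⟨(y : G), hy⟩
    rw [hv, hv', hek, haps]
    push_cast
    ring
  · rw [hvan _ hy, hrest y hy, mul_zero]

theorem relIndex_dvd_index [Finite G] (I R : Subgroup G) [R.Normal] : I.relIndex R ∣ I.index := by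
  have ha := Subgroup.relIndex_mul_index (inf_le_right : I ⊓ R ≤ R)
  have hb := Subgroup.relIndex_mul_index (inf_le_left : I ⊓ R ≤ I)
  rw [Subgroup.inf_relIndex_right] at ha
  rw [Subgroup.inf_relIndex_left, ← ha] at hb
  obtain ⟨d, hd⟩ := Subgroup.relIndex_dvd_index_of_normal R I
  rw [hd, mul_left_comm] at hb
  exact ⟨d, Nat.eq_of_mul_eq_mul_left (Nat.pos_of_ne_zero fun h0 => by
    rw [h0, zero_mul] at hd; exact Subgroup.index_ne_zero_of_finite hd) hb⟩

section Orbit

variable [Fintype G] (A Q : Subgroup G) [A.Normal] [Fintype A] [Fintype Q] (hAQ : A ≤ Q) {ξ : Q → ℂ}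
  (hξ : IsIrrCharacter Q ξ) (hvan : ∀ y : Q, (y : G) ∉ A → ξ y = 0) {ψ : A → ℂ}
  (hψ : IsIrrCharacter A ψ) (hin : classInner (resTo A Q hAQ ξ) ψ ≠ 0)

include hξ hvan hψ hin in
theorem orbit_count :
    deg ξ = mult (resTo A Q hAQ ξ) ψ * (inertia A ψ).relIndex Q * deg ψ ∧
      mult (resTo A Q hAQ ξ) ψ ^ 2 * (inertia A ψ).relIndex Q = A.relIndex Q := by
  classical
  let A' : Subgroup Q := A.subgroupOf Q
  letI := Fintype.ofFinite A'
  let e : A' ≃* A := Subgroup.subgroupOfEquivOfLe hAQ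
  let ψ' : A' → ℂ := fun m => ψ (e m)
  have hψ' : IsIrrCharacter A' ψ' := isIrrCharacter_comp e.toMonoidHom e.surjective hψ
  have hinner : ∀ f, classInner (fun m : A' => ξ m) (fun m => f (e m)) =
      classInner (resTo A Q hAQ ξ) f := fun f => classInner_equiv e (resTo A Q hAQ ξ) f
  have hmult : mult (fun m : A' => ξ m) ψ' = mult (resTo A Q hAQ ξ) ψ := by
    simp only [mult, ψ', hinner]
  have hI : inertia A' ψ' = (inertia A ψ).subgroupOf Q := by
    ext t
    rw [Subgroup.mem_subgroupOf, mem_inertia, mem_inertia]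
    constructor
    · intro h; funext a; simpa [ψ'] using! congrFun h (e.symm a)
    · intro h; funext a; exact congrFun h (e a)
  have hne : classInner (fun m : A' => ξ m) ψ' ≠ 0 := (hinner ψ).trans_ne hin
  have hd := clifford_mult A' hξ hψ' hne
  have hdeg : deg ψ' = deg ψ := by simp [deg, ψ']
  refine ⟨?_, ?_⟩
  · rw [hd, hmult, hI, hdeg]; rfl
  have hrc : IsCharacter A' (fun m : A' => ξ m) := isCharacter_restrict A' (isCharacter_of_isIrr hξ)
  have horb : ∀ f ∈ conjOrbit A' ψ', IsIrrCharacter A' f := fun f hf => by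
    obtain ⟨g, rfl⟩ := (mem_conjOrbit A').mp hf
    exact isIrrCharacter_conjFun A' g hψ'
  have hcl := clifford A' hξ hψ' hne
  rw [mult_spec hrc (isCharacter_of_isIrr hψ'), hmult] at hcl
  have h1 : classInner (fun m : A' => ξ m) (fun m : A' => ξ m) =
      ((mult (resTo A Q hAQ ξ) ψ ^ 2 * (inertia A ψ).relIndex Q : ℕ) : ℂ) := by
    rw [hcl, classInner_smul_left, classInner_smul_right, map_natCast, classInner_sum_left,
      Finset.sum_congr rfl (g := fun _ => (1 : ℂ)) fun f hf => by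
        rw [classInner_sum_right, Finset.sum_eq_single f
          (fun b hb hne => irr_inner_of_ne (horb f hf) (horb b hb) (Ne.symm hne))
          (fun h => absurd hf h), irr_inner_self (horb f hf)],
      Finset.sum_const, card_conjOrbit, hI, Nat.smul_one_eq_cast]
    push_cast [Subgroup.relIndex]
    ring
  have h2 := inner_of_vanish A Q hAQ ξ ξ hvan
  rw [irr_inner_self hξ, one_mul, ← classInner_equiv e (resTo A Q hAQ ξ) (resTo A Q hAQ ξ)] at h2
  have h3 : (Nat.card Q : ℂ) = (A.relIndex Q : ℂ) * Nat.card A := by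
    rw [← Nat.cast_mul, Nat.cast_inj, Subgroup.relIndex, ← Nat.card_congr e.toEquiv,
      Subgroup.index_mul_card]
  rw [show classInner (fun a : A' => resTo A Q hAQ ξ (e a)) (fun a : A' => resTo A Q hAQ ξ (e a)) =
    classInner (fun m : A' => ξ m) (fun m : A' => ξ m) from rfl, h1, h3] at h2
  exact_mod_cast (mul_right_cancel₀ (card_ne_zero (G := A)) h2).symm

include hξ hvan hψ hin in
/-- Over a cyclic section there is no ramification. -/
theorem mult_eq_one_of_cyclic {X : Type u} [Group X] (π : G →* X) (hker : ∀ y ∈ Q, π y = 1 → y ∈ A)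
    (hAπ : A ≤ π.ker) (hcyc : IsCyclic (Q.map π)) : mult (resTo A Q hAQ ξ) ψ = 1 := by
  classical
  obtain ⟨hd, -⟩ := orbit_count A Q hAQ hξ hvan hψ hin
  set I := inertia A ψ ⊓ Q with hI
  have hAI : A ≤ I := le_inf (le_inertia A (isClassFunction_of_isIrr hψ)) hAQ
  have hle : I.map π ≤ Q.map π := Subgroup.map_mono inf_le_right
  obtain ⟨⟨y, hy⟩, hgen⟩ := isCyclic_of_surjective (Subgroup.subgroupOfEquivOfLe hle).toMonoidHom
    (Subgroup.subgroupOfEquivOfLe hle).surjective
  obtain ⟨g, hg, rfl⟩ := hy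
  have hBI : A ⊔ Subgroup.zpowers g = I := by
    refine le_antisymm (sup_le hAI (Subgroup.zpowers_le.mpr hg)) fun x hx => ?_
    obtain ⟨i, hi⟩ := hgen ⟨π x, x, hx, rfl⟩
    have hi' : π g ^ i = π x := congrArg Subtype.val hi
    have hmem : x * (g ^ i)⁻¹ ∈ A := hker _ (Q.mul_mem hx.2 (Q.inv_mem (Q.zpow_mem hg.2 i)))
      (by rw [map_mul, map_inv, map_zpow, hi', mul_inv_cancel])
    rw [show x = x * (g ^ i)⁻¹ * g ^ i by group]
    exact mul_mem (Subgroup.mem_sup_left hmem) (Subgroup.mem_sup_right (Subgroup.zpow_mem_zpowers g i))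
  have hnorm : ∀ x ∈ A, g⁻¹ * x * g ∈ A := fun x hx => by
    simpa using (inferInstance : A.Normal).conj_mem x hx g⁻¹
  set B := A ⊔ Subgroup.zpowers g with hB
  haveI := Fintype.ofFinite B
  obtain ⟨E, hE, hEres⟩ : ∃ E : B → ℂ, IsIrrCharacter B E ∧
      ∀ y : A, E ⟨y, Subgroup.mem_sup_left y.2⟩ = ψ y :=
    GoodCount.exists_ext_step A g hnorm hψ fun x => by
      have := (mem_inertia_iff A).mp ((inertia A ψ).inv_mem hg.1) x
      simpa using this
  have hBQ : B ≤ Q := hBI ▸ inf_le_right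
  let B' : Subgroup Q := B.subgroupOf Q
  haveI := Fintype.ofFinite B'
  let eB : B' ≃* B := Subgroup.subgroupOfEquivOfLe hBQ
  have hE' : IsIrrCharacter B' (fun b => E (eB b)) := isIrrCharacter_comp eB.toMonoidHom eB.surjective hE
  have hne : classInner (resTo B Q hBQ ξ) E ≠ 0 := by
    intro h0
    have h2 := inner_of_vanish A B le_sup_left (resTo B Q hBQ ξ) E fun b hb => hvan _ hb
    rw [h0, zero_mul, show resTo A B le_sup_left E = ψ from funext hEres,
      show resTo A B le_sup_left (resTo B Q hBQ ξ) = resTo A Q hAQ ξ from rfl] at h2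
    exact hin ((mul_eq_zero.mp h2.symm).resolve_right card_ne_zero)
  have hi := isCharacter_indFun B' (isCharacter_of_isIrr hE')
  have hne' : classInner (indFun B' fun b => E (eB b)) ξ ≠ 0 := by
    rw [frobenius_reciprocity B' _ (isClassFunction_of_isIrr hξ), classInner_comm_of_char
      (isCharacter_of_isIrr hE') (isCharacter_restrict B' (isCharacter_of_isIrr hξ))]
    exact (classInner_equiv eB (resTo B Q hBQ ξ) E).trans_ne hne
  have hm1 : 1 ≤ mult (indFun B' fun b => E (eB b)) ξ := by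
    rw [Nat.one_le_iff_ne_zero]
    intro h
    exact hne' (by rw [mult_spec hi (isCharacter_of_isIrr hξ), h, Nat.cast_zero])
  have hle2 := constituent_deg_le hi ⟨ξ, hξ⟩
  have hdi : deg (indFun B' fun b => E (eB b)) = (inertia A ψ).relIndex Q * deg ψ := by
    have h := indFun_one_eval B' (fun b => E (eB b))
    rw [deg_eq hi, map_one, show B'.index = (inertia A ψ).relIndex Q by
      rw [show B'.index = I.relIndex Q from congrArg (Subgroup.relIndex · Q) hBI,
        hI, Subgroup.inf_relIndex_right]] at h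
    have h1 : E 1 = ψ 1 := by
      rw [← hEres 1]; exact congrArg E (Subtype.ext rfl)
    rw [h1, deg_eq (isCharacter_of_isIrr hψ)] at h
    exact_mod_cast h
  have hdξ := deg_pos hξ
  have hm0 : mult (resTo A Q hAQ ξ) ψ ≠ 0 := fun h => by rw [h, Nat.zero_mul, Nat.zero_mul] at hd; omega
  have h3 : deg ξ ≤ (inertia A ψ).relIndex Q * deg ψ := by
    rw [← hdi]
    exact (Nat.le_mul_of_pos_left _ hm1).trans hle2
  rw [hd, mul_assoc] at h3
  have hpos : 0 < (inertia A ψ).relIndex Q * deg ψ := by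
    rcases Nat.eq_zero_or_pos ((inertia A ψ).relIndex Q * deg ψ) with h | h
    · rw [hd, mul_assoc, h, mul_zero] at hdξ; omega
    · exact h
  have := Nat.le_of_mul_le_mul_right (a := mult (resTo A Q hAQ ξ) ψ) (b := 1) (by simpa using h3) hpos
  omega

end Orbit

/-- The stabilizer of a constituent on the intersection with a Sylow subgroup. -/
theorem exists_le_index_eq [Fintype G] {p : ℕ} [hp : Fact p.Prime] (Z A Q : Subgroup G) [A.Normal]
    [Fintype Z] [Fintype A] [Fintype Q] (hZA : Z ≤ A) (hAQ : A ≤ Q) {χ : G → ℂ} (hχ : IsCharacter G χ)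
    (hχ0 : χ ≠ 0) {θ : Z → ℂ} (hθ : IsIrrCharacter Z θ) {e : ℕ}
    (hres : (fun z : Z => χ z) = (e : ℂ) • θ) (hvan : ∀ g ∉ Z, χ g = 0) {r c : ℕ}
    (hr : Z.relIndex Q = p ^ r) (he : e ^ 2 = c * p ^ r) (hc : ¬ p ∣ c)
    {X : Type u} [Group X] (π : G →* X) (hker : ∀ y ∈ Q, π y = 1 → y ∈ A) (hAπ : A ≤ π.ker)
    (hsyl : ¬ p ∣ A.relIndex π.ker)
    (hcase : IsCyclic (Q.map π) ∨ ∃ (φ : A → ℂ) (c' : ℕ), IsCharacter A φ ∧
      (∀ η : IrrCharacter A, classInner φ η ≠ 0 → classInner (fun a : A => χ a) η ≠ 0) ∧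
      A.relIndex Q * c' * deg φ = e * deg θ) :
    ∃ I : Subgroup G, π.ker ≤ I ∧ I.index = A.relIndex Q := by
  classical
  obtain ⟨ξ, hξ⟩ := exists_constituent (isCharacter_restrict Q hχ) fun h => hχ0 (char_eq_zero_of_deg hχ
    (congrFun h 1))
  obtain ⟨s, k, hek, hk, hdξ, hξ0, hprop⟩ :=
    sylow_ramified Z Q (hZA.trans hAQ) hχ hθ hres hvan hr he hc ξ.2 hξ
  have hvA : ∀ y : Q, (y : G) ∉ A → (ξ : Q → ℂ) y = 0 := fun y hy => hξ0 y fun h => hy (hZA h)
  have hcA := isCharacter_restrict A hχ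
  have hresA : (fun a : A => χ a) = (k : ℂ) • resTo A Q hAQ ξ := funext fun a => hprop ⟨(a : G), hAQ a.2⟩
  obtain ⟨ψ, hψ⟩ := exists_constituent hcA fun h => hχ0 (char_eq_zero_of_deg hχ (by
    simpa using congrFun h 1))
  have hk0 : (k : ℂ) ≠ 0 := Nat.cast_ne_zero.mpr fun h => hk (h ▸ dvd_zero p)
  have hcon : ∀ η : A → ℂ, classInner (fun a : A => χ a) η ≠ 0 → classInner (resTo A Q hAQ ξ) η ≠ 0 := by
    intro η hη h0
    rw [hresA, classInner_smul_left, h0, mul_zero] at hη
    exact hη rfl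
  have hin := hcon _ hψ
  obtain ⟨hd, hsq⟩ := orbit_count A Q hAQ ξ.2 hvA ψ.2 hin
  set m := mult (resTo A Q hAQ (ξ : Q → ℂ)) ψ with hm
  set n := (inertia A (ψ : A → ℂ)).relIndex Q with hn
  -- constituents are conjugate under `Q`
  have hconj : ∀ η : IrrCharacter A, classInner (fun a : A => χ a) η ≠ 0 →
      ∃ t ∈ Q, conjFun A t (ψ : A → ℂ) = η := fun η hη =>
    exists_conj_of_resTo A ψ.2 Q hAQ ξ.2 hin η.2 (hcon _ hη)
  obtain ⟨b, hb0, hbres, hdb⟩ := resTo_subchar Z A hZA hcA ψ.2 hψ hθ hres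
  have hθ0 := deg_pos hθ
  have hmn : m * n * b = p ^ s := by
    apply Nat.eq_of_mul_eq_mul_right hθ0
    rw [← hdξ, hd, hdb, mul_assoc]
  have hm1 : m = 1 := by
    rcases hcase with hcyc | ⟨φ, c', hφ, hφsub, hφdeg⟩
    · exact mult_eq_one_of_cyclic A Q hAQ ξ.2 hvA ψ.2 hin π hker hAπ hcyc
    · have hdd : deg (ψ : A → ℂ) ∣ deg φ := by
        have h := congrFun (character_eq_sum hφ) 1
        rw [deg_eq hφ, Finset.sum_apply] at h
        simp only [Pi.smul_apply, smul_eq_mul] at h
        rw [Finset.sum_congr rfl fun η _ => by rw [deg_eq (isCharacter_of_isIrr η.2)]] at h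
        have h' : deg φ = ∑ η : IrrCharacter A, mult φ η * deg (η : A → ℂ) := by exact_mod_cast h
        rw [h']
        refine Finset.dvd_sum fun η _ => ?_
        by_cases h0 : mult φ η = 0
        · rw [h0, Nat.zero_mul]; exact dvd_zero _
        · obtain ⟨t, -, ht⟩ := hconj η (hφsub η (by
            rw [mult_spec hφ (isCharacter_of_isIrr η.2)]; exact Nat.cast_ne_zero.mpr h0))
          refine dvd_mul_of_dvd_right (dvd_of_eq ?_) _
          rw [← ht]
          simp [deg, conjFun_eq_comp]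
      obtain ⟨M, hM⟩ := hdd
      have h1 : A.relIndex Q * c' * (b * M) = p ^ s * k := by
        apply Nat.eq_of_mul_eq_mul_right hθ0
        rw [← hek, ← hφdeg, hM, hdb]; ring
      have h2 : p ^ s * (m * (c' * M)) = p ^ s * k := by
        rw [← h1, ← hsq, ← hmn]; ring
      have hmk : m ∣ k := ⟨c' * M, (Nat.eq_of_mul_eq_mul_left (pow_pos hp.out.pos s) h2).symm⟩
      have hmp : m ∣ p ^ s := ⟨n * b, by rw [← hmn, mul_assoc]⟩
      exact Nat.eq_one_of_dvd_coprimes (Nat.Coprime.pow_left s ((hp.out.coprime_iff_not_dvd).mpr hk)) hmp hmk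
  rw [hm1, one_pow, one_mul] at hsq
  set I := inertia A (ψ : A → ℂ) with hI
  -- `Q` is transitive
  have htrans : I.index = n := by
    let f : Q ⧸ I.subgroupOf Q → G ⧸ I := Quotient.map' Subtype.val fun a b h => by
      rw [QuotientGroup.leftRel_apply] at h ⊢
      exact h
    have hf : Function.Bijective f := by
      refine ⟨fun a b => Quotient.inductionOn₂' a b fun a b h => Quotient.sound' ?_,
        fun q => Quotient.inductionOn' q fun g => ?_⟩
      · have h' := Quotient.exact' h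
        rw [QuotientGroup.leftRel_apply] at h' ⊢
        exact h'
      · have hg : classInner (fun a : A => χ a) (conjFun A g⁻¹ (ψ : A → ℂ)) ≠ 0 := by
          rw [classInner_restrict_conjFun A (isClassFunction_of_isCharacter hχ)]
          exact hψ
        obtain ⟨t, ht, hte⟩ := hconj ⟨_, isIrrCharacter_conjFun A g⁻¹ ψ.2⟩ hg
        have hmem : g⁻¹ * t⁻¹ ∈ I := by
          show conjFun A (g⁻¹ * t⁻¹) (ψ : A → ℂ) = ψ
          rw [conjFun_mul, show conjFun A g⁻¹ (ψ : A → ℂ) = conjFun A t ψ from hte.symm, ← conjFun_mul,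
            mul_inv_cancel, conjFun_one]
        refine ⟨Quotient.mk'' ⟨t⁻¹, Q.inv_mem ht⟩, Quotient.sound' ?_⟩
        rw [QuotientGroup.leftRel_apply]
        have := I.inv_mem hmem
        simpa [mul_inv_rev] using this
    rw [hn, Subgroup.relIndex, Subgroup.index_eq_card, Subgroup.index_eq_card]
    exact (Nat.card_congr (Equiv.ofBijective f hf)).symm
  refine ⟨I, ?_, by rw [htrans, hsq]⟩
  -- the kernel fixes every constituent
  have hAI : A ≤ I := le_inertia A (isClassFunction_of_isIrr ψ.2)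
  have hd1 : I.relIndex π.ker ∣ A.relIndex π.ker := Subgroup.relIndex_dvd_of_le_left π.ker hAI
  have hd2 : I.relIndex π.ker ∣ p ^ r := by
    have h1 : I.relIndex π.ker ∣ I.index := relIndex_dvd_index I π.ker
    refine h1.trans ?_
    rw [htrans, hsq]
    rw [← hr]
    exact Subgroup.relIndex_dvd_of_le_left Q hZA
  have hcop := Nat.Coprime.pow_left r ((hp.out.coprime_iff_not_dvd).mpr fun h => hsyl (h.trans hd1))
  exact Subgroup.relIndex_eq_one.mp (Nat.eq_one_of_dvd_coprimes hcop hd2 dvd_rfl)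

/-- A fully ramified character gives subgroups above `K` of `p`-power index. -/
theorem exists_p_complement {H : Type u} [Group H] [Fintype H] (Z : Subgroup H) [Z.Normal]
    {χ : H → ℂ} (hχ : IsIrrCharacter H χ) {θ : Z → ℂ} (hθ : IsIrrCharacter Z θ) {e : ℕ}
    (he : e ^ 2 = Z.index) (hres : ∀ z : Z, χ z = (e : ℂ) * θ z) (K : Subgroup H) [K.Normal] (hZK : Z ≤ K)
    {p : ℕ} [hp : Fact p.Prime]
    (hcase : (∀ P : Sylow p (H ⧸ K), IsCyclic P) ∨
      ∃ φ : K → ℂ, IsCharacter K φ ∧ indFun K φ = χ) :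
    ∃ M : Subgroup (H ⧸ K), M.index = p ^ (Nat.card (H ⧸ K)).factorization p := by
  classical
  haveI := Fintype.ofFinite Z
  haveI := Fintype.ofFinite K
  have hres' : (fun z : Z => χ z) = (e : ℂ) • θ := funext hres
  have he0 : e ≠ 0 := fun h => Subgroup.index_ne_zero_of_finite (H := Z) (by rw [← he, h]; rfl)
  have hne : classInner (fun z : Z => χ z) θ ≠ 0 := by
    rw [hres', classInner_smul_left, irr_inner_self hθ, mul_one]
    exact Nat.cast_ne_zero.mpr he0
  obtain ⟨hvanH, -⟩ := (GallagherExt.fully_ramified Z hχ hθ hne).1.mp ⟨e, hres', he⟩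
  obtain ⟨P⟩ : Nonempty (Sylow p H) := inferInstance
  set Q : Subgroup H := (P : Subgroup H) ⊔ Z with hQ
  set A : Subgroup H := K ⊓ Q with hA
  set N : Subgroup H := Subgroup.normalizer (A : Set H) with hN
  have hPQ : (P : Subgroup H) ≤ Q := le_sup_left
  have hZQ : Z ≤ Q := le_sup_right
  have hQN : Q ≤ N := fun q hq => GoodCount.mem_normalizer_of_forall_conj fun x hx =>
    ⟨(inferInstance : K.Normal).conj_mem x hx.1 q, Q.mul_mem (Q.mul_mem hq hx.2) (Q.inv_mem hq)⟩
  have hAQ : A ≤ Q := inf_le_right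
  have hZA : Z ≤ A := le_inf hZK hZQ
  haveI := Fintype.ofFinite N
  -- Frattini
  have hPidx : ¬ p ∣ ((P : Subgroup H).subgroupOf K).index := fun h =>
    P.not_dvd_index (h.trans (relIndex_dvd_index _ K))
  have hQidx : ¬ p ∣ Q.index := fun h => P.not_dvd_index (h.trans (Subgroup.index_dvd_of_le hPQ))
  have hAKidx : ¬ p ∣ A.relIndex K := by
    rw [hA, inf_comm, Subgroup.inf_relIndex_right]
    exact fun h => hPidx (h.trans (Subgroup.relIndex_dvd_of_le_left K hPQ))
  have hPK : IsPGroup p ((P : Subgroup H).subgroupOf K) := P.2.comap_of_injective K.subtype K.subtype_injective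
  set PK : Sylow p K := hPK.toSylow hPidx with hPKdef
  have hNK : N ⊔ K = ⊤ := by
    refine top_le_iff.mp ((Sylow.normalizer_sup_eq_top PK).ge.trans (sup_le_sup_right ?_ K))
    rw [hPKdef, IsPGroup.toSylow_coe, Subgroup.subgroupOf_map_subtype]
    intro n hn
    refine GoodCount.mem_normalizer_of_forall_conj fun x hx => ⟨(inferInstance : K.Normal).conj_mem x hx.1 n, ?_⟩
    obtain ⟨hxK, hxQ⟩ := hx
    obtain ⟨a, ha, z, hz, rfl⟩ := Subgroup.mem_sup_of_normal_right.mp hxQ
    have haK : a ∈ K := by simpa using K.mul_mem hxK (K.inv_mem (hZK hz))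
    rw [show n * (a * z) * n⁻¹ = n * a * n⁻¹ * (n * z * n⁻¹) by group]
    exact mul_mem (Subgroup.mem_sup_left ((Subgroup.mem_normalizer_iff.mp hn a).mp ⟨ha, haK⟩).1)
      (Subgroup.mem_sup_right ((inferInstance : Z.Normal).conj_mem z hz n))
  -- descend to the normalizer
  let Zn : Subgroup N := Z.subgroupOf N
  let An : Subgroup N := A.subgroupOf N
  let Qn : Subgroup N := Q.subgroupOf N
  haveI : An.Normal := Subgroup.normal_in_normalizer
  haveI := Fintype.ofFinite Zn
  haveI := Fintype.ofFinite An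
  haveI := Fintype.ofFinite Qn
  let π : N →* H ⧸ K := (QuotientGroup.mk' K).comp N.subtype
  have hπker : π.ker = K.subgroupOf N := by
    rw [← MonoidHom.comap_ker, QuotientGroup.ker_mk']; rfl
  have hπsurj : Function.Surjective π := by
    intro q
    obtain ⟨g, rfl⟩ := QuotientGroup.mk_surjective q
    obtain ⟨n, hn, k, hk, rfl⟩ := Subgroup.mem_sup_of_normal_right.mp (hNK.ge (Subgroup.mem_top g))
    exact ⟨⟨n, hn⟩, QuotientGroup.eq.mpr (by simpa using hk)⟩
  have hAN : A ≤ N := hAQ.trans hQN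
  let eZ : Zn ≃* Z := Subgroup.subgroupOfEquivOfLe (hZA.trans hAN)
  -- the numbers
  have hrPZ : Z.relIndex Q ∣ Nat.card (P : Subgroup H) := by
    rw [hQ, Subgroup.relIndex_sup_right]
    exact Subgroup.relIndex_dvd_card Z _
  obtain ⟨r, hr⟩ : ∃ r, Z.relIndex Q = p ^ r := by
    obtain ⟨n, hn⟩ := IsPGroup.iff_card.mp P.2
    rw [hn] at hrPZ
    obtain ⟨r, -, hr⟩ := (Nat.dvd_prime_pow hp.out).mp hrPZ
    exact ⟨r, hr⟩
  have hcQ : e ^ 2 = Q.index * p ^ r := by rw [he, ← hr, mul_comm, Subgroup.relIndex_mul_index hZQ]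
  have himg : Qn.map π = (P : Subgroup H).map (QuotientGroup.mk' K) := by
    rw [← Subgroup.map_map, Subgroup.subgroupOf_map_subtype, inf_eq_left.mpr hQN, hQ, Subgroup.map_sup,
      (Subgroup.map_eq_bot_iff _).mpr (hZK.trans_eq (QuotientGroup.ker_mk' K).symm), sup_bot_eq]
  have hsurjK := QuotientGroup.mk'_surjective K
  have hidxA : An.relIndex Qn = p ^ (Nat.card (H ⧸ K)).factorization p := by
    rw [Subgroup.relIndex_subgroupOf hQN, hA, Subgroup.inf_relIndex_right,
      show K.relIndex Q = Nat.card (Q.map (QuotientGroup.mk' K)) by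
        rw [← Subgroup.relIndex_ker, QuotientGroup.ker_mk'], hQ, Subgroup.map_sup,
      (Subgroup.map_eq_bot_iff _).mpr (hZK.trans_eq (QuotientGroup.ker_mk' K).symm), sup_bot_eq,
      ← Sylow.coe_mapSurjective hsurjK P]
    exact Sylow.card_eq_multiplicity _
  obtain ⟨I, hIker, hIidx⟩ := exists_le_index_eq (p := p) Zn An Qn
    (Subgroup.comap_mono hZA) (Subgroup.comap_mono hAQ) (χ := fun n : N => χ n)
    (isCharacter_restrict N (isCharacter_of_isIrr hχ))
    (fun h => irr_one_ne_zero hχ (congrFun h 1))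
    (θ := fun z => θ (eZ z)) (isIrrCharacter_comp eZ.toMonoidHom eZ.surjective hθ) (e := e)
    (funext fun z => hres (eZ z)) (fun g hg => hvanH _ hg) (r := r) (c := Q.index)
    (by rw [Subgroup.relIndex_subgroupOf hQN, hr]) hcQ hQidx π
    (fun y hy h1 => ⟨(QuotientGroup.eq_one_iff _).mp h1, hy⟩)
    (fun y hy => (QuotientGroup.eq_one_iff _).mpr hy.1)
    (by
      rw [hπker, ← Subgroup.inf_subgroupOf_right, Subgroup.relIndex_subgroupOf inf_le_right]
      exact fun h => hAKidx (h.trans ⟨_, (Subgroup.relIndex_mul_relIndex A (K ⊓ N) K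
        (le_inf inf_le_left hAN) inf_le_left).symm⟩))
    (by
      rcases hcase with hcyc | ⟨φ, hφ, hind⟩
      · refine Or.inl ?_
        rw [himg, ← Sylow.coe_mapSurjective hsurjK P]
        exact hcyc _
      · let j : An →* K :=
          { toFun := fun a => ⟨((a : N) : H), a.2.1⟩
            map_one' := rfl
            map_mul' := fun _ _ => rfl }
        obtain ⟨c', hc'⟩ := (Nat.ordProj_dvd (Nat.card (H ⧸ K)) p)
        refine Or.inr ⟨fun a => φ (j a), c', isCharacter_comp j hφ, fun η hη => ?_, ?_⟩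
        · have hr : (fun a : An => χ ((a : N) : H)) =
              (Nat.card K : ℂ)⁻¹ • ∑ x : H, fun a : An => conjFun K x φ (j a) := by
            funext a
            have := congrFun (restrict_indFun K φ) (j a)
            rw [hind] at this
            simpa using! this
          show classInner (fun a : An => χ ((a : N) : H)) η ≠ 0
          rw [hr, classInner_smul_left, classInner_sum_left]
          refine mul_ne_zero (inv_ne_zero card_ne_zero) ?_
          have hn : ∀ x : H, classInner (fun a : An => conjFun K x φ (j a)) (η : An → ℂ) =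
              (mult (fun a : An => conjFun K x φ (j a)) η : ℂ) := fun x =>
            mult_spec (isCharacter_comp j (isCharacter_conjFun K x hφ)) (isCharacter_of_isIrr η.2)
          simp only [hn]
          rw [← Nat.cast_sum, Nat.cast_ne_zero]
          intro h0
          have h1 := (Finset.sum_eq_zero_iff.mp h0) 1 (Finset.mem_univ _)
          refine hη ?_
          rw [conjFun_one] at h1
          rw [mult_spec (isCharacter_comp j hφ) (isCharacter_of_isIrr η.2), h1, Nat.cast_zero]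
        · have h1 := indFun_one_eval K φ
          rw [hind, Subgroup.index_eq_card, deg_eq hφ, show χ 1 = (e : ℂ) * θ 1 from hres 1,
            deg_eq (isCharacter_of_isIrr hθ)] at h1
          have h2 : e * deg θ = Nat.card (H ⧸ K) * deg φ := by exact_mod_cast h1
          have d1 : deg (fun a : An => φ (j a)) = deg φ := by simp [deg]
          have d2 : deg (fun z : Zn => θ (eZ z)) = deg θ := by simp [deg]
          rw [d1, d2, h2, hidxA, ← hc'])
  refine ⟨I.map π, ?_⟩
  rw [Subgroup.index_map_eq I hπsurj hIker, hIidx, hidxA]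

end Cfsg.Agent.CT.RamifiedSylow
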