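import Cfsg.Agent.Lib.CT.Clifford
import Cfsg.Agent.Lib.CT.Kernel
import Cfsg.Agent.Lib.CT.RationalPBound
import Cfsg.Agent.Lib.Blocks.FixedOdd
import Cfsg.Agent.Lib.CoprimeExt.CoprimeDegree
import Cfsg.Agent.Lib.Components.FFThompson
import Cfsg.Agent.Lib.Coprime23.Conjugacy
import Cfsg.Agent.Lib.Coprime23.PSolv
import Cfsg.Agent.Lib.Basics.Cores

/-!
# Rational extension of a character of a normal `p'`-subgroup, and `p`-solvable linear groups

An invariant character of a normal subgroup `H` of order prime to `p` and `p`-power index extends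
to a character fixed by all power maps which are trivial on `H`: add up the characters induced from
the canonical extensions, one orbit of constituents at a time.
-/

set_option linter.all false

namespace Cfsg.Agent.CT.RationalExt

open Cfsg Cfsg.Agent
open scoped Pointwise

universe u

variable {Γ : Type u} [Group Γ] [Fintype Γ] {p : ℕ} [hp : Fact p.Prime]

theorem exists_orbit_char (H : Subgroup Γ) [H.Normal] [Fintype H] (hH : ¬ p ∣ Nat.card H)
    (hidx : ∃ a, H.index = p ^ a) (θ : IrrCharacter H) :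
    ∃ Ψ : Γ → ℂ, IsCharacter Γ Ψ ∧ (∀ h : H, Ψ h = (∑ ψ ∈ conjOrbit H (θ : H → ℂ), ψ) h) ∧
      ∀ k : ℕ, k.Coprime (Nat.card Γ) → (∀ h : H, h ^ k = h) → ∀ g : Γ, Ψ (g ^ k) = Ψ g := by
  classical
  set T := inertia H (θ : H → ℂ) with hT
  haveI := Fintype.ofFinite T
  have hHT : H ≤ T := le_inertia H (isClassFunction_of_isIrr θ.2)
  let N : Subgroup T := H.subgroupOf T
  haveI := Fintype.ofFinite N
  let e : N ≃* H := Subgroup.subgroupOfEquivOfLe hHT
  let θ' : IrrCharacter N := ⟨fun x => (θ : H → ℂ) (e x),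
    isIrrCharacter_comp e.toMonoidHom e.surjective θ.2⟩
  obtain ⟨a, ha⟩ := hidx
  have hNidx : ∃ j, N.index = p ^ j := by
    have h1 : N.index ∣ p ^ a := by
      rw [← ha]
      exact Subgroup.relIndex_dvd_index_of_normal H T
    obtain ⟨j, -, hj⟩ := (Nat.dvd_prime_pow hp.out).mp h1
    exact ⟨j, hj⟩
  obtain ⟨j, hj⟩ := hNidx
  have hNc : ¬ p ∣ Nat.card N := by rwa [Nat.card_congr e.toEquiv]
  haveI hNn : N.Normal := Subgroup.normal_subgroupOf
  have hinv : ∀ (g : T) (n : N), (θ' : N → ℂ) ⟨g * n * g⁻¹, hNn.conj_mem n n.2 g⟩ =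
      (θ' : N → ℂ) n := by
    intro g n
    have h := congrFun ((mem_inertia H).mp g.2) (e n)
    simp only [conjFun] at h
    exact h
  have hc1 : Nat.Coprime N.index (deg (θ' : N → ℂ)) :=
    hj ▸ ((hp.out.coprime_iff_not_dvd.mpr hNc).pow_left j).coprime_dvd_right
      (Glauberman.deg_dvd_card θ')
  have hc2 : Nat.Coprime N.index (detOrder (θ' : N → ℂ)) :=
    hj ▸ ((hp.out.coprime_iff_not_dvd.mpr hNc).pow_left j).coprime_dvd_right
      (CoprimeExt.detOrder_dvd_card (isCharacter_of_isIrr θ'.2))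
  obtain ⟨χ, ⟨hres, hdet⟩, huniq⟩ := CoprimeExt.exists_coprime_ext (N := N) θ' hinv hc1 hc2
  refine ⟨indFun T (χ : T → ℂ), isCharacter_indFun T (isCharacter_of_isIrr χ.2), fun h => ?_,
    fun k hk hkH g => ?_⟩
  · have hsum : ∀ x : Γ, extendByZero T (χ : T → ℂ) (x * (h : Γ) * x⁻¹) =
        conjFun H x (θ : H → ℂ) h := by
      intro x
      have hxH : x * (h : Γ) * x⁻¹ ∈ H := ‹H.Normal›.conj_mem h h.2 x
      rw [CT.extendByZero_mem T _ (hHT hxH)]
      exact hres ⟨⟨x * (h : Γ) * x⁻¹, hHT hxH⟩, hxH⟩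
    rw [indFun, show (fun x : Γ => extendByZero T (χ : T → ℂ) (x⁻¹ * (h : Γ) * x)) =
      fun x : Γ => conjFun H x⁻¹ (θ : H → ℂ) h from funext fun x => by
        rw [← hsum x⁻¹, inv_inv], show (∑ x : Γ, conjFun H x⁻¹ (θ : H → ℂ) h) =
        ∑ x : Γ, conjFun H x (θ : H → ℂ) h from
        Fintype.sum_equiv (Equiv.inv Γ) _ _ fun x => rfl, ← Finset.sum_apply,
      sum_conjFun, Pi.smul_apply, smul_eq_mul, ← mul_assoc, ← hT,
      inv_mul_cancel₀ (Nat.cast_ne_zero.mpr Nat.card_pos.ne'), one_mul]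
  · have hkT : k.Coprime (Nat.card T) := hk.coprime_dvd_right (Subgroup.card_subgroup_dvd_card T)
    have hfix : ∀ t : T, (χ : T → ℂ) (t ^ k) = (χ : T → ℂ) t := by
      have h := huniq (fun t => (χ : T → ℂ) (t ^ k))
        (OddChar.isCharacter_map_pow (isCharacter_of_isIrr χ.2) hkT)
        (fun n => by
          have h1 := hres (n ^ k)
          rw [SubgroupClass.coe_pow] at h1
          rw [h1]
          show (θ : H → ℂ) (e (n ^ k)) = (θ : H → ℂ) (e n)
          rw [map_pow, hkH])
        (by rw [Blocks.FixedOdd.detOrder_map_pow (isCharacter_of_isIrr χ.2) hkT, hdet]; exact hc2)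
      exact fun t => congrFun h t
    simp only [indFun]
    congr 1
    refine Finset.sum_congr rfl fun x _ => ?_
    have e1 : x⁻¹ * g ^ k * x = (x⁻¹ * g * x) ^ k := by
      have := (conj_pow (i := k) (a := x⁻¹) (b := g)).symm
      rwa [inv_inv] at this
    rw [e1]
    by_cases hy : x⁻¹ * g * x ∈ T
    · rw [CT.extendByZero_mem T _ (pow_mem hy k), CT.extendByZero_mem T _ hy]
      exact hfix ⟨_, hy⟩
    · have hy' : (x⁻¹ * g * x) ^ k ∉ T := fun hm => hy (by
        obtain ⟨m, hm'⟩ := exists_pow_eq_self_of_coprime (x := x⁻¹ * g * x)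
          (hk.coprime_dvd_right (orderOf_dvd_natCard _))
        rw [← hm']
        exact pow_mem hm m)
      rw [CT.extendByZero_not_mem T _ hy, CT.extendByZero_not_mem T _ hy']

theorem exists_rational_ext (H : Subgroup Γ) [H.Normal] [Fintype H] (hH : ¬ p ∣ Nat.card H)
    (hidx : ∃ a, H.index = p ^ a) : ∀ (d : ℕ) (χ₀ : H → ℂ), IsCharacter H χ₀ → deg χ₀ = d →
      (∀ g, conjFun H g χ₀ = χ₀) →
      ∃ Ψ : Γ → ℂ, IsCharacter Γ Ψ ∧ (∀ h : H, Ψ h = χ₀ h) ∧
        ∀ k : ℕ, k.Coprime (Nat.card Γ) → (∀ h : H, h ^ k = h) → ∀ g : Γ, Ψ (g ^ k) = Ψ g := by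
  intro d
  induction d using Nat.strong_induction_on with
  | _ d ih =>
    intro χ₀ hχ₀ hd hinv
    classical
    by_cases h0 : χ₀ = 0
    · exact ⟨0, isCharacter_zero, fun h => by simp [h0], fun k _ _ g => rfl⟩
    obtain ⟨θ, hθ⟩ := exists_constituent hχ₀ h0
    obtain ⟨Ψ₁, hΨ₁, hres₁, hfix₁⟩ := exists_orbit_char H hH hidx θ
    set O : H → ℂ := ∑ ψ ∈ conjOrbit H (θ : H → ℂ), ψ with hO
    have horb : ∀ ψ ∈ conjOrbit H (θ : H → ℂ), IsIrrCharacter H ψ := fun ψ hψ => by
      obtain ⟨g, rfl⟩ := (mem_conjOrbit H).mp hψ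
      exact isIrrCharacter_conjFun H g θ.2
    have hOchar : IsCharacter H O := by
      rw [hO]
      exact isCharacter_sum _ fun ψ hψ => isCharacter_of_isIrr (horb ψ hψ)
    have hsub : IsCharacter H (χ₀ - O) := by
      refine isCharacter_iff.mpr ⟨fun x y => ?_, fun η => ?_⟩
      · simp only [Pi.sub_apply, isClassFunction_of_isCharacter hχ₀ x y,
          isClassFunction_of_isCharacter hOchar x y]
      · obtain ⟨m, hm⟩ := classInner_character_nat hχ₀ (isCharacter_of_isIrr η.2)
        rw [classInner_sub_left]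
        by_cases hη : (η : H → ℂ) ∈ conjOrbit H (θ : H → ℂ)
        · have hO1 : classInner O (η : H → ℂ) = 1 := by
            rw [hO, classInner_sum_left, Finset.sum_eq_single (η : H → ℂ)
              (fun b hb hne => irr_inner_of_ne (horb b hb) η.2 hne) (fun h => absurd hη h),
              irr_inner_self η.2]
          obtain ⟨g, hg⟩ := (mem_conjOrbit H).mp hη
          have hne : classInner χ₀ (η : H → ℂ) ≠ 0 := by
            rw [← hg, ← hinv g, classInner_conjFun]; exact hθ
          have hm1 : 1 ≤ m := Nat.one_le_iff_ne_zero.mpr fun h => hne (by rw [hm, h, Nat.cast_zero])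
          exact ⟨m - 1, by rw [hm, hO1, Nat.cast_sub hm1, Nat.cast_one]⟩
        · have hO0 : classInner O (η : H → ℂ) = 0 := by
            rw [hO, classInner_sum_left]
            exact Finset.sum_eq_zero fun b hb => irr_inner_of_ne (horb b hb) η.2
              fun e : b = (η : H → ℂ) => hη (e ▸ hb)
          exact ⟨m, by rw [hm, hO0, sub_zero]⟩
    have hOinv : ∀ g, conjFun H g O = O := fun g => by
      have h1 := sum_conjFun H (θ : H → ℂ) (G := Γ)
      have h2 : conjFun H g (∑ x : Γ, conjFun H x (θ : H → ℂ)) = ∑ x : Γ, conjFun H x (θ : H → ℂ) := by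
        funext n
        simp only [conjFun, Finset.sum_apply]
        exact Fintype.sum_equiv (Equiv.mulRight g) _ _ fun x =>
          congrArg (θ : H → ℂ) (Subtype.ext (by simp [mul_assoc]))
      rw [h1, conjFun_smul] at h2
      exact smul_right_injective (H → ℂ) (Nat.cast_ne_zero.mpr Nat.card_pos.ne') h2
    have hdlt : deg (χ₀ - O) < d := by
      have hOne : O ≠ 0 := fun h => by
        have h1 : classInner O (θ : H → ℂ) = 1 := by
          rw [hO, classInner_sum_left, Finset.sum_eq_single (θ : H → ℂ)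
            (fun b hb hne => irr_inner_of_ne (horb b hb) θ.2 hne)
            (fun h => absurd (self_mem_conjOrbit H (θ : H → ℂ)) h), irr_inner_self θ.2]
        rw [h] at h1
        simp [classInner] at h1
      have hpos : 0 < deg O := by
        rcases Nat.eq_zero_or_pos (deg O) with h | h
        · exact absurd (char_eq_zero_of_deg hOchar (by rw [deg_eq hOchar, h, Nat.cast_zero])) hOne
        · exact h
      have e : (d : ℂ) = (deg (χ₀ - O) : ℂ) + (deg O : ℂ) := by
        rw [← hd, ← deg_eq hχ₀, ← deg_eq hsub, ← deg_eq hOchar, Pi.sub_apply, sub_add_cancel]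
      have e' : d = deg (χ₀ - O) + deg O := by exact_mod_cast e
      omega
    obtain ⟨Ψ₂, hΨ₂, hres₂, hfix₂⟩ := ih _ hdlt (χ₀ - O) hsub rfl (fun g => by
      funext n
      have a := congrFun (hinv g) n
      have b := congrFun (hOinv g) n
      simp only [conjFun, Pi.sub_apply] at a b ⊢
      rw [a, b])
    refine ⟨Ψ₁ + Ψ₂, isCharacter_add hΨ₁ hΨ₂, fun h => ?_, fun k hk hkH g => ?_⟩
    · rw [Pi.add_apply, hres₁, hres₂, Pi.sub_apply]; ring
    · rw [Pi.add_apply, Pi.add_apply, hfix₁ k hk hkH, hfix₂ k hk hkH]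

/-- Schur's bound modulo `O_p` for `p`-solvable linear groups. -/
theorem pCore_index_bound {G : Type u} [Group G] [Fintype G] (hs : IsPSolvable p G) {χ : G → ℂ}
    (hχ : IsCharacter G χ) (hfaith : ∀ g : G, χ g = χ 1 → g = 1) :
    ((pCore p G).index).factorization p ≤
      ∑ i ∈ Finset.range (deg χ + 1), deg χ / ((p - 1) * p ^ i) := by
  classical
  set U := pCore p G with hU
  haveI hUn : U.Normal := inferInstance
  set π := QuotientGroup.mk' U
  have hπ := QuotientGroup.mk'_surjective U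
  set Q := pPrimeCore p (G ⧸ U) with hQ
  have hHH : Subgroup.centralizer (Q : Set (G ⧸ U)) ≤ Q :=
    Components.centralizer_pPrimeCore_le (Coprime23.isPSolvable_map π hπ hs)
      (Basics.pCore_quotient_eq_bot p)
  set X := Q.comap π with hX
  have hUX : U ≤ X := fun x hx => by
    rw [hX, Subgroup.mem_comap, show π x = 1 from (QuotientGroup.eq_one_iff x).mpr hx]
    exact one_mem _
  have hUp : IsPGroup p U := Basics.pCore_isPGroup p
  obtain ⟨b, hb⟩ := IsPGroup.iff_card.mp hUp
  have hQc : (Nat.card Q).Coprime p := Basics.pPrimeCore_coprime p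
  have hXc : Nat.card X = p ^ b * Nat.card Q := by
    rw [hX, Basics.card_comap_mk', hb]
  let U' : Subgroup X := U.subgroupOf X
  haveI : U'.Normal := Subgroup.normal_subgroupOf
  have hU'c : Nat.card U' = p ^ b := by
    rw [Nat.card_congr (Subgroup.subgroupOfEquivOfLe hUX).toEquiv, hb]
  have hU'i : U'.index = Nat.card Q := by
    have := U'.card_mul_index
    rw [hU'c, hXc] at this
    exact Nat.eq_of_mul_eq_mul_left (pow_pos hp.out.pos b) this
  have hcop : (Nat.card U').Coprime U'.index := by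
    rw [hU'c, hU'i]; exact (hQc.pow_right b).symm
  obtain ⟨K, hK⟩ := Subgroup.exists_left_complement'_of_coprime hcop
  haveI : Group.IsSolvable U' := by
    haveI := (IsPGroup.of_card hU'c).isNilpotent
    infer_instance
  -- the complement and its normalizer
  set H := K.map X.subtype with hH
  have hKc : Nat.card K = Nat.card Q := by
    rw [← hK.index_eq_card] at *
    exact hU'i
  have hHc : Nat.card H = Nat.card Q := by
    rw [hH, Subgroup.card_map_of_injective X.subtype_injective, hKc]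
  have hHp : ¬ p ∣ Nat.card H := hHc ▸ hp.out.coprime_iff_not_dvd.mp hQc.symm
  haveI := Fintype.ofFinite H
  set N := Subgroup.normalizer (H : Set G) with hN
  haveI hXn : X.Normal := inferInstance
  have hfrat : ∀ g : G, ∃ u ∈ U, u⁻¹ * g ∈ N := by
    intro g
    let c : X ≃* X := MulAut.conjNormal g
    have h2 : U'.IsComplement' (K.map c.toMonoidHom) := by
      refine Subgroup.isComplement'_of_coprime ?_ ?_
      · rw [Nat.card_congr (K.equivMapOfInjective c.toMonoidHom c.injective).toEquiv.symm, hKc,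
          ← hU'i, U'.card_mul_index]
      · rw [Nat.card_congr (K.equivMapOfInjective c.toMonoidHom c.injective).toEquiv.symm, hKc,
          ← hU'i]
        exact hcop
    obtain ⟨n, hn, e⟩ := Coprime23.exists_conj_complement U' hcop K _ hK.symm h2
    refine ⟨(n : G), hn, Subgroup.mem_normalizer_iff.mpr fun h => ?_⟩
    have key : ∀ x : X, x ∈ K ↔ ((n⁻¹ * c x * n : X)) ∈ K := by
      intro x
      have h1 : c x ∈ K.map c.toMonoidHom ↔ x ∈ K := Subgroup.mem_map_equiv.trans (by simp)
      rw [← h1, e]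
      constructor
      · rintro ⟨y, hy, hy'⟩
        have : n⁻¹ * c x * n = y := by
          rw [← hy']; simp [MulAut.conj_apply, mul_assoc]
        rwa [this]
      · intro hy
        exact ⟨_, hy, by simp [MulAut.conj_apply, mul_assoc]⟩
    constructor
    · rintro ⟨x, hx, rfl⟩
      refine ⟨_, (key x).mp hx, ?_⟩
      simp [c, MulAut.conjNormal_apply, mul_assoc]
    · rintro ⟨y, hy, hy'⟩
      have hhX : h ∈ X := by
        have hm : ((n : G)⁻¹ * g) * h * ((n : G)⁻¹ * g)⁻¹ ∈ X := hy' ▸ y.2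
        have := hXn.conj_mem _ hm ((n : G)⁻¹ * g)⁻¹
        simpa [mul_assoc] using this
      refine ⟨⟨h, hhX⟩, (key ⟨h, hhX⟩).mpr ?_, rfl⟩
      have : (n⁻¹ * c ⟨h, hhX⟩ * n : X) = y := Subtype.ext (by
        rw [show ((y : X) : G) = _ from hy']
        simp [c, MulAut.conjNormal_apply, mul_assoc])
      rwa [this]
  -- a Sylow subgroup of the normalizer
  haveI := Fintype.ofFinite N
  obtain ⟨P⟩ : Nonempty (Sylow p N) := inferInstance
  let f : N →* G ⧸ U := π.comp N.subtype
  have hf : Function.Surjective f := fun y => by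
    obtain ⟨g, rfl⟩ := hπ y
    obtain ⟨u, hu, hun⟩ := hfrat g
    refine ⟨⟨u⁻¹ * g, hun⟩, ?_⟩
    show π (u⁻¹ * g) = π g
    rw [map_mul, map_inv, show π u = 1 from (QuotientGroup.eq_one_iff u).mpr hu, inv_one, one_mul]
  haveI := Fintype.ofFinite (P : Subgroup N)
  -- the group `H P`
  let S : Subgroup G := (P : Subgroup N).map N.subtype
  let Γ : Subgroup G := H ⊔ S
  haveI := Fintype.ofFinite Γ
  have hSN : S ≤ N := Subgroup.map_subtype_le _
  let H' : Subgroup Γ := H.subgroupOf Γ
  haveI : H'.Normal := by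
    refine (Subgroup.normal_subgroupOf_iff_le_normalizer le_sup_left).mpr ?_
    exact sup_le Subgroup.le_normalizer hSN
  haveI := Fintype.ofFinite H'
  obtain ⟨sP, hsP⟩ := IsPGroup.iff_card.mp P.2
  have hSc : Nat.card S = p ^ sP := by
    rw [Subgroup.card_map_of_injective N.subtype_injective]; exact hsP
  have hH'c : Nat.card H' = Nat.card H :=
    Nat.card_congr (Subgroup.subgroupOfEquivOfLe (le_sup_left : H ≤ Γ)).toEquiv
  have hHi : H'.index ∣ p ^ sP := by
    let S' : Subgroup Γ := S.subgroupOf Γ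
    have htop : H' ⊔ S' = ⊤ := by
      show H.subgroupOf Γ ⊔ S.subgroupOf Γ = ⊤
      rw [← Subgroup.subgroupOf_sup (le_sup_left : H ≤ Γ) (le_sup_right : S ≤ Γ)]
      exact Subgroup.subgroupOf_self Γ
    rw [← Subgroup.relIndex_top_right, ← htop, Subgroup.relIndex_sup_left, ← hSc,
      ← Nat.card_congr (Subgroup.subgroupOfEquivOfLe (le_sup_right : S ≤ Γ)).toEquiv]
    exact Subgroup.relIndex_dvd_card H' S'
  have hidx : ∃ a, H'.index = p ^ a := by
    obtain ⟨a, -, ha⟩ := (Nat.dvd_prime_pow hp.out).mp hHi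
    exact ⟨a, ha⟩
  have hΓc : Nat.card Γ ∣ Nat.card H * p ^ sP := by
    rw [← H'.card_mul_index, hH'c]
    exact Nat.mul_dvd_mul_left _ hHi
  let χ₀ : H' → ℂ := fun h => χ ((h : Γ) : G)
  have hχ₀ : IsCharacter H' χ₀ := isCharacter_restrict H' (isCharacter_restrict Γ hχ)
  obtain ⟨Ψ, hΨ, hres, hfix⟩ := exists_rational_ext H' (hH'c ▸ hHp) hidx _ χ₀ hχ₀ rfl (fun g => by
    funext h
    show χ ((g : G) * ((h : Γ) : G) * (g : G)⁻¹) = χ ((h : Γ) : G)
    exact isClassFunction_of_isCharacter hχ _ _)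
  have hdeg : deg Ψ = deg χ := by
    have e := hres 1
    have e1 : (deg Ψ : ℂ) = (deg χ : ℂ) := by
      rw [← deg_eq hΨ, ← deg_eq hχ]
      exact e
    exact_mod_cast e1
  -- the Sylow subgroup inside `Γ`
  let j : (P : Subgroup N) →* Γ :=
    (Subgroup.inclusion (le_sup_right : S ≤ Γ)).comp
      ((N.subtype.comp (P : Subgroup N).subtype).codRestrict S fun x => ⟨x.1, x.2, rfl⟩)
  set L := (kerChar Ψ).comap j with hL
  haveI : (kerChar Ψ).Normal := ⟨fun a ha g => by
    rw [mem_kerChar_iff hΨ] at ha ⊢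
    rw [isClassFunction_of_isCharacter hΨ a g, ha]⟩
  haveI : L.Normal := inferInstance
  have hLker : L ≤ (f.comp (P : Subgroup N).subtype).ker := by
    intro x hx
    have hcomm : ∀ h ∈ H, Commute (((j x : Γ)) : G) h := by
      intro h hh
      let h' : H' := ⟨⟨h, Subgroup.mem_sup_left hh⟩, hh⟩
      set c : Γ := j x * (h' : Γ) * (j x)⁻¹ * ((h' : Γ))⁻¹ with hc
      have hc1 : c ∈ kerChar Ψ := by
        rw [hc, mul_assoc (j x), mul_assoc (j x)]
        exact mul_mem hx ((‹(kerChar Ψ).Normal›).conj_mem _ (inv_mem hx) _)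
      have hc2 : c ∈ H' := mul_mem ((‹H'.Normal›).conj_mem _ h'.2 _) (inv_mem h'.2)
      have h3 : χ (c : G) = χ 1 := by
        have e1 := (mem_kerChar_iff hΨ).mp hc1
        have e2 := hres ⟨c, hc2⟩
        have e3 := hres 1
        rw [OneMemClass.coe_one] at e3
        exact e2.symm.trans (e1.trans e3)
      have h4 : (c : G) = 1 := hfaith _ h3
      rw [hc] at h4
      simp only [Subgroup.coe_mul, Subgroup.coe_inv] at h4
      show ((j x : Γ) : G) * h = h * ((j x : Γ) : G)
      rw [← mul_inv_eq_one, ← h4, mul_inv_rev, ← mul_assoc]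
    -- the image centralizes, so lies in, the `p'`-core of the quotient
    have hmem : π ((x : N) : G) ∈ Q := by
      refine hHH (Subgroup.mem_centralizer_iff.mpr ?_)
      intro y hy
      obtain ⟨g, rfl⟩ := hπ y
      have hgX : (⟨g, hy⟩ : X) ∈ ((U' : Set X) * (K : Set X)) := by
        rw [(hK.symm : Subgroup.IsComplement _ _).mul_eq]
        exact Set.mem_univ _
      obtain ⟨u, hu, k, hk, huk⟩ := Set.mem_mul.mp hgX
      have e : g = (u : G) * (k : G) := (congrArg Subtype.val huk).symm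
      rw [e, map_mul, show π (u : G) = 1 from (QuotientGroup.eq_one_iff _).mpr hu, one_mul,
        ← map_mul, ← map_mul]
      exact congrArg π (hcomm (k : G) ⟨k, hk, rfl⟩).symm.eq
    obtain ⟨m, hm⟩ := P.2 x
    have hm' : (π ((x : N) : G)) ^ p ^ m = 1 := by
      rw [← map_pow, show ((x : N) : G) ^ p ^ m = 1 from by
        have := congrArg (fun z : (P : Subgroup N) => ((z : N) : G)) hm
        simpa using this, map_one]
    refine (MonoidHom.mem_ker).mpr (orderOf_eq_one_iff.mp (Nat.eq_one_of_dvd_coprimes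
      ((hQc.symm.pow_left m)) (orderOf_dvd_of_pow_eq_one hm') ?_))
    exact (Subgroup.orderOf_coe (⟨_, hmem⟩ : Q)) ▸ orderOf_dvd_natCard _
  -- the rational faithful character of the quotient
  obtain ⟨ψ, hψ, hψeq⟩ := exists_quotient_character (isCharacter_comp j hΨ) L fun y hy => by
    have := (mem_kerChar_iff hΨ).mp hy
    show Ψ (j y) = Ψ (j 1)
    rw [map_one]
    exact this
  have hrat : ∀ g : (P : Subgroup N) ⧸ L, (∃ b : ℕ, g ^ p ^ b = 1) →
      ∀ k : ℕ, k.Coprime p → ψ (g ^ k) = ψ g := by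
    intro g _ k hk
    obtain ⟨x, rfl⟩ := QuotientGroup.mk_surjective g
    rw [← QuotientGroup.mk_pow, hψeq, hψeq, map_pow]
    have hcop' : (p ^ sP).Coprime (Nat.card H) :=
      (hp.out.coprime_iff_not_dvd.mpr hHp).pow_left sP
    obtain ⟨k', hk1, hk2⟩ := Nat.chineseRemainder hcop' k 1
    have hord : orderOf (j x) ∣ p ^ sP := (orderOf_map_dvd j x).trans (hsP ▸ orderOf_dvd_natCard x)
    have e : (j x) ^ k = (j x) ^ k' := pow_eq_pow_iff_modEq.mpr ((hk1.of_dvd hord).symm)
    rw [e]
    refine hfix k' ?_ (fun h => ?_) (j x)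
    · refine Nat.Coprime.coprime_dvd_right hΓc (Nat.Coprime.mul_right ?_ ?_)
      · show Nat.gcd k' (Nat.card H) = 1
        rw [Nat.ModEq.gcd_eq hk2]
        simp
      · show Nat.gcd k' (p ^ sP) = 1
        rw [Nat.ModEq.gcd_eq hk1]
        exact hk.pow_right sP
    · have : orderOf h ∣ Nat.card H := hH'c ▸ orderOf_dvd_natCard h
      conv_rhs => rw [← pow_one h]
      exact pow_eq_pow_iff_modEq.mpr (hk2.of_dvd this)
  have hψfaith : ∀ g : (P : Subgroup N) ⧸ L, ψ g = ψ 1 → g = 1 := by
    intro g hg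
    obtain ⟨x, rfl⟩ := QuotientGroup.mk_surjective g
    rw [← QuotientGroup.mk_one, hψeq, hψeq] at hg
    refine (QuotientGroup.eq_one_iff x).mpr ((mem_kerChar_iff hΨ).mpr ?_)
    rwa [map_one] at hg
  have hb := RationalP.schur_bound hp.out hψ hψfaith hrat
  have hdψ : deg ψ = deg χ := by
    have e := hψeq 1
    have e1 : (deg ψ : ℂ) = (deg Ψ : ℂ) := by
      rw [← deg_eq hψ, ← deg_eq hΨ]
      simpa using e
    rw [← hdeg]
    exact_mod_cast e1
  rw [hdψ] at hb
  refine le_trans ?_ hb
  -- the image of `P` is a Sylow subgroup of the quotient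
  have hsyl : ((U.index).factorization p) ≤ (L.index).factorization p := by
    have h1 : (f.comp (P : Subgroup N).subtype).ker.index = Nat.card ↥((P : Subgroup N).map f) := by
      rw [Subgroup.index_ker, MonoidHom.range_eq_map, ← Subgroup.map_map, ← MonoidHom.range_eq_map,
        Subgroup.range_subtype]
    have h2 : Nat.card ↥((P : Subgroup N).map f) = p ^ (U.index).factorization p := by
      have := (P.mapSurjective hf).card_eq_multiplicity
      rw [Subgroup.index_eq_card]
      exact this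
    have h3 : p ^ (U.index).factorization p ∣ L.index := by
      rw [← h2, ← h1]
      exact Subgroup.index_dvd_of_le hLker
    exact (hp.out.pow_dvd_iff_le_factorization Subgroup.index_ne_zero_of_finite).mp h3
  rw [← Subgroup.index_eq_card L]
  exact hsyl

end Cfsg.Agent.CT.RationalExt
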