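import Cfsg.Agent.Lib.CT.RealSylow

/-!
# Real characters of `p'`-degree and the Sylow normalizer
-/

set_option autoImplicit false
set_option linter.all false

open scoped ComplexConjugate

namespace Cfsg.Agent.RealPEquiv

open Cfsg.Agent.CT RealPrime

universe u

variable {G : Type u} [Group G] [Fintype G] {p : ℕ} [Fact p.Prime]

theorem index_zmod_eq (P : Sylow p G) (T : Subgroup G) (hPT : (P : Subgroup G) ≤ T) :
    (T.index : ZMod p) = (T.relIndex (nor P) : ZMod p) := by
  have h1 : ((nor P).index : ZMod p) = 1 := by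
    show ((Subgroup.normalizer ((P : Subgroup G) : Set G)).index : ZMod p) = 1
    refine (congrArg (fun n : ℕ => (n : ZMod p)) (Sylow.card_eq_index_normalizer P)).symm.trans ?_
    rw [← Nat.cast_one]
    exact (ZMod.natCast_eq_natCast_iff _ _ _).mpr (card_sylow_modEq_one p G)
  have h2 : ((nor P).relIndex T : ZMod p) = 1 := by
    have e : Subgroup.normalizer (((P.subtype hPT : Sylow p T) : Subgroup T) : Set T) =
        (nor P).subgroupOf T := by
      ext t
      rw [Subgroup.mem_subgroupOf, Subgroup.mem_normalizer_iff, Subgroup.mem_normalizer_iff]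
      constructor
      · intro h y
        constructor
        · intro hy
          exact (h ⟨y, hPT hy⟩).mp hy
        · intro hy
          have h' : y ∈ T := by
            have := T.mul_mem (T.mul_mem (T.inv_mem t.2) (hPT hy)) t.2
            simpa [mul_assoc] using this
          exact (h ⟨y, h'⟩).mpr hy
      · intro h y
        exact h (y : G)
    rw [Subgroup.relIndex, ← e]
    refine (congrArg (fun n : ℕ => (n : ZMod p)) (Sylow.card_eq_index_normalizer (P.subtype hPT))).symm.trans ?_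
    rw [← Nat.cast_one]
    exact (ZMod.natCast_eq_natCast_iff _ _ _).mpr (card_sylow_modEq_one p T)
  have e1 : (T ⊓ nor P).index = (nor P).relIndex T * T.index := by
    rw [← Subgroup.inf_relIndex_left T (nor P), Subgroup.relIndex_mul_index inf_le_left]
  have e2 : (T ⊓ nor P).index = T.relIndex (nor P) * (nor P).index := by
    rw [← Subgroup.inf_relIndex_right T (nor P), Subgroup.relIndex_mul_index inf_le_right]
  have e3 := congrArg (fun n : ℕ => (n : ZMod p)) (e1.symm.trans e2)
  simp only [Nat.cast_mul, h1, h2, one_mul, mul_one] at e3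
  exact e3

/-- The bijection between real characters and real `p'`-degree characters of the normalizer. -/
theorem exists_bijection (hsolv : Group.IsSolvable (gen p G)) (hreal : RealHyp p G)
    (P : Sylow p G) [Fintype (nor P)] :
    ∃ f : {χ : IrrCharacter G // ∀ g : G, ((χ : G → ℂ) g).im = 0} →
      {ξ : IrrCharacter (nor P) // (∀ n, ((ξ : nor P → ℂ) n).im = 0) ∧ ¬ p ∣ deg (ξ : nor P → ℂ)},
      Function.Bijective f ∧ ∀ χ,
        ((deg ((f χ).1 : nor P → ℂ) : ZMod p) = (deg (χ.1 : G → ℂ) : ZMod p) ∨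
          (deg ((f χ).1 : nor P → ℂ) : ZMod p) = -(deg (χ.1 : G → ℂ) : ZMod p)) := by
  classical
  have hp := (Fact.out : p.Prime)
  haveI hKn := gen_normal 2 G
  have hodd : Odd (gen 2 G).index := odd_index_gen_two
  have hMidx : Odd (inter P (gen 2 G)).index :=
    hodd.of_dvd_nat (Subgroup.relIndex_dvd_index_of_normal (gen 2 G) (nor P))
  haveI := Fintype.ofFinite (gen 2 G)
  haveI := Fintype.ofFinite (inter P (gen 2 G))
  obtain ⟨R, hRn, hRK, hRp, hRidx⟩ := exists_core hsolv hreal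
  haveI := hRn
  obtain ⟨F, hF, hrel, hequi, hdeg⟩ := exists_equiv P (gen 2 G) R hRK hRp hRidx
  have hstd := fun θ : IrrCharacter (gen 2 G) => not_dvd_index_of_real hreal (gen 2 G) hodd θ
  -- a fixed real constituent below
  have hbelow : ∀ χ : {χ : IrrCharacter G // ∀ g : G, ((χ : G → ℂ) g).im = 0},
      ∃ θ : RealInv P (gen 2 G),
        classInner (fun k : gen 2 G => (χ.1 : G → ℂ) k) (θ.1 : gen 2 G → ℂ) ≠ 0 := by
    intro χ
    obtain ⟨a, ha⟩ := exists_constituent_restrict (gen 2 G) χ.1.2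
    have har : ∀ k, ((a : gen 2 G → ℂ) k).im = 0 := fun k =>
      Complex.conj_eq_iff_im.mp (RealIndex.real_below (gen 2 G) hodd χ.2 ha k)
    obtain ⟨g, hg⟩ := exists_conj_le P (inertia (gen 2 G) (a : gen 2 G → ℂ)) (hstd a har).1
    refine ⟨⟨⟨_, isIrrCharacter_conjFun (gen 2 G) g a.2⟩, fun k => har _, fun x hx => ?_⟩, ?_⟩
    · rw [mem_inertia, ← conjFun_mul, show g * x = g * x * g⁻¹ * g by group, conjFun_mul,
        (mem_inertia (gen 2 G)).mp (hg x hx)]
    · rw [classInner_restrict_conjFun (gen 2 G) (isClassFunction_of_isIrr χ.1.2)]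
      exact ha
  choose th hth using hbelow
  have hPidx : ∀ T : Subgroup (nor P), (P : Subgroup G).subgroupOf (nor P) ≤ T → ¬ p ∣ T.index :=
    fun T hT h => P.not_dvd_index (h.trans ((Subgroup.index_dvd_of_le hT).trans
      (Subgroup.relIndex_dvd_index_of_le Subgroup.le_normalizer)))
  have hηdeg : ∀ θ : RealInv P (gen 2 G), ¬ p ∣ deg ((F θ).1 : inter P (gen 2 G) → ℂ) := by
    intro θ h
    have h0 := (ZMod.natCast_eq_zero_iff _ p).mpr h
    refine (hstd θ.1 θ.2.1).2 ((ZMod.natCast_eq_zero_iff _ p).mp ?_)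
    rcases hdeg θ with e | e
    · rw [← e, h0]
    · rw [← neg_eq_zero, ← e, h0]
  have hup : ∀ θ : RealInv P (gen 2 G), ∃ ξ : IrrCharacter (nor P),
      (∀ n, ((ξ : nor P → ℂ) n).im = 0) ∧ ¬ p ∣ deg (ξ : nor P → ℂ) ∧
      classInner (fun m : inter P (gen 2 G) => (ξ : nor P → ℂ) m)
        ((F θ).1 : inter P (gen 2 G) → ℂ) ≠ 0 ∧
      deg (ξ : nor P → ℂ) = (inertia (inter P (gen 2 G)) ((F θ).1 : inter P (gen 2 G) → ℂ)).index *
        deg ((F θ).1 : inter P (gen 2 G) → ℂ) := by
    intro θ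
    obtain ⟨ξ, h1, h2, h3⟩ := RealIndex.exists_real_over (inter P (gen 2 G)) hMidx (F θ).1
      fun k => Complex.conj_eq_iff_im.mpr ((F θ).2.1 k)
    refine ⟨ξ, h1, ?_, h2, h3⟩
    rw [h3, hp.dvd_mul, not_or]
    exact ⟨hPidx _ (F θ).2.2, hηdeg θ⟩
  choose up hup1 hup2 hup3 hup4 using hup
  refine ⟨fun χ => ⟨up (th χ), hup1 _, hup2 _⟩, ⟨fun χ χ' e => ?_, fun ξ => ?_⟩, fun χ => ?_⟩
  · have e' : up (th χ) = up (th χ') := congrArg Subtype.val e
    obtain ⟨n, hn⟩ := exists_conj_of_constituent (inter P (gen 2 G)) (up (th χ)).2 (F (th χ)).1.2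
      (F (th χ')).1.2 (hup3 (th χ)) (e' ▸ hup3 (th χ'))
    obtain ⟨g, hg⟩ := (hrel _ _).mpr ⟨n, hn⟩
    refine Subtype.ext (RealIndex.real_over_unique (gen 2 G) hodd χ.2 χ'.2 (θ := (th χ').1) ?_ (hth χ'))
    rw [← hg, classInner_restrict_conjFun (gen 2 G) (isClassFunction_of_isIrr χ.1.2)]
    exact hth χ
  · obtain ⟨η, hη⟩ := exists_constituent_restrict (inter P (gen 2 G)) ξ.1.2
    have hηr : ∀ m, ((η : inter P (gen 2 G) → ℂ) m).im = 0 := fun m =>
      Complex.conj_eq_iff_im.mp (RealIndex.real_below (inter P (gen 2 G)) hMidx ξ.2.1 hη m)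
    have hidx : ¬ p ∣ (inertia (inter P (gen 2 G)) (η : inter P (gen 2 G) → ℂ)).index := fun h => by
      refine ξ.2.2 ?_
      rw [clifford_mult (inter P (gen 2 G)) ξ.1.2 η.2 hη]
      exact (h.mul_left _).mul_right _
    obtain ⟨g, hg⟩ := exists_conj_le (P.subtype (Subgroup.le_normalizer : (P : Subgroup G) ≤ nor P)) _ hidx
    have hPη : (P : Subgroup G).subgroupOf (nor P) ≤
        inertia (inter P (gen 2 G)) (η : inter P (gen 2 G) → ℂ) := by
      intro x hx
      have hx' : g⁻¹ * x * g ∈ (P : Subgroup G).subgroupOf (nor P) := by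
        have := (Subgroup.mem_normalizer_iff.mp (g⁻¹).2 (x : G)).mp hx
        rw [Subgroup.mem_subgroupOf]
        simpa using this
      have := hg _ hx'
      simpa [mul_assoc] using this
    obtain ⟨θ, hθ⟩ := hF.2 ⟨η, hηr, hPη⟩
    obtain ⟨χ, hχ, hov, -⟩ := RealIndex.exists_real_over (gen 2 G) hodd θ.1
      fun k => Complex.conj_eq_iff_im.mpr (θ.2.1 k)
    obtain ⟨g', hg'⟩ := exists_conj_of_constituent (gen 2 G) χ.2 (th ⟨χ, hχ⟩).1.2 θ.1.2 (hth ⟨χ, hχ⟩) hov
    obtain ⟨n, hn⟩ := (hrel _ _).mp ⟨g', hg'⟩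
    refine ⟨⟨χ, hχ⟩, Subtype.ext (RealIndex.real_over_unique (inter P (gen 2 G)) hMidx (hup1 _) ξ.2.1
      (θ := η) ?_ hη)⟩
    rw [show (η : inter P (gen 2 G) → ℂ) = (F θ).1 from (congrArg (fun z => (z.1 : inter P (gen 2 G) → ℂ)) hθ).symm,
      ← hn, classInner_restrict_conjFun (inter P (gen 2 G)) (isClassFunction_of_isIrr (up _).2)]
    exact hup3 _
  · set θ := th χ with hθ
    obtain ⟨χ', hχ', hov, hd⟩ := RealIndex.exists_real_over (gen 2 G) hodd θ.1
      fun k => Complex.conj_eq_iff_im.mpr (θ.2.1 k)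
    have he : χ' = χ.1 := RealIndex.real_over_unique (gen 2 G) hodd hχ' χ.2 hov (hth χ)
    rw [he] at hd
    have hT : inertia (inter P (gen 2 G)) ((F θ).1 : inter P (gen 2 G) → ℂ) =
        (inertia (gen 2 G) (θ.1 : gen 2 G → ℂ)).subgroupOf (nor P) := by
      ext n
      rw [Subgroup.mem_subgroupOf, mem_inertia, mem_inertia]
      constructor
      · intro h
        -- the conjugate is again a fixed real character with the same image
        have hfix : (P : Subgroup G) ≤ inertia (gen 2 G) (conjFun (gen 2 G) (n : G) (θ.1 : gen 2 G → ℂ)) := by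
          intro x hx
          rw [mem_inertia, ← conjFun_mul]
          have := (mem_inertia (gen 2 G)).mp (θ.2.2 ((Subgroup.mem_normalizer_iff.mp n.2 x).mp hx))
          rw [show (n : G) * x = ((n : G) * x * (n : G)⁻¹) * n by group, conjFun_mul, this]
        set θn : RealInv P (gen 2 G) := ⟨⟨_, isIrrCharacter_conjFun (gen 2 G) (n : G) θ.1.2⟩,
          fun k => θ.2.1 _, hfix⟩ with hθn
        have hrest : conjFun (inter P (gen 2 G)) n ((F θ).1 : inter P (gen 2 G) → ℂ) = (F θn).1 :=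
          hequi θ θn n rfl
        have : F θn = F θ := Subtype.ext (Subtype.ext (hrest.symm.trans h))
        exact congrArg (fun z : RealInv P (gen 2 G) => (z.1 : gen 2 G → ℂ)) (hF.1 this)
      · intro h
        exact hequi θ θ n h
    rw [hup4, hd, hT]
    push_cast
    rw [show (((inertia (gen 2 G) (θ.1 : gen 2 G → ℂ)).subgroupOf (nor P)).index : ZMod p) =
      ((inertia (gen 2 G) (θ.1 : gen 2 G → ℂ)).index : ZMod p) from (index_zmod_eq P _ θ.2.2).symm]
    rcases hdeg θ with e | e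
    · left; rw [e]
    · right; rw [e]; ring

end Cfsg.Agent.RealPEquiv
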