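import Cfsg.Agent.Lib.CT.Extend
import Cfsg.Agent.Lib.CT.CliffordLe
import Cfsg.Agent.Lib.CT.Tables
import Cfsg.Agent.Lib.CoprimeExt.Gallagher
import Cfsg.Agent.Lib.Glauberman.Constituent
import Cfsg.Agent.S4866

/-!
# Real characters over a normal subgroup of odd index
-/

set_option autoImplicit false
set_option linter.all false

open scoped ComplexConjugate

namespace Cfsg.Agent.RealIndex

open Cfsg.Agent.CT

universe u

variable {G : Type u} [Group G] [Fintype G] (K : Subgroup G) [K.Normal] [Fintype K]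

/-- An invariant real irreducible character extends over an odd index. -/
theorem exists_ext (hodd : Odd K.index) (θ : IrrCharacter K)
    (hreal : ∀ k : K, conj ((θ : K → ℂ) k) = (θ : K → ℂ) k)
    (hinv : ∀ g, conjFun K g (θ : K → ℂ) = θ) :
    ∃ χ : IrrCharacter G, ∀ k : K, (χ : G → ℂ) k = (θ : K → ℂ) k := by
  classical
  obtain ⟨θ0, d, τ, hτ, rfl⟩ := θ
  haveI := hτ
  haveI : Nontrivial (Fin d → ℂ) := ((isIrreducible_iff τ).mp hτ).1
  obtain ⟨P, hP⟩ := exists_projExt τ hinv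
  obtain ⟨α, hα⟩ := hP.cocycle
  have hdual : τ.character = τ.dual.character := funext fun k => by
    rw [Representation.char_dual, char_inv_eq_conj (isCharacter_character τ)]
    exact (hreal k).symm
  obtain ⟨e⟩ := equiv_of_character_eq τ τ.dual hdual
  let E := e.toLinearEquiv
  have hEn : ∀ (n : K) v w, E (τ n v) w = E v (τ n⁻¹ w) := by
    intro n v w
    have h := e.toIntertwiningMap.isIntertwining τ τ.dual n v
    exact congrArg (fun f : Module.Dual ℂ (Fin d → ℂ) => f w) h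
  have hEτ : ∀ (n : K) v w, E (τ n v) (τ n w) = E v w := by
    intro n v w
    rw [hEn, ← Module.End.mul_apply, ← map_mul, inv_mul_cancel, map_one, Module.End.one_apply]
  have hc : ∀ g, ∃ c : ℂ, ∀ v w, E ((P g).1 v) ((P g).1 w) = c * E v w := by
    intro g
    let X : Module.End ℂ (Fin d → ℂ) :=
      E.symm.toLinearMap ∘ₗ (P g).1.dualMap ∘ₗ E.toLinearMap ∘ₗ (P g).1
    have hX : ∀ v w, E (X v) w = E ((P g).1 v) ((P g).1 w) := fun v w => by
      show E (E.symm ((P g).1.dualMap (E ((P g).1 v)))) w = _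
      rw [E.apply_symm_apply]
      rfl
    have hPn : ∀ (n : K) v, (P g).1 (τ n v) =
        τ ⟨g * n * g⁻¹, Subgroup.Normal.conj_mem inferInstance (n : G) n.2 g⟩ ((P g).1 v) := by
      intro n v
      have := congrArg (fun u : (Module.End ℂ (Fin d → ℂ))ˣ => u.1 v) (hP.2.2 g n)
      simp only [Units.val_mul, Module.End.mul_apply, Representation.asGroupHom_apply] at this
      exact this
    have hcomm : ∀ n : K, X * τ n = τ n * X := by
      intro n
      refine LinearMap.ext fun v => E.injective (LinearMap.ext fun w => ?_)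
      show E (X (τ n v)) w = E (τ n (X v)) w
      rw [hX, hEn, hX, hPn, hPn, hEn]
      refine congrArg _ ?_
      congr 2
      exact Subtype.ext (by simp [mul_assoc])
    refine ⟨LinearMap.trace ℂ (Fin d → ℂ) X / (Module.finrank ℂ (Fin d → ℂ) : ℂ), fun v w => ?_⟩
    rw [← hX]
    conv_lhs => rw [eq_scalar_of_commute τ X hcomm]
    rw [ LinearMap.smul_apply, LinearMap.id_apply,
      LinearEquiv.map_smul, LinearMap.smul_apply, smul_eq_mul]
  choose c hc using hc
  obtain ⟨v0, hv0⟩ := exists_ne (0 : Fin d → ℂ)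
  obtain ⟨w0, hw0⟩ : ∃ w, E v0 w ≠ 0 := by
    by_contra hno
    push Not at hno
    exact hv0 (E.injective (by rw [map_zero]; exact LinearMap.ext fun w => hno w))
  have hc0 : ∀ g, c g ≠ 0 := by
    intro g h0
    have := hc g (((P g)⁻¹).1 v0) (((P g)⁻¹).1 w0)
    rw [h0, zero_mul, ← Module.End.mul_apply, ← Module.End.mul_apply, ← Units.val_mul,
      mul_inv_cancel, Units.val_one, Module.End.one_apply, Module.End.one_apply] at this
    exact hw0 this
  have hc1 : ∀ n : K, c n = 1 := by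
    intro n
    have h := hc (n : G) v0 w0
    rw [hP.1 n, Representation.asGroupHom_apply, hEτ] at h
    exact (mul_eq_right₀ hw0).mp h.symm
  have hmul : ∀ g h, (α g h : ℂ) ^ 2 * c (g * h) = c g * c h := by
    intro g h
    have h1 := hc g ((P h).1 v0) ((P h).1 w0)
    rw [hc h, ← Module.End.mul_apply, ← Module.End.mul_apply, ← Units.val_mul, hα, Units.val_mul,
      Module.End.mul_apply, Module.End.mul_apply, coe_scU, LinearMap.smul_apply, LinearMap.id_apply,
      LinearMap.smul_apply, LinearMap.id_apply, LinearEquiv.map_smul, LinearMap.smul_apply, map_smul,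
      smul_eq_mul, smul_eq_mul, hc (g * h)] at h1
    refine mul_right_cancel₀ hw0 ?_
    linear_combination h1
  have h2mem : (2 : ℤ) ∈ cocyclePowers K α := by
    refine ⟨fun g => Units.mk0 (c g) (hc0 g), fun n => Units.ext (hc1 n), fun g h => Units.ext ?_⟩
    rw [Units.val_mul, Units.val_mul, Units.val_inv_eq_inv_val, Units.val_mk0, Units.val_mk0,
      Units.val_mk0, eq_mul_inv_iff_mul_eq₀ (hc0 _), Units.val_zpow_eq_zpow_val, zpow_two,
      ← pow_two, hmul]
  have himem : (K.index : ℤ) ∈ cocyclePowers K α :=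
    index_mem_cocyclePowers hP hα K le_rfl τ.asGroupHom fun n => rfl
  obtain ⟨Q, hQ⟩ := exists_hom_of_primes hP hα fun q hq => by
    rcases eq_or_ne q 2 with rfl | hq2
    · exact ⟨K.index, fun h => hodd.not_two_dvd_nat (Int.natCast_dvd_natCast.mp h), himem⟩
    · refine ⟨2, fun h => hq2 ?_, h2mem⟩
      exact (Nat.prime_dvd_prime_iff_eq hq Nat.prime_two).mp (Int.natCast_dvd_natCast.mp h)
  obtain ⟨χ, hχ, hres⟩ := exists_irr_of_hom Q hQ
  exact ⟨⟨χ, hχ⟩, hres⟩

/-- An invariant real irreducible character has a real extension over an odd index. -/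
theorem exists_real_ext (hodd : Odd K.index) (θ : IrrCharacter K)
    (hreal : ∀ k : K, conj ((θ : K → ℂ) k) = (θ : K → ℂ) k)
    (hinv : ∀ g, conjFun K g (θ : K → ℂ) = θ) :
    ∃ χ : IrrCharacter G, (∀ k : K, (χ : G → ℂ) k = (θ : K → ℂ) k) ∧
      ∀ g, conj ((χ : G → ℂ) g) = (χ : G → ℂ) g := by
  obtain ⟨ψ, hψ⟩ := exists_ext K hodd θ hreal hinv
  let ψc : IrrCharacter G := ⟨fun g => conj ((ψ : G → ℂ) g), conj_irr ψ.2⟩
  have hψc : ∀ k : K, (ψc : G → ℂ) k = (θ : K → ℂ) k := fun k => by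
    show conj ((ψ : G → ℂ) k) = _
    rw [hψ, hreal]
  obtain ⟨η, hη, hmul⟩ := CoprimeExt.exists_eq_mul_of_over K ψ θ hψ ψc (by
    rw [show (fun n : K => (ψc : G → ℂ) n) = (θ : K → ℂ) from funext hψc, irr_inner_self θ.2]
    exact one_ne_zero)
  have hη1 : (η : G → ℂ) 1 = 1 := by
    have h := congrFun hmul 1
    have e1 := hψc 1
    have e2 := hψ 1
    rw [OneMemClass.coe_one] at e1 e2
    rw [Pi.mul_apply, e1, e2] at h
    exact (mul_eq_right₀ (irr_one_ne_zero θ.2)).mp h.symm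
  obtain ⟨lam, hlam⟩ := exists_hom_of_degree_one (isCharacter_of_isIrr η.2) hη1
  have hpow : lam ^ K.index = 1 := MonoidHom.ext fun g => by
    rw [MonoidHom.pow_apply, ← map_pow, MonoidHom.one_apply]
    refine Units.ext ?_
    rw [← congrFun hlam, hη _ (K.pow_index_mem g), hη1, Units.val_one]
  obtain ⟨m, hm⟩ := hodd
  have hsq : (lam ^ (m + 1)) * (lam ^ (m + 1)) = lam := by
    refine MonoidHom.ext fun g => ?_
    have hg : lam g ^ K.index = 1 := by rw [← MonoidHom.pow_apply, hpow, MonoidHom.one_apply]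
    rw [MonoidHom.mul_apply, MonoidHom.pow_apply, ← pow_add,
      show m + 1 + (m + 1) = K.index + 1 by omega, pow_succ, hg, one_mul]
  set μ := lam ^ (m + 1) with hμ
  refine ⟨⟨_, Glauberman.isIrr_twist ψ.2 μ⟩, fun k => ?_, fun g => ?_⟩
  · show ((μ (k : G) : ℂˣ) : ℂ) * (ψ : G → ℂ) k = _
    have : lam (k : G) = 1 := Units.ext (by rw [← congrFun hlam, hη _ k.2, hη1, Units.val_one])
    rw [hμ, MonoidHom.pow_apply, this, one_pow, Units.val_one, one_mul, hψ]
  · show conj (((μ g : ℂˣ) : ℂ) * (ψ : G → ℂ) g) = ((μ g : ℂˣ) : ℂ) * (ψ : G → ℂ) g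
    rw [map_mul, show conj ((ψ : G → ℂ) g) = (η : G → ℂ) g * (ψ : G → ℂ) g from congrFun hmul g,
      congrFun hlam, ← mul_assoc]
    congr 1
    have h1 : (lam g : ℂ) = (μ g : ℂ) * (μ g : ℂ) := by
      rw [← Units.val_mul, ← MonoidHom.mul_apply, hsq]
    rw [h1, ← mul_assoc, mul_comm (conj _), Glauberman.lin_mul_conj, one_mul]

/-- The real character over a real character of a normal subgroup of odd index. -/
theorem exists_real_over (hodd : Odd K.index) (θ : IrrCharacter K)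
    (hreal : ∀ k : K, conj ((θ : K → ℂ) k) = (θ : K → ℂ) k) :
    ∃ χ : IrrCharacter G, (∀ g, ((χ : G → ℂ) g).im = 0) ∧
      classInner (fun k : K => (χ : G → ℂ) k) (θ : K → ℂ) ≠ 0 ∧
      deg (χ : G → ℂ) = (inertia K (θ : K → ℂ)).index * deg (θ : K → ℂ) := by
  classical
  set T := inertia K (θ : K → ℂ) with hT
  have hKT : K ≤ T := le_inertia K (isClassFunction_of_isIrr θ.2)
  haveI := Fintype.ofFinite T
  haveI := Fintype.ofFinite (K.subgroupOf T)
  let e : K.subgroupOf T ≃* K := Subgroup.subgroupOfEquivOfLe hKT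
  obtain ⟨ψ, hψ, hψr⟩ := exists_real_ext (K.subgroupOf T)
    (hodd.of_dvd_nat (Subgroup.relIndex_dvd_index_of_normal K T)) (Glauberman.compIrr e θ)
    (fun k => hreal (e k)) (fun t => funext fun k => congrFun (t.2 : (t : G) ∈ inertia K (θ : K → ℂ)) (e k))
  have hres : resTo K T hKT (ψ : T → ℂ) = (θ : K → ℂ) := funext fun k => by
    show (ψ : T → ℂ) ⟨(k : G), hKT k.2⟩ = (θ : K → ℂ) k
    exact hψ (e.symm k) |>.trans (congrArg (θ : K → ℂ) (e.apply_symm_apply k))
  have hov : classInner (resTo K T hKT (ψ : T → ℂ)) (θ : K → ℂ) ≠ 0 := by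
    rw [hres, irr_inner_self θ.2]
    exact one_ne_zero
  obtain ⟨hirr, hin⟩ := isIrr_indFun_of_over_le K θ.2 T le_rfl hKT ψ.2 hov
  refine ⟨⟨_, hirr⟩, fun g => Complex.conj_eq_iff_im.mp ?_, hin.trans_ne hov, ?_⟩
  · show conj (indFun T (ψ : T → ℂ) g) = indFun T (ψ : T → ℂ) g
    simp only [indFun, map_mul, map_inv₀, map_natCast, map_sum]
    congr 1
    refine Finset.sum_congr rfl fun y _ => ?_
    by_cases hy : y⁻¹ * g * y ∈ T
    · rw [extendByZero_mem T _ hy, hψr]
    · rw [extendByZero_not_mem T _ hy, map_zero]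
  · have h1 := indFun_one_eval T (ψ : T → ℂ)
    have h2 : (ψ : T → ℂ) 1 = (θ : K → ℂ) 1 := congrFun hres 1
    rw [h2, deg_eq (isCharacter_of_isIrr θ.2)] at h1
    change indFun T (ψ : T → ℂ) 1 = _ at h1
    rw [deg_eq (isCharacter_of_isIrr hirr)] at h1
    exact_mod_cast h1

/-- Every constituent of a real character on a normal subgroup of odd index is real. -/
theorem real_below (hodd : Odd K.index) {χ : IrrCharacter G} (hχ : ∀ g, ((χ : G → ℂ) g).im = 0)
    {θ : IrrCharacter K} (h : classInner (fun k : K => (χ : G → ℂ) k) (θ : K → ℂ) ≠ 0) :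
    ∀ k : K, conj ((θ : K → ℂ) k) = (θ : K → ℂ) k := by
  have hc : classInner (fun k : K => (χ : G → ℂ) k) (fun k => conj ((θ : K → ℂ) k)) ≠ 0 := by
    intro h0
    apply h
    have := congrArg conj h0
    rw [map_zero] at this
    rw [← this]
    simp only [classInner, map_mul, map_inv₀, map_natCast, map_sum, Complex.conj_conj]
    congr 1
    refine Finset.sum_congr rfl fun k _ => ?_
    rw [Complex.conj_eq_iff_im.mpr (hχ _)]
  obtain ⟨g, hg⟩ := exists_conj_of_constituent K χ.2 θ.2 (conj_irr θ.2) h hc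
  have hgc : ∀ k, (θ : K → ℂ) (MulAut.conjNormal g k) = conj ((θ : K → ℂ) k) := fun k => by
    rw [← congrFun hg k, conjFun_eq_comp]
  have h2 : ∀ (j : ℕ) (k : K), (θ : K → ℂ) (MulAut.conjNormal (g ^ (2 * j + 1)) k) =
      conj ((θ : K → ℂ) k) := by
    intro j
    induction j with
    | zero => simpa using hgc
    | succ j ih =>
      intro k
      rw [show 2 * (j + 1) + 1 = (2 * j + 1) + 1 + 1 by ring, pow_succ, pow_succ, map_mul, map_mul,
        MulAut.mul_apply, MulAut.mul_apply, ih, hgc, Complex.conj_conj, hgc]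
  obtain ⟨m, hm⟩ := hodd
  intro k
  rw [← h2 m k, ← hm]
  refine Eq.trans ?_ (isClassFunction_of_isIrr θ.2 k ⟨g ^ K.index, K.pow_index_mem g⟩)
  exact congrArg _ (Subtype.ext (MulAut.conjNormal_apply _ _))

theorem real_elt (hodd : Odd K.index) {x : G} (hx : IsConj x x⁻¹) :
    x ∈ K ∧ ∀ h : x ∈ K, IsConj (⟨x, h⟩ : K) (⟨x, h⟩ : K)⁻¹ := by
  refine ⟨?_, fun h => ?_⟩
  · haveI := Fintype.ofFinite (G ⧸ K)
    have h1 : IsConj ((x : G ⧸ K)) ((x : G ⧸ K))⁻¹ := by
      have := (QuotientGroup.mk' K).map_isConj hx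
      simpa using this
    exact (QuotientGroup.eq_one_iff x).mp
      (eq_one_of_conj_inv_of_odd (by rwa [← Subgroup.index_eq_card]) h1)
  · obtain ⟨c, hc⟩ := isConj_iff.mp hx
    have h2 : ∀ j : ℕ, c ^ (2 * j + 1) * x * (c ^ (2 * j + 1))⁻¹ = x⁻¹ := by
      intro j
      induction j with
      | zero => simpa using hc
      | succ j ih =>
        have hc' : c * x⁻¹ * c⁻¹ = x := by
          rw [show c * x⁻¹ * c⁻¹ = (c * x * c⁻¹)⁻¹ by group, hc, inv_inv]
        calc c ^ (2 * (j + 1) + 1) * x * (c ^ (2 * (j + 1) + 1))⁻¹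
            = c * (c * (c ^ (2 * j + 1) * x * (c ^ (2 * j + 1))⁻¹) * c⁻¹) * c⁻¹ := by
              rw [show 2 * (j + 1) + 1 = 1 + (1 + (2 * j + 1)) by ring, pow_add, pow_add c 1, pow_one]
              group
          _ = x⁻¹ := by rw [ih, hc', hc]
    obtain ⟨m, hm⟩ := hodd
    refine isConj_iff.mpr ⟨⟨c ^ K.index, K.pow_index_mem c⟩, Subtype.ext ?_⟩
    show c ^ K.index * x * (c ^ K.index)⁻¹ = x⁻¹
    rw [hm]
    exact h2 m

/-- A real character is determined by a constituent on a normal subgroup of odd index. -/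
theorem real_over_unique (hodd : Odd K.index) {χ χ' : IrrCharacter G}
    (hχ : ∀ g, ((χ : G → ℂ) g).im = 0) (hχ' : ∀ g, ((χ' : G → ℂ) g).im = 0) {θ : IrrCharacter K}
    (h : classInner (fun k : K => (χ : G → ℂ) k) (θ : K → ℂ) ≠ 0)
    (h' : classInner (fun k : K => (χ' : G → ℂ) k) (θ : K → ℂ) ≠ 0) : χ = χ' := by
  classical
  let R := fun θ η : {θ : IrrCharacter K // (∀ k : K, ((θ : K → ℂ) k).im = 0)} =>
    ∃ g : G, ∀ k k' : K, (k' : G) = g * (k : G) * g⁻¹ → (η.1 : K → ℂ) k' = (θ.1 : K → ℂ) k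
  let X := {χ : IrrCharacter G // ∀ g : G, ((χ : G → ℂ) g).im = 0}
  have hrel : ∀ (χ : IrrCharacter G) (a b : {θ : IrrCharacter K // (∀ k : K, ((θ : K → ℂ) k).im = 0)}),
      classInner (fun k : K => (χ : G → ℂ) k) (a.1 : K → ℂ) ≠ 0 →
      classInner (fun k : K => (χ : G → ℂ) k) (b.1 : K → ℂ) ≠ 0 → R a b := by
    intro χ a b ha hb
    obtain ⟨g, hg⟩ := exists_conj_of_constituent K χ.2 b.1.2 a.1.2 hb ha
    refine ⟨g, fun k k' hk => ?_⟩
    rw [← congrFun hg k]
    exact congrArg _ (Subtype.ext hk)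
  have hbelow : ∀ χ : X, ∃ a : {θ : IrrCharacter K // (∀ k : K, ((θ : K → ℂ) k).im = 0)},
      classInner (fun k : K => (χ.1 : G → ℂ) k) (a.1 : K → ℂ) ≠ 0 := by
    intro χ
    obtain ⟨a, ha⟩ := exists_constituent_restrict K χ.1.2
    exact ⟨⟨a, fun k => Complex.conj_eq_iff_im.mp (real_below K hodd χ.2 ha k)⟩, ha⟩
  choose f hf using hbelow
  let F : X → Quot R := fun χ => Quot.mk R (f χ)
  have hsurj : Function.Surjective F := by
    intro q
    induction q using Quot.ind with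
    | mk a =>
      obtain ⟨χ, hχ, hov, -⟩ := exists_real_over K hodd a.1 fun k => Complex.conj_eq_iff_im.mpr (a.2 k)
      exact ⟨⟨χ, hχ⟩, Quot.sound (hrel χ _ _ (hf ⟨χ, hχ⟩) hov)⟩
  have hcard : Nat.card X = Nat.card (Quot R) := by
    rw [show Nat.card (Quot R) = _ from S4866.result K hodd, card_real_irr]
    symm
    let D := {C : ConjClasses G // ∀ g : G, ConjClasses.mk g = C → IsConj g g⁻¹}
    have hreal : ∀ x : {x : K // IsConj x x⁻¹}, IsConj (x.1 : G) (x.1 : G)⁻¹ := fun x => by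
      have := K.subtype.map_isConj x.2
      simpa using this
    let Φ : Quot (fun x y : {x : K // IsConj x x⁻¹} => ∃ g : G, (y.1 : G) = g * x.1 * g⁻¹) → D :=
      Quot.lift (fun x => ⟨ConjClasses.mk (x.1 : G), fun g hg => by
          have h1 := ConjClasses.mk_eq_mk_iff_isConj.mp hg
          obtain ⟨c, hc⟩ := isConj_iff.mp h1
          exact h1.trans ((hreal x).trans (isConj_iff.mpr ⟨c, by rw [← conj_inv, hc]⟩).symm)⟩)
        fun x y ⟨g, hg⟩ => Subtype.ext (ConjClasses.mk_eq_mk_iff_isConj.mpr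
          (isConj_iff.mpr ⟨g, hg.symm⟩))
    refine Nat.card_eq_of_bijective Φ ⟨?_, fun C => ?_⟩
    · intro a b
      induction a using Quot.ind with
      | mk x =>
        induction b using Quot.ind with
        | mk y =>
          intro e
          obtain ⟨g, hg⟩ := isConj_iff.mp (ConjClasses.mk_eq_mk_iff_isConj.mp (congrArg Subtype.val e))
          exact Quot.sound ⟨g, hg.symm⟩
    · obtain ⟨x, hx⟩ := ConjClasses.mk_surjective C.1
      obtain ⟨hxK, hxr⟩ := real_elt K hodd (C.2 x hx)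
      exact ⟨Quot.mk _ ⟨⟨x, hxK⟩, hxr hxK⟩, Subtype.ext hx⟩
  have hinj : Function.Injective F :=
    (Function.Surjective.bijective_of_nat_card_le hsurj hcard.le).1
  have hθ : ∀ k : K, ((θ : K → ℂ) k).im = 0 := fun k =>
    Complex.conj_eq_iff_im.mp (real_below K hodd hχ h k)
  refine congrArg Subtype.val (hinj (a₁ := ⟨χ, hχ⟩) (a₂ := ⟨χ', hχ'⟩) ?_)
  exact (Quot.sound (hrel χ _ ⟨θ, hθ⟩ (hf ⟨χ, hχ⟩) h)).trans
    (Quot.sound (hrel χ' _ ⟨θ, hθ⟩ (hf ⟨χ', hχ'⟩) h')).symm

end Cfsg.Agent.RealIndex
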