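import Cfsg.Agent.Lib.CT.Clifford
import Cfsg.Agent.Lib.CT.Kernel
import Cfsg.Agent.Lib.CT.Degree
import Cfsg.Agent.Lib.Basics.CoprimeAction
import Cfsg.Agent.Lib.Basics.Frattini
import Mathlib.GroupTheory.FiniteAbelian.Duality
import Mathlib.Analysis.Complex.Polynomial.Basic
import Mathlib.RingTheory.RootsOfUnity.AlgebraicallyClosed
import Cfsg.Prelude.Def_Blocks

/-!
# Groups whose real irreducible characters have degree prime to `p`
-/

set_option autoImplicit false
set_option linter.all false

open scoped ComplexConjugate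

namespace Cfsg.Agent.RealPrime

open Cfsg.Agent.CT

universe u

/-- The subgroup generated by the `p`-elements. -/
def gen (p : ℕ) (G : Type u) [Group G] : Subgroup G :=
  Subgroup.closure {g : G | ∃ k : ℕ, orderOf g = p ^ k}

/-- Real irreducible characters have degree prime to `p`. -/
def RealHyp (p : ℕ) (G : Type u) [Group G] : Prop :=
  ∀ χ : IrrCharacter G, (∀ g : G, ((χ : G → ℂ) g).im = 0) → ¬ p ∣ deg (χ : G → ℂ)

theorem mem_gen {p : ℕ} (hp : p.Prime) {G : Type u} [Group G] [Finite G] {g : G} {k : ℕ}
    (hk : g ^ p ^ k = 1) : g ∈ gen p G := by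
  obtain ⟨j, -, hj⟩ := (Nat.dvd_prime_pow hp).mp (orderOf_dvd_of_pow_eq_one hk)
  exact Subgroup.subset_closure ⟨j, hj⟩

theorem gen_normal (p : ℕ) (G : Type u) [Group G] : (gen p G).Normal := by
  refine ⟨fun x hx g => ?_⟩
  have h : (gen p G).map (MulAut.conj g).toMonoidHom ≤ gen p G := by
    rw [gen, MonoidHom.map_closure]
    refine Subgroup.closure_mono ?_
    rintro _ ⟨y, ⟨k, hk⟩, rfl⟩
    exact ⟨k, ((MulAut.conj g).orderOf_eq y).trans hk⟩
  exact h ⟨x, hx, rfl⟩

theorem gen_map {p : ℕ} (hp : p.Prime) {G : Type u} {H : Type u} [Group G] [Finite G] [Group H]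
    (f : G →* H) (hf : Function.Surjective f) : (gen p G).map f = gen p H := by
  haveI : Finite H := Finite.of_surjective f hf
  refine le_antisymm ?_ ((Subgroup.closure_le _).mpr ?_)
  · rw [gen, MonoidHom.map_closure]
    refine (Subgroup.closure_le _).mpr ?_
    rintro _ ⟨y, ⟨k, hk⟩, rfl⟩
    exact mem_gen hp (k := k) (by rw [← map_pow, ← hk, pow_orderOf_eq_one, map_one])
  · rintro h ⟨k, hk⟩
    obtain ⟨g, rfl⟩ := hf h
    haveI := Fact.mk hp
    set m := orderOf g / p ^ (orderOf g).factorization p
    have hm : (p ^ k).Coprime m := Nat.Coprime.pow_left k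
      (hp.coprime_iff_not_dvd.mpr (Nat.not_dvd_ordCompl hp (orderOf_pos g).ne'))
    have hcop : Nat.Coprime m (orderOf (f g)) := hk ▸ hm.symm
    obtain ⟨j, hj⟩ := exists_pow_eq_self_of_coprime hcop
    refine ⟨(g ^ m) ^ j, pow_mem (mem_gen hp (k := (orderOf g).factorization p) ?_) j, ?_⟩
    · rw [← pow_mul, mul_comm, Nat.ordProj_mul_ordCompl_eq_self, pow_orderOf_eq_one]
    · rw [map_pow, map_pow, hj]

theorem RealHyp.quotient {p : ℕ} {G : Type u} [Group G] (h : RealHyp p G) (N : Subgroup G)
    [N.Normal] : RealHyp p (G ⧸ N) := fun ψ hψ =>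
  h ⟨_, isIrr_inflate N ψ.2 (fun g => rfl)⟩ (fun g => hψ _)

variable {G : Type u} [Group G] [Finite G]

theorem conj_units {H : Type u} [Group H] [Finite H] (l : H →* ℂˣ) (x : H) :
    conj ((l x : ℂˣ) : ℂ) = (((l x)⁻¹ : ℂˣ) : ℂ) := by
  have hn : ‖((l x : ℂˣ) : ℂ)‖ = 1 := by
    refine Complex.norm_eq_one_of_pow_eq_one (n := orderOf x) ?_ (orderOf_pos x).ne'
    rw [← Units.val_pow_eq_pow_val, ← map_pow, pow_orderOf_eq_one, map_one, Units.val_one]
  rw [Units.val_inv_eq_inv_val]
  refine eq_inv_of_mul_eq_one_left ?_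
  rw [Complex.conj_mul', hn]
  simp

/-- A real character above a linear character `λ` with a real-twisted extension of odd index. -/
theorem real_over [Fintype G] (M : Subgroup G) [M.Normal] [Fintype M] (lam : M →* ℂˣ)
    (B : Subgroup G) (hMB : M ≤ B) (μ : B →* ℂˣ) (hext : ∀ m : M, μ ⟨m, hMB m.2⟩ = lam m)
    (hodd : Odd (B.relIndex (inertia M (fun m => ((lam m : ℂˣ) : ℂ)))))
    (hBT : B ≤ inertia M (fun m => ((lam m : ℂˣ) : ℂ)))
    (h : G) (hB : ∀ x : G, x ∈ B ↔ h * x * h⁻¹ ∈ B)
    (hconj : ∀ x : B, μ ⟨h * x * h⁻¹, (hB x).mp x.2⟩ = (μ x)⁻¹) :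
    ∃ χ : IrrCharacter G, (∀ g : G, ((χ : G → ℂ) g).im = 0) ∧
      classInner (fun m : M => (χ : G → ℂ) m) (fun m => ((lam m : ℂˣ) : ℂ)) ≠ 0 := by
  classical
  haveI := Fintype.ofFinite B
  set φ : M → ℂ := fun m => ((lam m : ℂˣ) : ℂ) with hφdef
  have hφ : IsIrrCharacter M φ := isIrrCharacter_lin lam
  set μc : B → ℂ := fun x => ((μ x : ℂˣ) : ℂ) with hμc
  have hμi : IsIrrCharacter B μc := isIrrCharacter_lin μ
  set θ := indFun B μc with hθdef
  have hθc : IsCharacter G θ := isCharacter_indFun B (isCharacter_of_isIrr hμi)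
  have hθreal : ∀ g, conj (θ g) = θ g := by
    intro g
    simp only [hθdef, indFun, map_mul, map_inv₀, map_natCast, map_sum]
    congr 1
    refine Fintype.sum_equiv (Equiv.mulRight h⁻¹) _ _ fun y => ?_
    simp only [Equiv.coe_mulRight, mul_inv_rev, inv_inv]
    have e : h * y⁻¹ * g * (y * h⁻¹) = h * (y⁻¹ * g * y) * h⁻¹ := by group
    rw [e]
    by_cases hy : y⁻¹ * g * y ∈ B
    · rw [extendByZero_mem B _ hy, extendByZero_mem B _ ((hB _).mp hy)]
      simp only [hμc]
      rw [conj_units, hconj ⟨_, hy⟩]
    · rw [extendByZero_not_mem B _ hy, extendByZero_not_mem B _ (fun h' => hy ((hB _).mpr h')),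
        map_zero]
  set T := inertia M φ with hT
  have hover : ∀ χ : IrrCharacter G, mult θ χ ≠ 0 →
      classInner (fun m : M => (χ : G → ℂ) m) φ ≠ 0 := by
    intro χ hm
    have hχc := isCharacter_of_isIrr χ.2
    have hres : IsCharacter B (fun x : B => (χ : G → ℂ) x) := isCharacter_restrict B hχc
    have h1 : classInner μc (fun x : B => (χ : G → ℂ) x) ≠ 0 := by
      rw [← frobenius_reciprocity B μc (isClassFunction_of_isIrr χ.2), ← hθdef, mult_spec hθc hχc]
      exact Nat.cast_ne_zero.mpr hm
    rw [classInner_comm_of_char (isCharacter_of_isIrr hμi) hres,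
      mult_spec hres (isCharacter_of_isIrr hμi), Nat.cast_ne_zero] at h1
    have hrest := isCharacter_sub_constituent hres hμi (k := 1) (Nat.one_le_iff_ne_zero.mpr h1)
    have hrestM : IsCharacter M (fun m : M =>
        ((fun x : B => (χ : G → ℂ) x) - ((1 : ℕ) : ℂ) • μc) ⟨m, hMB m.2⟩) :=
      isCharacter_comp (Subgroup.inclusion hMB) hrest
    have e : (fun m : M => (χ : G → ℂ) m) = φ + fun m : M =>
        ((fun x : B => (χ : G → ℂ) x) - ((1 : ℕ) : ℂ) • μc) ⟨m, hMB m.2⟩ := by
      funext m
      simp [hμc, hφdef, hext m]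
    intro h0
    rw [e, classInner_add_left, irr_inner_self hφ] at h0
    have := classInner_re_nonneg hrestM (isCharacter_of_isIrr hφ)
    have h0' := congrArg Complex.re h0
    simp only [Complex.add_re, Complex.one_re, Complex.zero_re] at h0'
    linarith
  have hT0 : 0 < T.index := Nat.pos_of_ne_zero Subgroup.index_ne_zero_of_finite
  let b : IrrCharacter G → ℕ := fun χ => mult θ χ * deg (χ : G → ℂ) / T.index
  have hb : ∀ χ : IrrCharacter G, mult θ χ * deg (χ : G → ℂ) = b χ * T.index := by
    intro χ
    refine (Nat.div_mul_cancel ?_).symm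
    rcases eq_or_ne (mult θ χ) 0 with h0 | h0
    · simp [h0]
    · refine Dvd.dvd.mul_left ?_ _
      rw [clifford_mult M χ.2 hφ (hover χ h0), show deg φ = 1 by simp [deg, hφdef], mul_one]
      exact dvd_mul_left _ _
  have hsum : ∑ χ : IrrCharacter G, b χ = B.relIndex T := by
    have h1 := congrFun (character_eq_sum hθc) 1
    simp only [Finset.sum_apply, Pi.smul_apply, smul_eq_mul] at h1
    rw [hθdef, indFun_one_eval, ← hθdef, show μc 1 = 1 by simp [hμc], mul_one,
      Finset.sum_congr rfl (fun χ _ => by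
        rw [deg_eq (isCharacter_of_isIrr χ.2), ← Nat.cast_mul, hb χ])] at h1
    have h2 : B.index = ∑ χ : IrrCharacter G, b χ * T.index := by exact_mod_cast h1
    rw [← Finset.sum_mul, ← Subgroup.relIndex_mul_index hBT] at h2
    exact (Nat.eq_of_mul_eq_mul_right hT0 h2).symm
  have hconjirr : ∀ χ : IrrCharacter G, IsIrrCharacter G (fun g => conj ((χ : G → ℂ) g)) := by
    intro χ
    refine isIrr_of_inner_self (isCharacter_conj (isCharacter_of_isIrr χ.2)) ?_
    have := congrArg conj (irr_inner_self χ.2)
    simpa [classInner] using this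
  let bar : IrrCharacter G → IrrCharacter G := fun χ => ⟨_, hconjirr χ⟩
  have hbb : ∀ χ, bar (bar χ) = χ := fun χ => Subtype.ext (funext fun g => by simp [bar])
  have hbar : ∀ χ, b (bar χ) = b χ := by
    intro χ
    have hd : deg (bar χ : G → ℂ) = deg (χ : G → ℂ) := by simp [deg, bar]
    have hm : mult θ (bar χ) = mult θ χ := by
      have h1 : classInner θ (bar χ : G → ℂ) = conj (classInner θ (χ : G → ℂ)) := by
        simp only [classInner, bar, map_mul, map_inv₀, map_natCast, map_sum, hθreal]
      rw [mult_spec hθc (isCharacter_of_isIrr (bar χ).2),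
        mult_spec hθc (isCharacter_of_isIrr χ.2), map_natCast] at h1
      exact_mod_cast h1
    simp only [b, hd, hm]
  by_contra hno
  push Not at hno
  have heven : ((∑ χ : IrrCharacter G, b χ : ℕ) : ZMod 2) = 0 := by
    push_cast
    refine Finset.sum_involution (fun χ _ => bar χ) (fun χ _ => ?_) (fun χ _ hne e => ?_)
      (fun χ _ => Finset.mem_univ _) (fun χ _ => hbb χ)
    · rw [hbar]; exact CharTwo.add_self_eq_zero _
    · have hm : mult θ χ ≠ 0 := fun h0 => hne (by simp [b, h0])
      exact hover χ hm (hno χ fun g => Complex.conj_eq_iff_im.mp (congrFun (congrArg Subtype.val e) g))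
  rw [hsum, ZMod.natCast_eq_zero_iff_even] at heven
  exact (Nat.not_even_iff_odd.mpr hodd) heven

/-- Extend a linear character along a complement fixing it. -/
theorem extHom (M C : Subgroup G) [M.Normal] (hd : M ⊓ C = ⊥) (lam : M →* ℂˣ)
    (hinv : ∀ c ∈ C, ∀ m : M, lam ⟨c * m * c⁻¹, Subgroup.Normal.conj_mem inferInstance _ m.2 c⟩ = lam m) :
    ∃ μ : (M ⊔ C : Subgroup G) →* ℂˣ,
      (∀ m : M, μ ⟨m, Subgroup.mem_sup_left m.2⟩ = lam m) ∧
      ∀ (x : (M ⊔ C : Subgroup G)) (m : M), (m : G)⁻¹ * x ∈ C → μ x = lam m := by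
  classical
  have hex : ∀ x : (M ⊔ C : Subgroup G), ∃ m : M, (m : G)⁻¹ * x ∈ C := fun x => by
    obtain ⟨n, hn, c, hc, e⟩ := (Basics.mem_sup_of_le_normalizer (N := M) (H := C)
      Subgroup.le_normalizer_of_normal).mp x.2
    exact ⟨⟨n, hn⟩, by rw [e]; simpa using hc⟩
  choose f hf using hex
  have huniq : ∀ (x : (M ⊔ C : Subgroup G)) (m : M), (m : G)⁻¹ * x ∈ C → f x = m := by
    intro x m hm
    have h1 : (m : G)⁻¹ * (f x : G) ∈ M ⊓ C := ⟨M.mul_mem (M.inv_mem m.2) (f x).2, by
      have := C.mul_mem hm (C.inv_mem (hf x))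
      simpa [mul_assoc] using this⟩
    rw [hd, Subgroup.mem_bot, inv_mul_eq_one] at h1
    exact (Subtype.ext h1).symm
  let μ : (M ⊔ C : Subgroup G) →* ℂˣ :=
  { toFun := fun x => lam (f x)
    map_one' := by rw [huniq 1 1 (by simp), map_one]
    map_mul' := fun x y => by
      set c := (f x : G)⁻¹ * x with hc
      let m' : M := ⟨c * (f y : G) * c⁻¹, Subgroup.Normal.conj_mem inferInstance _ (f y).2 c⟩
      have e : f (x * y) = f x * m' := by
        refine huniq _ _ ?_
        have : ((f x * m' : M) : G)⁻¹ * ((x * y : (M ⊔ C : Subgroup G)) : G) =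
            c * ((f y : G)⁻¹ * y) := by
          simp [m', hc, mul_assoc]
        rw [this]
        exact C.mul_mem (hf x) (hf y)
      rw [e, map_mul, hinv c (hf x) (f y)] }
  exact ⟨μ, fun m => congrArg lam (huniq _ m (by simp)), fun x m hm => congrArg lam (huniq x m hm)⟩

theorem exists_char_ne_one {A : Type u} [Group A] [Finite A] {y : A} (hy : y ∉ commutator A) :
    ∃ φ : A →* ℂˣ, φ y ≠ 1 := by
  haveI : Finite (Abelianization A) := Quotient.finite _
  obtain ⟨φ, hφ⟩ := CommGroup.exists_apply_ne_one_of_hasEnoughRootsOfUnity (Abelianization A) ℂ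
    (a := Abelianization.of y) (fun e => hy ((QuotientGroup.eq_one_iff y).mp e))
  exact ⟨φ.comp Abelianization.of, hφ⟩

/-- A linear character inverted by some element. -/
theorem exists_inverted (M : Subgroup G) [M.Normal] {t : G} {k : ℕ} (ht : t ^ 2 ^ k = 1)
    (hnt : ∃ φ : M →* ℂˣ, φ.comp (MulAut.conjNormal t).toMonoidHom ≠ φ) :
    ∃ (lam : M →* ℂˣ) (g : G), lam ≠ 1 ∧ lam.comp (MulAut.conjNormal g).toMonoidHom = lam⁻¹ := by
  classical
  have hex : ∃ j, ∀ φ : M →* ℂˣ, φ.comp (MulAut.conjNormal (t ^ 2 ^ j)).toMonoidHom = φ :=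
    ⟨k, fun φ => by ext m; simp [ht]⟩
  obtain ⟨j, hj, hj0⟩ : ∃ j, (∀ φ : M →* ℂˣ, φ.comp (MulAut.conjNormal (t ^ 2 ^ (j + 1))).toMonoidHom = φ) ∧
      ¬ ∀ φ : M →* ℂˣ, φ.comp (MulAut.conjNormal (t ^ 2 ^ j)).toMonoidHom = φ := by
    have h0 : Nat.find hex ≠ 0 := fun e => by
      obtain ⟨φ, hφ⟩ := hnt
      have := Nat.find_spec hex
      rw [e] at this
      exact hφ (by simpa using this φ)
    obtain ⟨j, hj⟩ := Nat.exists_eq_succ_of_ne_zero h0
    exact ⟨j, by have := Nat.find_spec hex; rwa [hj] at this, Nat.find_min hex (by omega)⟩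
  push Not at hj0
  obtain ⟨φ, hφ⟩ := hj0
  set g := t ^ 2 ^ j with hg
  refine ⟨φ.comp (MulAut.conjNormal g).toMonoidHom * φ⁻¹, g, fun e => hφ (mul_inv_eq_one.mp e), ?_⟩
  refine MonoidHom.ext fun m => ?_
  have h2 : φ (MulAut.conjNormal g (MulAut.conjNormal g m)) = φ m := by
    have := congrArg (fun f : M →* ℂˣ => f m) (hj φ)
    rw [show t ^ 2 ^ (j + 1) = g * g by rw [hg, ← pow_add, pow_succ, mul_two]] at this
    simpa [map_mul] using this
  simp [h2]

theorem mem_inertia_lin (M : Subgroup G) [M.Normal] (lam : M →* ℂˣ) (x : G) :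
    x ∈ inertia M (fun m => ((lam m : ℂˣ) : ℂ)) ↔
      ∀ m : M, lam (MulAut.conjNormal x m) = lam m := by
  rw [mem_inertia_iff]
  constructor
  · intro h m
    refine Eq.trans ?_ (Units.ext (h m))
    exact congrArg lam (Subtype.ext (MulAut.conjNormal_apply x m))
  · intro h m
    refine congrArg Units.val (Eq.trans ?_ (h m))
    exact congrArg lam (Subtype.ext (MulAut.conjNormal_apply x m).symm)

theorem le_inertia_lin (M : Subgroup G) [M.Normal] (lam : M →* ℂˣ) :
    M ≤ inertia M (fun m => ((lam m : ℂˣ) : ℂ)) :=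
  le_inertia M (isClassFunction_of_isIrr (isIrrCharacter_lin lam))

/-- Real character over an inverted linear character of an odd order normal subgroup. -/
theorem real_over_odd [Fintype G] (M : Subgroup G) [M.Normal] [Fintype M]
    (hM : Odd (Nat.card M)) (lam : M →* ℂˣ) (g : G)
    (hg : lam.comp (MulAut.conjNormal g).toMonoidHom = lam⁻¹) :
    ∃ χ : IrrCharacter G, (∀ x : G, ((χ : G → ℂ) x).im = 0) ∧
      classInner (fun m : M => (χ : G → ℂ) m) (fun m => ((lam m : ℂˣ) : ℂ)) ≠ 0 := by
  classical
  set T := inertia M (fun m => ((lam m : ℂˣ) : ℂ)) with hT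
  have hgm : ∀ m : M, lam (MulAut.conjNormal g m) = (lam m)⁻¹ := fun m =>
    congrArg (fun f : M →* ℂˣ => f m) hg
  have hgT : ∀ x : G, x ∈ T ↔ g * x * g⁻¹ ∈ T := by
    intro x
    rw [mem_inertia_lin, mem_inertia_lin]
    constructor
    · intro h m
      obtain ⟨m', rfl⟩ := (MulAut.conjNormal (H := M) g).surjective m
      rw [← MulAut.mul_apply, ← map_mul, show g * x * g⁻¹ * g = g * x by group, map_mul,
        MulAut.mul_apply, hgm, hgm, h m']
    · intro h m
      have := h (MulAut.conjNormal g m)
      rw [← MulAut.mul_apply, ← map_mul, show g * x * g⁻¹ * g = g * x by group, map_mul,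
        MulAut.mul_apply, hgm, hgm] at this
      exact inv_injective this
  haveI : Fact (Nat.Prime 2) := ⟨Nat.prime_two⟩
  obtain ⟨S⟩ : Nonempty (Sylow 2 T) := inferInstance
  let c : T ≃* T :=
  { toFun := fun x => ⟨g * x * g⁻¹, (hgT _).mp x.2⟩
    invFun := fun x => ⟨g⁻¹ * x * g, (hgT _).mpr (by
      rw [show g * (g⁻¹ * x * g) * g⁻¹ = x by group]; exact x.2)⟩
    left_inv := fun x => Subtype.ext (by simp [mul_assoc])
    right_inv := fun x => Subtype.ext (by simp [mul_assoc])
    map_mul' := fun x y => Subtype.ext (by simp [mul_assoc]) }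
  obtain ⟨t, ht⟩ := MulAction.exists_smul_eq T
    (S.mapSurjective (f := c.toMonoidHom) c.surjective) S
  set h := (t : G) * g with hh
  set S' := (S : Subgroup T).map T.subtype with hS'
  have hS'T : S' ≤ T := Subgroup.map_subtype_le _
  have hS : ∀ x : G, x ∈ S' → h * x * h⁻¹ ∈ S' := by
    rintro _ ⟨x, hx, rfl⟩
    refine ⟨t * c x * t⁻¹, ?_, by simp [hh, c, mul_assoc]⟩
    rw [← ht]
    exact Basics.conj_mem_conj_smul (Subgroup.mem_map_of_mem _ hx)
  set B := M ⊔ S' with hBdef
  have hBT : B ≤ T := sup_le (le_inertia_lin M lam) hS'T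
  have hdisj : M ⊓ S' = ⊥ := by
    refine (Subgroup.disjoint_of_coprime_natCard ?_).eq_bot
    obtain ⟨k, hk⟩ := IsPGroup.iff_card.mp (S.2.map T.subtype)
    rw [hk]
    exact Nat.Coprime.pow_right k (Nat.coprime_two_right.mpr hM)
  obtain ⟨μ, hμ1, hμ2⟩ := extHom M S' hdisj lam (fun x hx m => by
    have := (mem_inertia_lin M lam x).mp (hS'T hx) m
    refine Eq.trans ?_ this
    exact congrArg lam (Subtype.ext (MulAut.conjNormal_apply x m).symm))
  have hodd : Odd (B.relIndex T) := by
    refine Odd.of_dvd_nat ?_ (Subgroup.relIndex_dvd_of_le_left T (le_sup_right : S' ≤ B))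
    rw [hS', Subgroup.relIndex, Subgroup.subgroupOf,
      Subgroup.comap_map_eq_self_of_injective (Subgroup.subtype_injective T)]
    exact Nat.odd_iff.mpr (Nat.two_dvd_ne_zero.mp S.not_dvd_index)
  have hB1 : ∀ x : G, x ∈ B → h * x * h⁻¹ ∈ B := by
    intro x hx
    obtain ⟨n, hn, s, hs, rfl⟩ := (Basics.mem_sup_of_le_normalizer (N := M) (H := S')
      Subgroup.le_normalizer_of_normal).mp hx
    rw [show h * (n * s) * h⁻¹ = (h * n * h⁻¹) * (h * s * h⁻¹) by group]
    exact B.mul_mem (Subgroup.mem_sup_left (Subgroup.Normal.conj_mem inferInstance n hn h))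
      (Subgroup.mem_sup_right (hS s hs))
  have hB : ∀ x : G, x ∈ B ↔ h * x * h⁻¹ ∈ B := by
    intro x
    refine ⟨hB1 x, fun hx => ?_⟩
    let f : B → B := fun y => ⟨_, hB1 y y.2⟩
    have hinj : Function.Injective f := fun a b e => by
      have e' := congrArg Subtype.val e
      exact Subtype.ext (mul_left_cancel (mul_right_cancel e'))
    obtain ⟨y, hy⟩ := (Finite.injective_iff_surjective.mp hinj) ⟨_, hx⟩
    rw [← mul_left_cancel (mul_right_cancel (congrArg Subtype.val hy))]
    exact y.2
  have htT := (mem_inertia_lin M lam t).mp t.2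
  refine real_over M lam B le_sup_left μ hμ1 hodd hBT h hB fun x => ?_
  obtain ⟨n, hn, s, hs, e⟩ := (Basics.mem_sup_of_le_normalizer (N := M) (H := S')
      Subgroup.le_normalizer_of_normal).mp x.2
  rw [hμ2 x ⟨n, hn⟩ (by rw [e]; simpa using hs),
    hμ2 _ (MulAut.conjNormal h ⟨n, hn⟩) (by
      rw [MulAut.conjNormal_apply]
      simp only [e]
      rw [show (h * n * h⁻¹)⁻¹ * (h * (n * s) * h⁻¹) = h * s * h⁻¹ by group]
      exact hS s hs),
    hh, map_mul, MulAut.mul_apply, htT, hgm]

theorem normal_sylow (p : ℕ) [Fact p.Prime] (m : ℕ) : ∀ (G : Type u) [Group G] [Finite G],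
    Nat.card G = m → Group.IsSolvable (gen p G) → RealHyp p G →
    ∀ (U : Subgroup G), U.Normal → gen 2 G ≤ U → (∃ a : ℕ, (gen 2 G).relIndex U ∣ p ^ a) →
      ∀ Q : Sylow p U, (Q : Subgroup U).Normal := by
  induction m using Nat.strong_induction_on with
  | _ m ih =>
    intro G _ _ hm hsolv hreal U hU hKU hUp
    classical
    haveI := Fintype.ofFinite G
    haveI := hU
    have hp := (Fact.out : p.Prime)
    suffices ∃ Q : Sylow p U, (Q : Subgroup U).Normal by
      obtain ⟨Q0, hQ0⟩ := this
      intro Q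
      haveI := Sylow.unique_of_normal Q0 hQ0
      rwa [Subsingleton.elim Q Q0]
    by_cases hUbot : U = ⊥
    · obtain ⟨Q⟩ : Nonempty (Sylow p U) := inferInstance
      refine ⟨Q, ⟨fun n hn x => ?_⟩⟩
      subst hUbot
      rwa [Subsingleton.elim (x * n * x⁻¹) n]
    obtain ⟨L, hLn, hLU, hLne, hLmin⟩ := Basics.exists_minimal_normal hUbot
    haveI := hLn
    haveI := Fintype.ofFinite L
    set K := gen 2 G with hK
    haveI hKn : K.Normal := gen_normal 2 G
    obtain ⟨a, ha⟩ := hUp
    -- the quotient
    have hlt : Nat.card (G ⧸ L) < m := by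
      rw [← hm, L.card_eq_card_quotient_mul_card_subgroup]
      haveI : Nontrivial L := (Subgroup.nontrivial_iff_ne_bot L).mpr hLne
      exact lt_mul_of_one_lt_right Nat.card_pos Finite.one_lt_card
    have hmk := QuotientGroup.mk'_surjective L
    have hsolv' : Group.IsSolvable (gen p (G ⧸ L)) := by
      rw [← gen_map hp (QuotientGroup.mk' L) hmk]
      haveI := hsolv
      exact Group.isSolvable_of_surjective ((QuotientGroup.mk' L).subgroupMap_surjective (gen p G))
    set f := QuotientGroup.mk' L with hf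
    haveI hUbar : (U.map f).Normal := hU.map f hmk
    have hQbar := ih _ hlt (G ⧸ L) rfl hsolv' (hreal.quotient L) (U.map f) hUbar
      (by rw [← gen_map Nat.prime_two f hmk]; exact Subgroup.map_mono hKU)
      ⟨a, by
        rw [← gen_map Nat.prime_two f hmk]
        refine dvd_trans ?_ ha
        rw [Subgroup.relIndex_map_map, QuotientGroup.ker_mk', sup_eq_left.mpr hLU]
        exact Subgroup.relIndex_dvd_of_le_left U le_sup_left⟩
    obtain ⟨Qb⟩ : Nonempty (Sylow p (U.map f)) := inferInstance
    haveI : (Qb : Subgroup (U.map f)).Characteristic := Qb.characteristic_of_normal (hQbar Qb)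
    haveI hVb : ((Qb : Subgroup (U.map f)).map (U.map f).subtype).Normal :=
      ConjAct.normal_of_characteristic_of_normal
    set V := ((Qb : Subgroup (U.map f)).map (U.map f).subtype).comap f with hV
    haveI hVn : V.Normal := hVb.comap f
    have hLV : L ≤ V := fun x hx => by
      show f x ∈ (Qb : Subgroup (U.map f)).map (U.map f).subtype
      rw [show f x = 1 from (QuotientGroup.eq_one_iff x).mpr hx]
      exact Subgroup.one_mem _
    have hVU : V ≤ U := by
      intro x hx
      obtain ⟨y, -, hy⟩ := Subgroup.mem_comap.mp hx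
      obtain ⟨u, hu, hu'⟩ := y.2
      have : f u = f x := hu'.trans hy
      rw [hf, QuotientGroup.mk'_apply, QuotientGroup.mk'_apply, QuotientGroup.eq] at this
      have h2 := U.mul_mem hu (hLU this)
      rwa [mul_inv_cancel_left] at h2
    have hVcard : Nat.card V = Nat.card L * Nat.card (Qb : Subgroup (U.map f)) := by
      have h1 := Basics.card_map_mul_card_inf_ker f V
      rw [hf, QuotientGroup.ker_mk', inf_eq_right.mpr hLV, ← hf, hV,
        Subgroup.map_comap_eq_self_of_surjective hmk,
        Subgroup.card_map_of_injective (U.map f).subtype_injective, ← hV] at h1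
      rw [← h1, mul_comm]
    have hUcard : Nat.card U = Nat.card L * Nat.card (U.map f) := by
      have h1 := Basics.card_map_mul_card_inf_ker f U
      rw [hf, QuotientGroup.ker_mk', inf_eq_right.mpr hLU, ← hf] at h1
      rw [← h1, mul_comm]
    -- a normal subgroup of Sylow order suffices
    have hdone : ∀ Q : Subgroup G, Q.Normal → Q ≤ U →
        Nat.card Q = p ^ (Nat.card U).factorization p → ∃ Q' : Sylow p U, (Q' : Subgroup U).Normal := by
      intro Q hQn hQU hc
      haveI := hQn
      refine ⟨Sylow.ofCard (Q.subgroupOf U) ?_, ?_⟩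
      · rw [Basics.card_subgroupOf hQU, hc]
      · exact Subgroup.normal_subgroupOf
    obtain ⟨b, hb⟩ := IsPGroup.iff_card.mp Qb.2
    have hQb := Qb.card_eq_multiplicity
    by_cases hLp : IsPGroup p L
    · obtain ⟨c, hc⟩ := IsPGroup.iff_card.mp hLp
      refine hdone V hVn hVU ?_
      rw [hVcard, hUcard, Nat.factorization_mul Nat.card_pos.ne' Nat.card_pos.ne',
        Finsupp.add_apply, pow_add, hQb]
      congr 1
      rw [hc, hp.factorization_pow, Finsupp.single_eq_same]
    have hgenp : (gen p G).Normal := gen_normal p G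
    have helem : ∀ (X : Subgroup G), X ≤ L → X ≤ gen p G → X ≠ ⊥ →
        IsMulCommutative L ∧ ∃ s : ℕ, s.Prime ∧ s ≠ p ∧ IsPGroup s L := by
      intro X hXL hXP hX
      haveI := hgenp
      have hle : L ≤ gen p G := by
        rcases hLmin (L ⊓ gen p G) inferInstance inf_le_left with e | e
        · exact absurd (le_bot_iff.mp (e ▸ le_inf hXL hXP)) hX
        · exact e ▸ inf_le_right
      haveI := hsolv
      haveI : Group.IsSolvable L := Group.isSolvable_of_isSolvable_injective (Subgroup.inclusion_injective hle)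
      obtain ⟨hab, s, hs, -, hsL⟩ := Basics.minimal_normal_solvable hLne inferInstance hLmin
      refine ⟨hab, s, hs, ?_, hsL⟩
      rintro rfl
      exact hLp hsL
    have hpL : ¬ p ∣ Nat.card L := by
      intro hd
      obtain ⟨x, hx⟩ := exists_prime_orderOf_dvd_card' (G := L) p hd
      have hx' : orderOf (x : G) = p := by rw [Subgroup.orderOf_coe, hx]
      obtain ⟨-, s, hs, hsp, hsL⟩ := helem (Subgroup.zpowers (x : G))
        (Subgroup.zpowers_le.mpr x.2)
        (Subgroup.zpowers_le.mpr (mem_gen hp (k := 1) (by rw [pow_one, ← hx', pow_orderOf_eq_one])))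
        (by rw [Ne, Subgroup.zpowers_eq_bot]; intro e; rw [e, orderOf_one] at hx'; exact hp.one_lt.ne hx')
      haveI := Fact.mk hs
      obtain ⟨j, hj⟩ := IsPGroup.iff_card.mp hsL
      rw [hj] at hd
      exact hsp ((Nat.prime_dvd_prime_iff_eq hp hs).mp (hp.dvd_of_dvd_pow hd)).symm
    obtain ⟨Q⟩ : Nonempty (Sylow p V) := inferInstance
    set Q' := (Q : Subgroup V).map V.subtype with hQ'
    have hQV : Q' ≤ V := Subgroup.map_subtype_le _
    have hQcard : Nat.card Q' = Nat.card (Qb : Subgroup (U.map f)) := by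
      rw [hQ', Subgroup.card_map_of_injective V.subtype_injective, Q.card_eq_multiplicity, hVcard,
        Nat.factorization_mul Nat.card_pos.ne' Nat.card_pos.ne', Finsupp.add_apply,
        Nat.factorization_eq_zero_of_not_dvd hpL, zero_add, hb, hp.factorization_pow,
        Finsupp.single_eq_same]
    have hQp : IsPGroup p Q' := Q.2.map V.subtype
    have hcopLQ : (Nat.card L).Coprime (Nat.card Q') := by
      rw [hQcard, hb]
      exact (Nat.Coprime.pow_left b (hp.coprime_iff_not_dvd.mpr hpL)).symm
    have hVsup : L ⊔ Q' = V := by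
      refine Subgroup.eq_of_le_of_card_ge (sup_le hLV hQV) ?_
      rw [Basics.card_sup_of_coprime Subgroup.le_normalizer_of_normal hcopLQ, hQcard, hVcard]
    have hQcardU : Nat.card Q' = p ^ (Nat.card U).factorization p := by
      rw [hQcard, hQb, hUcard, Nat.factorization_mul Nat.card_pos.ne' Nat.card_pos.ne',
        Finsupp.add_apply, Nat.factorization_eq_zero_of_not_dvd hpL, zero_add]
    by_cases hX : ⁅L, Q'⁆ = ⊥
    · refine hdone Q' ?_ (hQV.trans hVU) hQcardU
      haveI : (Q : Subgroup V).Characteristic := by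
        refine Q.characteristic_of_normal ?_
        rw [← Subgroup.normalizer_eq_top_iff, eq_top_iff]
        intro v _
        obtain ⟨l, hl, q, hq, e⟩ := (Basics.mem_sup_of_le_normalizer (N := L) (H := Q')
          Subgroup.le_normalizer_of_normal).mp (hVsup.symm.le v.2)
        obtain ⟨q', hq', hqq⟩ := hq
        have hLc : L ≤ Subgroup.centralizer (Q' : Set G) :=
          Subgroup.commutator_eq_bot_iff_le_centralizer.mp hX
        have hv : v = ⟨l, hLV hl⟩ * q' := Subtype.ext (by
          rw [Subgroup.coe_mul]; exact e.trans (by rw [← hqq]; rfl))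
        rw [hv]
        refine Subgroup.mul_mem _ ?_ (Subgroup.le_normalizer hq')
        rw [Subgroup.mem_normalizer_iff]
        intro z
        have key : ∀ w : V, w ∈ (Q : Subgroup V) → (⟨l, hLV hl⟩ : V) * w = w * ⟨l, hLV hl⟩ :=
          fun w hw => Subtype.ext (Subgroup.mem_centralizer_iff.mp (hLc hl) _ ⟨w, hw, rfl⟩).symm
        constructor
        · intro hz
          rwa [key z hz, mul_inv_cancel_right]
        · intro hz
          have := key _ hz
          rw [inv_mul_cancel_right] at this
          have e2 : (⟨l, hLV hl⟩ : V) * z * (⟨l, hLV hl⟩ : V)⁻¹ = z :=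
            mul_left_cancel this
          rwa [e2] at hz
      exact ConjAct.normal_of_characteristic_of_normal
    exfalso
    have hQgen : Q' ≤ gen p G := fun x hx => by
      obtain ⟨k, hk⟩ := hQp ⟨x, hx⟩
      exact mem_gen hp (k := k) (congrArg Subtype.val hk)
    have hXL : ⁅L, Q'⁆ ≤ L := Subgroup.commutator_le_left L Q'
    haveI := hgenp
    obtain ⟨hab, s, hs, hsp, hsL⟩ := helem _ hXL
      ((Subgroup.commutator_mono le_rfl hQgen).trans (Subgroup.commutator_le_right L (gen p G))) hX
    haveI := hab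
    haveI := Fact.mk hs
    -- the complement
    have hfrat : L ⊔ Subgroup.normalizer (Q' : Set G) = ⊤ := by
      have h1 := Sylow.normalizer_sup_eq_top Q
      rw [← hQ'] at h1
      rw [eq_top_iff, ← h1]
      refine sup_le le_sup_right ?_
      rw [← hVsup]
      exact sup_le le_sup_left (Subgroup.le_normalizer.trans le_sup_right)
    set H := Subgroup.normalizer (Q' : Set G) with hH
    have hLH : L ⊓ H = ⊥ := by
      have hcen : L ⊓ H ≤ Subgroup.centralizer (Q' : Set G) := fun x hx =>
        Basics.mem_centralizer_of_mem_normalizer' Subgroup.le_normalizer_of_normal hcopLQ.symm hx.1 hx.2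
      have hn : (L ⊓ H).Normal := by
        rw [← Subgroup.normalizer_eq_top_iff, eq_top_iff, ← hfrat]
        refine sup_le (fun l hl => ?_) (fun x hx => ?_)
        · rw [Subgroup.mem_normalizer_iff]
          intro z
          constructor
          · intro hz
            rw [show l * z * l⁻¹ = z by
              rw [show l * z = z * l from congrArg Subtype.val (hab.is_comm.comm (⟨l, hl⟩ : L) ⟨z, hz.1⟩)]
              group]
            exact hz
          · intro hz
            have e : l * z * l⁻¹ = z := by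
              have hc : l * (l * z * l⁻¹) = (l * z * l⁻¹) * l :=
                congrArg Subtype.val (hab.is_comm.comm (⟨l, hl⟩ : L) ⟨_, hz.1⟩)
              rw [inv_mul_cancel_right] at hc
              exact mul_left_cancel hc
            rwa [e] at hz
        · rw [Subgroup.mem_normalizer_iff]
          intro z
          rw [Subgroup.mem_inf, Subgroup.mem_inf]
          refine and_congr ⟨fun hz => Subgroup.Normal.conj_mem inferInstance z hz x, fun hz => ?_⟩
            ⟨fun hz => mul_mem (mul_mem hx hz) (inv_mem hx), fun hz => ?_⟩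
          · have := Subgroup.Normal.conj_mem (inferInstance : L.Normal) _ hz x⁻¹
            simpa [mul_assoc] using this
          · have := mul_mem (mul_mem (inv_mem hx) hz) hx
            simpa [mul_assoc] using this
      rcases hLmin _ hn inf_le_left with e | e
      · exact e
      · exfalso
        refine hX (Subgroup.commutator_eq_bot_iff_le_centralizer.mpr ?_)
        exact e ▸ hcen
    -- a real character over a linear character moved by Q'
    have key : ∀ lam : L →* ℂˣ, lam ≠ 1 → ∀ χ : IrrCharacter G,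
        (∀ g : G, ((χ : G → ℂ) g).im = 0) →
        classInner (fun x : L => (χ : G → ℂ) x) (fun x => ((lam x : ℂˣ) : ℂ)) ≠ 0 → False := by
      intro lam hlam χ hχr hχ
      apply hreal χ hχr
      rw [clifford_mult L χ.2 (isIrrCharacter_lin lam) hχ]
      refine Dvd.dvd.mul_right (Dvd.dvd.mul_left ?_ _) _
      set T := inertia L (fun x => ((lam x : ℂˣ) : ℂ)) with hT
      by_contra hnd
      have hQT : Q' ≤ T := by
        obtain ⟨S⟩ : Nonempty (Sylow p (T ⊓ V : Subgroup G)) := inferInstance
        set S' := (S : Subgroup ↥(T ⊓ V)).map (T ⊓ V : Subgroup G).subtype with hS'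
        have hScard : Nat.card S' = Nat.card Q' := by
          rw [hS', Subgroup.card_map_of_injective (Subgroup.subtype_injective _),
            S.card_eq_multiplicity, hQcard, hb]
          congr 1
          have h1 : ((T ⊓ V).subgroupOf V).index ∣ T.index := by
            have e1 : T.relIndex V = T.relIndex (T ⊔ V) := by
              have hc := Basics.card_mul_card_eq_card_sup_mul_card_inf (N := V) (H := T)
                Subgroup.le_normalizer_of_normal
              have i1 := (T.subgroupOf (T ⊔ V)).card_mul_index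
              rw [Basics.card_subgroupOf le_sup_left] at i1
              have i2 := ((T ⊓ V).subgroupOf V).card_mul_index
              rw [Basics.card_subgroupOf inf_le_right] at i2
              have i3 : ((T ⊓ V).subgroupOf V).index = T.relIndex V :=
                Subgroup.inf_relIndex_right T V
              rw [i3] at i2
              rw [sup_comm, inf_comm] at hc
              change Nat.card T * T.relIndex (T ⊔ V) = _ at i1
              refine Nat.eq_of_mul_eq_mul_left
                (Nat.mul_pos (Nat.card_pos (α := T)) (Nat.card_pos (α := ↥(T ⊓ V)))) ?_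
              have q1 : Nat.card T * Nat.card ↥(T ⊓ V) * T.relIndex V = Nat.card T * Nat.card V := by
                rw [mul_assoc, i2]
              have q2 : Nat.card T * Nat.card ↥(T ⊓ V) * T.relIndex (T ⊔ V) =
                  Nat.card ↥(T ⊔ V) * Nat.card ↥(T ⊓ V) := by rw [mul_right_comm, i1]
              rw [q1, q2, ← hc, mul_comm]
            have := Subgroup.relIndex_dvd_index_of_le (le_sup_left : T ≤ T ⊔ V)
            rw [← e1, ← Subgroup.inf_relIndex_right] at this
            exact this
          have h2 : ¬ p ∣ ((T ⊓ V).subgroupOf V).index := fun h => hnd (h.trans h1)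
          have h3 := ((T ⊓ V).subgroupOf V).card_mul_index
          rw [Basics.card_subgroupOf inf_le_right] at h3
          have h4 := congrArg (fun n => n.factorization p) h3
          simp only [Nat.factorization_mul Nat.card_pos.ne' Subgroup.index_ne_zero_of_finite,
            Finsupp.add_apply, Nat.factorization_eq_zero_of_not_dvd h2, add_zero] at h4
          rw [h4, hVcard, Nat.factorization_mul Nat.card_pos.ne' Nat.card_pos.ne', Finsupp.add_apply,
            Nat.factorization_eq_zero_of_not_dvd hpL, zero_add, hb, hp.factorization_pow,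
            Finsupp.single_eq_same]
        have hS'T : S' ≤ T ⊓ V := Subgroup.map_subtype_le _
        have hLQ' : Q' ≤ Subgroup.normalizer (L : Set G) := Subgroup.le_normalizer_of_normal
        obtain ⟨n, hn, hn'⟩ := Basics.exists_conj_eq_of_coprime L Q' S' hLQ' hcopLQ
          (by rw [hVsup]; exact hS'T.trans inf_le_right) hScard
          (Or.inl (Group.isSolvable_of_comm fun a b => hab.is_comm.comm a b))
        intro q hq
        have h1 : n * q * n⁻¹ ∈ T := (hS'T (hn' ▸ Basics.conj_mem_conj_smul hq)).1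
        have hnT : n ∈ T := le_inertia_lin L lam hn
        have := T.mul_mem (T.mul_mem (T.inv_mem hnT) h1) hnT
        simpa [mul_assoc] using this
      have hcent : ⁅L, Q'⁆ ≤ (lam.ker).map L.subtype := by
        rw [Subgroup.commutator_le]
        intro l hl q hq
        have h1 := (mem_inertia_lin L lam q).mp (hQT hq) (⟨l, hl⟩⁻¹ : L)
        refine ⟨⟨l, hl⟩ * MulAut.conjNormal q (⟨l, hl⟩⁻¹ : L), ?_, ?_⟩
        · show lam _ = 1
          rw [map_mul, h1, map_inv, mul_inv_cancel]
        · simp [commutatorElement_def, mul_assoc]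
      have hXn : (⁅L, Q'⁆).Normal := by
        rw [← Subgroup.normalizer_eq_top_iff, eq_top_iff, ← hfrat]
        refine sup_le (Subgroup.normalizer_commutator_ge_left L Q') (fun x hx => ?_)
        rw [Subgroup.mem_normalizer_iff_map_conj_eq, Subgroup.map_commutator,
          Subgroup.Normal.map_conj_eq L, Subgroup.mem_normalizer_iff_map_conj_eq.mp hx]
      have hXeq : ⁅L, Q'⁆ = L := (hLmin _ hXn hXL).resolve_left hX
      apply hlam
      refine MonoidHom.ext fun x => ?_
      obtain ⟨y, hy, hyx⟩ := hcent (show (x : G) ∈ ⁅L, Q'⁆ by rw [hXeq]; exact x.2)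
      rw [← Subtype.ext (hyx : (y : G) = x)]
      exact hy
    have hnt : ∀ (l : L), l ≠ 1 → ∃ φ : L →* ℂˣ, φ l ≠ 1 := fun l hl => by
      refine exists_char_ne_one fun hc => hl ?_
      have : commutator L = ⊥ := by
        rw [commutator_eq_bot_iff_center_eq_top, eq_top_iff]
        intro a _
        rw [Subgroup.mem_center_iff]
        exact fun b => hab.is_comm.comm b a
      rwa [this, Subgroup.mem_bot] at hc
    rcases eq_or_ne s 2 with rfl | hs2
    · -- characteristic two: split extension
      obtain ⟨l, hl⟩ := @exists_ne _ ((Subgroup.nontrivial_iff_ne_bot L).mpr hLne) (1 : L)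
      obtain ⟨lam, hlam⟩ := hnt l hl
      set T := inertia L (fun x => ((lam x : ℂˣ) : ℂ)) with hT
      have hdT : L ⊓ (T ⊓ H) = ⊥ := le_bot_iff.mp (hLH ▸ inf_le_inf_left L inf_le_right)
      obtain ⟨μ, hμ1, hμ2⟩ := extHom L (T ⊓ H) hdT lam (fun x hx m => by
        refine Eq.trans ?_ ((mem_inertia_lin L lam x).mp hx.1 m)
        exact congrArg lam (Subtype.ext (MulAut.conjNormal_apply x m).symm))
      have hBT : L ⊔ T ⊓ H = T := by
        refine le_antisymm (sup_le (le_inertia_lin L lam) inf_le_left) fun x hx => ?_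
        obtain ⟨n, hn, y, hy, rfl⟩ := (Basics.mem_sup_of_le_normalizer (N := L) (H := H)
          Subgroup.le_normalizer_of_normal).mp (hfrat.symm.le (Subgroup.mem_top x))
        refine Subgroup.mul_mem _ (Subgroup.mem_sup_left hn) (Subgroup.mem_sup_right ⟨?_, hy⟩)
        have := T.mul_mem (T.inv_mem (le_inertia_lin L lam hn)) hx
        rwa [inv_mul_cancel_left] at this
      have hsq : ∀ x : L, lam x = (lam x)⁻¹ := by
        intro x
        obtain ⟨j, hj⟩ := hsL x
        have h1 : x ^ 2 = 1 := by
          obtain ⟨-, r, hr, hexp, hrL⟩ := Basics.minimal_normal_solvable hLne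
            (Group.isSolvable_of_comm fun a b => hab.is_comm.comm a b) hLmin
          haveI := Fact.mk hr
          obtain ⟨c, hc⟩ := IsPGroup.iff_card.mp hrL
          obtain ⟨d, hd⟩ := IsPGroup.iff_card.mp hsL
          have hd0 : d ≠ 0 := fun e => hLne (Subgroup.card_eq_one.mp (by rw [hd, e, pow_zero]))
          have : r = 2 := ((Nat.prime_dvd_prime_iff_eq Nat.prime_two hr).mp
            (Nat.prime_two.dvd_of_dvd_pow ((hd.symm.trans hc) ▸ dvd_pow_self 2 hd0))).symm
          subst this
          exact Subtype.ext (hexp x x.2)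
        exact eq_inv_of_mul_eq_one_left (by rw [← map_mul, ← pow_two, h1, map_one])
      obtain ⟨χ, hr, hχ⟩ := real_over L lam (L ⊔ T ⊓ H) le_sup_left μ hμ1
        (by rw [hBT, Subgroup.relIndex_self]; exact odd_one) hBT.le 1 (fun x => by simp) (fun x => by
          obtain ⟨n, hn, y, hy, e⟩ := (Basics.mem_sup_of_le_normalizer (N := L) (H := T ⊓ H)
            Subgroup.le_normalizer_of_normal).mp x.2
          have hx := hμ2 x ⟨n, hn⟩ (by rw [e]; simpa using hy)
          rw [hμ2 _ ⟨n, hn⟩ (by simp only [one_mul, inv_one, mul_one, e]; simpa using hy), hx]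
          exact hsq _)
      exact key lam (fun e => hlam (by rw [e]; rfl)) χ hr hχ
    · have hLodd : Odd (Nat.card L) := by
        obtain ⟨j, hj⟩ := IsPGroup.iff_card.mp hsL
        rw [hj]
        exact (hs.odd_of_ne_two hs2).pow
      have hLK : L ≤ K := by
        rcases hLmin (L ⊓ K) inferInstance inf_le_left with e | e
        · exfalso

          have h2 := Basics.card_mul_card_eq_card_sup_mul_card_inf (N := K) (H := L)
            Subgroup.le_normalizer_of_normal
          rw [inf_comm, e, Subgroup.card_bot, mul_one] at h2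
          have h3 : Nat.card L = K.relIndex (K ⊔ L) := by
            have h4 := (K.subgroupOf (K ⊔ L)).card_mul_index
            rw [Basics.card_subgroupOf le_sup_left, ← h2] at h4
            exact (Nat.eq_of_mul_eq_mul_left Nat.card_pos h4).symm
          have h5 : Nat.card L ∣ p ^ a := h3 ▸ (dvd_trans
            (Dvd.intro _ (Subgroup.relIndex_mul_relIndex K (K ⊔ L) U le_sup_left (sup_le hKU hLU))) ha)
          obtain ⟨c, -, hc⟩ := (Nat.dvd_prime_pow hp).mp h5
          exact hLp (IsPGroup.of_card hc)
        · exact e ▸ inf_le_right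
      obtain ⟨t, ⟨k, hk⟩, l, hl⟩ : ∃ t : G, (∃ k, orderOf t = 2 ^ k) ∧ ∃ l : L,
          MulAut.conjNormal t l ≠ l := by
        by_contra hno
        push Not at hno
        have hKL : K ≤ Subgroup.centralizer (L : Set G) := (Subgroup.closure_le _).mpr fun t ht => by
          rw [SetLike.mem_coe, Subgroup.mem_centralizer_iff]
          intro x hx
          have := congrArg Subtype.val (hno t ht ⟨x, hx⟩)
          rw [MulAut.conjNormal_apply, mul_inv_eq_iff_eq_mul] at this
          exact this.symm
        have hN : (K ⊓ H).Normal := by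
          rw [← Subgroup.normalizer_eq_top_iff, eq_top_iff, ← hfrat]
          refine sup_le (fun l hl => ?_) (fun x hx => ?_)
          · rw [Subgroup.mem_normalizer_iff]
            intro z
            constructor
            · intro hz
              rw [Subgroup.mem_centralizer_iff.mp (hKL hz.1) l hl, mul_inv_cancel_right]
              exact hz
            · intro hz
              have h1 := Subgroup.mem_centralizer_iff.mp (hKL hz.1) l hl
              rw [inv_mul_cancel_right] at h1
              have e : l * z * l⁻¹ = z := mul_left_cancel h1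
              rwa [e] at hz
          · rw [Subgroup.mem_normalizer_iff]
            intro z
            rw [Subgroup.mem_inf, Subgroup.mem_inf]
            refine and_congr ⟨fun hz => hKn.conj_mem z hz x, fun hz => ?_⟩
              ⟨fun hz => mul_mem (mul_mem hx hz) (inv_mem hx), fun hz => ?_⟩
            · have := hKn.conj_mem _ hz x⁻¹
              simpa [mul_assoc] using this
            · have := mul_mem (mul_mem (inv_mem hx) hz) hx
              simpa [mul_assoc] using this
        have hle : K ≤ K ⊓ H := (Subgroup.closure_le _).mpr fun t ⟨k, hk⟩ => by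
          have htK : t ∈ K := Subgroup.subset_closure ⟨k, hk⟩
          obtain ⟨n, hn, y, hy, e⟩ := (Basics.mem_sup_of_le_normalizer (N := L) (H := H)
            Subgroup.le_normalizer_of_normal).mp (hfrat.symm.le (Subgroup.mem_top t))
          have hyK : y ∈ K := by
            have := K.mul_mem (K.inv_mem (hLK hn)) htK
            rwa [e, inv_mul_cancel_left] at this
          have hcomm : Commute n y := Subgroup.mem_centralizer_iff.mp (hKL hyK) n hn
          have h1 : n ^ 2 ^ k * y ^ 2 ^ k = 1 := by
            rw [← hcomm.mul_pow, ← e, ← hk, pow_orderOf_eq_one]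
          have h2 : n ^ 2 ^ k ∈ L ⊓ H := ⟨L.pow_mem hn _, by
            rw [eq_inv_of_mul_eq_one_left h1]; exact H.inv_mem (H.pow_mem hy _)⟩
          rw [hLH, Subgroup.mem_bot] at h2
          have hn1 : n = 1 := by
            have hcop : (orderOf n).Coprime (2 ^ k) := by
              refine Nat.Coprime.coprime_dvd_left ?_ (Nat.Coprime.pow_right k (Nat.coprime_two_right.mpr hLodd))
              rw [show orderOf n = orderOf (⟨n, hn⟩ : L) from Subgroup.orderOf_coe ⟨n, hn⟩]
              exact orderOf_dvd_natCard _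
            exact orderOf_eq_one_iff.mp (Nat.eq_one_of_dvd_coprimes hcop dvd_rfl
              (orderOf_dvd_of_pow_eq_one h2))
          rw [SetLike.mem_coe, e, hn1, one_mul]
          exact ⟨hyK, hy⟩
        exact hLne (le_bot_iff.mp (hLH ▸ le_inf le_rfl ((hLK.trans hle).trans inf_le_right)))
      obtain ⟨φ, hφ⟩ := hnt (MulAut.conjNormal t l * l⁻¹) (fun e => hl (mul_inv_eq_one.mp e))
      obtain ⟨lam, g, hlam, hg⟩ := exists_inverted L (t := t) (k := k)
        (by rw [← hk, pow_orderOf_eq_one]) ⟨φ, fun e => hφ (by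
          rw [map_mul, map_inv, show φ (MulAut.conjNormal t l) = φ l from
            congrArg (fun f : L →* ℂˣ => f l) e, mul_inv_cancel])⟩
      obtain ⟨χ, hr, hχ⟩ := real_over_odd L hLodd lam g hg
      exact key lam hlam χ hr hχ

theorem centralized (p : ℕ) [Fact p.Prime] (hp2 : p ≠ 2) (hreal : RealHyp p G) (P : Sylow p G)
    (M : Subgroup G) [M.Normal] (hMP : M ≤ ⁅(P : Subgroup G), (P : Subgroup G)⁆) :
    gen 2 G ≤ Subgroup.centralizer (M : Set G) := by
  classical
  haveI := Fintype.ofFinite G
  haveI := Fintype.ofFinite M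
  have hp := (Fact.out : p.Prime)
  have hMPle : M ≤ (P : Subgroup G) := hMP.trans (Subgroup.commutator_le_self _)
  have hMp : IsPGroup p M := P.2.to_le hMPle
  have hModd : Odd (Nat.card M) := by
    obtain ⟨j, hj⟩ := IsPGroup.iff_card.mp hMp
    rw [hj]
    exact (hp.odd_of_ne_two hp2).pow
  refine (Subgroup.closure_le _).mpr ?_
  rintro t ⟨k, hk⟩
  by_contra htc
  have htk : t ^ 2 ^ k = 1 := by rw [← hk, pow_orderOf_eq_one]
  by_cases hfix : ∃ φ : M →* ℂˣ, φ.comp (MulAut.conjNormal t).toMonoidHom ≠ φ
  swap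
  · push Not at hfix
    apply htc
    haveI : Group.IsNilpotent M := hMp.isNilpotent
    haveI : Group.IsSolvable M := inferInstance
    set A := Subgroup.zpowers t with hA
    have hcop : (Nat.card A).Coprime (Nat.card M) := by
      rw [hA, Nat.card_zpowers, hk]
      exact Nat.Coprime.pow_left k (Nat.coprime_two_left.mpr hModd)
    have h1 := Basics.commutator_sup_inf_centralizer A M Subgroup.le_normalizer_of_normal hcop
      (Or.inr inferInstance)
    have hAfix : ∀ x ∈ A, ∀ φ : M →* ℂˣ, φ.comp (MulAut.conjNormal x).toMonoidHom = φ := by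
      intro x hx
      rw [hA, Subgroup.zpowers_eq_closure] at hx
      induction hx using Subgroup.closure_induction with
      | mem y hy => rw [Set.mem_singleton_iff] at hy; subst hy; exact hfix
      | one => intro φ; ext m; simp
      | mul y z _ _ hy hz =>
        intro φ
        refine MonoidHom.ext fun m => ?_
        have e1 := congrArg (fun f : M →* ℂˣ => f (MulAut.conjNormal z m)) (hy φ)
        have e2 := congrArg (fun f : M →* ℂˣ => f m) (hz φ)
        simpa [map_mul] using e1.trans e2
      | inv y _ hy =>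
        intro φ
        refine MonoidHom.ext fun m => ?_
        have e1 := congrArg (fun f : M →* ℂˣ => f ((MulAut.conjNormal y)⁻¹ m)) (hy φ)
        simp only [MonoidHom.coe_comp, MulEquiv.coe_toMonoidHom, Function.comp_apply,
          MulAut.apply_inv_self] at e1
        simp only [map_inv, MonoidHom.coe_comp, MulEquiv.coe_toMonoidHom, Function.comp_apply]
        exact e1.symm
    have hcomm : ⁅M, A⁆ ≤ (commutator M).map M.subtype := by
      rw [Subgroup.commutator_le]
      intro x hx a ha
      set y : M := ⟨x, hx⟩ * (MulAut.conjNormal a ⟨x, hx⟩)⁻¹ with hy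
      refine ⟨y, ?_, by simp [hy, commutatorElement_def, mul_assoc]⟩
      by_contra hne
      obtain ⟨φ, hφ⟩ := exists_char_ne_one hne
      refine hφ ?_
      rw [hy, map_mul, map_inv, show φ (MulAut.conjNormal a ⟨x, hx⟩) = φ ⟨x, hx⟩ from
        congrArg (fun f : M →* ℂˣ => f ⟨x, hx⟩) (hAfix a ha φ), mul_inv_cancel]
    set C := M ⊓ Subgroup.centralizer (A : Set G) with hC
    have htop : C.subgroupOf M ⊔ frattini M = ⊤ := by
      rw [eq_top_iff]
      refine le_trans ?_ (sup_le_sup_left Basics.commutator_le_frattini _)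
      intro x _
      have hle : M ≤ C ⊔ (commutator M).map M.subtype := by
        conv_lhs => rw [← h1]
        exact sup_le (hcomm.trans le_sup_right) le_sup_left
      have e : (C.subgroupOf M ⊔ commutator M).map M.subtype =
          C ⊔ (commutator M).map M.subtype := by
        rw [Subgroup.map_sup, Subgroup.map_subgroupOf_eq_of_le inf_le_left]
      obtain ⟨y, hy, hyx⟩ := (e ▸ hle x.2 : (x : G) ∈ (C.subgroupOf M ⊔ commutator M).map M.subtype)
      exact (Subtype.ext hyx : y = x) ▸ hy
    have hCM := frattini_nongenerating htop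
    show t ∈ Subgroup.centralizer (M : Set G)
    rw [Subgroup.mem_centralizer_iff]
    intro x hx
    have hxC : x ∈ C := Subgroup.mem_subgroupOf.mp (hCM ▸ Subgroup.mem_top (⟨x, hx⟩ : M))
    exact (Subgroup.mem_centralizer_iff.mp hxC.2 t (Subgroup.mem_zpowers t)).symm
  obtain ⟨lam, g, hlam, hg⟩ := exists_inverted M htk hfix
  obtain ⟨χ, hr, hχ⟩ := real_over_odd M hModd lam g hg
  have hχp := hreal χ hr
  haveI := Fintype.ofFinite (P : Subgroup G)
  have hres : IsCharacter (P : Subgroup G) (fun x => (χ : G → ℂ) x) :=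
    isCharacter_restrict _ (isCharacter_of_isIrr χ.2)
  obtain ⟨ξ, hξ, hξ1⟩ : ∃ ξ : IrrCharacter (P : Subgroup G),
      mult (fun x : (P : Subgroup G) => (χ : G → ℂ) x) ξ.1 ≠ 0 ∧ deg ξ.1 = 1 := by
    by_contra hno
    push Not at hno
    refine hχp ?_
    have h1 := congrFun (character_eq_sum hres) 1
    simp only [Finset.sum_apply, Pi.smul_apply, smul_eq_mul, OneMemClass.coe_one] at h1
    rw [deg_eq (isCharacter_of_isIrr χ.2), Finset.sum_congr rfl (fun η _ => by
      rw [deg_eq (isCharacter_of_isIrr η.2), ← Nat.cast_mul]), ← Nat.cast_sum, Nat.cast_inj] at h1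
    rw [h1]
    refine Finset.dvd_sum fun η _ => ?_
    rcases eq_or_ne (mult (fun x : (P : Subgroup G) => (χ : G → ℂ) x) η.1) 0 with h0 | h0
    · simp [h0]
    · refine Dvd.dvd.mul_left ?_ _
      obtain ⟨j, hj⟩ := IsPGroup.iff_card.mp P.2
      have hd : deg η.1 ∣ p ^ j := by
        have := deg_dvd_index_of_comm (⊥ : Subgroup (P : Subgroup G)) η.2
          (fun a b => Subsingleton.elim _ _)
        rwa [Subgroup.index_bot, hj] at this
      obtain ⟨i, -, hi⟩ := (Nat.dvd_prime_pow hp).mp hd
      rcases Nat.eq_zero_or_pos i with rfl | hi0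
      · exact absurd (by rw [hi, pow_zero]) (hno η h0)
      · rw [hi]; exact dvd_pow_self p hi0.ne'
  have hξ1' : ξ.1 1 = 1 := by rw [deg_eq (isCharacter_of_isIrr ξ.2), hξ1, Nat.cast_one]
  have hrest := isCharacter_sub_constituent hres ξ.2 (k := 1) (Nat.one_le_iff_ne_zero.mpr hξ)
  have hrestM : IsCharacter M (fun m : M =>
      ((fun x : (P : Subgroup G) => (χ : G → ℂ) x) - ((1 : ℕ) : ℂ) • ξ.1) ⟨m, hMPle m.2⟩) :=
    isCharacter_comp (Subgroup.inclusion hMPle) hrest
  have htriv : classInner (fun m : M => (χ : G → ℂ) m) (fun _ => (1 : ℂ)) ≠ 0 := by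
    have e : (fun m : M => (χ : G → ℂ) m) = (fun _ => (1 : ℂ)) + fun m : M =>
        ((fun x : (P : Subgroup G) => (χ : G → ℂ) x) - ((1 : ℕ) : ℂ) • ξ.1) ⟨m, hMPle m.2⟩ := by
      funext m
      have hm : (⟨m, hMPle m.2⟩ : (P : Subgroup G)) ∈ commutator (P : Subgroup G) := by
        obtain ⟨y, hy, hyx⟩ : (m : G) ∈ (commutator (P : Subgroup G)).map (P : Subgroup G).subtype := by
          rw [commutator_def, Subgroup.map_commutator, ← MonoidHom.range_eq_map,
            Subgroup.range_subtype]
          exact hMP m.2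
        exact (Subtype.ext hyx : y = ⟨m, hMPle m.2⟩) ▸ hy
      have := linear_trivial_on_commutator (isCharacter_of_isIrr ξ.2) hξ1' _ hm
      simp [this, hξ1']
    intro h0
    rw [e, classInner_add_left, irr_inner_self isIrrCharacter_one] at h0
    have := classInner_re_nonneg hrestM isCharacter_one
    have h0' := congrArg Complex.re h0
    simp only [Complex.add_re, Complex.one_re, Complex.zero_re] at h0'
    linarith
  obtain ⟨x, hx⟩ := exists_conj_of_constituent M χ.2 isIrrCharacter_one (isIrrCharacter_lin lam) htriv hχ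
  refine hlam (MonoidHom.ext fun m => Units.ext ?_)
  exact (congrFun hx m).symm

end Cfsg.Agent.RealPrime
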