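import Cfsg.Agent.Lib.CT.RelCorrMain
import Cfsg.Agent.Lib.CT.RealIndex
import Cfsg.Agent.Lib.CT.RealPrime

/-!
# Real characters and the Sylow normalizer
-/

set_option autoImplicit false
set_option linter.all false

open scoped ComplexConjugate

namespace Cfsg.Agent.RealPEquiv

open Cfsg.Agent.CT

universe u

variable {G : Type u} [Group G] [Fintype G] {p : ℕ} [Fact p.Prime] (P : Sylow p G)

/-- The Sylow normalizer. -/
abbrev nor : Subgroup G := Subgroup.normalizer ((P : Subgroup G) : Set G)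

theorem exists_mul_mem_normalizer (H : Subgroup G) (h : (P : Subgroup G) ≤ H) (g : G)
    (hg : ∀ x ∈ (P : Subgroup G), g * x * g⁻¹ ∈ H) : ∃ t ∈ H, t * g ∈ nor P := by
  have h2 : ((g • P : Sylow p G) : Subgroup G) ≤ H := by
    intro y hy
    have hy' : g⁻¹ * y * g ∈ (P : Subgroup G) := by
      rw [Sylow.coe_subgroup_smul, Subgroup.mem_pointwise_smul_iff_inv_smul_mem] at hy
      simpa [MulAut.smul_def] using hy
    simpa [mul_assoc] using hg _ hy'
  obtain ⟨t, ht⟩ := MulAction.exists_smul_eq H ((g • P).subtype h2) (P.subtype h)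
  refine ⟨t, t.2, Sylow.smul_eq_iff_mem_normalizer.mp ?_⟩
  rw [Sylow.smul_subtype] at ht
  rw [mul_smul]
  exact Sylow.subtype_injective ht

theorem exists_conj_le (T : Subgroup G) (hT : ¬ p ∣ T.index) :
    ∃ g : G, ∀ x ∈ (P : Subgroup G), g * x * g⁻¹ ∈ T := by
  obtain ⟨S⟩ : Nonempty (Sylow p T) := inferInstance
  have hS : Nat.card ((S : Subgroup T).map T.subtype) = p ^ (Nat.card G).factorization p := by
    rw [Subgroup.card_map_of_injective T.subtype_injective, S.card_eq_multiplicity, ← T.card_mul_index,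
      Nat.factorization_mul Nat.card_pos.ne' Subgroup.index_ne_zero_of_finite, Finsupp.add_apply,
      Nat.factorization_eq_zero_of_not_dvd hT, add_zero]
  obtain ⟨g, hg⟩ := MulAction.exists_smul_eq G P (Sylow.ofCard _ hS)
  refine ⟨g, fun x hx => ?_⟩
  have : g * x * g⁻¹ ∈ ((g • P : Sylow p G) : Subgroup G) := by
    rw [Sylow.coe_subgroup_smul, Subgroup.mem_pointwise_smul_iff_inv_smul_mem]
    simpa [MulAut.smul_def, mul_assoc] using hx
  rw [hg] at this
  obtain ⟨y, -, hy⟩ := (this : g * x * g⁻¹ ∈ (S : Subgroup T).map T.subtype)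
  exact hy ▸ y.2

variable (K : Subgroup G) [K.Normal]

/-- The intersection of `K` with the Sylow normalizer. -/
abbrev inter : Subgroup (nor P) := K.subgroupOf (nor P)

/-- Real characters of `K` fixed by the Sylow subgroup. -/
abbrev RealInv : Type u :=
  {θ : IrrCharacter K // (∀ k : K, ((θ : K → ℂ) k).im = 0) ∧
    (P : Subgroup G) ≤ inertia K (θ : K → ℂ)}

/-- Real characters of the intersection fixed by the Sylow subgroup. -/
abbrev RealInvN : Type u :=
  {η : IrrCharacter (inter P K) // (∀ m : inter P K, ((η : inter P K → ℂ) m).im = 0) ∧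
    (P : Subgroup G).subgroupOf (nor P) ≤ inertia (inter P K) (η : inter P K → ℂ)}

variable [Fintype K] [Fintype (inter P K)]

theorem exists_equiv (Q : Subgroup G) [Q.Normal] (hQK : Q ≤ K) (hQp : IsPGroup p Q)
    (hQidx : ¬ p ∣ Q.relIndex K) :
    ∃ f : RealInv P K → RealInvN P K, Function.Bijective f ∧
      (∀ θ θ' : RealInv P K, (∃ g : G, conjFun K g (θ.1 : K → ℂ) = θ'.1) ↔
        ∃ n : nor P, conjFun (inter P K) n ((f θ).1 : inter P K → ℂ) = (f θ').1) ∧
      (∀ (θ θ' : RealInv P K) (n : nor P), conjFun K (n : G) (θ.1 : K → ℂ) = θ'.1 →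
        conjFun (inter P K) n ((f θ).1 : inter P K → ℂ) = (f θ').1) ∧
      ∀ θ, (deg ((f θ).1 : inter P K → ℂ) : ZMod p) = (deg (θ.1 : K → ℂ) : ZMod p) ∨
        (deg ((f θ).1 : inter P K → ℂ) : ZMod p) = -(deg (θ.1 : K → ℂ) : ZMod p) := by
  classical
  have hp := (Fact.out : p.Prime)
  have hQP : Q ≤ (P : Subgroup G) := by
    obtain ⟨S, hS⟩ := hQp.exists_le_sylow
    obtain ⟨g, hg⟩ := MulAction.exists_smul_eq G S P
    intro q hq
    rw [← hg, Sylow.coe_subgroup_smul, Subgroup.mem_pointwise_smul_iff_inv_smul_mem]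
    have := hS (Subgroup.Normal.conj_mem inferInstance q hq g⁻¹)
    simpa [MulAut.smul_def] using this
  haveI : (Q.subgroupOf K).Normal := Subgroup.normal_subgroupOf
  haveI := Fintype.ofFinite (Q.subgroupOf K)
  set φ : (P : Subgroup G) →* MulAut K :=
    (MulAut.conjNormal (H := K)).comp (P : Subgroup G).subtype with hφ
  set φM : (P : Subgroup G) →* MulAut (inter P K) :=
    (MulAut.conjNormal (H := inter P K)).comp
      (Subgroup.inclusion (Subgroup.le_normalizer : (P : Subgroup G) ≤ nor P)) with hφM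
  let ι : inter P K →* K :=
    { toFun := fun m => ⟨((m : nor P) : G), m.2⟩
      map_one' := rfl
      map_mul' := fun _ _ => rfl }
  have hι : Function.Injective ι := fun a b e =>
    Subtype.ext (Subtype.ext (congrArg (fun z : K => (z : G)) e))
  have hQ : ∀ (a : (P : Subgroup G)), ∀ x ∈ Q.subgroupOf K, φ a x ∈ Q.subgroupOf K := by
    intro a x hx
    exact Subgroup.Normal.conj_mem inferInstance (x : G) hx (a : G)
  have hQp' : IsPGroup p (Q.subgroupOf K) := hQp.of_equiv (Subgroup.subgroupOfEquivOfLe hQK).symm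
  have hrange : ∀ k : K, k ∈ ι.range ↔ ∀ a, φ a k * k⁻¹ ∈ Q.subgroupOf K := by
    intro k
    constructor
    · rintro ⟨m, rfl⟩ a
      have h1 : (a : G) * ((m : nor P) : G) * (a : G)⁻¹ * ((m : nor P) : G)⁻¹ ∈ K :=
        K.mul_mem ((inferInstance : K.Normal).conj_mem _ (m.2 : ((m : nor P) : G) ∈ K) _)
          (K.inv_mem m.2)
      have h2 : (a : G) * ((m : nor P) : G) * (a : G)⁻¹ * ((m : nor P) : G)⁻¹ ∈ (P : Subgroup G) := by
        have := (P : Subgroup G).mul_mem a.2
          ((Subgroup.mem_normalizer_iff.mp (m : nor P).2 (a : G)⁻¹).mp ((P : Subgroup G).inv_mem a.2))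
        simpa [mul_assoc] using this
      obtain ⟨b, hb⟩ := P.2 ⟨_, h2⟩
      have hb' : ((a : G) * ((m : nor P) : G) * (a : G)⁻¹ * ((m : nor P) : G)⁻¹) ^ p ^ b = 1 :=
        congrArg Subtype.val hb
      have h3 : ((φ a (ι m) * (ι m)⁻¹ : K) : K ⧸ Q.subgroupOf K) = 1 := by
        refine orderOf_eq_one_iff.mp (Nat.eq_one_of_dvd_coprimes
          (RelCorr.coprime_of_dvd_pow hp (n := (Q.subgroupOf K).index) hQidx (dvd_refl (p ^ b)))
          (orderOf_dvd_natCard _) (orderOf_dvd_of_pow_eq_one ?_))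
        rw [← QuotientGroup.mk_pow, show (φ a (ι m) * (ι m)⁻¹) ^ p ^ b = 1 from Subtype.ext hb',
          QuotientGroup.mk_one]
      exact (QuotientGroup.eq_one_iff _).mp h3
    · intro h
      refine ⟨⟨⟨(k : G), ?_⟩, k.2⟩, rfl⟩
      have hconj : ∀ x ∈ (P : Subgroup G), (k : G) * x * (k : G)⁻¹ ∈ (P : Subgroup G) := by
        intro x hx
        have h1 : x⁻¹ * (k : G) * x * (k : G)⁻¹ ∈ (P : Subgroup G) := by
          have := hQP (h ⟨x⁻¹, (P : Subgroup G).inv_mem hx⟩)
          simpa [hφ] using this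
        have := (P : Subgroup G).mul_mem hx h1
        simpa [mul_assoc] using this
      rw [Subgroup.mem_normalizer_iff_map_conj_eq]
      refine Subgroup.eq_of_le_of_card_ge ?_ (Subgroup.card_map_of_injective (MulAut.conj (k : G)).injective).ge
      rintro _ ⟨x, hx, rfl⟩
      exact hconj x hx
  obtain ⟨F, hF, hspec⟩ := RelCorr.main φ φM ι hι (fun a m => rfl) (Q.subgroupOf K) hQ hrange P.2 hQp'
    hQidx
  have hinvK : ∀ θ : IrrCharacter K,
      Glauberman.Inv φ (θ : K → ℂ) ↔ (P : Subgroup G) ≤ inertia K (θ : K → ℂ) := by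
    intro θ
    constructor
    · intro h x hx
      rw [mem_inertia, conjFun_eq_comp]
      exact funext fun k => h ⟨x, hx⟩ k
    · intro h a k
      have := congrFun ((mem_inertia K).mp (h a.2)) k
      rwa [conjFun_eq_comp] at this
  have hinvM : ∀ η : IrrCharacter (inter P K), Glauberman.Inv φM (η : inter P K → ℂ) ↔
      (P : Subgroup G).subgroupOf (nor P) ≤ inertia (inter P K) (η : inter P K → ℂ) := by
    intro η
    constructor
    · intro h x hx
      rw [mem_inertia, conjFun_eq_comp]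
      exact funext fun k => h ⟨(x : G), hx⟩ k
    · intro h a k
      have hmem : Subgroup.inclusion (Subgroup.le_normalizer : (P : Subgroup G) ≤ nor P) a ∈
          (P : Subgroup G).subgroupOf (nor P) := a.2
      have := congrFun ((mem_inertia (inter P K)).mp (h hmem)) k
      rwa [conjFun_eq_comp] at this
  let good : IrrCharacter K → IrrCharacter (inter P K) → Prop := fun θ η =>
    ¬ p ∣ mult (fun m => (θ : K → ℂ) (ι m)) (η : inter P K → ℂ)
  have hgood : ∀ χ, good χ.1 (F χ).1 := fun χ hd => by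
    rcases ((hspec χ).1 (F χ)).1 rfl with h | h <;>
      rw [(ZMod.natCast_eq_zero_iff _ p).mpr hd] at h
    · exact zero_ne_one h
    · exact one_ne_zero (neg_eq_zero.mp h.symm)
  have huniq : ∀ χ η, good χ.1 η.1 → η = F χ := fun χ η h => by
    by_contra hne
    exact h (((hspec χ).1 η).2 hne)
  have hc : ∀ θ : IrrCharacter K, IsCharacter (inter P K) (fun m => (θ : K → ℂ) (ι m)) := fun θ =>
    isCharacter_comp ι (isCharacter_of_isIrr θ.2)
  -- compatibility with complex conjugation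
  have hgconj : ∀ (θ : IrrCharacter K) (η : IrrCharacter (inter P K)), good θ η →
      good ⟨_, conj_irr θ.2⟩ ⟨_, conj_irr η.2⟩ := by
    intro θ η h
    show ¬ p ∣ mult _ _
    suffices mult (fun m => conj ((θ : K → ℂ) (ι m))) (fun m => conj ((η : inter P K → ℂ) m)) =
        mult (fun m => (θ : K → ℂ) (ι m)) (η : inter P K → ℂ) by
      exact this ▸ h
    rw [← Nat.cast_inj (R := ℂ), ← mult_spec (hc ⟨_, conj_irr θ.2⟩)
      (isCharacter_of_isIrr (conj_irr η.2)), ← mult_spec (hc θ) (isCharacter_of_isIrr η.2)]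
    have h2 := congrArg conj (mult_spec (hc θ) (isCharacter_of_isIrr η.2))
    rw [map_natCast, ← mult_spec (hc θ) (isCharacter_of_isIrr η.2)] at h2
    refine Eq.trans ?_ h2
    simp only [classInner, map_mul, map_inv₀, map_natCast, map_sum]
  -- compatibility with the normalizer
  have hgn : ∀ (n : nor P) (θ : IrrCharacter K) (η : IrrCharacter (inter P K)), good θ η →
      good ⟨_, isIrrCharacter_conjFun K (n : G) θ.2⟩ ⟨_, isIrrCharacter_conjFun (inter P K) n η.2⟩ := by
    intro n θ η h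
    show ¬ p ∣ mult _ _
    suffices mult (fun m => conjFun K (n : G) (θ : K → ℂ) (ι m)) (conjFun (inter P K) n η) =
        mult (fun m => (θ : K → ℂ) (ι m)) (η : inter P K → ℂ) by
      exact this ▸ h
    rw [← Nat.cast_inj (R := ℂ), ← mult_spec (hc ⟨_, isIrrCharacter_conjFun K (n : G) θ.2⟩)
      (isCharacter_of_isIrr (isIrrCharacter_conjFun (inter P K) n η.2)),
      ← mult_spec (hc θ) (isCharacter_of_isIrr η.2)]
    exact classInner_conjFun (inter P K) n (fun m => (θ : K → ℂ) (ι m)) (η : inter P K → ℂ)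
  have hrealK : ∀ θ : RealInv P K, (⟨_, conj_irr θ.1.2⟩ : IrrCharacter K) = θ.1 := fun θ =>
    Subtype.ext (funext fun k => Complex.conj_eq_iff_im.mpr (θ.2.1 k))
  let inK : RealInv P K → {θ : IrrCharacter K // Glauberman.Inv φ (θ : K → ℂ)} :=
    fun θ => ⟨θ.1, (hinvK θ.1).mpr θ.2.2⟩
  have hfreal : ∀ θ : RealInv P K, ∀ m, (((F (inK θ)).1 : inter P K → ℂ) m).im = 0 := by
    intro θ m
    have hinv : Glauberman.Inv φM (fun m => conj (((F (inK θ)).1 : inter P K → ℂ) m)) :=
      fun a k => congrArg conj ((F (inK θ)).2 a k)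
    have h := huniq (inK θ) ⟨⟨_, conj_irr (F (inK θ)).1.2⟩, hinv⟩ (by
      have := hgconj _ _ (hgood (inK θ))
      rw [show (inK θ).1 = θ.1 from rfl, hrealK θ] at this
      exact this)
    exact Complex.conj_eq_iff_im.mp (congrFun (congrArg Subtype.val (congrArg Subtype.val h)) m)
  let f : RealInv P K → RealInvN P K := fun θ =>
    ⟨(F (inK θ)).1, hfreal θ, (hinvM _).mp (F (inK θ)).2⟩
  have hfinj : Function.Injective f := fun a b e => by
    have := hF.1 (Subtype.ext (congrArg (fun z : RealInvN P K => z.1) e) : F (inK a) = F (inK b))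
    exact Subtype.ext (congrArg Subtype.val this :)
  have hequi : ∀ (θ θ' : RealInv P K) (n : nor P), conjFun K (n : G) (θ.1 : K → ℂ) = θ'.1 →
      conjFun (inter P K) n ((f θ).1 : inter P K → ℂ) = (f θ').1 := by
    intro θ θ' n e
    have hinv : Glauberman.Inv φM (conjFun (inter P K) n ((f θ).1 : inter P K → ℂ)) := by
      refine (hinvM ⟨_, isIrrCharacter_conjFun (inter P K) n (f θ).1.2⟩).mpr fun x hx => ?_
      rw [mem_inertia, ← conjFun_mul]
      have hc : n * x * n⁻¹ ∈ (P : Subgroup G).subgroupOf (nor P) :=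
        (Subgroup.mem_normalizer_iff.mp n.2 (x : G)).mp hx
      have := (mem_inertia (inter P K)).mp ((f θ).2.2 hc)
      rw [show n * x = (n * x * n⁻¹) * n by group, conjFun_mul, this]
    have h := huniq (inK θ') ⟨⟨_, isIrrCharacter_conjFun (inter P K) n (f θ).1.2⟩, hinv⟩ (by
      have := hgn n _ _ (hgood (inK θ))
      rw [show (⟨_, isIrrCharacter_conjFun K (n : G) (inK θ).1.2⟩ : IrrCharacter K) = (inK θ').1 from
        Subtype.ext e] at this
      exact this)
    exact congrArg Subtype.val (congrArg Subtype.val h)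
  refine ⟨f, ⟨hfinj, fun η => ?_⟩, fun θ θ' => ⟨?_, ?_⟩, hequi, fun θ => (hspec (inK θ)).2⟩
  · obtain ⟨χ, hχ⟩ := hF.2 ⟨η.1, (hinvM η.1).mpr η.2.2⟩
    have hχr : ∀ k : K, ((χ.1 : K → ℂ) k).im = 0 := by
      have hinv : Glauberman.Inv φ (fun k => conj ((χ.1 : K → ℂ) k)) :=
        fun a k => congrArg conj (χ.2 a k)
      have hg : good ⟨_, conj_irr χ.1.2⟩ η.1 := by
        have := hgconj _ _ (hgood χ)
        rw [show (⟨_, conj_irr (F χ).1.2⟩ : IrrCharacter (inter P K)) = η.1 from Subtype.ext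
          (funext fun m => by rw [hχ]; exact Complex.conj_eq_iff_im.mpr (η.2.1 m))] at this
        exact this
      have := hF.1 ((huniq ⟨⟨_, conj_irr χ.1.2⟩, hinv⟩ ⟨η.1, (hinvM η.1).mpr η.2.2⟩ hg).symm.trans hχ.symm)
      exact fun k => Complex.conj_eq_iff_im.mp (congrFun (congrArg Subtype.val (congrArg Subtype.val this)) k)
    refine ⟨⟨χ.1, hχr, (hinvK χ.1).mp χ.2⟩, Subtype.ext ?_⟩
    exact (congrArg Subtype.val hχ :)
  · rintro ⟨g, hg⟩
    obtain ⟨t, ht, htg⟩ := exists_mul_mem_normalizer P (inertia K (θ.1 : K → ℂ)) θ.2.2 g fun x hx => by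
      rw [mem_inertia, conjFun_mul, conjFun_mul, hg,
        show conjFun K x (θ'.1 : K → ℂ) = θ'.1 from (mem_inertia K).mp (θ'.2.2 hx), ← hg,
        ← conjFun_mul, mul_inv_cancel, conjFun_one]
    exact ⟨⟨t * g, htg⟩, hequi θ θ' ⟨t * g, htg⟩ (by
      show conjFun K (t * g) (θ.1 : K → ℂ) = θ'.1
      rw [conjFun_mul, show conjFun K t (θ.1 : K → ℂ) = θ.1 from (mem_inertia K).mp ht, hg])⟩
  · rintro ⟨n, hn⟩
    refine ⟨(n : G), ?_⟩
    have hinv : Glauberman.Inv φ (conjFun K (n : G) (θ.1 : K → ℂ)) := by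
      refine (hinvK ⟨_, isIrrCharacter_conjFun K (n : G) θ.1.2⟩).mpr fun x hx => ?_
      rw [mem_inertia, ← conjFun_mul]
      have hc : (n : G) * x * (n : G)⁻¹ ∈ (P : Subgroup G) :=
        (Subgroup.mem_normalizer_iff.mp n.2 x).mp hx
      have := (mem_inertia K).mp (θ.2.2 hc)
      rw [show (n : G) * x = ((n : G) * x * (n : G)⁻¹) * n by group, conjFun_mul, this]
    have hg := hgn n _ _ (hgood (inK θ))
    rw [show (⟨_, isIrrCharacter_conjFun (inter P K) n (F (inK θ)).1.2⟩ : IrrCharacter (inter P K)) =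
      (F (inK θ')).1 from Subtype.ext hn] at hg
    have := hF.1 (huniq ⟨⟨_, isIrrCharacter_conjFun K (n : G) θ.1.2⟩, hinv⟩ (F (inK θ')) hg)
    exact (congrArg Subtype.val (congrArg Subtype.val this)).symm

theorem card_eq_of_ker {X A B : Type*} (a : X → A) (b : X → B) (ha : Function.Surjective a)
    (hb : Function.Surjective b) (h : ∀ x y, a x = a y ↔ b x = b y) : Nat.card A = Nat.card B := by
  refine Nat.card_eq_of_bijective (fun q => b (Function.surjInv ha q)) ⟨fun q q' e => ?_, fun q => ?_⟩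
  · have := (h _ _).mpr e
    rwa [Function.surjInv_eq ha, Function.surjInv_eq ha] at this
  · obtain ⟨x, rfl⟩ := hb q
    exact ⟨a x, (h _ _).mp (Function.surjInv_eq ha _)⟩

/-- For a normal subgroup of odd index and order prime to `p`. -/
theorem exists_conj_mem_normalizer (hodd : Odd K.index) (hK : ¬ p ∣ Nat.card K)
    (hreal : ∀ θ : IrrCharacter K, (∀ k : K, ((θ : K → ℂ) k).im = 0) →
      ¬ p ∣ (inertia K (θ : K → ℂ)).index) (x : G) (hx : IsConj x x⁻¹) :
    ∃ y ∈ nor P, IsConj x y := by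
  classical
  have hp := (Fact.out : p.Prime)
  have hMidx : Odd (inter P K).index :=
    hodd.of_dvd_nat (Subgroup.relIndex_dvd_index_of_normal K (nor P))
  obtain ⟨f, hf, hrel, -, -⟩ := exists_equiv P K ⊥ bot_le IsPGroup.of_bot
    (by rwa [Subgroup.relIndex_bot_left])
  have hcomm : ∀ m : inter P K, ∀ a ∈ (P : Subgroup G),
      a * ((m : nor P) : G) = ((m : nor P) : G) * a := by
    intro m a ha
    have h1 : a * ((m : nor P) : G) * a⁻¹ * ((m : nor P) : G)⁻¹ ∈ K :=
      K.mul_mem ((inferInstance : K.Normal).conj_mem _ (m.2 : ((m : nor P) : G) ∈ K) _)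
          (K.inv_mem m.2)
    have h2 : a * ((m : nor P) : G) * a⁻¹ * ((m : nor P) : G)⁻¹ ∈ (P : Subgroup G) := by
      have := (P : Subgroup G).mul_mem ha
        ((Subgroup.mem_normalizer_iff.mp (m : nor P).2 a⁻¹).mp ((P : Subgroup G).inv_mem ha))
      simpa [mul_assoc] using this
    have h3 : (P : Subgroup G) ⊓ K = ⊥ := by
      refine (Subgroup.disjoint_of_coprime_natCard ?_).eq_bot
      obtain ⟨j, hj⟩ := IsPGroup.iff_card.mp P.2
      rw [hj]
      exact Nat.Coprime.pow_left j (hp.coprime_iff_not_dvd.mpr hK)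
    have h4 : a * ((m : nor P) : G) * a⁻¹ * ((m : nor P) : G)⁻¹ ∈ (P : Subgroup G) ⊓ K := ⟨h2, h1⟩
    rw [h3, Subgroup.mem_bot, mul_inv_eq_one, mul_inv_eq_iff_eq_mul] at h4
    exact h4
  let RK := fun θ η : {θ : IrrCharacter K // (∀ k : K, ((θ : K → ℂ) k).im = 0)} =>
    ∃ g : G, ∀ k k' : K, (k' : G) = g * (k : G) * g⁻¹ → (η.1 : K → ℂ) k' = (θ.1 : K → ℂ) k
  let RM := fun θ η : {θ : IrrCharacter (inter P K) // (∀ k : inter P K, ((θ : inter P K → ℂ) k).im = 0)} =>
    ∃ g : nor P, ∀ k k' : inter P K, (k' : nor P) = g * (k : nor P) * g⁻¹ →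
      (η.1 : inter P K → ℂ) k' = (θ.1 : inter P K → ℂ) k
  have hRK : ∀ a b, RK a b ↔ ∃ g : G, conjFun K g (a.1 : K → ℂ) = b.1 := by
    intro a b
    constructor
    · rintro ⟨g, hg⟩
      refine ⟨g⁻¹, funext fun k => ?_⟩
      exact (hg ⟨g⁻¹ * k * g⁻¹⁻¹, Subgroup.Normal.conj_mem inferInstance (k : G) k.2 g⁻¹⟩ k (by group)).symm
    · rintro ⟨g, hg⟩
      refine ⟨g⁻¹, fun k k' hk => ?_⟩
      rw [← hg]
      refine congrArg (a.1 : K → ℂ) (Subtype.ext ?_)
      show g * (k' : G) * g⁻¹ = k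
      rw [hk]; group
  have hRM : ∀ a b, RM a b ↔ ∃ g : nor P, conjFun (inter P K) g (a.1 : inter P K → ℂ) = b.1 := by
    intro a b
    constructor
    · rintro ⟨g, hg⟩
      refine ⟨g⁻¹, funext fun k => ?_⟩
      exact (hg ⟨g⁻¹ * k * g⁻¹⁻¹, Subgroup.Normal.conj_mem inferInstance (k : nor P) k.2 g⁻¹⟩ k (by group)).symm
    · rintro ⟨g, hg⟩
      refine ⟨g⁻¹, fun k k' hk => ?_⟩
      rw [← hg]
      refine congrArg (a.1 : inter P K → ℂ) (Subtype.ext ?_)
      show g * (k' : nor P) * g⁻¹ = k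
      rw [hk]; group
  have eqK : Equivalence RK := by
    refine ⟨fun a => (hRK a a).mpr ⟨1, conjFun_one K _⟩, fun {a b} h => ?_, fun {a b c} h h' => ?_⟩
    · obtain ⟨g, hg⟩ := (hRK a b).mp h
      exact (hRK b a).mpr ⟨g⁻¹, by rw [← hg, ← conjFun_mul, mul_inv_cancel, conjFun_one]⟩
    · obtain ⟨g, hg⟩ := (hRK a b).mp h
      obtain ⟨g', hg'⟩ := (hRK b c).mp h'
      exact (hRK a c).mpr ⟨g * g', by rw [conjFun_mul, hg, hg']⟩
  have eqM : Equivalence RM := by
    refine ⟨fun a => (hRM a a).mpr ⟨1, conjFun_one _ _⟩, fun {a b} h => ?_, fun {a b c} h h' => ?_⟩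
    · obtain ⟨g, hg⟩ := (hRM a b).mp h
      exact (hRM b a).mpr ⟨g⁻¹, by rw [← hg, ← conjFun_mul, mul_inv_cancel, conjFun_one]⟩
    · obtain ⟨g, hg⟩ := (hRM a b).mp h
      obtain ⟨g', hg'⟩ := (hRM b c).mp h'
      exact (hRM a c).mpr ⟨g * g', by rw [conjFun_mul, hg, hg']⟩
  have hiff : ∀ {α : Type u} (r : α → α → Prop) (hr : Equivalence r) (a b : α),
      Quot.mk r a = Quot.mk r b ↔ r a b := fun r hr a b =>
    ⟨fun e => hr.eqvGen_iff.mp (Quot.eqvGen_exact e), Quot.sound⟩
  have hc : Nat.card (Quot RK) = Nat.card (Quot RM) := by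
    refine card_eq_of_ker (X := RealInv P K) (fun θ => Quot.mk RK ⟨θ.1, θ.2.1⟩)
      (fun θ => Quot.mk RM ⟨(f θ).1, (f θ).2.1⟩) (fun q => ?_) (fun q => ?_) (fun a b => ?_)
    · induction q using Quot.ind with
      | mk θ =>
        obtain ⟨g, hg⟩ := exists_conj_le P (inertia K (θ.1 : K → ℂ)) (hreal θ.1 θ.2)
        refine ⟨⟨⟨_, isIrrCharacter_conjFun K g θ.1.2⟩, fun k => θ.2 _, fun x hx => ?_⟩, ?_⟩
        · rw [mem_inertia, ← conjFun_mul, show g * x = g * x * g⁻¹ * g by group, conjFun_mul,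
            (mem_inertia K).mp (hg x hx)]
        · exact (Quot.sound ((hRK _ _).mpr ⟨g, rfl⟩)).symm
    · induction q using Quot.ind with
      | mk η =>
        obtain ⟨θ, hθ⟩ := hf.2 ⟨η.1, η.2, fun a ha => by
          rw [mem_inertia]
          refine funext fun m => congrArg (η.1 : inter P K → ℂ) (Subtype.ext (Subtype.ext ?_))
          show (a : G) * ((m : nor P) : G) * (a : G)⁻¹ = ((m : nor P) : G)
          rw [hcomm m a ha, mul_inv_cancel_right]⟩
        exact ⟨θ, congrArg (Quot.mk RM) (Subtype.ext (congrArg Subtype.val hθ :))⟩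
    · rw [hiff RK eqK, hiff RM eqM, hRK, hRM]
      exact hrel a b
  -- classes
  have hcls : Nat.card (Quot (fun x y : {x : inter P K // IsConj x x⁻¹} =>
        ∃ g : nor P, (y.1 : nor P) = g * x.1 * g⁻¹)) =
      Nat.card (Quot (fun x y : {x : K // IsConj x x⁻¹} => ∃ g : G, (y.1 : G) = g * x.1 * g⁻¹)) :=
    (S4866.result (inter P K) hMidx).symm.trans (hc.symm.trans (S4866.result K hodd))
  let ι : inter P K →* K :=
    { toFun := fun m => ⟨((m : nor P) : G), m.2⟩
      map_one' := rfl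
      map_mul' := fun _ _ => rfl }
  let Φ : Quot (fun x y : {x : inter P K // IsConj x x⁻¹} =>
        ∃ g : nor P, (y.1 : nor P) = g * x.1 * g⁻¹) →
      Quot (fun x y : {x : K // IsConj x x⁻¹} => ∃ g : G, (y.1 : G) = g * x.1 * g⁻¹) :=
    Quot.map (fun x => ⟨ι x.1, by simpa using ι.map_isConj x.2⟩) fun a b ⟨g, hg⟩ =>
      ⟨(g : G), congrArg Subtype.val hg⟩
  have hinj : Function.Injective Φ := by
    intro a b
    induction a using Quot.ind with
    | mk a =>
      induction b using Quot.ind with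
      | mk b =>
        intro e
        have hequiv : Equivalence (fun x y : {x : K // IsConj x x⁻¹} =>
            ∃ g : G, (y.1 : G) = g * x.1 * g⁻¹) :=
          ⟨fun x => ⟨1, by simp⟩, fun {x y} ⟨g, hg⟩ => ⟨g⁻¹, by rw [hg]; group⟩,
            fun {x y z} ⟨g, hg⟩ ⟨g', hg'⟩ => ⟨g' * g, by rw [hg', hg]; group⟩⟩
        obtain ⟨g, hg⟩ := hequiv.eqvGen_iff.mp (Quot.eqvGen_exact e)
        change ((b.1 : nor P) : G) = g * ((a.1 : nor P) : G) * g⁻¹ at hg
        have hPC : ∀ m : inter P K,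
            (P : Subgroup G) ≤ Subgroup.centralizer ({((m : nor P) : G)} : Set G) := fun m y hy => by
          rw [Subgroup.mem_centralizer_singleton_iff]
          exact hcomm m y hy
        obtain ⟨t, ht, htg⟩ := exists_mul_mem_normalizer P _ (hPC b.1) g fun y hy => by
          rw [Subgroup.mem_centralizer_singleton_iff]
          show g * y * g⁻¹ * ((b.1 : nor P) : G) = ((b.1 : nor P) : G) * (g * y * g⁻¹)
          rw [hg]
          have := hcomm a.1 y hy
          calc g * y * g⁻¹ * (g * ((a.1 : nor P) : G) * g⁻¹)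
              = g * (y * ((a.1 : nor P) : G)) * g⁻¹ := by group
            _ = _ := by rw [this]; group
        refine Quot.sound ⟨⟨t * g, htg⟩, Subtype.ext ?_⟩
        have ht' := Subgroup.mem_centralizer_singleton_iff.mp ht
        show ((b.1 : nor P) : G) = t * g * ((a.1 : nor P) : G) * (t * g)⁻¹
        rw [show t * g * ((a.1 : nor P) : G) * (t * g)⁻¹ = t * (g * ((a.1 : nor P) : G) * g⁻¹) * t⁻¹ by
          group, ← hg, ht', mul_inv_cancel_right]
  obtain ⟨hxK, hxr⟩ := RealIndex.real_elt K hodd hx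
  obtain ⟨q, hq⟩ := (hinj.bijective_of_nat_card_le hcls.ge).2 (Quot.mk _ ⟨⟨x, hxK⟩, hxr hxK⟩)
  induction q using Quot.ind with
  | mk m =>
    have hequiv : Equivalence (fun x y : {x : K // IsConj x x⁻¹} =>
        ∃ g : G, (y.1 : G) = g * x.1 * g⁻¹) :=
      ⟨fun x => ⟨1, by simp⟩, fun {x y} ⟨g, hg⟩ => ⟨g⁻¹, by rw [hg]; group⟩,
        fun {x y z} ⟨g, hg⟩ ⟨g', hg'⟩ => ⟨g' * g, by rw [hg', hg]; group⟩⟩
    obtain ⟨g, hg⟩ := hequiv.eqvGen_iff.mp (Quot.eqvGen_exact hq)
    refine ⟨((m.1 : nor P) : G), (m.1 : nor P).2, isConj_iff.mpr ⟨g⁻¹, ?_⟩⟩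
    change x = g * ((m.1 : nor P) : G) * g⁻¹ at hg
    rw [hg]
    group

end Cfsg.Agent.RealPEquiv
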