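import Cfsg.Agent.Lib.CT.FrobeniusSchur
import Mathlib.LinearAlgebra.Matrix.PosDef
import Mathlib.Analysis.Matrix.Order

/-!
# Invariant bilinear forms and real structures
-/

set_option autoImplicit false
set_option linter.all false

namespace Cfsg.Agent.RealRep

open Cfsg.Agent.CT
open scoped ComplexConjugate Matrix

universe u

variable {G : Type u} [Group G] [Fintype G] {n : ℕ} (ρ : Representation ℂ G (Fin n → ℂ))

/-- The matrix of a group element. -/
noncomputable def X (g : G) : Matrix (Fin n) (Fin n) ℂ := LinearMap.toMatrix' (ρ g)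

theorem X_mul (g h : G) : X ρ (g * h) = X ρ g * X ρ h := by
  simp only [X, map_mul, Module.End.mul_eq_comp, LinearMap.toMatrix'_comp]

theorem X_one : X ρ 1 = 1 := by
  simp only [X, map_one, Module.End.one_eq_id, LinearMap.toMatrix'_id]

theorem X_trace (g : G) : (X ρ g).trace = ρ.character g := by
  show _ = LinearMap.trace ℂ _ (ρ g)
  rw [LinearMap.trace_eq_matrix_trace ℂ (Pi.basisFun ℂ (Fin n)), LinearMap.toMatrix_eq_toMatrix']
  rfl

theorem X_toLin (g : G) : Matrix.toLin' (X ρ g) = ρ g := Matrix.toLin'_toMatrix' _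

/-- An invariant matrix. -/
def Inv (M : Matrix (Fin n) (Fin n) ℂ) : Prop := ∀ g, (X ρ g)ᵀ * M * X ρ g = M

theorem Inv.intertwine {M : Matrix (Fin n) (Fin n) ℂ} (h : Inv ρ M) (g : G) :
    M * X ρ g = (X ρ g⁻¹)ᵀ * M := by
  conv_rhs => rw [← h g]
  rw [← Matrix.mul_assoc, ← Matrix.mul_assoc, ← Matrix.transpose_mul, ← X_mul, mul_inv_cancel, X_one,
    Matrix.transpose_one, Matrix.one_mul]

variable [hρ : ρ.IsIrreducible]

theorem commute_scalar (A : Matrix (Fin n) (Fin n) ℂ) (h : ∀ g, A * X ρ g = X ρ g * A) :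
    ∃ c : ℂ, A = c • 1 := by
  have h1 := eq_scalar_of_commute ρ (Matrix.toLin' A) fun g => by
    rw [← X_toLin ρ g, Module.End.mul_eq_comp, Module.End.mul_eq_comp, ← Matrix.toLin'_mul,
      ← Matrix.toLin'_mul, h]
  refine ⟨LinearMap.trace ℂ _ (Matrix.toLin' A) / (Module.finrank ℂ (Fin n → ℂ) : ℂ),
    Matrix.toLin'.injective (a₂ := (_ : ℂ) • (1 : Matrix (Fin n) (Fin n) ℂ)) ?_⟩
  rw [map_smul, Matrix.toLin'_one]
  exact h1

theorem det_ne_zero {M : Matrix (Fin n) (Fin n) ℂ} (hM : Inv ρ M) (h0 : M ≠ 0) : M.det ≠ 0 := by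
  intro hd
  obtain ⟨v, hv0, hv⟩ := Matrix.exists_mulVec_eq_zero_iff.mpr hd
  obtain ⟨hV, hirr⟩ := (isIrreducible_iff ρ).mp hρ
  let U : Submodule ℂ (Fin n → ℂ) := LinearMap.ker (Matrix.toLin' M)
  have hU : ∀ g, ∀ w ∈ U, ρ g w ∈ U := fun g w hw => by
    rw [LinearMap.mem_ker, ← X_toLin ρ g, ← LinearMap.comp_apply, ← Matrix.toLin'_mul, hM.intertwine ρ g,
      Matrix.toLin'_mul, LinearMap.comp_apply, LinearMap.mem_ker.mp hw, map_zero]
  rcases hirr U hU with h | h
  · exact hv0 ((Submodule.eq_bot_iff U).mp h v (by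
      rw [LinearMap.mem_ker, Matrix.toLin'_apply]; exact hv))
  · refine h0 (Matrix.toLin'.injective ?_)
    rw [map_zero]
    exact LinearMap.ker_eq_top.mp h

theorem inv_intertwine {M : Matrix (Fin n) (Fin n) ℂ} (hM : Inv ρ M) (h0 : M ≠ 0) (g : G) :
    M⁻¹ * (X ρ g⁻¹)ᵀ = X ρ g * M⁻¹ := by
  have hdet := det_ne_zero ρ hM h0
  have := congrArg (fun A => M⁻¹ * A * M⁻¹) (hM.intertwine ρ g)
  rw [← Matrix.mul_assoc, Matrix.nonsing_inv_mul M (Ne.isUnit hdet), Matrix.one_mul,
    Matrix.mul_assoc, Matrix.mul_assoc, Matrix.mul_nonsing_inv M (Ne.isUnit hdet), Matrix.mul_one] at this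
  exact this.symm

theorem inv_unique {M M' : Matrix (Fin n) (Fin n) ℂ} (hM : Inv ρ M) (h0 : M ≠ 0) (hM' : Inv ρ M') :
    ∃ c : ℂ, M' = c • M := by
  have hdet := det_ne_zero ρ hM h0
  obtain ⟨c, hc⟩ := commute_scalar ρ (M⁻¹ * M') fun g => by
    have h1 := inv_intertwine ρ hM h0 g
    rw [Matrix.mul_assoc, hM'.intertwine ρ g, ← Matrix.mul_assoc, h1, Matrix.mul_assoc]
  refine ⟨c, ?_⟩
  calc M' = M * (M⁻¹ * M') := by
        rw [← Matrix.mul_assoc, Matrix.mul_nonsing_inv M (Ne.isUnit hdet), Matrix.one_mul]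
    _ = c • M := by rw [hc, Matrix.mul_smul, Matrix.mul_one]

theorem character_inv (hreal : ∀ g, (ρ.character g).im = 0) (g : G) :
    ρ.character g⁻¹ = ρ.character g := by
  rw [char_inv ρ g, Complex.conj_eq_iff_im.mpr (hreal g)]

/-- A real character has an invariant form of the parity of its indicator. -/
theorem exists_form (hreal : ∀ g, (ρ.character g).im = 0) :
    ∃ M : Matrix (Fin n) (Fin n) ℂ, M ≠ 0 ∧ Inv ρ M ∧ Mᵀ = fsInd ρ.character • M := by
  classical
  set χ := ρ.character with hχ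
  have hirr : IsIrrCharacter G χ := isIrrCharacter_character ρ
  obtain ⟨hval, hzero⟩ := fsInd_irr hirr
  set ν := fsInd χ with hν
  have hν1 : ν = 1 ∨ ν = -1 := by
    rcases hval with h | h | h
    · obtain ⟨s, hs⟩ := hzero.mp h
      exact absurd (hreal s) hs
    · exact Or.inl h
    · exact Or.inr h
  let B : G → Matrix (Fin n) (Fin n) ℂ := fun g => (X ρ g⁻¹)ᵀ
  have hB : ∀ g h, B (g * h) = B g * B h := fun g h => by
    simp only [B, mul_inv_rev, X_mul, Matrix.transpose_mul]
  have hBtr : ∀ g, (B g).trace = χ g := fun g => by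
    rw [Matrix.trace_transpose, X_trace, character_inv ρ hreal]
  let u : G → Fin n → Fin n → ℂ := fun g a i => B g i a
  have hu : ∀ h g a, B h *ᵥ u g a = u (h * g) a := fun h g a => funext fun i => by
    show ∑ x, B h i x * B g x a = B (h * g) i a
    rw [hB, Matrix.mul_apply]
  let P : Fin n → Fin n → Matrix (Fin n) (Fin n) ℂ := fun a b =>
    ∑ g : G, (Matrix.vecMulVec (u g a) (u g b) + ν • Matrix.vecMulVec (u g b) (u g a))
  have hPinv : ∀ a b h, B h * P a b * (B h)ᵀ = P a b := by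
    intro a b h
    simp only [P, Matrix.mul_sum, Matrix.sum_mul, Matrix.mul_add, Matrix.add_mul, Matrix.mul_smul,
      Matrix.smul_mul, Matrix.mul_vecMulVec, Matrix.vecMulVec_mul, Matrix.vecMul_transpose, hu]
    exact Fintype.sum_equiv (Equiv.mulLeft h) _ _ fun g => rfl
  obtain ⟨a, b, hab⟩ : ∃ a b, P a b ≠ 0 := by
    by_contra hne
    push Not at hne
    have hP : ∀ a b i j, P a b i j = ∑ g : G, (B g i a * B g j b + ν * (B g i b * B g j a)) := fun a b i j => by
      simp only [P, Matrix.sum_apply, Matrix.add_apply, Matrix.smul_apply, Matrix.vecMulVec_apply, smul_eq_mul, u]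
    have h0 : ∑ a, ∑ b, P a b a b = 0 := Finset.sum_eq_zero fun a _ => Finset.sum_eq_zero fun b _ => by
      rw [hne a b]; rfl
    have h1 : ∑ a, ∑ b, P a b a b = ∑ g : G, (χ g * χ g + ν * χ (g * g)) := by
      simp only [hP]
      rw [Finset.sum_congr rfl fun a _ => Finset.sum_comm, Finset.sum_comm]
      refine Finset.sum_congr rfl fun g _ => ?_
      simp only [Finset.sum_add_distrib, ← Finset.mul_sum, ← Finset.sum_mul]
      rw [show χ (g * g) = (B (g * g)).trace from (hBtr _).symm, hB, ← hBtr g]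
      simp only [Matrix.trace, Matrix.diag, Matrix.mul_apply]
    have h2 : ∑ g : G, χ g * χ g = (Nat.card G : ℂ) := by
      have h := irr_inner_self hirr
      rw [classInner, inv_mul_eq_one₀ card_ne_zero] at h
      rw [h]
      exact Finset.sum_congr rfl fun g _ => by rw [Complex.conj_eq_iff_im.mpr (hreal g)]
    have h3 : ∑ g : G, χ (g * g) = (Nat.card G : ℂ) * ν := by
      rw [hν, fsInd, ← mul_assoc, mul_inv_cancel₀ card_ne_zero, one_mul]
    rw [h1, Finset.sum_add_distrib, ← Finset.mul_sum, h2, h3] at h0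
    have hG : (Nat.card G : ℂ) ≠ 0 := card_ne_zero
    rcases hν1 with h | h <;> rw [h] at h0
    · exact hG (by linear_combination (1 / 2 : ℂ) * h0)
    · exact hG (by linear_combination (1 / 2 : ℂ) * h0)
  refine ⟨P a b, hab, fun g => ?_, ?_⟩
  · have := hPinv a b g⁻¹
    simpa [B] using this
  · simp only [P, Matrix.transpose_sum, Matrix.transpose_add, Matrix.transpose_smul,
      Matrix.transpose_vecMulVec, Finset.smul_sum, smul_add, smul_smul]
    refine Finset.sum_congr rfl fun g _ => ?_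
    rcases hν1 with h | h <;> rw [h] <;> simp [add_comm]

theorem form_symm (hreal : ∀ g, (ρ.character g).im = 0) {M : Matrix (Fin n) (Fin n) ℂ} (hM : Inv ρ M) :
    Mᵀ = fsInd ρ.character • M := by
  obtain ⟨M0, h0, hM0, hsym⟩ := exists_form ρ hreal
  obtain ⟨c, rfl⟩ := inv_unique ρ hM0 h0 hM
  rw [Matrix.transpose_smul, hsym, smul_comm]


open scoped ComplexOrder in
/-- An invariant symmetric form gives a real structure. -/
theorem exists_real {M : Matrix (Fin n) (Fin n) ℂ} (hM : Inv ρ M) (h0 : M ≠ 0) (hsym : Mᵀ = M) :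
    ∃ (m : ℕ) (σ : Representation ℝ G (Fin m → ℝ)),
      ∀ g, ((LinearMap.trace ℝ (Fin m → ℝ) (σ g) : ℝ) : ℂ) = ρ.character g := by
  classical
  have hdet := det_ne_zero ρ hM h0
  haveI := ((isIrreducible_iff ρ).mp hρ).1
  let H : Matrix (Fin n) (Fin n) ℂ := ∑ g : G, (X ρ g)ᴴ * X ρ g
  have hHh : Hᴴ = H := by
    simp only [H, Matrix.conjTranspose_sum, Matrix.conjTranspose_mul, Matrix.conjTranspose_conjTranspose]
  have hHinv : ∀ h, (X ρ h)ᴴ * H * X ρ h = H := fun h => by
    simp only [H, Matrix.mul_sum, Matrix.sum_mul]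
    refine Fintype.sum_equiv (Equiv.mulRight h) _ _ fun g => ?_
    rw [Equiv.coe_mulRight, X_mul, Matrix.conjTranspose_mul]
    simp only [Matrix.mul_assoc]
  have hHX : ∀ g, H * X ρ g = (X ρ g⁻¹)ᴴ * H := fun g => by
    conv_rhs => rw [← hHinv g]
    rw [← Matrix.mul_assoc, ← Matrix.mul_assoc, ← Matrix.conjTranspose_mul, ← X_mul, mul_inv_cancel, X_one,
      Matrix.conjTranspose_one, Matrix.one_mul]
  have hHpos : ∀ v : Fin n → ℂ, v ≠ 0 → 0 < star v ⬝ᵥ H *ᵥ v := by
    intro v hv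
    have e : star v ⬝ᵥ H *ᵥ v = ∑ g : G, star (X ρ g *ᵥ v) ⬝ᵥ (X ρ g *ᵥ v) := by
      simp only [H, Matrix.sum_mulVec, dotProduct_sum]
      refine Finset.sum_congr rfl fun g _ => ?_
      rw [← Matrix.mulVec_mulVec, Matrix.dotProduct_mulVec, Matrix.star_mulVec]
    rw [e]
    refine Finset.sum_pos' (fun g _ => dotProduct_star_self_nonneg _) ⟨1, Finset.mem_univ _, ?_⟩
    rw [X_one, Matrix.one_mulVec]
    exact (dotProduct_star_self_nonneg v).lt_of_ne fun h => hv (dotProduct_star_self_eq_zero.mp h.symm)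
  let J : (Fin n → ℂ) → (Fin n → ℂ) := fun v => M⁻¹ *ᵥ star (H *ᵥ v)
  have hJadd : ∀ v w, J (v + w) = J v + J w := fun v w => by
    simp only [J, Matrix.mulVec_add, star_add]
  have hJsmul : ∀ (c : ℂ) v, J (c • v) = conj c • J v := fun c v => by
    simp only [J, Matrix.mulVec_smul, star_smul]
    rfl
  have hJX : ∀ g v, J (X ρ g *ᵥ v) = X ρ g *ᵥ J v := fun g v => by
    show M⁻¹ *ᵥ star (H *ᵥ (X ρ g *ᵥ v)) = X ρ g *ᵥ (M⁻¹ *ᵥ star (H *ᵥ v))
    rw [Matrix.mulVec_mulVec, hHX, ← Matrix.mulVec_mulVec, Matrix.star_mulVec,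
      Matrix.conjTranspose_conjTranspose, ← Matrix.mulVec_transpose, Matrix.mulVec_mulVec,
      inv_intertwine ρ hM h0, ← Matrix.mulVec_mulVec]
  have hbil : ∀ v w, J v ⬝ᵥ M *ᵥ w = star v ⬝ᵥ H *ᵥ w := fun v w => by
    have e : (M⁻¹)ᵀ = M⁻¹ := by rw [Matrix.transpose_nonsing_inv, hsym]
    simp only [J]
    rw [Matrix.dotProduct_mulVec, ← Matrix.mulVec_transpose, hsym, Matrix.mulVec_mulVec,
      Matrix.mul_nonsing_inv M (Ne.isUnit hdet), Matrix.one_mulVec, Matrix.star_mulVec, hHh,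
      ← Matrix.dotProduct_mulVec]
  have hbsym : ∀ v w, v ⬝ᵥ M *ᵥ w = w ⬝ᵥ M *ᵥ v := fun v w => by
    rw [Matrix.dotProduct_mulVec, ← Matrix.mulVec_transpose, hsym, dotProduct_comm]
  let A : Matrix (Fin n) (Fin n) ℂ := M⁻¹ * (H * M⁻¹).map conj * H
  have hJJ : ∀ v, J (J v) = A *ᵥ v := fun v => by
    simp only [J, A, ← Matrix.mulVec_mulVec]
    congr 1
    rw [Matrix.mulVec_mulVec (star (H *ᵥ v)) H M⁻¹]
    funext i
    simp only [Pi.star_apply, Matrix.mulVec, dotProduct, Matrix.map_apply, star_sum, star_mul', star_star]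
    rfl
  obtain ⟨c, hc⟩ := commute_scalar ρ A fun g => by
    refine Matrix.toLin'.injective (LinearMap.ext fun v => ?_)
    show (A * X ρ g) *ᵥ v = (X ρ g * A) *ᵥ v
    rw [← Matrix.mulVec_mulVec v A (X ρ g), ← Matrix.mulVec_mulVec v (X ρ g) A, ← hJJ, ← hJJ, hJX, hJX]
  have hJc : ∀ v, J (J v) = c • v := fun v => by rw [hJJ, hc, Matrix.smul_mulVec, Matrix.one_mulVec]
  obtain ⟨v0, hv0⟩ := exists_ne (0 : Fin n → ℂ)
  have hJv0 : J v0 ≠ 0 := fun h => by
    have := hHpos v0 hv0
    rw [← hbil, h, zero_dotProduct] at this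
    exact this.false
  have hcv : star (J v0) ⬝ᵥ H *ᵥ J v0 = c * (star v0 ⬝ᵥ H *ᵥ v0) := by
    rw [← hbil, hJc, smul_dotProduct, hbsym, hbil, smul_eq_mul]
  have hc0 : 0 < c := by
    rcases (le_of_lt (hHpos v0 hv0)).eq_or_lt with h | h
    · exact absurd h.symm (hHpos v0 hv0).ne'
    · have h1 := hHpos _ hJv0
      rw [hcv] at h1
      rw [Complex.lt_def] at h1 h ⊢
      simp only [Complex.zero_re, Complex.zero_im, Complex.mul_re, Complex.mul_im] at h1 h ⊢
      rw [← h.2, mul_zero, sub_zero, mul_zero, zero_add] at h1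
      exact ⟨(mul_pos_iff_of_pos_right h.1).mp h1.1,
        ((mul_eq_zero.mp h1.2.symm).resolve_right h.1.ne').symm⟩
  rw [Complex.lt_def] at hc0
  simp only [Complex.zero_re, Complex.zero_im] at hc0
  set r : ℝ := Real.sqrt c.re with hr
  have hr0 : (0 : ℝ) < r := Real.sqrt_pos.mpr hc0.1
  have hrc : ((r : ℂ) * r) = c := by
    rw [← Complex.ofReal_mul, hr, Real.mul_self_sqrt hc0.1.le]
    exact Complex.ext (by simp) (by simp [hc0.2])
  let J' : (Fin n → ℂ) → (Fin n → ℂ) := fun v => ((r⁻¹ : ℝ) : ℂ) • J v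
  have hJ'smul : ∀ (z : ℂ) v, J' (z • v) = conj z • J' v := fun z v => by
    simp only [J', hJsmul, smul_smul, mul_comm]
  have hJ'X : ∀ g v, J' (X ρ g *ᵥ v) = X ρ g *ᵥ J' v := fun g v => by
    simp only [J', hJX, Matrix.mulVec_smul]
  have hJ'J : ∀ v, J' (J' v) = v := fun v => by
    simp only [J']
    rw [hJsmul, smul_smul, hJc, smul_smul, Complex.conj_ofReal, ← hrc, Complex.ofReal_inv]
    have : (r : ℂ) ≠ 0 := Complex.ofReal_ne_zero.mpr hr0.ne'
    field_simp
    rw [one_smul]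
  have hJ'add : ∀ v w, J' (v + w) = J' v + J' w := fun v w => by
    simp only [J', hJadd, smul_add]
  let W : Submodule ℝ (Fin n → ℂ) :=
    { carrier := {v | J' v = v}
      zero_mem' := by simpa using hJ'smul 0 0
      add_mem' := fun {a b} ha hb => by
        show J' (a + b) = a + b
        rw [hJ'add, ha, hb]
      smul_mem' := fun t v hv => by
        show J' (t • v) = t • v
        rw [show (t • v : Fin n → ℂ) = (t : ℂ) • v from (Complex.coe_smul t v).symm, hJ'smul, Complex.conj_ofReal, hv] }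
  let bW := Module.finBasis ℝ W
  set m := Module.finrank ℝ W
  let f : Fin m → (Fin n → ℂ) := fun i => (bW i : Fin n → ℂ)
  have hWspan : ∀ w ∈ W, w ∈ Submodule.span ℂ (Set.range f) := fun w hw => by
    have h := congrArg Subtype.val (bW.sum_repr ⟨w, hw⟩)
    simp only [Submodule.coe_sum, Submodule.coe_smul] at h
    rw [← h]
    refine Submodule.sum_mem _ fun i _ => ?_
    rw [← Complex.coe_smul]
    exact Submodule.smul_mem _ _ (Submodule.subset_span ⟨i, rfl⟩)
  have hspan : ⊤ ≤ Submodule.span ℂ (Set.range f) := fun v _ => by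
    have h1 : v + J' v ∈ W := by
      show J' _ = _
      rw [hJ'add, hJ'J, add_comm]
    have h2 : Complex.I • (v - J' v) ∈ W := by
      show J' _ = _
      rw [hJ'smul, sub_eq_add_neg, hJ'add, show -J' v = (-1 : ℂ) • J' v from (neg_one_smul ℂ _).symm, hJ'smul,
        hJ'J, Complex.conj_I, map_neg, map_one]
      module
    rw [show v = (2 : ℂ)⁻¹ • ((v + J' v) + (-Complex.I) • (Complex.I • (v - J' v))) by
      rw [smul_smul, neg_mul, Complex.I_mul_I, neg_neg, one_smul]; module]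
    exact Submodule.smul_mem _ _ (Submodule.add_mem _ (hWspan _ h1) (Submodule.smul_mem _ _ (hWspan _ h2)))
  have hli : LinearIndependent ℂ f := by
    rw [Fintype.linearIndependent_iff]
    intro z hz i
    have hf : ∀ i, J' (f i) = f i := fun i => (bW i).2
    have hz' : ∑ i, conj (z i) • f i = 0 := by
      have h := congrArg J' hz
      have hJ0 : J' 0 = 0 := by simpa using hJ'smul 0 0
      rw [hJ0, show J' (∑ i, z i • f i) = ∑ i, J' (z i • f i) from
        map_sum (AddMonoidHom.mk' J' hJ'add) _ _] at h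
      simpa only [hJ'smul, hf] using h
    have hre : ∑ i, (z i).re • bW i = 0 := Subtype.ext (by
      simp only [Submodule.coe_sum, Submodule.coe_smul, Submodule.coe_zero, ← Complex.coe_smul,
        Complex.re_eq_add_conj, add_div, add_smul, Finset.sum_add_distrib]
      simp only [div_eq_mul_inv, mul_comm _ (2 : ℂ)⁻¹, mul_smul, ← Finset.smul_sum]
      rw [show (∑ x, z x • (bW x : Fin n → ℂ)) = 0 from hz, show (∑ x, conj (z x) • (bW x : Fin n → ℂ)) = 0 from hz']
      simp)
    have him : ∑ i, (z i).im • bW i = 0 := Subtype.ext (by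
      simp only [Submodule.coe_sum, Submodule.coe_smul, Submodule.coe_zero, ← Complex.coe_smul,
        Complex.im_eq_sub_conj, sub_div, sub_smul, Finset.sum_sub_distrib]
      simp only [div_eq_mul_inv, mul_comm _ (2 * Complex.I)⁻¹, mul_smul, ← Finset.smul_sum]
      rw [show (∑ x, z x • (bW x : Fin n → ℂ)) = 0 from hz, show (∑ x, conj (z x) • (bW x : Fin n → ℂ)) = 0 from hz']
      simp)
    exact Complex.ext (Fintype.linearIndependent_iff.mp bW.linearIndependent _ hre i)
      (Fintype.linearIndependent_iff.mp bW.linearIndependent _ him i)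
  let bV : Module.Basis (Fin m) ℂ (Fin n → ℂ) := Module.Basis.mk hli hspan
  have hWρ : ∀ g, ∀ w ∈ W, ρ g w ∈ W := fun g w hw => by
    show J' (ρ g w) = ρ g w
    rw [← X_toLin ρ g, Matrix.toLin'_apply, hJ'X, hw]
  let σW : Representation ℝ G W :=
    { toFun := fun g => ((ρ g).restrictScalars ℝ).restrict (hWρ g)
      map_one' := LinearMap.ext fun w => Subtype.ext (by simp)
      map_mul' := fun g h => LinearMap.ext fun w => Subtype.ext (by simp; rfl) }
  let σ : Representation ℝ G (Fin m → ℝ) :=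
    { toFun := fun g => bW.equivFun.conj (σW g)
      map_one' := by rw [map_one]; exact LinearEquiv.conj_id _
      map_mul' := fun a b => by rw [map_mul]; exact LinearEquiv.conj_comp _ _ _ }
  refine ⟨m, σ, fun g => ?_⟩
  show ((LinearMap.trace ℝ _ (bW.equivFun.conj (σW g)) : ℝ) : ℂ) = LinearMap.trace ℂ _ (ρ g)
  rw [LinearMap.trace_conj', LinearMap.trace_eq_matrix_trace ℝ bW, LinearMap.trace_eq_matrix_trace ℂ bV]
  simp only [Matrix.trace, Matrix.diag, Complex.ofReal_sum, LinearMap.toMatrix_apply]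
  refine Finset.sum_congr rfl fun i _ => ?_
  have key : ρ g (bV i) = ∑ j, ((bW.repr (σW g (bW i)) j : ℝ) : ℂ) • bV j := by
    have h := congrArg Subtype.val (bW.sum_repr (σW g (bW i)))
    simp only [Submodule.coe_sum, Submodule.coe_smul, ← Complex.coe_smul] at h
    simp only [bV, Module.Basis.mk_apply]
    exact h.symm
  rw [key, map_sum, Finsupp.finset_sum_apply, Finset.sum_eq_single i]
  · rw [map_smul, Finsupp.smul_apply, Module.Basis.repr_self, Finsupp.single_eq_same, smul_eq_mul, mul_one]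
  · intro j _ hj
    rw [map_smul, Finsupp.smul_apply, Module.Basis.repr_self, Finsupp.single_eq_of_ne hj.symm, smul_eq_mul, mul_zero]
  · exact fun h => absurd (Finset.mem_univ _) h

omit hρ in
/-- A real representation gives an invariant symmetric form. -/
theorem exists_form_of_real {m : ℕ} (σ : Representation ℝ G (Fin m → ℝ)) :
    ∃ τ : Representation ℂ G (Fin m → ℂ),
      (∀ g, τ.character g = ((LinearMap.trace ℝ (Fin m → ℝ) (σ g) : ℝ) : ℂ)) ∧
      ∃ M, Inv τ M ∧ Mᵀ = M ∧ (0 < m → M ≠ 0) := by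
  classical
  let A : G → Matrix (Fin m) (Fin m) ℝ := fun g => LinearMap.toMatrix' (σ g)
  have hA : ∀ g h, A (g * h) = A g * A h := fun g h => by
    simp only [A, map_mul, Module.End.mul_eq_comp, LinearMap.toMatrix'_comp]
  have hA1 : A 1 = 1 := by simp only [A, map_one, Module.End.one_eq_id, LinearMap.toMatrix'_id]
  let τ : Representation ℂ G (Fin m → ℂ) :=
    { toFun := fun g => Matrix.toLin' ((A g).map Complex.ofRealHom)
      map_one' := by rw [hA1]; simp [Module.End.one_eq_id]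
      map_mul' := fun g h => by
        rw [hA, Matrix.map_mul, Matrix.toLin'_mul]; rfl }
  have hX : ∀ g, X τ g = (A g).map Complex.ofRealHom := fun g => LinearMap.toMatrix'_toLin' _
  let N : Matrix (Fin m) (Fin m) ℝ := ∑ g : G, (A g)ᵀ * A g
  refine ⟨τ, fun g => ?_, N.map Complex.ofRealHom, fun h => ?_, ?_, fun hm h => ?_⟩
  · rw [← X_trace, hX, LinearMap.trace_eq_matrix_trace ℝ (Pi.basisFun ℝ (Fin m)), LinearMap.toMatrix_eq_toMatrix']
    exact (AddMonoidHom.map_trace Complex.ofRealHom.toAddMonoidHom _).symm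
  · rw [hX, ← Matrix.transpose_map, ← Matrix.map_mul, ← Matrix.map_mul]
    congr 1
    simp only [N, Matrix.mul_sum, Matrix.sum_mul]
    refine Fintype.sum_equiv (Equiv.mulRight h) _ _ fun g => ?_
    rw [Equiv.coe_mulRight, hA, Matrix.transpose_mul]
    simp only [Matrix.mul_assoc]
  · rw [← Matrix.transpose_map]
    congr 1
    simp [N, Matrix.transpose_sum, Matrix.transpose_mul]
  · let i : Fin m := ⟨0, hm⟩
    have h1 : Complex.ofRealHom (N i i) = 0 := congrFun (congrFun h i) i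
    have h2 : N i i = ∑ g : G, ∑ j, A g j i * A g j i := by
      simp [N, Matrix.sum_apply, Matrix.mul_apply]
    have h3 : 0 < N i i := by
      rw [h2]
      refine Finset.sum_pos' (fun g _ => Finset.sum_nonneg fun j _ => mul_self_nonneg _) ⟨1, Finset.mem_univ _, ?_⟩
      refine Finset.sum_pos' (fun j _ => mul_self_nonneg _) ⟨i, Finset.mem_univ _, ?_⟩
      rw [hA1]
      simp
    exact h3.ne' (Complex.ofReal_eq_zero.mp h1)

end Cfsg.Agent.RealRep
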