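import Cfsg.Agent.Lib.CT.RealPEquiv

/-!
# Real classes, real characters and Sylow normalizers
-/

set_option autoImplicit false
set_option linter.all false

open scoped ComplexConjugate

namespace Cfsg.Agent.RealPEquiv

open Cfsg.Agent.CT RealPrime

universe u

variable {G : Type u} [Group G] [Fintype G] {p : ℕ} [Fact p.Prime]

theorem odd_index_gen_two : Odd (gen 2 G).index := by
  haveI := gen_normal 2 G
  by_contra h
  rw [Nat.not_odd_iff_even, even_iff_two_dvd, Subgroup.index_eq_card] at h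
  haveI : Fact (Nat.Prime 2) := ⟨Nat.prime_two⟩
  obtain ⟨q, hq⟩ := exists_prime_orderOf_dvd_card' (G := G ⧸ gen 2 G) 2 h
  have h1 : q ∈ gen 2 (G ⧸ gen 2 G) :=
    mem_gen Nat.prime_two (k := 1) (by rw [pow_one]; exact orderOf_dvd_iff_pow_eq_one.mp hq.dvd)
  rw [← gen_map Nat.prime_two (QuotientGroup.mk' (gen 2 G)) (QuotientGroup.mk'_surjective _)] at h1
  obtain ⟨g, hg, rfl⟩ := h1
  rw [(show QuotientGroup.mk' (gen 2 G) g = 1
    from (QuotientGroup.eq_one_iff g).mpr hg), orderOf_one] at hq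
  exact absurd hq (by norm_num)

theorem not_dvd_index_of_real (hreal : RealHyp p G) (K : Subgroup G) [K.Normal] [Fintype K]
    (hodd : Odd K.index) (θ : IrrCharacter K) (hθ : ∀ k : K, ((θ : K → ℂ) k).im = 0) :
    ¬ p ∣ (inertia K (θ : K → ℂ)).index ∧ ¬ p ∣ deg (θ : K → ℂ) := by
  obtain ⟨χ, hr, -, hd⟩ := RealIndex.exists_real_over K hodd θ fun k => Complex.conj_eq_iff_im.mpr (hθ k)
  have h := hreal χ hr
  rw [hd] at h
  exact ⟨fun e => h (e.mul_right _), fun e => h (e.mul_left _)⟩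

/-- The normal Sylow subgroup of the odd residual, as a subgroup of `G`. -/
theorem exists_core (hsolv : Group.IsSolvable (gen p G)) (hreal : RealHyp p G) :
    ∃ R : Subgroup G, R.Normal ∧ R ≤ gen 2 G ∧ IsPGroup p R ∧ ¬ p ∣ R.relIndex (gen 2 G) := by
  obtain ⟨S⟩ : Nonempty (Sylow p (gen 2 G)) := inferInstance
  haveI := gen_normal 2 G
  have hS : (S : Subgroup (gen 2 G)).Normal := normal_sylow p (Nat.card G) G rfl hsolv hreal _
    inferInstance le_rfl ⟨0, by rw [Subgroup.relIndex_self, pow_zero]⟩ S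
  haveI : (S : Subgroup (gen 2 G)).Characteristic := S.characteristic_of_normal hS
  refine ⟨(S : Subgroup (gen 2 G)).map (gen 2 G).subtype, ConjAct.normal_of_characteristic_of_normal,
    Subgroup.map_subtype_le _, S.2.map _, ?_⟩
  rw [Subgroup.relIndex, Subgroup.subgroupOf,
    Subgroup.comap_map_eq_self_of_injective (Subgroup.subtype_injective _)]
  exact S.not_dvd_index

theorem exists_conj_normalizer (hsolv : Group.IsSolvable (gen p G)) (hreal : RealHyp p G)
    (P : Sylow p G) (x : G) (hx : IsConj x x⁻¹) :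
    ∃ y ∈ Subgroup.normalizer ((P : Subgroup G) : Set G), IsConj x y := by
  classical
  have hp := (Fact.out : p.Prime)
  obtain ⟨R, hRn, hRK, hRp, hRidx⟩ := exists_core hsolv hreal
  haveI := hRn
  haveI := Fintype.ofFinite (G ⧸ R)
  have hRP : R ≤ (P : Subgroup G) := by
    obtain ⟨S, hS⟩ := hRp.exists_le_sylow
    obtain ⟨g, hg⟩ := MulAction.exists_smul_eq G S P
    intro q hq
    rw [← hg, Sylow.coe_subgroup_smul, Subgroup.mem_pointwise_smul_iff_inv_smul_mem]
    have := hS (Subgroup.Normal.conj_mem inferInstance q hq g⁻¹)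
    simpa [MulAut.smul_def] using this
  set f := QuotientGroup.mk' R with hf
  have hfs : Function.Surjective f := QuotientGroup.mk'_surjective R
  haveI := gen_normal 2 (G ⧸ R)
  haveI := Fintype.ofFinite (gen 2 (G ⧸ R))
  haveI := Fintype.ofFinite (inter (P.mapSurjective hfs) (gen 2 (G ⧸ R)))
  have hK : ¬ p ∣ Nat.card (gen 2 (G ⧸ R)) := by
    have h1 := Basics.card_map_mul_card_inf_ker f (gen 2 G)
    rw [gen_map Nat.prime_two f hfs, hf, QuotientGroup.ker_mk', inf_eq_right.mpr hRK] at h1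
    have h2 := (R.subgroupOf (gen 2 G)).card_mul_index
    rw [Basics.card_subgroupOf hRK, ← h1, mul_comm (Nat.card (gen 2 (G ⧸ R)))] at h2
    rw [← Nat.eq_of_mul_eq_mul_left Nat.card_pos h2]
    exact hRidx
  have hx' : IsConj (f x) (f x)⁻¹ := by
    have := f.map_isConj hx
    simpa using this
  obtain ⟨y, hy, hxy⟩ := exists_conj_mem_normalizer (P.mapSurjective hfs) (gen 2 (G ⧸ R))
    (odd_index_gen_two (G := G ⧸ R)) hK
    (fun θ hθ => (not_dvd_index_of_real (hreal.quotient R) _ (odd_index_gen_two (G := G ⧸ R)) θ hθ).1)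
    (f x) hx'
  obtain ⟨c, hc⟩ := isConj_iff.mp hxy
  obtain ⟨g, rfl⟩ := hfs c
  refine ⟨g * x * g⁻¹, ?_, isConj_iff.mpr ⟨g, rfl⟩⟩
  have hz : f (g * x * g⁻¹) = y := by rw [map_mul, map_mul, map_inv]; exact hc
  rw [Subgroup.mem_normalizer_iff_map_conj_eq]
  refine Subgroup.eq_of_le_of_card_ge ?_
    (Subgroup.card_map_of_injective (MulAut.conj (g * x * g⁻¹)).injective).ge
  rintro _ ⟨a, ha, rfl⟩
  have h1 := (Subgroup.mem_normalizer_iff.mp hy (f a)).mp (Subgroup.mem_map_of_mem f ha)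
  rw [← hz, ← map_inv, ← map_mul, ← map_mul] at h1
  obtain ⟨b, hb, hb'⟩ := (h1 : f (g * x * g⁻¹ * a * (g * x * g⁻¹)⁻¹) ∈ (P : Subgroup G).map f)
  rw [hf, QuotientGroup.mk'_apply, QuotientGroup.mk'_apply, QuotientGroup.eq] at hb'
  have := (P : Subgroup G).mul_mem hb (hRP hb')
  rw [mul_inv_cancel_left] at this
  exact this

end Cfsg.Agent.RealPEquiv
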