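import Cfsg.Agent.Lib.CT.RelCorrBase
import Cfsg.Agent.Lib.Glauberman.Constituent
import Cfsg.Agent.Lib.Glauberman.Corr
import Mathlib.GroupTheory.PGroup

/-!
# Glauberman's correspondence relative to a normal Sylow subgroup
-/

set_option autoImplicit false
set_option linter.all false

namespace Cfsg.Agent.RelCorr

open Cfsg.Agent.CT Cfsg.Agent.Glauberman

universe u v

theorem card_zmod_eq {p : ℕ} [Fact p.Prime] {G : Type u} [Group G] [Finite G] {C : Type u}
    [Group C] {A : Type v} [Group A] (hA : IsPGroup p A) (φ : A →* MulAut G) (ι : C →* G)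
    (hι : Function.Injective ι) (hfix : ∀ g, g ∈ ι.range ↔ ∀ a, φ a g = g) :
    (Nat.card G : ZMod p) = (Nat.card C : ZMod p) := by
  letI : MulAction A G := MulAction.compHom G (Glauberman.elemPerm φ)
  have h := hA.card_modEq_card_fixedPoints G
  have e : Nat.card (MulAction.fixedPoints A G) = Nat.card C := by
    rw [Nat.card_congr (Equiv.ofInjective ι hι)]
    refine Nat.card_congr (Equiv.setCongr (Set.ext fun g => ?_))
    exact (hfix g).symm
  rw [e] at h
  exact (ZMod.natCast_eq_natCast_iff _ _ _).mpr h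

section Two

variable {K : Type u} [Group K] [Fintype K] {C : Type u} [Group C] [Fintype C]
  {A : Type v} [Group A] [Finite A]
  (φ : A →* MulAut K) (φC : A →* MulAut C) (ι : C →* K) (hι : Function.Injective ι)
  (hcompat : ∀ a c, ι (φC a c) = φ a (ι c))
  (Q : Subgroup K) [Q.Normal] [Fintype Q] (hQ : ∀ a, ∀ x ∈ Q, φ a x ∈ Q)
  (hrange : ∀ k, k ∈ ι.range ↔ ∀ a, φ a k * k⁻¹ ∈ Q)
  {p : ℕ} [Fact p.Prime] (hA : IsPGroup p A) (hQp : IsPGroup p Q) (hidx : ¬ p ∣ Q.index)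

include hQ hrange in
theorem le_range : Q ≤ ι.range := fun q hq =>
  (hrange q).mpr fun a => Q.mul_mem (hQ a q hq) (Q.inv_mem hq)

/-- The isomorphism of normal Sylow subgroups. -/
noncomputable def eQ : ↥(Q.comap ι) ≃* Q :=
  MulEquiv.ofBijective
    ({ toFun := fun q => ⟨ι (q : C), q.2⟩
       map_one' := Subtype.ext (map_one ι)
       map_mul' := fun a b => Subtype.ext (map_mul ι (a : C) b) } : ↥(Q.comap ι) →* Q)
    ⟨fun a b e => Subtype.ext (hι (congrArg Subtype.val e)), fun q => by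
      obtain ⟨c, hc⟩ := le_range φ ι Q hQ hrange q.2
      exact ⟨⟨c, (Subgroup.mem_comap).mpr (hc ▸ q.2)⟩, Subtype.ext hc⟩⟩

theorem eQ_apply (q : ↥(Q.comap ι)) :
    ((eQ φ ι hι Q hQ hrange q : Q) : K) = ι (q : C) := rfl

/-- A character of `Q` seen on its copy. -/
noncomputable def thetaC (θ : IrrCharacter Q) : IrrCharacter ↥(Q.comap ι) :=
  compIrr (eQ φ ι hι Q hQ hrange) θ

theorem thetaC_apply (θ : IrrCharacter Q) (q : ↥(Q.comap ι)) :
    (thetaC φ ι hι Q hQ hrange θ : ↥(Q.comap ι) → ℂ) q = (θ : Q → ℂ) ⟨ι (q : C), q.2⟩ := rfl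

include hcompat hQ in
theorem comap_stable : ∀ a, ∀ x ∈ Q.comap ι, φC a x ∈ Q.comap ι := fun a x hx => by
  rw [Subgroup.mem_comap, hcompat]
  exact hQ a _ hx

include hι hQp in
theorem comap_isPGroup : IsPGroup p ↥(Q.comap ι) :=
  hQp.of_injective
    ({ toFun := fun q => ⟨ι (q : C), q.2⟩
       map_one' := Subtype.ext (map_one ι)
       map_mul' := fun a b => Subtype.ext (map_mul ι (a : C) b) } : ↥(Q.comap ι) →* Q)
    fun a b e => Subtype.ext (hι (congrArg Subtype.val e))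

include hidx in
theorem comap_index : ¬ p ∣ (Q.comap ι).index := by
  rw [Subgroup.index_comap]
  exact fun h => hidx (h.trans (Subgroup.relIndex_dvd_index_of_normal Q ι.range))

theorem mem_stab_iff (θ : IrrCharacter Q) (c : C) :
    c ∈ stab (Q.comap ι) (thetaC φ ι hι Q hQ hrange θ) ↔ ι c ∈ stab Q θ := by
  rw [stab, stab, mem_inertia_iff, mem_inertia_iff]
  constructor
  · intro h n
    obtain ⟨q, rfl⟩ := (eQ φ ι hι Q hQ hrange).surjective n
    refine Eq.trans (congrArg (θ : Q → ℂ) (Subtype.ext ?_)) (h q)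
    show ι c * ι (q : C) * (ι c)⁻¹ = ι (c * (q : C) * c⁻¹)
    rw [map_mul, map_mul, map_inv]
  · intro h q
    refine Eq.trans (congrArg (θ : Q → ℂ) (Subtype.ext ?_)) (h ⟨ι (q : C), q.2⟩)
    show ι (c * (q : C) * c⁻¹) = ι c * ι (q : C) * (ι c)⁻¹
    rw [map_mul, map_mul, map_inv]

/-- The inclusion of inertia subgroups. -/
def stabHom (θ : IrrCharacter Q) :
    stab (Q.comap ι) (thetaC φ ι hι Q hQ hrange θ) →* stab Q θ where
  toFun d := ⟨ι (d : C), (mem_stab_iff φ ι hι Q hQ hrange θ _).mp d.2⟩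
  map_one' := Subtype.ext (map_one ι)
  map_mul' a b := Subtype.ext (map_mul ι (a : C) b)

/-- The map between the inertia quotients. -/
noncomputable def quotHom (θ : IrrCharacter Q) :
    stab (Q.comap ι) (thetaC φ ι hι Q hQ hrange θ) ⧸ base (Q.comap ι) (thetaC φ ι hι Q hQ hrange θ) →*
      stab Q θ ⧸ base Q θ :=
  QuotientGroup.map _ _ (stabHom φ ι hι Q hQ hrange θ) fun _ hn => hn

theorem quotHom_injective (θ : IrrCharacter Q) :
    Function.Injective (quotHom φ ι hι Q hQ hrange θ) := by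
  rw [injective_iff_map_eq_one]
  intro x hx
  induction x using QuotientGroup.induction_on with
  | _ d => exact (QuotientGroup.eq_one_iff d).mpr ((QuotientGroup.eq_one_iff _).mp hx :)

theorem quotHom_range (θ : IrrCharacter Q) [Fintype (stab Q θ)] (hθ : Inv (resN φ Q hQ) (θ : Q → ℂ))
    (x : stab Q θ ⧸ base Q θ) :
    x ∈ (quotHom φ ι hι Q hQ hrange θ).range ↔ ∀ a, actBar Q θ φ hQ hθ a x = x := by
  constructor
  · rintro ⟨y, rfl⟩ a
    induction y using QuotientGroup.induction_on with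
    | _ d =>
      refine (QuotientGroup.eq (s := base Q θ)).mpr ?_
      show (φ a (ι d))⁻¹ * ι d ∈ Q
      have h := Subgroup.Normal.mem_comm inferInstance ((hrange _).mp ⟨(d : C), rfl⟩ a)
      have := Q.inv_mem h
      simpa using this
  · intro h
    induction x using QuotientGroup.induction_on with
    | _ t =>
      obtain ⟨c, hc⟩ := (hrange (t : K)).mpr fun a => by
        have h1 : (φ a (t : K))⁻¹ * (t : K) ∈ Q := (QuotientGroup.eq (s := base Q θ)).mp (h a)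
        have := Q.inv_mem h1
        rw [mul_inv_rev, inv_inv] at this
        exact Subgroup.Normal.mem_comm inferInstance this
      exact ⟨((⟨c, (mem_stab_iff φ ι hι Q hQ hrange θ c).mpr (hc ▸ t.2)⟩ :
        stab (Q.comap ι) (thetaC φ ι hι Q hQ hrange θ)) : _ ⧸ _),
        congrArg (QuotientGroup.mk (s := base Q θ)) (Subtype.ext hc)⟩

include hcompat in
theorem thetaC_inv (θ : IrrCharacter Q) (hθ : Inv (resN φ Q hQ) (θ : Q → ℂ)) :
    Inv (resN φC (Q.comap ι) (comap_stable φ φC ι hcompat Q hQ))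
      (thetaC φ ι hι Q hQ hrange θ : ↥(Q.comap ι) → ℂ) := by
  intro a q
  refine Eq.trans ?_ (hθ a (eQ φ ι hι Q hQ hrange q))
  exact congrArg (θ : Q → ℂ) (Subtype.ext (hcompat a q))

theorem classInner_Q [Fintype ↥(Q.comap ι)] (χ : K → ℂ) (θ : IrrCharacter Q) :
    classInner (fun q : ↥(Q.comap ι) => χ (ι (q : C)))
      (thetaC φ ι hι Q hQ hrange θ : ↥(Q.comap ι) → ℂ) =
    classInner (fun q : Q => χ q) (θ : Q → ℂ) :=
  classInner_comp_equiv (eQ φ ι hι Q hQ hrange) (fun q : Q => χ q) (θ : Q → ℂ)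

variable [Fintype ↥(Q.comap ι)]

theorem over_of_mult (θ : IrrCharacter Q) (χ : IrrCharacter K) (ξ : IrrCharacter C)
    (h1 : mult (fun c => (χ : K → ℂ) (ι c)) (ξ : C → ℂ) ≠ 0)
    (h2 : classInner (fun q : ↥(Q.comap ι) => (ξ : C → ℂ) q)
      (thetaC φ ι hι Q hQ hrange θ : ↥(Q.comap ι) → ℂ) ≠ 0) :
    classInner (fun q : Q => (χ : K → ℂ) q) (θ : Q → ℂ) ≠ 0 := by
  rw [← classInner_Q φ ι hι Q hQ hrange]
  have hc : IsCharacter C (fun c => (χ : K → ℂ) (ι c)) := isCharacter_comp ι (isCharacter_of_isIrr χ.2)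
  refine classInner_eq_of_res_ne_zero hc ξ.2
    (isCharacter_of_isIrr (thetaC φ ι hι Q hQ hrange θ).2) ?_ h2
  rw [mult_spec hc (isCharacter_of_isIrr ξ.2)]
  exact Nat.cast_ne_zero.mpr h1

theorem mult_eq (θ : IrrCharacter Q) [Fintype (stab Q θ)]
    [Fintype (stab (Q.comap ι) (thetaC φ ι hι Q hQ hrange θ))]
    [Fintype (stab (Q.comap ι) (thetaC φ ι hι Q hQ hrange θ) ⧸
      base (Q.comap ι) (thetaC φ ι hι Q hQ hrange θ))]
    (β : IrrCharacter (stab Q θ ⧸ base Q θ))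
    (γ : IrrCharacter (stab (Q.comap ι) (thetaC φ ι hι Q hQ hrange θ) ⧸
      base (Q.comap ι) (thetaC φ ι hι Q hQ hrange θ))) :
    mult (fun c => ind Q hQp hidx θ β (ι c))
        (ind (Q.comap ι) (comap_isPGroup ι hι Q hQp) (comap_index ι Q hidx)
          (thetaC φ ι hι Q hQ hrange θ) γ) =
      mult (fun x => (β : stab Q θ ⧸ base Q θ → ℂ) (quotHom φ ι hι Q hQ hrange θ x))
        γ.1 := by
  classical
  set j := stabHom φ ι hι Q hQ hrange θ with hj
  letI := Fintype.ofFinite (base (Q.comap ι) (thetaC φ ι hι Q hQ hrange θ))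
  have hQp' := comap_isPGroup ι hι Q hQp
  have hidx' := comap_index ι Q hidx
  have hind := ind_irr Q hQp hidx θ β
  have hindC := ind_irr (Q.comap ι) hQp' hidx' (thetaC φ ι hι Q hQ hrange θ) γ
  have hψ := lift_irr Q hQp hidx θ β
  have hη := lift_irr (Q.comap ι) hQp' hidx' (thetaC φ ι hι Q hQ hrange θ) γ
  have hχι : IsCharacter C (fun c => ind Q hQp hidx θ β (ι c)) :=
    isCharacter_comp ι (isCharacter_of_isIrr hind)
  set β' := fun x => (β : stab Q θ ⧸ base Q θ → ℂ) (quotHom φ ι hι Q hQ hrange θ x) with hβ'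
  have hβc : IsCharacter _ β' :=
    isCharacter_comp (quotHom φ ι hι Q hQ hrange θ) (isCharacter_of_isIrr β.2)
  rw [← Nat.cast_inj (R := ℂ), ← mult_spec hχι (isCharacter_of_isIrr hindC),
    show ind (Q.comap ι) hQp' hidx' (thetaC φ ι hι Q hQ hrange θ) γ = indFun (stab (Q.comap ι) (thetaC φ ι hι Q hQ hrange θ)) (lift (Q.comap ι) hQp' hidx' (thetaC φ ι hι Q hQ hrange θ) γ) from rfl,
    frobenius_reciprocity' (stab (Q.comap ι) (thetaC φ ι hι Q hQ hrange θ)) (isClassFunction_of_isCharacter hχι)]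
  -- the rest of the restriction is orthogonal
  have hres : IsCharacter (stab Q θ) (fun t => ind Q hQp hidx θ β t) :=
    isCharacter_restrict (stab Q θ) (isCharacter_of_isIrr hind)
  have hm : 1 ≤ mult (fun t : stab Q θ => ind Q hQp hidx θ β t) (lift Q hQp hidx θ β) := by
    have e := frobenius_reciprocity (stab Q θ) (lift Q hQp hidx θ β) (isClassFunction_of_isIrr hind)
    rw [show indFun (stab Q θ) (lift Q hQp hidx θ β) = ind Q hQp hidx θ β from rfl,
      irr_inner_self hind, classInner_comm_of_char (isCharacter_of_isIrr hψ) hres,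
      mult_spec hres (isCharacter_of_isIrr hψ)] at e
    exact le_of_eq (by exact_mod_cast e)
  set r : stab Q θ → ℂ :=
    (fun t : stab Q θ => ind Q hQp hidx θ β t) - ((1 : ℕ) : ℂ) • lift Q hQp hidx θ β with hr
  have hrc : IsCharacter (stab Q θ) r := isCharacter_sub_constituent hres hψ hm
  have hr0 : classInner (fun q : Q => r ⟨q, le_stab Q θ q.2⟩) (θ : Q → ℂ) = 0 := by
    rw [show (fun q : Q => r ⟨q, le_stab Q θ q.2⟩) = (fun q : Q => ind Q hQp hidx θ β q) -
      resTo Q (stab Q θ) (le_stab Q θ) (lift Q hQp hidx θ β) from funext fun q => by simp [hr, resTo],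
      classInner_sub_left]
    rw [ind, (isIrr_indFun_of_over_le Q θ.2 _ le_rfl (le_stab Q θ) hψ (lift_over Q hQp hidx θ β)).2,
      sub_self]
  have hrj : classInner (fun d => r (j d)) (lift (Q.comap ι) hQp' hidx' (thetaC φ ι hι Q hQ hrange θ) γ) = 0 := by
    by_contra hne
    have h2 : classInner (fun n : base (Q.comap ι) (thetaC φ ι hι Q hQ hrange θ) => lift (Q.comap ι) hQp' hidx' (thetaC φ ι hι Q hQ hrange θ) γ n)
        (thetaT (Q.comap ι) (thetaC φ ι hι Q hQ hrange θ) : base (Q.comap ι) (thetaC φ ι hι Q hQ hrange θ) → ℂ) ≠ 0 := by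
      have := lift_over (Q.comap ι) hQp' hidx' (thetaC φ ι hι Q hQ hrange θ) γ
      rw [← classInner_comp_equiv (Subgroup.subgroupOfEquivOfLe (le_stab (Q.comap ι) (thetaC φ ι hι Q hQ hrange θ)))] at this
      exact this
    have h3 := classInner_eq_of_res_ne_zero (isCharacter_comp j hrc) hη
      (isCharacter_of_isIrr (thetaT (Q.comap ι) (thetaC φ ι hι Q hQ hrange θ)).2) hne h2
    refine h3 ?_
    rw [← hr0, ← classInner_comp_equiv
      ((Subgroup.subgroupOfEquivOfLe (le_stab (Q.comap ι) (thetaC φ ι hι Q hQ hrange θ))).trans (eQ φ ι hι Q hQ hrange))]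
    rfl
  have hdec : (fun d : stab (Q.comap ι) (thetaC φ ι hι Q hQ hrange θ) => ind Q hQp hidx θ β (ι d)) =
      (fun d => lift Q hQp hidx θ β (j d)) + fun d => r (j d) := by
    funext d
    simp [hr]
    rfl
  rw [hdec, classInner_add_left, hrj, add_zero]
  have hext : (fun d => (ext Q hQp hidx θ : stab Q θ → ℂ) (j d)) =
      (ext (Q.comap ι) hQp' hidx' (thetaC φ ι hι Q hQ hrange θ) : stab (Q.comap ι) (thetaC φ ι hι Q hQ hrange θ) → ℂ) := by
    refine ext_unique (Q.comap ι) hQp' hidx' (thetaC φ ι hι Q hQ hrange θ) (isCharacter_comp j (isCharacter_of_isIrr (ext Q hQp hidx θ).2))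
      (fun q => ext_apply Q hQp hidx θ ⟨ι q, q.2⟩) ?_
    obtain ⟨k, hk⟩ := ext_detOrder Q hQp hidx θ
    exact ⟨k, (detOrder_comp_dvd j (isCharacter_of_isIrr (ext Q hQp hidx θ).2)).trans hk⟩
  have hlift : (fun d => lift Q hQp hidx θ β (j d)) =
      ∑ δ : IrrCharacter (stab (Q.comap ι) (thetaC φ ι hι Q hQ hrange θ) ⧸ base (Q.comap ι) (thetaC φ ι hι Q hQ hrange θ)), (mult β' δ : ℂ) • lift (Q.comap ι) hQp' hidx' (thetaC φ ι hι Q hQ hrange θ) δ := by
    funext d
    have h1 := congrFun (character_eq_sum hβc) (d : stab (Q.comap ι) (thetaC φ ι hι Q hQ hrange θ) ⧸ base (Q.comap ι) (thetaC φ ι hι Q hQ hrange θ))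
    simp only [Finset.sum_apply, Pi.smul_apply, smul_eq_mul] at h1 ⊢
    rw [show lift Q hQp hidx θ β (j d) = β' (d : stab (Q.comap ι) (thetaC φ ι hι Q hQ hrange θ) ⧸ base (Q.comap ι) (thetaC φ ι hι Q hQ hrange θ)) *
      (ext (Q.comap ι) hQp' hidx' (thetaC φ ι hι Q hQ hrange θ) : stab (Q.comap ι) (thetaC φ ι hι Q hQ hrange θ) → ℂ) d from by rw [← hext]; rfl, h1, Finset.sum_mul]
    refine Finset.sum_congr rfl fun δ _ => ?_
    simp [lift, mul_assoc]
  rw [hlift, classInner_sum_left, Finset.sum_eq_single γ]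
  · rw [classInner_smul_left, lift_inner, if_pos rfl, mul_one]
  · intro δ _ hne
    rw [classInner_smul_left, lift_inner, if_neg hne, mul_zero]
  · exact fun h => absurd (Finset.mem_univ _) h

/-- The multiplicity pattern of the correspondence over one invariant character. -/
def Good (χ : IrrCharacter K) (ξ : IrrCharacter C) : Prop :=
  ¬ p ∣ mult (fun c => (χ : K → ℂ) (ι c)) (ξ : C → ℂ)

set_option maxHeartbeats 2000000 in
include hA hQp hidx hcompat in
theorem local_corr (θ : IrrCharacter Q) (hθ : Inv (resN φ Q hQ) (θ : Q → ℂ)) :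
    (∀ χ : IrrCharacter K, Inv φ (χ : K → ℂ) → classInner (fun q : Q => (χ : K → ℂ) q) (θ : Q → ℂ) ≠ 0 →
      ∃ ξ : IrrCharacter C, Inv φC (ξ : C → ℂ) ∧ Good ι (p := p) χ ξ) ∧
    (∀ ξ : IrrCharacter C, classInner (fun q : ↥(Q.comap ι) => (ξ : C → ℂ) q)
        (thetaC φ ι hι Q hQ hrange θ : ↥(Q.comap ι) → ℂ) ≠ 0 →
      ∃ χ : IrrCharacter K, Inv φ (χ : K → ℂ) ∧ Good ι (p := p) χ ξ) ∧
    (∀ (χ : IrrCharacter K) (ξ : IrrCharacter C), Inv φ (χ : K → ℂ) →
      classInner (fun q : ↥(Q.comap ι) => (ξ : C → ℂ) q)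
        (thetaC φ ι hι Q hQ hrange θ : ↥(Q.comap ι) → ℂ) ≠ 0 → Good ι (p := p) χ ξ →
      (((mult (fun c => (χ : K → ℂ) (ι c)) (ξ : C → ℂ) : ℕ) : ZMod p) = 1 ∨
        ((mult (fun c => (χ : K → ℂ) (ι c)) (ξ : C → ℂ) : ℕ) : ZMod p) = -1) ∧
      ((deg (ξ : C → ℂ) : ZMod p) = (deg (χ : K → ℂ) : ZMod p) ∨
        (deg (ξ : C → ℂ) : ZMod p) = -(deg (χ : K → ℂ) : ZMod p)) ∧
      (∀ ξ' : IrrCharacter C, classInner (fun q : ↥(Q.comap ι) => (ξ' : C → ℂ) q)
        (thetaC φ ι hι Q hQ hrange θ : ↥(Q.comap ι) → ℂ) ≠ 0 →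
          Good ι (p := p) χ ξ' → ξ' = ξ) ∧
      ∀ χ' : IrrCharacter K, Inv φ (χ' : K → ℂ) → Good ι (p := p) χ' ξ → χ' = χ) := by
  classical
  have hp := (Fact.out : p.Prime)
  have hQp' := comap_isPGroup ι hι Q hQp
  have hidx' := comap_index ι Q hidx
  letI := Fintype.ofFinite (stab Q θ)
  letI := Fintype.ofFinite (stab (Q.comap ι) (thetaC φ ι hι Q hQ hrange θ))
  letI := Fintype.ofFinite (stab Q θ ⧸ base Q θ)
  letI := Fintype.ofFinite (stab (Q.comap ι) (thetaC φ ι hι Q hQ hrange θ) ⧸ base (Q.comap ι) (thetaC φ ι hι Q hQ hrange θ))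
  have hθC := thetaC_inv φ φC ι hι hcompat Q hQ hrange θ hθ
  have hpT : ¬ p ∣ Nat.card (stab Q θ ⧸ base Q θ) := not_dvd_base_index Q hidx θ
  obtain ⟨Φ, hΦ⟩ := Glauberman.corr (φ := actBar Q θ φ hQ hθ) (ι := quotHom φ ι hι Q hQ hrange θ) hA
    hpT (quotHom_injective φ ι hι Q hQ hrange θ) (quotHom_range φ ι hι Q hQ hrange θ hθ)
  set β' := fun (β : IrrCharacter (stab Q θ ⧸ base Q θ)) x =>
    (β : stab Q θ ⧸ base Q θ → ℂ) (quotHom φ ι hι Q hQ hrange θ x) with hβ'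
  have hβc : ∀ β, IsCharacter _ (β' β) := fun β =>
    isCharacter_comp (quotHom φ ι hι Q hQ hrange θ) (isCharacter_of_isIrr β.2)
  let X : IrrCharacter (stab Q θ ⧸ base Q θ) → IrrCharacter K := fun β => ⟨_, ind_irr Q hQp hidx θ β⟩
  let Y : IrrCharacter (stab (Q.comap ι) (thetaC φ ι hι Q hQ hrange θ) ⧸ base (Q.comap ι) (thetaC φ ι hι Q hQ hrange θ)) → IrrCharacter C :=
    fun γ => ⟨_, ind_irr (Q.comap ι) hQp' hidx' (thetaC φ ι hι Q hQ hrange θ) γ⟩
  have hkey : ∀ (β : IrrCharacter (stab Q θ ⧸ base Q θ)) (hβ : Inv (actBar Q θ φ hQ hθ) (β : stab Q θ ⧸ base Q θ → ℂ)) γ,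
      (Good ι (p := p) (X β) (Y γ) ↔ γ = Φ ⟨β, hβ⟩) ∧ (¬ p ∣ mult (β' β) γ.1 →
        ((mult (β' β) γ.1 : ℕ) : ZMod p) = 1 ∨
          ((mult (β' β) γ.1 : ℕ) : ZMod p) = -1) := by
    intro β hβ γ
    have h := hΦ ⟨β, hβ⟩ γ _ (mult_spec (hβc β) (isCharacter_of_isIrr γ.2))
    refine ⟨?_, fun hm => ?_⟩
    · rw [← h.1, Good, mult_eq φ ι hι Q hQ hrange hQp hidx θ β γ]
    · refine (h.2 hm).imp (fun e => ?_) (fun e => ?_)
      · have := (ZMod.intCast_eq_intCast_iff _ _ p).mpr e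
        simpa using this
      · have := (ZMod.intCast_eq_intCast_iff _ _ p).mpr e
        simpa using this
  have hX : ∀ χ : IrrCharacter K, Inv φ (χ : K → ℂ) →
      classInner (fun q : Q => (χ : K → ℂ) q) (θ : Q → ℂ) ≠ 0 →
      ∃ β : IrrCharacter (stab Q θ ⧸ base Q θ), ∃ hβ : Inv (actBar Q θ φ hQ hθ) (β : stab Q θ ⧸ base Q θ → ℂ), χ = X β := by
    intro χ hχ ho
    obtain ⟨β, hβ⟩ := exists_ind Q hQp hidx θ χ ho
    exact ⟨β, (ind_inv_iff Q hQp hidx θ φ hQ hθ β).mp (hβ ▸ hχ), Subtype.ext hβ.symm⟩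
  have hY : ∀ ξ : IrrCharacter C, classInner (fun q : ↥(Q.comap ι) => (ξ : C → ℂ) q) ((thetaC φ ι hι Q hQ hrange θ) : ↥(Q.comap ι) → ℂ) ≠ 0 →
      ∃ γ, ξ = Y γ := by
    intro ξ ho
    obtain ⟨γ, hγ⟩ := exists_ind (Q.comap ι) hQp' hidx' (thetaC φ ι hι Q hQ hrange θ) ξ ho
    exact ⟨γ, Subtype.ext hγ.symm⟩
  have hYinv : ∀ γ, Inv φC (Y γ : C → ℂ) := by
    intro γ
    refine (ind_inv_iff (Q.comap ι) hQp' hidx' (thetaC φ ι hι Q hQ hrange θ) φC (comap_stable φ φC ι hcompat Q hQ) hθC γ).mpr ?_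
    intro a x
    induction x using QuotientGroup.induction_on with
    | _ d =>
      refine congrArg γ.1 ((QuotientGroup.eq (s := base (Q.comap ι) (thetaC φ ι hι Q hQ hrange θ))).mpr ?_)
      show ι ((φC a d)⁻¹ * d) ∈ Q
      rw [map_mul, map_inv, hcompat]
      have := Q.inv_mem (Subgroup.Normal.mem_comm inferInstance ((hrange _).mp ⟨(d : C), rfl⟩ a))
      simpa using this
  have hYover : ∀ γ, classInner (fun q : ↥(Q.comap ι) => (Y γ : C → ℂ) q) ((thetaC φ ι hι Q hQ hrange θ) : ↥(Q.comap ι) → ℂ) ≠ 0 :=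
    fun γ => ind_over (Q.comap ι) hQp' hidx' (thetaC φ ι hι Q hQ hrange θ) γ
  have hoverX : ∀ χ : IrrCharacter K, ∀ ξ : IrrCharacter C,
      classInner (fun q : ↥(Q.comap ι) => (ξ : C → ℂ) q) ((thetaC φ ι hι Q hQ hrange θ) : ↥(Q.comap ι) → ℂ) ≠ 0 → Good ι (p := p) χ ξ →
      classInner (fun q : Q => (χ : K → ℂ) q) (θ : Q → ℂ) ≠ 0 := fun χ ξ ho hg =>
    over_of_mult φ ι hι Q hQ hrange θ χ ξ (fun e => hg (by rw [e]; exact dvd_zero p)) ho
  refine ⟨fun χ hχ ho => ?_, fun ξ ho => ?_, fun χ ξ hχ ho hg => ⟨?_, ?_, ?_, ?_⟩⟩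
  · obtain ⟨β, hβ, rfl⟩ := hX χ hχ ho
    exact ⟨Y (Φ ⟨β, hβ⟩), hYinv _, ((hkey β hβ _).1).mpr rfl⟩
  · obtain ⟨γ, rfl⟩ := hY ξ ho
    obtain ⟨⟨β, hβ⟩, rfl⟩ := Φ.surjective γ
    exact ⟨X β, (ind_inv_iff Q hQp hidx θ φ hQ hθ β).mpr hβ, ((hkey β hβ _).1).mpr rfl⟩
  · obtain ⟨β, hβ, rfl⟩ := hX χ hχ (hoverX χ ξ ho hg)
    obtain ⟨γ, rfl⟩ := hY ξ ho
    have e := mult_eq φ ι hι Q hQ hrange hQp hidx θ β γ
    rw [Good, e] at hg
    rw [e]
    exact (hkey β hβ γ).2 hg
  · obtain ⟨β, hβ, rfl⟩ := hX χ hχ (hoverX χ ξ ho hg)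
    obtain ⟨γ, rfl⟩ := hY ξ ho
    have hγ := ((hkey β hβ γ).1).mp hg
    have e := mult_eq φ ι hι Q hQ hrange hQp hidx θ β γ
    rw [Good, e] at hg
    have hm := (hkey β hβ γ).2 hg
    -- the degree of the restriction
    have hdeg : ((deg (β : stab Q θ ⧸ base Q θ → ℂ) : ℕ) : ZMod p) =
        ((mult (β' β) γ.1 : ℕ) : ZMod p) * ((deg γ.1 : ℕ) : ZMod p) := by
      have h1 := congrFun (character_eq_sum (hβc β)) 1
      simp only [Finset.sum_apply, Pi.smul_apply, smul_eq_mul] at h1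
      rw [show β' β 1 = (β : stab Q θ ⧸ base Q θ → ℂ) 1 from congrArg _ (map_one _),
        deg_eq (isCharacter_of_isIrr β.2),
        Finset.sum_congr rfl (fun δ _ => by rw [deg_eq (isCharacter_of_isIrr δ.2), ← Nat.cast_mul]),
        ← Nat.cast_sum, Nat.cast_inj] at h1
      rw [h1, Nat.cast_sum, Finset.sum_eq_single γ]
      · rw [Nat.cast_mul]
      · intro δ _ hne
        rw [Nat.cast_mul, (ZMod.natCast_eq_zero_iff _ p).mpr ?_, zero_mul]
        by_contra hd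
        exact hne ((((hΦ ⟨β, hβ⟩ δ _ (mult_spec (hβc β) (isCharacter_of_isIrr δ.2))).1).mp hd).trans hγ.symm)
      · exact fun h => absurd (Finset.mem_univ _) h
    -- the indices
    have hidxs : ((stab Q θ).index : ZMod p) = ((stab (Q.comap ι) (thetaC φ ι hι Q hQ hrange θ)).index : ZMod p) := by
      have c1 := card_zmod_eq (p := p) hA (actBar Q θ φ hQ hθ) (quotHom φ ι hι Q hQ hrange θ)
        (quotHom_injective φ ι hι Q hQ hrange θ) (quotHom_range φ ι hι Q hQ hrange θ hθ)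
      have c2 : (Nat.card (K ⧸ Q) : ZMod p) = (Nat.card (C ⧸ (Q.comap ι)) : ZMod p) := by
        refine card_zmod_eq (p := p) hA (quotAct φ Q hQ) (QuotientGroup.map (Q.comap ι) Q ι le_rfl) ?_ ?_
        · rw [injective_iff_map_eq_one]
          intro x hx
          induction x using QuotientGroup.induction_on with
          | _ c => exact (QuotientGroup.eq_one_iff c).mpr ((QuotientGroup.eq_one_iff _).mp hx :)
        · intro x
          induction x using QuotientGroup.induction_on with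
          | _ k =>
            constructor
            · rintro ⟨y, hy⟩ a
              induction y using QuotientGroup.induction_on with
              | _ c =>
                rw [← hy]
                refine (QuotientGroup.eq (s := Q)).mpr ?_
                have := Q.inv_mem (Subgroup.Normal.mem_comm inferInstance ((hrange _).mp ⟨c, rfl⟩ a))
                simpa using this
            · intro h
              obtain ⟨c, hc⟩ := (hrange k).mpr fun a => by
                have := Q.inv_mem ((QuotientGroup.eq (s := Q)).mp (h a))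
                rw [mul_inv_rev, inv_inv] at this
                exact Subgroup.Normal.mem_comm inferInstance this
              exact ⟨(c : C ⧸ (Q.comap ι)), congrArg (QuotientGroup.mk (s := Q)) hc⟩
      have i1 : Nat.card (stab Q θ ⧸ base Q θ) * (stab Q θ).index = Nat.card (K ⧸ Q) :=
        Subgroup.relIndex_mul_index (le_stab Q θ)
      have i2 : Nat.card (stab (Q.comap ι) (thetaC φ ι hι Q hQ hrange θ) ⧸ base (Q.comap ι) (thetaC φ ι hι Q hQ hrange θ)) * (stab (Q.comap ι) (thetaC φ ι hι Q hQ hrange θ)).index = Nat.card (C ⧸ (Q.comap ι)) :=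
        Subgroup.relIndex_mul_index (le_stab (Q.comap ι) (thetaC φ ι hι Q hQ hrange θ))
      rw [← i1, ← i2, Nat.cast_mul, Nat.cast_mul, ← c1] at c2
      exact mul_left_cancel₀ (fun e => hpT ((ZMod.natCast_eq_zero_iff _ p).mp e)) c2
    have hdθ : deg ((thetaC φ ι hι Q hQ hrange θ) : ↥(Q.comap ι) → ℂ) = deg (θ : Q → ℂ) := by
      simp only [deg]
      rw [thetaC_apply]
      congr
      exact congrArg (θ : Q → ℂ) (Subtype.ext (map_one ι))
    show ((deg (ind (Q.comap ι) hQp' hidx' (thetaC φ ι hι Q hQ hrange θ) γ) : ℕ) : ZMod p) = _ ∨ _ = -((deg (ind Q hQp hidx θ β) : ℕ) : ZMod p)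
    rw [deg_ind, deg_ind, hdθ]
    push_cast
    rw [hidxs, hdeg]
    rcases hm with h | h <;> rw [h]
    · left; ring
    · right; ring
  · intro ξ' ho' hg'
    obtain ⟨β, hβ, rfl⟩ := hX χ hχ (hoverX χ ξ ho hg)
    obtain ⟨γ, rfl⟩ := hY ξ ho
    obtain ⟨γ', rfl⟩ := hY ξ' ho'
    rw [((hkey β hβ γ).1).mp hg, ((hkey β hβ γ').1).mp hg']
  · intro χ' hχ' hg'
    obtain ⟨β, hβ, rfl⟩ := hX χ hχ (hoverX χ ξ ho hg)
    obtain ⟨β₂, hβ₂, rfl⟩ := hX χ' hχ' (hoverX χ' ξ ho hg')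
    obtain ⟨γ, rfl⟩ := hY ξ ho
    have := Φ.injective ((((hkey β hβ γ).1).mp hg).symm.trans (((hkey β₂ hβ₂ γ).1).mp hg'))
    rw [show β₂ = β from (congrArg Subtype.val this).symm]

end Two

end Cfsg.Agent.RelCorr
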