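import Cfsg.Agent.Lib.CT.RelCorr
import Cfsg.Agent.Lib.Glauberman.CoprimePoint

/-!
# The relative correspondence as a bijection
-/

set_option autoImplicit false
set_option linter.all false

namespace Cfsg.Agent.RelCorr

open Cfsg.Agent.CT Cfsg.Agent.Glauberman

universe u v

variable {K : Type u} [Group K] [Fintype K] {C : Type u} [Group C] [Fintype C]
  {A : Type v} [Group A] [Finite A]
  (φ : A →* MulAut K) (φC : A →* MulAut C) (ι : C →* K) (hι : Function.Injective ι)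
  (hcompat : ∀ a c, ι (φC a c) = φ a (ι c))
  (Q : Subgroup K) [Q.Normal] [Fintype Q] (hQ : ∀ a, ∀ x ∈ Q, φ a x ∈ Q)
  (hrange : ∀ k, k ∈ ι.range ↔ ∀ a, φ a k * k⁻¹ ∈ Q)
  {p : ℕ} [Fact p.Prime] (hA : IsPGroup p A) (hQp : IsPGroup p Q) (hidx : ¬ p ∣ Q.index)

include hA hidx hQp hrange in
/-- Invariant characters of `Q` conjugate in `K` are conjugate by an element of `C`. -/
theorem exists_conj_mem (θ θ1 : IrrCharacter Q) (hθ : Inv (resN φ Q hQ) (θ : Q → ℂ))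
    (hθ1 : Inv (resN φ Q hQ) (θ1 : Q → ℂ)) (g : K) (hg : conjFun Q g (θ : Q → ℂ) = θ1) :
    ∃ c : C, conjFun Q (ι c) (θ : Q → ℂ) = θ1 := by
  classical
  letI := Fintype.ofFinite (stab Q θ)
  let P : K ⧸ Q → Prop := fun x => ∃ k : K, (k : K ⧸ Q) = x ∧ conjFun Q k (θ : Q → ℂ) = θ1
  let X := {x : K ⧸ Q // P x}
  haveI : Nonempty X := ⟨⟨(g : K ⧸ Q), g, rfl, hg⟩⟩
  let π : stab Q θ ⧸ base Q θ →* K ⧸ Q :=
    QuotientGroup.map _ _ (stab Q θ).subtype fun _ hn => hn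
  have hleft : ∀ t x, P x → P (π t * x) := by
    intro t x
    induction t using QuotientGroup.induction_on with
    | _ t =>
      rintro ⟨k, rfl, hk⟩
      refine ⟨t * k, rfl, ?_⟩
      rw [conjFun_mul, show conjFun Q (t : K) (θ : Q → ℂ) = θ from (mem_inertia Q).mp t.2, hk]
  let κ : stab Q θ ⧸ base Q θ →* Equiv.Perm X :=
    { toFun := fun t =>
        { toFun := fun x => ⟨π t * x.1, hleft t _ x.2⟩
          invFun := fun x => ⟨π t⁻¹ * x.1, hleft t⁻¹ _ x.2⟩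
          left_inv := fun x => Subtype.ext (by simp [mul_assoc])
          right_inv := fun x => Subtype.ext (by simp [mul_assoc]) }
      map_one' := Equiv.ext fun x => Subtype.ext (by simp)
      map_mul' := fun s t => Equiv.ext fun x => Subtype.ext (by simp [mul_assoc]) }
  have hact : ∀ a x, P x → P (quotAct φ Q hQ a x) := by
    rintro a _ ⟨k, rfl, hk⟩
    refine ⟨φ a k, rfl, funext fun n => ?_⟩
    have h2 : conjFun Q k (θ : Q → ℂ) (resN φ Q hQ a⁻¹ n) = (θ1 : Q → ℂ) n := by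
      rw [hk]; exact hθ1 a⁻¹ n
    refine Eq.trans ?_ h2
    refine (hθ a⁻¹ _).symm.trans (congrArg (θ : Q → ℂ) (Subtype.ext ?_))
    show φ a⁻¹ (φ a k * (n : K) * (φ a k)⁻¹) = k * φ a⁻¹ (n : K) * k⁻¹
    rw [_root_.map_mul, _root_.map_mul, _root_.map_inv (φ a⁻¹), ← MulAut.mul_apply, ← _root_.map_mul,
      inv_mul_cancel, _root_.map_one, MulAut.one_apply]
  let α : A →* Equiv.Perm X :=
    { toFun := fun a =>
        { toFun := fun x => ⟨quotAct φ Q hQ a x.1, hact a _ x.2⟩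
          invFun := fun x => ⟨quotAct φ Q hQ a⁻¹ x.1, hact a⁻¹ _ x.2⟩
          left_inv := fun x => Subtype.ext (by simp)
          right_inv := fun x => Subtype.ext (by simp) }
      map_one' := Equiv.ext fun x => Subtype.ext (by simp)
      map_mul' := fun s t => Equiv.ext fun x => Subtype.ext (by simp) }
  have hcop : (Nat.card A).Coprime (Nat.card (stab Q θ ⧸ base Q θ)) := by
    obtain ⟨j, hj⟩ := IsPGroup.iff_card.mp hA
    exact (coprime_of_dvd_pow Fact.out (not_dvd_base_index Q hidx θ) hj.dvd).symm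
  have hsolv : Group.IsSolvable A := by
    haveI := hA.isNilpotent
    infer_instance
  obtain ⟨⟨x, k, hkx, hk⟩, hfix⟩ := Glauberman.exists_fixed_point (actBar Q θ φ hQ hθ) κ α
    (fun a t x => Subtype.ext (by
      show quotAct φ Q hQ a (π t * x.1) = π (actBar Q θ φ hQ hθ a t) * quotAct φ Q hQ a x.1
      rw [map_mul]
      congr 1
      induction t using QuotientGroup.induction_on with
      | _ t => rfl))
    hcop (Or.inl hsolv) (fun x y => by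
      obtain ⟨x, k, hx, hk⟩ := x
      obtain ⟨y, l, hy, hl⟩ := y
      have hmem : l * k⁻¹ ∈ stab Q θ := by
        rw [stab, mem_inertia, conjFun_mul, hl, ← hk, ← conjFun_mul, mul_inv_cancel, conjFun_one]
      refine ⟨((⟨l * k⁻¹, hmem⟩ : stab Q θ) : stab Q θ ⧸ base Q θ), Subtype.ext ?_⟩
      show ((l * k⁻¹ : K) : K ⧸ Q) * x = y
      rw [← hx, ← hy, ← QuotientGroup.mk_mul, inv_mul_cancel_right])
  obtain ⟨c, hc⟩ := (hrange k).mpr fun a => by
    have h1 : quotAct φ Q hQ a x = x := congrArg Subtype.val (hfix a)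
    rw [← hkx] at h1
    have := Q.inv_mem ((QuotientGroup.eq (s := Q)).mp h1)
    rw [mul_inv_rev, inv_inv] at this
    exact Subgroup.Normal.mem_comm inferInstance this
  exact ⟨c, hc ▸ hk⟩

include hι hcompat hrange hA hQp hidx hQ in
theorem main :
    ∃ f : {χ : IrrCharacter K // Inv φ (χ : K → ℂ)} → {ξ : IrrCharacter C // Inv φC (ξ : C → ℂ)},
      Function.Bijective f ∧ ∀ χ,
        (∀ ξ : {ξ : IrrCharacter C // Inv φC (ξ : C → ℂ)},
          (ξ = f χ → ((mult (fun c => (χ.1 : K → ℂ) (ι c)) (ξ.1 : C → ℂ) : ℕ) : ZMod p) = 1 ∨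
            ((mult (fun c => (χ.1 : K → ℂ) (ι c)) (ξ.1 : C → ℂ) : ℕ) : ZMod p) = -1) ∧
          (ξ ≠ f χ → p ∣ mult (fun c => (χ.1 : K → ℂ) (ι c)) (ξ.1 : C → ℂ))) ∧
        ((deg ((f χ).1 : C → ℂ) : ZMod p) = (deg (χ.1 : K → ℂ) : ZMod p) ∨
          (deg ((f χ).1 : C → ℂ) : ZMod p) = -(deg (χ.1 : K → ℂ) : ZMod p)) := by
  classical
  letI := Fintype.ofFinite ↥(Q.comap ι)
  have hsolv : Group.IsSolvable A := by
    haveI := hA.isNilpotent
    infer_instance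
  obtain ⟨j, hj⟩ := IsPGroup.iff_card.mp hA
  have hcop : Q.index.Coprime (Nat.card A) := coprime_of_dvd_pow Fact.out hidx hj.dvd
  have hcopC : (Q.comap ι).index.Coprime (Nat.card A) :=
    coprime_of_dvd_pow Fact.out (comap_index ι Q hidx) hj.dvd
  let eq := eQ φ ι hι Q hQ hrange
  -- an invariant character of Q under an invariant character of C
  have hbelow : ∀ ξ : IrrCharacter C, Inv φC (ξ : C → ℂ) → ∃ θ : IrrCharacter Q,
      Inv (resN φ Q hQ) (θ : Q → ℂ) ∧ classInner (fun q : ↥(Q.comap ι) => (ξ : C → ℂ) q)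
        (thetaC φ ι hι Q hQ hrange θ : ↥(Q.comap ι) → ℂ) ≠ 0 := by
    intro ξ hξ
    obtain ⟨θ1, h1, h2⟩ := Glauberman.exists_inv_below φC (Q.comap ι)
      (comap_stable φ φC ι hcompat Q hQ) hcopC (Or.inl hsolv) ξ hξ
    refine ⟨compIrr eq.symm θ1, ?_, ?_⟩
    · intro a q
      obtain ⟨r, rfl⟩ := eq.surjective q
      have e : resN φ Q hQ a (eq r) = eq (resN φC (Q.comap ι) (comap_stable φ φC ι hcompat Q hQ) a r) :=
        Subtype.ext (hcompat a r).symm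
      rw [e, compIrr_apply, compIrr_apply, eq.symm_apply_apply, eq.symm_apply_apply, h1]
    · have e : thetaC φ ι hι Q hQ hrange (compIrr eq.symm θ1) = θ1 := by
        refine Subtype.ext (funext fun r => ?_)
        show (θ1 : ↥(Q.comap ι) → ℂ) (eq.symm (eq r)) = _
        rw [eq.symm_apply_apply]
      rwa [e]
  -- invariant constituents are related by elements of C
  have hmove : ∀ (χ : IrrCharacter K) (θ θ1 : IrrCharacter Q) (ξ : IrrCharacter C),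
      Inv (resN φ Q hQ) (θ : Q → ℂ) → Inv (resN φ Q hQ) (θ1 : Q → ℂ) →
      classInner (fun q : Q => (χ : K → ℂ) q) (θ : Q → ℂ) ≠ 0 →
      classInner (fun q : ↥(Q.comap ι) => (ξ : C → ℂ) q)
        (thetaC φ ι hι Q hQ hrange θ1 : ↥(Q.comap ι) → ℂ) ≠ 0 →
      ¬ p ∣ mult (fun c => (χ : K → ℂ) (ι c)) (ξ : C → ℂ) →
      classInner (fun q : ↥(Q.comap ι) => (ξ : C → ℂ) q)
        (thetaC φ ι hι Q hQ hrange θ : ↥(Q.comap ι) → ℂ) ≠ 0 := by
    intro χ θ θ1 ξ hθ hθ1 ho ho1 hg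
    have ho2 := over_of_mult φ ι hι Q hQ hrange θ1 χ ξ (fun e => hg (by rw [e]; exact dvd_zero p)) ho1
    obtain ⟨g, hg1⟩ := exists_conj_of_constituent Q χ.2 θ.2 θ1.2 ho ho2
    obtain ⟨c, hc⟩ := exists_conj_mem φ ι Q hQ hrange hA hQp hidx θ θ1 hθ hθ1 g hg1
    have e : (thetaC φ ι hι Q hQ hrange θ1 : ↥(Q.comap ι) → ℂ) =
        conjFun (Q.comap ι) c (thetaC φ ι hι Q hQ hrange θ : ↥(Q.comap ι) → ℂ) := by
      funext r
      rw [thetaC_apply, ← hc]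
      show (θ : Q → ℂ) _ = (θ : Q → ℂ) _
      refine congrArg _ (Subtype.ext ?_)
      show ι c * ι (r : C) * (ι c)⁻¹ = ι (c * (r : C) * c⁻¹)
      rw [map_mul, map_mul, map_inv]
    rwa [e, classInner_restrict_conjFun (Q.comap ι) (isClassFunction_of_isIrr ξ.2)] at ho1
  have hex : ∀ χ : {χ : IrrCharacter K // Inv φ (χ : K → ℂ)},
      ∃ ξ : {ξ : IrrCharacter C // Inv φC (ξ : C → ℂ)}, Good ι (p := p) χ.1 ξ.1 := by
    intro χ
    obtain ⟨θ, hθ, ho⟩ := Glauberman.exists_inv_below φ Q hQ hcop (Or.inl hsolv) χ.1 χ.2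
    obtain ⟨ξ, hξ, hg⟩ := (local_corr φ φC ι hι hcompat Q hQ hrange hA hQp hidx θ hθ).1 χ.1 χ.2 ho
    exact ⟨⟨ξ, hξ⟩, hg⟩
  choose f hf using hex
  have hkey : ∀ (χ : {χ : IrrCharacter K // Inv φ (χ : K → ℂ)})
      (ξ : {ξ : IrrCharacter C // Inv φC (ξ : C → ℂ)}), Good ι (p := p) χ.1 ξ.1 → ξ = f χ := by
    intro χ ξ hg
    obtain ⟨θ, hθ, ho⟩ := Glauberman.exists_inv_below φ Q hQ hcop (Or.inl hsolv) χ.1 χ.2
    obtain ⟨θ1, hθ1, ho1⟩ := hbelow ξ.1 ξ.2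
    obtain ⟨θ2, hθ2, ho2⟩ := hbelow (f χ).1 (f χ).2
    have a1 := hmove χ.1 θ θ1 ξ.1 hθ hθ1 ho ho1 hg
    have a2 := hmove χ.1 θ θ2 (f χ).1 hθ hθ2 ho ho2 (hf χ)
    exact Subtype.ext (((local_corr φ φC ι hι hcompat Q hQ hrange hA hQp hidx θ hθ).2.2 χ.1 (f χ).1
      χ.2 a2 (hf χ)).2.2.1 ξ.1 a1 hg)
  refine ⟨f, ⟨fun χ χ' e => ?_, fun ξ => ?_⟩, fun χ => ⟨fun ξ => ⟨fun e => ?_, fun hne => ?_⟩, ?_⟩⟩
  · obtain ⟨θ, hθ, ho⟩ := hbelow (f χ).1 (f χ).2
    exact Subtype.ext (((local_corr φ φC ι hι hcompat Q hQ hrange hA hQp hidx θ hθ).2.2 χ.1 (f χ).1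
      χ.2 ho (hf χ)).2.2.2 χ'.1 χ'.2 (by rw [e]; exact hf χ')).symm
  · obtain ⟨θ, hθ, ho⟩ := hbelow ξ.1 ξ.2
    obtain ⟨χ, hχ, hg⟩ := (local_corr φ φC ι hι hcompat Q hQ hrange hA hQp hidx θ hθ).2.1 ξ.1 ho
    exact ⟨⟨χ, hχ⟩, (hkey ⟨χ, hχ⟩ ξ hg).symm⟩
  · obtain ⟨θ, hθ, ho⟩ := hbelow (f χ).1 (f χ).2
    rw [e]
    exact ((local_corr φ φC ι hι hcompat Q hQ hrange hA hQp hidx θ hθ).2.2 χ.1 (f χ).1
      χ.2 ho (hf χ)).1
  · by_contra h
    exact hne (hkey χ ξ h)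
  · obtain ⟨θ, hθ, ho⟩ := hbelow (f χ).1 (f χ).2
    exact ((local_corr φ φC ι hι hcompat Q hQ hrange hA hQp hidx θ hθ).2.2 χ.1 (f χ).1
      χ.2 ho (hf χ)).2.1

end Cfsg.Agent.RelCorr
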