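import Cfsg.Prelude.Def_BlockLocal
import Cfsg.Prelude.Def_Blocks
import Cfsg.Agent.Lib.CT.Clifford
import Cfsg.Agent.Lib.CT.CliffordLe
import Mathlib.GroupTheory.Sylow

/-!
# Counting characters of degree prime to `p` over a character
-/

set_option autoImplicit false
set_option linter.all false

namespace Cfsg.Agent.RelCount

open Cfsg.Agent.CT
open scoped ComplexConjugate

universe u

/-! ### Constituents along a homomorphism -/

section Hom

variable {A B : Type u} [Group A] [Finite A] [Group B] [Finite B]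

/-- `χ` lies over `φ` along `ι`. -/
noncomputable def Ov (ι : A →* B) (φ : A → ℂ) (χ : B → ℂ) : Prop :=
  letI := Fintype.ofFinite A
  classInner (fun a => χ (ι a)) φ ≠ 0

theorem ov_def [Fintype A] (ι : A →* B) (φ : A → ℂ) (χ : B → ℂ) :
    Ov ι φ χ ↔ classInner (fun a => χ (ι a)) φ ≠ 0 := by
  unfold Ov
  rw [Subsingleton.elim (Fintype.ofFinite A) ‹Fintype A›]

theorem ov_finsum (ι : A →* B) (φ : A → ℂ) (χ : B → ℂ) :
    Ov ι φ χ ↔ (∑ᶠ a : A, χ (ι a) * (starRingEnd ℂ) (φ a)) ≠ 0 := by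
  haveI := Fintype.ofFinite A
  rw [ov_def, classInner, finsum_eq_sum_of_fintype, Ne, mul_eq_zero, not_or]
  exact and_iff_right (inv_ne_zero card_ne_zero)

/-- The characters of degree prime to `p` over `φ`. -/
noncomputable def cnt (p : ℕ) (ι : A →* B) (φ : A → ℂ) : ℕ :=
  Nat.card {χ : IrrCharacter B // ¬ p ∣ deg (χ : B → ℂ) ∧ Ov ι φ χ}

/-- Counts are invariant under isomorphisms. -/
theorem cnt_congr {A' B' : Type u} [Group A'] [Finite A'] [Group B'] [Finite B'] (p : ℕ)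
    (eA : A ≃* A') (e : B ≃* B') (ι : A →* B) (ι' : A' →* B') (φ : A → ℂ) (φ' : A' → ℂ)
    (hι : ∀ a, ι' (eA a) = e (ι a)) (hφ : ∀ a, φ' (eA a) = φ a) :
    cnt p ι φ = cnt p ι' φ' := by
  classical
  haveI := Fintype.ofFinite A
  haveI := Fintype.ofFinite A'
  let F : IrrCharacter B' ≃ IrrCharacter B :=
    { toFun := fun χ => ⟨_, isIrrCharacter_comp e.toMonoidHom e.surjective χ.2⟩
      invFun := fun χ => ⟨_, isIrrCharacter_comp e.symm.toMonoidHom e.symm.surjective χ.2⟩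
      left_inv := fun χ => Subtype.ext (funext fun b => congrArg (χ : B' → ℂ) (e.apply_symm_apply b))
      right_inv := fun χ => Subtype.ext (funext fun b => congrArg (χ : B → ℂ) (e.symm_apply_apply b)) }
  refine (Nat.card_congr (F.subtypeEquiv fun χ => ?_)).symm
  have h1 : deg (F χ : B → ℂ) = deg (χ : B' → ℂ) := by
    show ⌊((χ : B' → ℂ) (e 1)).re⌋₊ = _
    rw [map_one]
    rfl
  have h2 : classInner (fun a => (F χ : B → ℂ) (ι a)) φ =
      classInner (fun a => (χ : B' → ℂ) (ι' a)) φ' := by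
    simp only [classInner]
    rw [Nat.card_congr eA.toEquiv]
    congr 1
    refine Fintype.sum_equiv eA.toEquiv _ _ fun a => ?_
    show (χ : B' → ℂ) (e (ι a)) * _ = (χ : B' → ℂ) (ι' (eA a)) * _
    rw [hι]
    exact congrArg (fun z => (χ : B' → ℂ) (e (ι a)) * conj z) (hφ a).symm
  rw [ov_def, ov_def, h1, h2]

variable {C : Type u} [Group C] [Finite C]

open Classical in
theorem inner_expand [Fintype A] [Fintype C] (κ : C →* A) (ν : C → ℂ) {f : A → ℂ} (hf : IsCharacter A f) :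
    classInner (fun c => f (κ c)) ν =
      ∑ φ : IrrCharacter A, classInner f (φ : A → ℂ) * classInner (fun c => (φ : A → ℂ) (κ c)) ν := by
  have hexp : (fun c : C => f (κ c)) =
      ∑ φ : IrrCharacter A, classInner f (φ : A → ℂ) • fun c => (φ : A → ℂ) (κ c) := by
    funext c
    conv_lhs => rw [classFunction_eq_sum (isClassFunction_of_isCharacter hf)]
    simp only [Finset.sum_apply, Pi.smul_apply]
  rw [hexp, classInner_sum_left]
  simp only [classInner_smul_left]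

/-- An intermediate constituent. -/
theorem exists_between (ι : A →* B) (κ : C →* A) (ν : C → ℂ) {χ : B → ℂ} (hχ : IsCharacter B χ)
    (h : Ov (ι.comp κ) ν χ) : ∃ φ : IrrCharacter A, Ov ι (φ : A → ℂ) χ ∧ Ov κ ν (φ : A → ℂ) := by
  classical
  haveI := Fintype.ofFinite A
  haveI := Fintype.ofFinite C
  have h1 : classInner (fun c => (fun a => χ (ι a)) (κ c)) ν ≠ 0 := (ov_def (ι.comp κ) ν χ).mp h
  rw [inner_expand κ ν (isCharacter_comp ι hχ)] at h1
  obtain ⟨φ, -, hφ⟩ := Finset.exists_ne_zero_of_sum_ne_zero h1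
  exact ⟨φ, (ov_def _ _ _).mpr (left_ne_zero_of_mul hφ), (ov_def _ _ _).mpr (right_ne_zero_of_mul hφ)⟩

/-- Lying over is transitive. -/
theorem ov_trans (ι : A →* B) (κ : C →* A) {ν : C → ℂ} (hν : IsCharacter C ν) (φ : IrrCharacter A)
    {χ : B → ℂ} (hχ : IsCharacter B χ) (h1 : Ov ι (φ : A → ℂ) χ) (h2 : Ov κ ν (φ : A → ℂ)) :
    Ov (ι.comp κ) ν χ := by
  classical
  haveI := Fintype.ofFinite A
  haveI := Fintype.ofFinite C
  rw [ov_def] at h1 h2
  refine (ov_def _ _ _).mpr ?_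
  show classInner (fun c => (fun a => χ (ι a)) (κ c)) ν ≠ 0
  have hm1 : ∀ ψ : IrrCharacter A, classInner (fun a => χ (ι a)) (ψ : A → ℂ) =
      (mult (fun a => χ (ι a)) (ψ : A → ℂ) : ℂ) := fun ψ =>
    mult_spec (isCharacter_comp ι hχ) (isCharacter_of_isIrr ψ.2)
  have hm2 : ∀ ψ : IrrCharacter A, classInner (fun c => (ψ : A → ℂ) (κ c)) ν =
      (mult (fun c => (ψ : A → ℂ) (κ c)) ν : ℂ) := fun ψ =>
    mult_spec (isCharacter_comp κ (isCharacter_of_isIrr ψ.2)) hν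
  rw [inner_expand κ ν (isCharacter_comp ι hχ)]
  simp only [hm1, hm2] at h1 h2 ⊢
  rw [Nat.cast_ne_zero] at h1 h2
  simp only [← Nat.cast_mul, ← Nat.cast_sum, Nat.cast_ne_zero]
  refine (Finset.sum_pos' (fun _ _ => Nat.zero_le _) ⟨φ, Finset.mem_univ _, ?_⟩).ne'
  exact Nat.pos_of_ne_zero (mul_ne_zero h1 h2)

theorem deg_eq_charDegree (χ : B → ℂ) : deg χ = Cfsg.charDegree χ := rfl

theorem dvd_deg_of_ov (ι : A →* B) {φ : A → ℂ} (hφ : IsIrrCharacter A φ)
    (hinv : ∀ ψ : IrrCharacter A, ∀ χ : IrrCharacter B, Ov ι (ψ : A → ℂ) χ → Ov ι φ χ → (ψ : A → ℂ) = φ)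
    (χ : IrrCharacter B) (h : Ov ι φ χ) : deg φ ∣ deg (χ : B → ℂ) := by
  classical
  haveI := Fintype.ofFinite A
  have hc := isCharacter_comp ι (isCharacter_of_isIrr χ.2)
  have h1 := congrFun (character_eq_sum hc) 1
  rw [Finset.sum_apply, Finset.sum_eq_single (⟨φ, hφ⟩ : IrrCharacter A)] at h1
  · simp only [Pi.smul_apply, smul_eq_mul, map_one] at h1
    have h2 : (χ : B → ℂ) 1 = (mult (fun a => (χ : B → ℂ) (ι a)) φ : ℂ) * φ 1 := h1
    rw [deg_eq (isCharacter_of_isIrr hφ), deg_eq (isCharacter_of_isIrr χ.2), ← Nat.cast_mul,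
      Nat.cast_inj] at h2
    exact ⟨_, h2.trans (mul_comm _ _)⟩
  · intro ψ _ hne
    have : classInner (fun a => (χ : B → ℂ) (ι a)) (ψ : A → ℂ) = 0 := by
      by_contra h0
      exact hne (Subtype.ext (hinv ψ χ ((ov_def _ _ _).mpr h0) h))
    rw [mult_spec hc (isCharacter_of_isIrr ψ.2), Nat.cast_eq_zero] at this
    rw [this, Nat.cast_zero, zero_smul, Pi.zero_apply]
  · exact fun h => absurd (Finset.mem_univ _) h

end Hom

/-! ### Subgroups of a fixed group -/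

variable {H : Type u} [Group H] [Finite H]

/-- Conjugate characters. -/
abbrev Conj (X : Subgroup H) (g : H) (φ φ' : X → ℂ) : Prop := IsConjCharOf X g φ φ'

theorem Conj.mul {X : Subgroup H} {a b : H} (hb : ∀ x ∈ X, b * x * b⁻¹ ∈ X) {φ φ' φ'' : X → ℂ}
    (h1 : Conj X b φ φ') (h2 : Conj X a φ' φ'') : Conj X (a * b) φ φ'' := fun k k' he =>
  (h2 ⟨_, hb k k.2⟩ k' (by rw [he]; group)).trans (h1 k ⟨_, hb k k.2⟩ rfl)

theorem Conj.inv {X : Subgroup H} {g : H} {φ φ' : X → ℂ} (h : Conj X g φ φ') : Conj X g⁻¹ φ' φ :=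
  fun k k' he => (h k' k (by rw [he]; group)).symm

theorem conj_one {X : Subgroup H} (φ : X → ℂ) : Conj X 1 φ φ :=
  fun k k' he => congrArg φ (Subtype.ext (by simpa using he))

theorem conj_eq {X : Subgroup H} {g : H} (hg : ∀ x ∈ X, g * x * g⁻¹ ∈ X) {φ φ₁ φ₂ : X → ℂ}
    (h1 : Conj X g φ φ₁) (h2 : Conj X g φ φ₂) : φ₁ = φ₂ := by
  funext k'
  have hinj : Function.Injective fun x : X => (⟨g * x * g⁻¹, hg x x.2⟩ : X) := fun a b h =>
    Subtype.ext (mul_left_cancel (mul_right_cancel (congrArg Subtype.val h)))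
  obtain ⟨k, rfl⟩ := Finite.surjective_of_injective hinj k'
  rw [h1 k _ rfl, h2 k _ rfl]

/-- The transported character. -/
theorem exists_conj {X : Subgroup H} {g : H} (hg : ∀ x ∈ X, g * x * g⁻¹ ∈ X) (φ : IrrCharacter X) :
    ∃ φ' : IrrCharacter X, Conj X g (φ : X → ℂ) (φ' : X → ℂ) := by
  let c0 : X →* X :=
    { toFun := fun x => ⟨g * x * g⁻¹, hg x x.2⟩
      map_one' := Subtype.ext (by simp)
      map_mul' := fun a b => Subtype.ext (by simp [mul_assoc]) }
  have hinj : Function.Injective c0 := fun a b h =>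
    Subtype.ext (mul_left_cancel (mul_right_cancel (congrArg Subtype.val h)))
  let e : X ≃* X := MulEquiv.ofBijective c0 ⟨hinj, Finite.surjective_of_injective hinj⟩
  refine ⟨⟨_, isIrrCharacter_comp e.symm.toMonoidHom e.symm.surjective φ.2⟩, fun k k' he => ?_⟩
  show (φ : X → ℂ) (e.symm k') = _
  rw [show k' = e k from Subtype.ext he, MulEquiv.symm_apply_apply]

theorem conj_deg {X : Subgroup H} {g : H} {φ φ' : X → ℂ} (h : Conj X g φ φ') : deg φ = deg φ' := by
  simp only [deg]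
  rw [h 1 1 (by simp)]

section Normalized

variable {X M : Subgroup H} (hXM : X ≤ M) (hMX : ∀ m ∈ M, ∀ x ∈ X, m * x * m⁻¹ ∈ X)

/-- Constituents under one character are conjugate. -/
theorem exists_conj_of_ov (hMX : ∀ m ∈ M, ∀ x ∈ X, m * x * m⁻¹ ∈ X) (χ : IrrCharacter M)
    (φ φ' : IrrCharacter X) (h1 : Ov (Subgroup.inclusion hXM) (φ : X → ℂ) χ)
    (h2 : Ov (Subgroup.inclusion hXM) (φ' : X → ℂ) χ) : ∃ m ∈ M, Conj X m (φ : X → ℂ) (φ' : X → ℂ) := by
  classical
  haveI : (X.subgroupOf M).Normal := ⟨fun x hx m => hMX m m.2 _ hx⟩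
  haveI := Fintype.ofFinite X
  haveI := Fintype.ofFinite M
  haveI := Fintype.ofFinite ↥(X.subgroupOf M)
  let e := Subgroup.subgroupOfEquivOfLe hXM
  have key : ∀ f : X → ℂ, classInner (fun x : X => (χ : M → ℂ) (Subgroup.inclusion hXM x)) f =
      classInner (fun y : ↥(X.subgroupOf M) => (χ : M → ℂ) y) (fun y => f (e y)) := fun f => by
    simp only [classInner]
    rw [Nat.card_congr e.toEquiv]
    congr 1
    exact (Fintype.sum_equiv e.toEquiv _ _ fun y => rfl).symm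
  rw [ov_def, key] at h1 h2
  obtain ⟨g, hg⟩ := exists_conj_of_constituent (X.subgroupOf M) χ.2
    (φ := fun y => (φ : X → ℂ) (e y)) (ψ := fun y => (φ' : X → ℂ) (e y))
    (isIrrCharacter_comp e.toMonoidHom e.surjective φ.2) (isIrrCharacter_comp e.toMonoidHom e.surjective φ'.2)
    h1 h2
  refine ⟨(g : H)⁻¹, M.inv_mem g.2, fun k k' he => ?_⟩
  have := congrFun hg (e.symm k')
  simp only [MulEquiv.apply_symm_apply] at this
  rw [← this]
  refine congrArg (φ : X → ℂ) (Subtype.ext ?_)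
  show (g : H) * (k' : H) * (g : H)⁻¹ = k
  rw [he]; group

/-- A conjugate of a constituent is a constituent. -/
theorem ov_of_conj (χ : IrrCharacter M) {φ φ' : X → ℂ} {m : H} (hm : m ∈ M)
    (hmX : ∀ x ∈ X, m * x * m⁻¹ ∈ X) (hc : Conj X m φ φ') (h : Ov (Subgroup.inclusion hXM) φ χ) :
    Ov (Subgroup.inclusion hXM) φ' χ := by
  classical
  haveI := Fintype.ofFinite X
  rw [ov_def] at h ⊢
  have hinj : Function.Injective fun x : X => (⟨m * x * m⁻¹, hmX x x.2⟩ : X) := fun a b h =>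
    Subtype.ext (mul_left_cancel (mul_right_cancel (congrArg Subtype.val h)))
  let e : X ≃ X := Equiv.ofBijective _ ⟨hinj, Finite.surjective_of_injective hinj⟩
  refine fun h0 => h (Eq.trans ?_ h0)
  simp only [classInner]
  congr 1
  refine Fintype.sum_equiv e _ _ fun x => ?_
  rw [hc x (e x) rfl]
  congr 1
  have := isClassFunction_of_isIrr χ.2
  have e1 : (Subgroup.inclusion hXM (e x) : M) =
      (⟨m, hm⟩ : M) * Subgroup.inclusion hXM x * (⟨m, hm⟩ : M)⁻¹ := Subtype.ext rfl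
  rw [e1, isClassFunction_mul_comm this, inv_mul_cancel_left]

end Normalized

open Classical in
/-- Sorting characters by their constituents. -/
theorem cnt_decompose (p : ℕ) {L X M : Subgroup H} (hLX : L ≤ X) (hXM : X ≤ M)
    (hMX : ∀ m ∈ M, ∀ x ∈ X, m * x * m⁻¹ ∈ X) (ν : IrrCharacter L)
    (hML : ∀ m ∈ M, ∀ l ∈ L, m * l * m⁻¹ ∈ L) (hMν : ∀ m ∈ M, Conj L m (ν : L → ℂ) (ν : L → ℂ))
    [Fintype (IrrCharacter X)]
    (P : IrrCharacter X → Prop)
    (hP : ∀ χ : IrrCharacter M, ¬ p ∣ deg (χ : M → ℂ) →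
      Ov (Subgroup.inclusion (hLX.trans hXM)) (ν : L → ℂ) χ →
      ∃ φ, P φ ∧ Ov (Subgroup.inclusion hXM) (φ : X → ℂ) χ) :
    (cnt p (Subgroup.inclusion (hLX.trans hXM)) (ν : L → ℂ) : ℚ) =
      ∑ φ : IrrCharacter X, if P φ ∧ Ov (Subgroup.inclusion hLX) (ν : L → ℂ) (φ : X → ℂ) then
        (cnt p (Subgroup.inclusion hXM) (φ : X → ℂ) : ℚ) /
          (Nat.card {φ' : IrrCharacter X // P φ' ∧ ∃ m ∈ M, Conj X m (φ : X → ℂ) (φ' : X → ℂ)} : ℚ)
      else 0 := by
  haveI := Fintype.ofFinite M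
  have hνc := isCharacter_of_isIrr ν.2
  have hcomp : (Subgroup.inclusion hXM).comp (Subgroup.inclusion hLX) =
      Subgroup.inclusion (hLX.trans hXM) := rfl
  -- conjugates stay over `ν`
  have hov : ∀ φ φ' : IrrCharacter X, ∀ m ∈ M, Conj X m (φ : X → ℂ) (φ' : X → ℂ) →
      Ov (Subgroup.inclusion hLX) (ν : L → ℂ) (φ : X → ℂ) →
      Ov (Subgroup.inclusion hLX) (ν : L → ℂ) (φ' : X → ℂ) := by
    intro φ φ' m hm hc h
    haveI := Fintype.ofFinite L
    rw [ov_def] at h ⊢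
    have hinj : Function.Injective fun x : L => (⟨m * x * m⁻¹, hML m hm x x.2⟩ : L) := fun a b h =>
      Subtype.ext (mul_left_cancel (mul_right_cancel (congrArg Subtype.val h)))
    let e : L ≃ L := Equiv.ofBijective _ ⟨hinj, Finite.surjective_of_injective hinj⟩
    refine fun h0 => h (Eq.trans ?_ h0)
    simp only [classInner]
    congr 1
    refine Fintype.sum_equiv e _ _ fun x => ?_
    rw [hMν m hm x (e x) rfl]
    congr 1
    exact (hc (Subgroup.inclusion hLX x) (Subgroup.inclusion hLX (e x)) rfl).symm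
  let U := Finset.univ.filter fun χ : IrrCharacter M =>
    ¬ p ∣ deg (χ : M → ℂ) ∧ Ov (Subgroup.inclusion (hLX.trans hXM)) (ν : L → ℂ) χ
  let R : IrrCharacter X → IrrCharacter M → Prop := fun φ χ =>
    P φ ∧ Ov (Subgroup.inclusion hLX) (ν : L → ℂ) (φ : X → ℂ) ∧
      ¬ p ∣ deg (χ : M → ℂ) ∧ Ov (Subgroup.inclusion hXM) (φ : X → ℂ) χ
  let w : IrrCharacter X → ℕ := fun φ =>
    Nat.card {φ' : IrrCharacter X // P φ' ∧ ∃ m ∈ M, Conj X m (φ : X → ℂ) (φ' : X → ℂ)}
  have hsum : ∀ χ : IrrCharacter M,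
      (∑ φ : IrrCharacter X, if R φ χ then (w φ : ℚ)⁻¹ else 0) = if χ ∈ U then 1 else 0 := by
    intro χ
    split_ifs with hχ
    · obtain ⟨hd, hν⟩ := (Finset.mem_filter.mp hχ).2
      obtain ⟨φ0, hP0, hov0⟩ := hP χ hd hν
      obtain ⟨φ1, hov1, hν1⟩ := exists_between (Subgroup.inclusion hXM) (Subgroup.inclusion hLX)
        (ν : L → ℂ) (isCharacter_of_isIrr χ.2) (hcomp.symm ▸ hν)
      have hiff : ∀ φ : IrrCharacter X, R φ χ ↔
          P φ ∧ ∃ m ∈ M, Conj X m (φ0 : X → ℂ) (φ : X → ℂ) := by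
        intro φ
        constructor
        · rintro ⟨hp', -, -, h⟩
          exact ⟨hp', exists_conj_of_ov hXM hMX χ φ0 φ hov0 h⟩
        · rintro ⟨hp', m, hm, hc⟩
          have h := ov_of_conj hXM χ hm (hMX m hm) hc hov0
          obtain ⟨m', hm', hc'⟩ := exists_conj_of_ov hXM hMX χ φ1 φ hov1 h
          exact ⟨hp', hov φ1 φ m' hm' hc' hν1, hd, h⟩
      have hwconst : ∀ φ : IrrCharacter X, R φ χ → w φ = w φ0 := by
        intro φ h
        obtain ⟨-, m, hm, hc⟩ := (hiff φ).mp h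
        refine Nat.card_congr (Equiv.subtypeEquivRight fun φ' => ?_)
        refine and_congr_right fun _ => ⟨?_, ?_⟩
        · rintro ⟨n, hn, hc'⟩
          exact ⟨n * m, M.mul_mem hn hm, Conj.mul (hMX m hm) hc hc'⟩
        · rintro ⟨n, hn, hc'⟩
          exact ⟨n * m⁻¹, M.mul_mem hn (M.inv_mem hm),
            Conj.mul (hMX m⁻¹ (M.inv_mem hm)) hc.inv hc'⟩
      rw [Finset.sum_congr rfl fun φ _ => if_congr Iff.rfl rfl rfl, ← Finset.sum_filter,
        Finset.sum_congr rfl fun φ hφ => by rw [hwconst φ (Finset.mem_filter.mp hφ).2],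
        Finset.sum_const, nsmul_eq_mul]
      have hw0 : w φ0 = (Finset.univ.filter fun φ => R φ χ).card := by
        rw [← Fintype.card_subtype, ← Nat.card_eq_fintype_card]
        exact Nat.card_congr (Equiv.subtypeEquivRight fun φ => (hiff φ).symm)
      rw [← hw0, mul_inv_cancel₀]
      rw [Nat.cast_ne_zero]
      exact (Nat.card_pos_iff.mpr ⟨⟨⟨φ0, hP0, 1, M.one_mem, conj_one _⟩⟩, inferInstance⟩).ne'
    · refine Finset.sum_eq_zero fun φ _ => if_neg ?_
      rintro ⟨-, hν, hd, h⟩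
      exact hχ (Finset.mem_filter.mpr ⟨Finset.mem_univ _, hd,
        hcomp ▸ ov_trans _ _ hνc φ (isCharacter_of_isIrr χ.2) h hν⟩)
  calc (cnt p (Subgroup.inclusion (hLX.trans hXM)) (ν : L → ℂ) : ℚ)
      = ∑ χ : IrrCharacter M, if χ ∈ U then (1 : ℚ) else 0 := by
        rw [Finset.sum_boole, cnt, Nat.card_eq_fintype_card, Fintype.card_subtype]
        simp [U]
    _ = ∑ χ : IrrCharacter M, ∑ φ : IrrCharacter X, if R φ χ then (w φ : ℚ)⁻¹ else 0 :=
        Finset.sum_congr rfl fun χ _ => (hsum χ).symm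
    _ = _ := by
        rw [Finset.sum_comm]
        refine Finset.sum_congr rfl fun φ _ => ?_
        by_cases h : P φ ∧ Ov (Subgroup.inclusion hLX) (ν : L → ℂ) (φ : X → ℂ)
        · rw [if_pos h, div_eq_mul_inv, ← Finset.sum_filter, Finset.sum_const, nsmul_eq_mul, cnt,
            Nat.card_eq_fintype_card, Fintype.card_subtype]
          congr 3
          ext χ
          simp [R, h.1, h.2]
        · rw [if_neg h]
          exact Finset.sum_eq_zero fun χ _ => if_neg fun hR => h ⟨hR.1, hR.2.1⟩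

/-- A constituent fixed by a Sylow subgroup under a character of degree prime to `p`. -/
theorem exists_fixed (p : ℕ) [Fact p.Prime] {X M S : Subgroup H} (hXM : X ≤ M)
    (hMX : ∀ m ∈ M, ∀ x ∈ X, m * x * m⁻¹ ∈ X) (hSM : S ≤ M) (hS : IsPGroup p S)
    (hidx : ¬ p ∣ S.relIndex M) (χ : IrrCharacter M) (hχ : ¬ p ∣ deg (χ : M → ℂ)) :
    ∃ φ : IrrCharacter X, Ov (Subgroup.inclusion hXM) (φ : X → ℂ) χ ∧
      ∀ s ∈ S, Conj X s (φ : X → ℂ) (φ : X → ℂ) := by
  classical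
  haveI : (X.subgroupOf M).Normal := ⟨fun x hx m => hMX m m.2 _ hx⟩
  haveI := Fintype.ofFinite X
  haveI := Fintype.ofFinite M
  haveI := Fintype.ofFinite ↥(X.subgroupOf M)
  let e := Subgroup.subgroupOfEquivOfLe hXM
  obtain ⟨φ', hφ'⟩ := exists_constituent_restrict (X.subgroupOf M) χ.2
  have hd := clifford_mult (X.subgroupOf M) χ.2 φ'.2 hφ'
  have hI : ¬ p ∣ (inertia (X.subgroupOf M) (φ' : ↥(X.subgroupOf M) → ℂ)).index := fun h =>
    hχ (by rw [hd]; exact (h.trans (dvd_mul_left _ _)).trans (dvd_mul_right _ _))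
  let I := inertia (X.subgroupOf M) (φ' : ↥(X.subgroupOf M) → ℂ)
  let P : Sylow p M := IsPGroup.toSylow (hS.comap_subtype (K := M)) hidx
  obtain ⟨Q⟩ := (inferInstance : Nonempty (Sylow p I))
  have hQ : ¬ p ∣ ((Q : Subgroup I).map I.subtype).index := by
    rw [Subgroup.index_map_subtype]
    exact fun h => ((Fact.out : p.Prime).dvd_mul.mp h).elim Q.not_dvd_index hI
  obtain ⟨g, hg⟩ := MulAction.exists_smul_eq M P (IsPGroup.toSylow (Q.2.map I.subtype) hQ)
  have hgI : ∀ s ∈ S.subgroupOf M, g * s * g⁻¹ ∈ I := by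
    intro s hs
    have h1 : g * s * g⁻¹ ∈ ((g • P : Sylow p M) : Subgroup M) := by
      rw [Sylow.coe_subgroup_smul]
      exact Subgroup.smul_mem_pointwise_smul _ (MulAut.conj g) _ hs
    rw [hg] at h1
    obtain ⟨q, -, hq⟩ := h1
    exact hq ▸ q.2
  have hirr : IsIrrCharacter ↥(X.subgroupOf M)
      (conjFun (X.subgroupOf M) g (φ' : ↥(X.subgroupOf M) → ℂ)) := isIrrCharacter_conjFun _ g φ'.2
  let ψ : IrrCharacter X := ⟨_, isIrrCharacter_comp e.symm.toMonoidHom e.symm.surjective hirr⟩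
  refine ⟨ψ, ?_, fun s hs k k' he => ?_⟩
  · rw [ov_def]
    have h2 := classInner_restrict_conjFun (X.subgroupOf M) (isClassFunction_of_isIrr χ.2)
      (φ' : ↥(X.subgroupOf M) → ℂ) g
    refine fun h0 => hφ' (Eq.trans ?_ h0)
    rw [← h2]
    simp only [classInner]
    rw [Nat.card_congr e.toEquiv]
    congr 1
    refine Fintype.sum_equiv e.toEquiv _ _ fun y => ?_
    show _ = (χ : M → ℂ) (Subgroup.inclusion hXM (e y)) * conj ((ψ : X → ℂ) (e y))
    show (χ : M → ℂ) y * _ = (χ : M → ℂ) (Subgroup.inclusion hXM (e y)) *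
      conj (conjFun (X.subgroupOf M) g (φ' : ↥(X.subgroupOf M) → ℂ) (e.symm (e y)))
    rw [MulEquiv.symm_apply_apply]
    rfl
  · show conjFun (X.subgroupOf M) g _ (e.symm k') = conjFun (X.subgroupOf M) g _ (e.symm k)
    have hfix := (mem_inertia _).mp (hgI ⟨s, hSM hs⟩ hs)
    set f : ↥(X.subgroupOf M) → ℂ := conjFun (X.subgroupOf M) g (φ' : ↥(X.subgroupOf M) → ℂ) with hf
    have hsf : conjFun (X.subgroupOf M) (⟨s, hSM hs⟩ : M) f = f := by
      rw [hf, ← conjFun_mul,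
        show g * (⟨s, hSM hs⟩ : M) = g * ⟨s, hSM hs⟩ * g⁻¹ * g by rw [inv_mul_cancel_right],
        conjFun_mul, hfix]
    conv_rhs => rw [← hsf]
    exact congrArg f (Subtype.ext (Subtype.ext (by exact he)))

/-- Clifford's correspondence for counts. -/
theorem cnt_inertia (p : ℕ) [Fact p.Prime] {X T M : Subgroup H} (hXT : X ≤ T) (hTM : T ≤ M)
    (hMX : ∀ m ∈ M, ∀ x ∈ X, m * x * m⁻¹ ∈ X) (φ : IrrCharacter X)
    (hT : ∀ m ∈ M, Conj X m (φ : X → ℂ) (φ : X → ℂ) → m ∈ T) (hidx : ¬ p ∣ T.relIndex M) :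
    cnt p (Subgroup.inclusion (hXT.trans hTM)) (φ : X → ℂ) =
      cnt p (Subgroup.inclusion hXT) (φ : X → ℂ) := by
  classical
  let B := ↥M
  let N : Subgroup M := X.subgroupOf M
  let T' : Subgroup M := T.subgroupOf M
  haveI : N.Normal := ⟨fun x hx m => hMX m m.2 _ hx⟩
  haveI := Fintype.ofFinite M
  haveI := Fintype.ofFinite N
  haveI := Fintype.ofFinite T'
  let eX : N ≃* X := Subgroup.subgroupOfEquivOfLe (hXT.trans hTM)
  let eT : T' ≃* T := Subgroup.subgroupOfEquivOfLe hTM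
  let φ' : N → ℂ := fun y => (φ : X → ℂ) (eX y)
  have hφ' : IsIrrCharacter N φ' := isIrrCharacter_comp eX.toMonoidHom eX.surjective φ.2
  have hNT : N ≤ T' := fun y hy => hXT hy
  have hI : inertia N φ' ≤ T' := fun m hm => by
    refine hT m m.2 fun k k' he => ?_
    have := congrFun ((mem_inertia _).mp hm) (eX.symm k)
    simp only [φ', MulEquiv.apply_symm_apply] at this
    refine Eq.trans ?_ this
    exact congrArg (φ : X → ℂ) (Subtype.ext he)
  have h1 : cnt p (Subgroup.inclusion (hXT.trans hTM)) (φ : X → ℂ) = cnt p N.subtype φ' :=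
    cnt_congr p eX.symm (MulEquiv.refl M) _ _ _ _ (fun _ => rfl)
      (fun a => by simp [φ'])
  have h2 : cnt p (Subgroup.inclusion hXT) (φ : X → ℂ) = cnt p (Subgroup.inclusion hNT) φ' :=
    cnt_congr p eX.symm eT.symm _ _ _ _ (fun _ => rfl) (fun a => by simp [φ'])
  rw [h1, h2]
  have hdeg : ∀ ψ : IrrCharacter T', deg (indFun T' (ψ : T' → ℂ)) = T'.index * deg (ψ : T' → ℂ) := by
    intro ψ
    have h := deg_eq (isCharacter_indFun T' (isCharacter_of_isIrr ψ.2))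
    rw [indFun_one_eval, deg_eq (isCharacter_of_isIrr ψ.2)] at h
    exact_mod_cast h.symm
  have hov : ∀ ψ : IrrCharacter T', Ov (Subgroup.inclusion hNT) φ' (ψ : T' → ℂ) ↔
      classInner (resTo N T' hNT (ψ : T' → ℂ)) φ' ≠ 0 := fun ψ => ov_def _ _ _
  let F : {ψ : IrrCharacter T' // ¬ p ∣ deg (ψ : T' → ℂ) ∧ Ov (Subgroup.inclusion hNT) φ' (ψ : T' → ℂ)} →
      {χ : IrrCharacter M // ¬ p ∣ deg (χ : M → ℂ) ∧ Ov N.subtype φ' χ} := fun ψ =>
    ⟨⟨_, (isIrr_indFun_of_over_le N hφ' T' hI hNT ψ.1.2 ((hov _).mp ψ.2.2)).1⟩,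
      fun h => by
        rw [hdeg] at h
        exact ((Fact.out : p.Prime).dvd_mul.mp h).elim hidx ψ.2.1,
      (ov_def _ _ _).mpr (by
        rw [show classInner (fun a : N => indFun T' (ψ.1 : T' → ℂ) (N.subtype a)) φ' = _ from
          (isIrr_indFun_of_over_le N hφ' T' hI hNT ψ.1.2 ((hov _).mp ψ.2.2)).2]
        exact (hov _).mp ψ.2.2)⟩
  refine (Nat.card_eq_of_bijective F ⟨fun a b h => ?_, fun χ => ?_⟩).symm
  · exact Subtype.ext (indFun_injective_of_over_le N hφ' T' hI hNT ((hov _).mp a.2.2) ((hov _).mp b.2.2)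
      (congrArg (fun x : {χ : IrrCharacter M // ¬ p ∣ deg (χ : M → ℂ) ∧ Ov N.subtype φ' χ} =>
        (x.1 : M → ℂ)) h))
  · have hχov : classInner (fun n : N => (χ.1 : M → ℂ) n) φ' ≠ 0 :=
      (ov_def N.subtype φ' (χ.1 : M → ℂ)).mp χ.2.2
    obtain ⟨ψ, hψ, hψov⟩ := exists_correspondent_le N hφ' T' hI hNT χ.1.2 hχov
    refine ⟨⟨ψ, fun h => χ.2.1 ?_, (hov _).mpr hψov⟩, Subtype.ext (Subtype.ext hψ)⟩
    rw [← hψ, hdeg]
    exact h.trans (dvd_mul_left _ _)

end Cfsg.Agent.RelCount
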