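import Cfsg.Agent.Lib.CT.CentralReduction
import Cfsg.Prelude.Def_Local

/-!
# Characters of degree prime to `p` over an invariant character
-/

set_option autoImplicit false
set_option linter.all false

namespace Cfsg.Agent.RelMcKay

open Cfsg.Agent.CT Cfsg.Agent.RelCount
open scoped Pointwise

universe u

variable {p : ℕ} [hp : Fact p.Prime]

theorem eq_one_of_dvd_pow {n k : ℕ} (h1 : n ∣ p ^ k) (h2 : ¬ p ∣ n) : n = 1 :=
  Nat.eq_one_of_dvd_coprimes ((hp.out.coprime_iff_not_dvd.mpr h2).pow_left k) h1 dvd_rfl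

theorem relIndex_pgroup {G : Type u} [Group G] [Finite G] (A : Subgroup G) {S : Subgroup G}
    (hS : IsPGroup p S) : ∃ k, A.relIndex S = p ^ k :=
  hS.index (A.subgroupOf S)

/-- A Sylow subgroup meets a normal subgroup in a Sylow subgroup. -/
theorem not_dvd_relIndex_inf {G : Type u} [Group G] [Finite G] (S K : Subgroup G) [hK : K.Normal]
    (hS : IsPGroup p S) (hidx : ¬ p ∣ S.index) : ¬ p ∣ (S ⊓ K).relIndex K := by
  obtain ⟨R⟩ := (inferInstance : Nonempty (Sylow p K))
  obtain ⟨Q, hQ⟩ := (R.2.map K.subtype).exists_le_sylow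
  let P : Sylow p G := IsPGroup.toSylow hS hidx
  obtain ⟨g, hg⟩ := MulAction.exists_smul_eq G Q P
  have hle : ((R : Subgroup K).map K.subtype).map (MulAut.conj g).toMonoidHom ≤ S ⊓ K := by
    rintro _ ⟨r, hr, rfl⟩
    refine ⟨?_, ?_⟩
    · have h1 : g * r * g⁻¹ ∈ ((g • Q : Sylow p G) : Subgroup G) := by
        rw [Sylow.coe_subgroup_smul]
        exact Subgroup.smul_mem_pointwise_smul _ (MulAut.conj g) _ (hQ hr)
      rw [hg] at h1
      exact h1
    · obtain ⟨k, -, rfl⟩ := hr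
      exact hK.conj_mem _ k.2 g
  intro h
  have h1 := h.trans (Subgroup.relIndex_dvd_of_le_left K hle)
  have hpos : 0 < Nat.card ↥(((R : Subgroup K).map K.subtype).map (MulAut.conj g).toMonoidHom) := Nat.card_pos
  have e : Nat.card ↥(((R : Subgroup K).map K.subtype).map (MulAut.conj g).toMonoidHom) = Nat.card R := by
    rw [Subgroup.card_map_of_injective (MulAut.conj g).injective, Subgroup.card_map_of_injective K.subtype_injective]
  have hleK : ((R : Subgroup K).map K.subtype).map (MulAut.conj g).toMonoidHom ≤ K := hle.trans inf_le_right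
  have e2 : (((R : Subgroup K).map K.subtype).map (MulAut.conj g).toMonoidHom).relIndex K = (R : Subgroup K).index := by
    refine Nat.eq_of_mul_eq_mul_left hpos ?_
    conv_rhs => rw [e, Subgroup.card_mul_index]
    rw [Subgroup.relIndex, ← Nat.card_congr (Subgroup.subgroupOfEquivOfLe hleK).toEquiv, Subgroup.card_mul_index]
  rw [e2] at h1
  exact R.not_dvd_index h1

/-- A normal `p`-section lies in a Sylow subgroup. -/
theorem le_sup_of_pow {G : Type u} [Group G] [Finite G] (L K S : Subgroup G) [L.Normal] [K.Normal]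
    (hLK : L ≤ K) (hS : IsPGroup p S) (hidx : ¬ p ∣ S.index) {k : ℕ} (h : L.relIndex K ∣ p ^ k) :
    K ≤ L ⊔ S := by
  have h1 : ((L ⊔ (S ⊓ K))).relIndex K = 1 :=
    eq_one_of_dvd_pow ((Subgroup.relIndex_dvd_of_le_left K le_sup_left).trans h)
      (fun hd => not_dvd_relIndex_inf S K hS hidx (hd.trans (Subgroup.relIndex_dvd_of_le_left K le_sup_right)))
  exact (Subgroup.relIndex_eq_one.mp h1).trans (sup_le_sup_left inf_le_left L)

theorem count_aux {G : Type u} [Group G] [Fintype G] (L K S : Subgroup G) [L.Normal] [K.Normal]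
    (hLK : L ≤ K) (hKL : ¬ p ∣ L.relIndex K) (hS : IsPGroup p S) (hidx : ¬ p ∣ S.index)
    (hKS : (K ⊔ S).Normal) {d : ℕ} (τ : Representation ℂ L (Fin d → ℂ)) [τ.IsIrreducible] (hd : ¬ p ∣ d)
    (hinv : ∀ g : G, Conj L g τ.character τ.character)
    (hLN : L ≤ Subgroup.normalizer ((L ⊔ S : Subgroup G) : Set G)) :
    cnt p (Subgroup.inclusion (le_top : L ≤ ⊤)) τ.character =
      cnt p (Subgroup.inclusion hLN) τ.character := by
  classical
  set π := CentralReduction.prG L τ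
  set q := CentralReduction.qB L τ
  set Z := CentralReduction.Zb L τ
  obtain ⟨ζ, hζ⟩ := CentralReduction.exists_zeta L τ
  rw [CentralReduction.transfer L τ p hd hinv ζ hζ ⊤ le_top,
    CentralReduction.transfer L τ p hd hinv ζ hζ _ hLN]
  haveI := Fintype.ofFinite (CentralReduction.Gam L τ)
  haveI := Fintype.ofFinite (CentralReduction.Bar L τ)
  have hπ : Function.Surjective π := CentralReduction.prG_surjective L τ hinv
  have hq : Function.Surjective q := CentralReduction.qB_surjective L τ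
  have hZc : Z ≤ Subgroup.center (CentralReduction.Bar L τ) := CentralReduction.zb_center L τ
  -- the preimage of `L`
  have hkerL : π.ker ≤ L.comap π := fun z hz => by
    rw [Subgroup.mem_comap, show π z = 1 from hz]; exact L.one_mem
  have hembL : (CentralReduction.emb L τ).range ≤ L.comap π := by
    rintro _ ⟨l, rfl⟩
    rw [Subgroup.mem_comap]
    exact l.2
  have hkq : q.ker = (CentralReduction.emb L τ).range := QuotientGroup.ker_mk' _
  have hLZ : (L.comap π).map q = Z := by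
    refine le_antisymm ?_ (Subgroup.map_mono hkerL)
    rintro _ ⟨x, hx, rfl⟩
    refine ⟨(CentralReduction.emb L τ ⟨π x, hx⟩)⁻¹ * x, ?_, ?_⟩
    · show π ((CentralReduction.emb L τ ⟨π x, hx⟩)⁻¹ * x) = 1
      rw [map_mul, map_inv]
      exact inv_mul_cancel (π x)
    · rw [map_mul, show q ((CentralReduction.emb L τ ⟨π x, hx⟩)⁻¹) = 1 from
        (QuotientGroup.eq_one_iff _).mpr (Subgroup.inv_mem _ ⟨_, rfl⟩), one_mul]
  -- a Sylow subgroup upstairs
  obtain ⟨R⟩ := (inferInstance : Nonempty (Sylow p ↥(S.comap π)))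
  set St : Subgroup (CentralReduction.Gam L τ) := (R : Subgroup ↥(S.comap π)).map (S.comap π).subtype with hSt
  have hStp : IsPGroup p St := R.2.map _
  have hStidx : ¬ p ∣ St.index := by
    rw [hSt, Subgroup.index_map_subtype, Subgroup.index_comap_of_surjective _ hπ]
    exact fun h => (hp.out.dvd_mul.mp h).elim R.not_dvd_index hidx
  have hSimg : St.map π = S := by
    have hle : St.map π ≤ S := by
      rw [Subgroup.map_le_iff_le_comap]
      exact Subgroup.map_subtype_le _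
    refine le_antisymm hle (Subgroup.relIndex_eq_one.mp ?_)
    obtain ⟨k, hk⟩ := relIndex_pgroup (St.map π) hS
    refine eq_one_of_dvd_pow (k := k) (hk ▸ dvd_rfl) fun h => hStidx (h.trans ?_)
    refine dvd_trans ?_ (St.index_map_dvd hπ)
    rw [← Subgroup.relIndex_mul_index hle]
    exact dvd_mul_right _ _
  set Sb := St.map q with hSb
  have hSbp : IsPGroup p Sb := hStp.map q
  have hSbidx : ¬ p ∣ Sb.index := fun h => hStidx (h.trans (St.index_map_dvd hq))
  have hcomap : ∀ A : Subgroup G, L ≤ A → A.comap π ⊔ St = (A ⊔ S).comap π := by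
    intro A hA
    rw [← hSimg]
    conv_rhs => rw [← Subgroup.map_comap_eq_self_of_surjective hπ A, ← Subgroup.map_sup, Subgroup.comap_map_eq]
    refine (sup_eq_left.mpr ?_).symm
    exact (fun z hz => Subgroup.mem_sup_left (by
      rw [Subgroup.mem_comap, show π z = 1 from hz]; exact A.one_mem))
  set Kb := CentralReduction.barOf L τ K with hKb
  haveI hKbn : Kb.Normal := (Subgroup.Normal.comap inferInstance π).map q hq
  have hsupK : Kb ⊔ Sb = ((K ⊔ S).comap π).map q := by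
    rw [hKb, CentralReduction.barOf, hSb, ← Subgroup.map_sup, hcomap K hLK]
  have hKSn : (Kb ⊔ Sb).Normal := hsupK ▸ (hKS.comap π).map q hq
  -- `p`-elements of the image of `K` are central
  have hpel : ∀ x ∈ Kb, (∃ n, x ^ p ^ n = 1) → x ∈ Z := by
    rintro _ ⟨y, hy, rfl⟩ ⟨n, hn⟩
    have h1 : y ^ p ^ n ∈ L.comap π := hembL ((QuotientGroup.eq_one_iff _).mp (by
      show q (y ^ p ^ n) = 1
      rw [map_pow, hn]))
    rw [Subgroup.mem_comap, map_pow] at h1
    haveI : (L.subgroupOf K).Normal := Subgroup.Normal.subgroupOf inferInstance K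
    have hy' : π y ∈ K := hy
    let c : ↥K ⧸ L.subgroupOf K := ((⟨π y, hy'⟩ : K) : ↥K ⧸ L.subgroupOf K)
    have e1 : orderOf c ∣ p ^ n := orderOf_dvd_of_pow_eq_one (by
      rw [← QuotientGroup.mk_pow]
      exact (QuotientGroup.eq_one_iff _).mpr (Subgroup.mem_subgroupOf.mpr (by
        rw [Subgroup.coe_pow]; exact h1)))
    have e2 : orderOf c ∣ L.relIndex K := by
      rw [Subgroup.relIndex, Subgroup.index_eq_card]; exact orderOf_dvd_natCard c
    have e3 := orderOf_eq_one_iff.mp (eq_one_of_dvd_pow e1 fun h => hKL (h.trans e2))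
    rw [← hLZ]
    exact ⟨y, Subgroup.mem_subgroupOf.mp ((QuotientGroup.eq_one_iff _).mp e3), rfl⟩
  -- the Hall subgroup of order prime to `p`
  obtain ⟨R'⟩ := (inferInstance : Nonempty (Sylow p Kb))
  have hR'Z : ∀ r : Kb, r ∈ (R' : Subgroup Kb) → (r : CentralReduction.Bar L τ) ∈ Z := fun r hr => by
    obtain ⟨n, hn⟩ := R'.2 ⟨r, hr⟩
    refine hpel _ r.2 ⟨n, ?_⟩
    exact congrArg (fun z : (R' : Subgroup Kb) => ((z : Kb) : CentralReduction.Bar L τ)) hn
  have hR'c : ∀ r : Kb, r ∈ (R' : Subgroup Kb) → ∀ x : Kb, x * r = r * x := fun r hr x =>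
    Subtype.ext (Subgroup.mem_center_iff.mp (hZc (hR'Z r hr)) x)
  haveI : (R' : Subgroup Kb).Normal := ⟨fun r hr x => by rw [hR'c r hr x, mul_inv_cancel_right]; exact hr⟩
  obtain ⟨C0, hC0⟩ := Subgroup.exists_right_complement'_of_coprime (N := (R' : Subgroup Kb))
    R'.card_coprime_index
  have hC0p : ¬ p ∣ Nat.card C0 := hC0.symm.index_eq_card ▸ R'.not_dvd_index
  have hmem : ∀ x : Kb, x ∈ C0 ↔ ¬ p ∣ orderOf x := by
    intro x
    constructor
    · intro hx h
      refine hC0p (h.trans ?_)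
      simpa [Subgroup.orderOf_coe] using orderOf_dvd_natCard (⟨x, hx⟩ : C0)
    · intro hx
      obtain ⟨⟨r, c⟩, hrc⟩ := hC0.2 x
      have hrc' : (r : Kb) * (c : Kb) = x := hrc
      have hcomm : Commute (r : Kb) c := (hR'c r r.2 c).symm
      have h1 : x ^ Nat.card C0 = (r : Kb) ^ Nat.card C0 := by
        have hc1 : (c : Kb) ^ Nat.card C0 = 1 := congrArg Subtype.val (pow_card_eq_one' (x := c))
        rw [← hrc', hcomm.mul_pow, hc1, mul_one]
      obtain ⟨n, hn⟩ := R'.2 r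
      have hn' : (r : Kb) ^ p ^ n = 1 := congrArg Subtype.val hn
      have h2 : orderOf ((r : Kb) ^ Nat.card C0) ∣ p ^ n := orderOf_dvd_of_pow_eq_one (by
        rw [← pow_mul, mul_comm, pow_mul, hn', one_pow])
      have h3 : orderOf ((r : Kb) ^ Nat.card C0) ∣ orderOf x := h1 ▸ orderOf_pow_dvd _
      have h4 : (r : Kb) ^ Nat.card C0 = 1 :=
        orderOf_eq_one_iff.mp (eq_one_of_dvd_pow h2 fun h => hx (h.trans h3))
      have h5 := pow_gcd_eq_one.mpr ⟨hn', h4⟩
      rw [((hp.out.coprime_iff_not_dvd.mpr hC0p).pow_left n).gcd_eq_one, pow_one] at h5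
      rw [← hrc', h5, one_mul]
      exact c.2
  set K0 := C0.map Kb.subtype with hK0
  haveI : K0.Normal := by
    refine ⟨?_⟩
    rintro _ ⟨x, hx, rfl⟩ g
    refine ⟨⟨g * x * g⁻¹, hKbn.conj_mem _ x.2 g⟩, (hmem _).mpr ?_, rfl⟩
    have : orderOf (⟨g * x * g⁻¹, hKbn.conj_mem _ x.2 g⟩ : Kb) = orderOf x := by
      rw [← Subgroup.orderOf_coe, ← Subgroup.orderOf_coe]
      exact (MulAut.conj g).orderOf_eq (x : CentralReduction.Bar L τ)
    rw [this]
    exact (hmem x).mp hx
  have hK0p : ¬ p ∣ Nat.card K0 := by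
    rw [Nat.card_congr (C0.equivMapOfInjective Kb.subtype Kb.subtype_injective).toEquiv.symm]
    exact hC0p
  have hR'S : (R' : Subgroup Kb).map Kb.subtype ≤ Sb := by
    obtain ⟨Q, hQ⟩ := (R'.2.map Kb.subtype).exists_le_sylow
    let P : Sylow p (CentralReduction.Bar L τ) := IsPGroup.toSylow hSbp hSbidx
    obtain ⟨g, hg⟩ := MulAction.exists_smul_eq (CentralReduction.Bar L τ) Q P
    rintro _ ⟨r, hr, rfl⟩
    have h1 : g * r * g⁻¹ ∈ ((g • Q : Sylow p _) : Subgroup (CentralReduction.Bar L τ)) := by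
      rw [Sylow.coe_subgroup_smul]
      exact Subgroup.smul_mem_pointwise_smul _ (MulAut.conj g) _ (hQ ⟨r, hr, rfl⟩)
    rw [hg, Subgroup.mem_center_iff.mp (hZc (hR'Z r hr)) g, mul_inv_cancel_right] at h1
    exact h1
  have hK0S : K0 ⊔ Sb = Kb ⊔ Sb := by
    refine le_antisymm (sup_le_sup_right (Subgroup.map_subtype_le C0) Sb) (sup_le (fun x hx => ?_) le_sup_right)
    obtain ⟨⟨r, c⟩, hrc⟩ := hC0.2 ⟨x, hx⟩
    rw [show x = ((r : Kb) : CentralReduction.Bar L τ) * ((c : Kb) : CentralReduction.Bar L τ) from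
      (congrArg Subtype.val hrc).symm]
    exact Subgroup.mul_mem _ (Subgroup.mem_sup_right (hR'S ⟨r, r.2, rfl⟩))
      (Subgroup.mem_sup_left ⟨c, c.2, rfl⟩)
  haveI : (K0 ⊔ Sb).Normal := hK0S ▸ hKSn
  have hZKS : Z ≤ K0 ⊔ Sb := by
    rw [hK0S, ← hLZ]
    exact le_sup_of_le_left (Subgroup.map_mono (Subgroup.comap_mono hLK))
  -- the normalizer
  have hPb : ((L ⊔ S).comap π).map q = Z ⊔ Sb := by
    rw [← hcomap L le_rfl, Subgroup.map_sup, hLZ]
  have hbarN : CentralReduction.barOf L τ (Subgroup.normalizer ((L ⊔ S : Subgroup G) : Set G)) =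
      Subgroup.normalizer ((Z ⊔ Sb : Subgroup _) : Set (CentralReduction.Bar L τ)) := by
    have e1 : (L ⊔ S).comap π = (((L ⊔ S).comap π).map q).comap q := by
      rw [Subgroup.comap_map_eq_self]
      rw [hkq]
      exact hembL.trans (Subgroup.comap_mono le_sup_left)
    rw [CentralReduction.barOf, Subgroup.comap_normalizer_eq_of_surjective (L ⊔ S) hπ, e1, hPb,
      ← Subgroup.comap_normalizer_eq_of_surjective (Z ⊔ Sb) hq, Subgroup.map_comap_eq_self_of_surjective hq]
  have hnorm : Subgroup.normalizer ((Z ⊔ Sb : Subgroup _) : Set (CentralReduction.Bar L τ)) =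
      Subgroup.normalizer (Sb : Set (CentralReduction.Bar L τ)) := by
    ext g
    constructor
    · intro hg
      refine GoodCount.mem_normalizer_of_forall_conj fun s hs => ?_
      let S' := Sb.map (MulAut.conj g).toMonoidHom
      have hle : Z ⊔ Sb ≤ Subgroup.normalizer (Sb : Set (CentralReduction.Bar L τ)) := by
        refine sup_le (fun z hz => GoodCount.mem_normalizer_of_forall_conj fun t ht => ?_) Subgroup.le_normalizer
        rw [← Subgroup.mem_center_iff.mp (hZc hz) t, mul_inv_cancel_right]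
        exact ht
      have hS' : S' ≤ Subgroup.normalizer (Sb : Set (CentralReduction.Bar L τ)) := by
        rintro _ ⟨t, ht, rfl⟩
        exact hle ((Subgroup.mem_normalizer_iff.mp hg t).mp (Subgroup.mem_sup_right ht))
      have hsup : IsPGroup p ↥(Sb ⊔ S') := IsPGroup.to_sup_of_normal_left' hSbp (hSbp.map _) hS'
      have he : Sb ⊔ S' = Sb := by
        refine le_antisymm ?_ le_sup_left
        refine Subgroup.relIndex_eq_one.mp ?_
        obtain ⟨k, hk⟩ := relIndex_pgroup Sb hsup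
        refine eq_one_of_dvd_pow (k := k) (hk ▸ dvd_rfl) fun h => hSbidx (h.trans ?_)
        rw [← Subgroup.relIndex_mul_index (le_sup_left : Sb ≤ Sb ⊔ S')]
        exact dvd_mul_right _ _
      exact he.le (Subgroup.mem_sup_right ⟨s, hs, rfl⟩)
    · intro hg
      refine GoodCount.mem_normalizer_of_forall_conj fun w hw => ?_
      rw [sup_comm] at hw ⊢
      refine CoprimeTriple.conj_sup_mem (fun s hs => (Subgroup.mem_normalizer_iff.mp hg s).mp hs)
        (fun z hz => Subgroup.mem_sup_left ?_) hw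
      rw [Subgroup.mem_center_iff.mp (hZc hz) g, mul_inv_cancel_right]
      exact hz
  have htop : CentralReduction.barOf L τ (⊤ : Subgroup G) = ⊤ := by
    rw [CentralReduction.barOf, Subgroup.comap_top, ← MonoidHom.range_eq_map, MonoidHom.range_eq_top.mpr hq]
  have hZN : Z ≤ Subgroup.normalizer (Sb : Set (CentralReduction.Bar L τ)) :=
    hnorm ▸ le_sup_left.trans Subgroup.le_normalizer
  rw [cnt_congr p (MulEquiv.refl Z) ((MulEquiv.subgroupCongr htop).trans Subgroup.topEquiv)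
      (Subgroup.inclusion (CentralReduction.zb_le_barOf L τ ⊤)) Z.subtype (ζ : Z → ℂ) (ζ : Z → ℂ)
      (fun _ => rfl) (fun _ => rfl),
    cnt_congr p (MulEquiv.refl Z) (MulEquiv.subgroupCongr (hbarN.trans hnorm))
      (Subgroup.inclusion (CentralReduction.zb_le_barOf L τ _)) (Subgroup.inclusion hZN) (ζ : Z → ℂ) (ζ : Z → ℂ)
      (fun _ => rfl) (fun _ => rfl)]
  exact SylowKernel.count K0 Sb Z hK0p hSbp hSbidx hZc hZKS ζ hZN

variable {H : Type u} [Group H] [Finite H]

/-- A conjugation inside the fixer of a character. -/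
theorem exists_sylow_conj {T S : Subgroup H} (hST : S ≤ T) (hS : IsPGroup p S) (hidx : ¬ p ∣ S.relIndex T)
    {m : H} (hm : ∀ s ∈ S, m * s * m⁻¹ ∈ T) :
    ∃ t ∈ T, ∀ s ∈ S, (t * m) * s * (t * m)⁻¹ ∈ S := by
  let S' := S.map (MulAut.conj m).toMonoidHom
  have hS'T : S' ≤ T := by
    rintro _ ⟨s, hs, rfl⟩
    exact hm s hs
  have e2 : S'.relIndex T = S.relIndex T := by
    refine Nat.eq_of_mul_eq_mul_left (Nat.card_pos (α := S')) ?_
    conv_rhs => rw [show Nat.card S' = Nat.card S from Subgroup.card_map_of_injective (MulAut.conj m).injective,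
      Subgroup.relIndex, ← Nat.card_congr (Subgroup.subgroupOfEquivOfLe hST).toEquiv, Subgroup.card_mul_index]
    rw [Subgroup.relIndex, ← Nat.card_congr (Subgroup.subgroupOfEquivOfLe hS'T).toEquiv, Subgroup.card_mul_index]
  let P : Sylow p T := IsPGroup.toSylow (hS.comap_subtype (K := T)) hidx
  let Q : Sylow p T := IsPGroup.toSylow ((hS.map (MulAut.conj m).toMonoidHom).comap_subtype (K := T))
    (show ¬ p ∣ (S'.subgroupOf T).index by rw [show (S'.subgroupOf T).index = S'.relIndex T from rfl, e2]; exact hidx)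
  obtain ⟨t, ht⟩ := MulAction.exists_smul_eq T Q P
  refine ⟨t, t.2, fun s hs => ?_⟩
  have h1 : t * ⟨m * s * m⁻¹, hm s hs⟩ * t⁻¹ ∈ ((t • Q : Sylow p T) : Subgroup T) := by
    rw [Sylow.coe_subgroup_smul]
    exact Subgroup.smul_mem_pointwise_smul _ (MulAut.conj t) _
      (show (⟨m * s * m⁻¹, hm s hs⟩ : T) ∈ S'.subgroupOf T from ⟨s, hs, rfl⟩)
  rw [ht] at h1
  have h2 : (t : H) * (m * s * m⁻¹) * (t : H)⁻¹ ∈ S := h1
  rw [mul_inv_rev]
  simpa [mul_assoc] using h2

/-- Passing to an intermediate normal subgroup. -/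
theorem transfer_step {L K M S : Subgroup H} (hLK : L ≤ K) (hKM : K ≤ M) (hSM : S ≤ M)
    (hML : ∀ m ∈ M, ∀ l ∈ L, m * l * m⁻¹ ∈ L) (hMK : ∀ m ∈ M, ∀ l ∈ K, m * l * m⁻¹ ∈ K)
    (hS : IsPGroup p S) (hidx : ¬ p ∣ S.relIndex M) (ν : IrrCharacter L)
    (hν : ∀ m ∈ M, Conj L m (ν : L → ℂ) (ν : L → ℂ))
    (hKN : K ≤ M ⊓ Subgroup.normalizer ((K ⊔ S : Subgroup H) : Set H))
    (h : ∀ μ : IrrCharacter K, (∀ s ∈ S, Conj K s (μ : K → ℂ) (μ : K → ℂ)) →
      cnt p (Subgroup.inclusion hKM) (μ : K → ℂ) = cnt p (Subgroup.inclusion hKN) (μ : K → ℂ)) :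
    cnt p (Subgroup.inclusion (hLK.trans hKM)) (ν : L → ℂ) =
      cnt p (Subgroup.inclusion (hLK.trans hKN)) (ν : L → ℂ) := by
  classical
  haveI := Fintype.ofFinite H
  set M1 := M ⊓ Subgroup.normalizer ((K ⊔ S : Subgroup H) : Set H)
  haveI := Fintype.ofFinite (IrrCharacter K)
  have hSM1 : S ≤ M1 := le_inf hSM (le_sup_right.trans Subgroup.le_normalizer)
  have hM1M : M1 ≤ M := inf_le_left
  have hidx1 : ¬ p ∣ S.relIndex M1 := fun hd => hidx (by
    rw [← Subgroup.relIndex_mul_relIndex S M1 M hSM1 hM1M]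
    exact hd.trans (dvd_mul_right _ _))
  let P : IrrCharacter K → Prop := fun φ => ∀ s ∈ S, Conj K s (φ : K → ℂ) (φ : K → ℂ)
  apply Nat.cast_injective (R := ℚ)
  rw [cnt_decompose p hLK hKM hMK ν hML hν P (fun χ hχ _ => by
      obtain ⟨φ, h1, h2⟩ := exists_fixed p hKM hMK hSM hS hidx χ hχ
      exact ⟨φ, h2, h1⟩),
    cnt_decompose p hLK hKN (fun m hm => hMK m (hM1M hm)) ν (fun m hm => hML m (hM1M hm))
      (fun m hm => hν m (hM1M hm)) P (fun χ hχ _ => by
      obtain ⟨φ, h1, h2⟩ := exists_fixed p hKN (fun m hm => hMK m (hM1M hm)) hSM1 hS hidx1 χ hχ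
      exact ⟨φ, h2, h1⟩)]
  refine Finset.sum_congr rfl fun φ _ => ?_
  split_ifs with hc
  swap
  · rfl
  rw [h φ hc.1]
  congr 2
  refine Nat.card_congr (Equiv.subtypeEquivRight fun φ' => and_congr_right fun hφ' =>
    ⟨?_, fun ⟨m, hm, hmc⟩ => ⟨m, hM1M hm, hmc⟩⟩)
  rintro ⟨m, hm, hmc⟩
  let T : Subgroup H :=
    { carrier := {t | t ∈ M ∧ Conj K t (φ' : K → ℂ) (φ' : K → ℂ)}
      one_mem' := ⟨M.one_mem, conj_one _⟩
      mul_mem' := fun {a b} ha hb => ⟨M.mul_mem ha.1 hb.1, Conj.mul (hMK b hb.1) hb.2 ha.2⟩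
      inv_mem' := fun {a} ha => ⟨M.inv_mem ha.1, ha.2.inv⟩ }
  have hST : S ≤ T := fun s hs => ⟨hSM hs, hφ' s hs⟩
  obtain ⟨t, ht, htm⟩ := exists_sylow_conj hST hS (fun hd => hidx (by
      rw [← Subgroup.relIndex_mul_relIndex S T M hST (fun t ht => ht.1)]
      exact hd.trans (dvd_mul_right _ _)))
    (m := m) (fun s hs => ⟨M.mul_mem (M.mul_mem hm (hSM hs)) (M.inv_mem hm), by
      have := Conj.mul (hMK m⁻¹ (M.inv_mem hm)) hmc.inv (Conj.mul (hMK s (hSM hs)) (hc.1 s hs) hmc)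
      exact this⟩)
  refine ⟨t * m, ⟨M.mul_mem ht.1 hm, GoodCount.mem_normalizer_of_forall_conj fun x hx => ?_⟩,
    Conj.mul (hMK m hm) hmc ht.2⟩
  exact CoprimeTriple.conj_sup_mem (hMK _ (M.mul_mem ht.1 hm))
    (fun s hs => Subgroup.mem_sup_left (htm s hs)) hx

theorem cnt_eq_zero {L M : Subgroup H} (hLM : L ≤ M) (hML : ∀ m ∈ M, ∀ l ∈ L, m * l * m⁻¹ ∈ L)
    (ν : IrrCharacter L) (hd : p ∣ deg (ν : L → ℂ)) :
    cnt p (Subgroup.inclusion hLM) (ν : L → ℂ) = 0 := by
  haveI := Fintype.ofFinite H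
  refine Nat.card_eq_zero.mpr (Or.inl ⟨fun χ => χ.2.1 ?_⟩)
  obtain ⟨k, hk, -⟩ := SylowKernel.dvd_deg_quotient hLM hML ν χ.1 χ.2.2
  exact hk ▸ hd.trans (dvd_mul_left _ _)

theorem main [Fintype H] (hH : IsPSolvable p H) : ∀ (n : ℕ) (L M S N : Subgroup H), L.relIndex M ≤ n →
    ∀ (hLM : L ≤ M), (∀ m ∈ M, ∀ l ∈ L, m * l * m⁻¹ ∈ L) → S ≤ M → IsPGroup p S →
    ¬ p ∣ S.relIndex M → ∀ ν : IrrCharacter L, (∀ s ∈ S, Conj L s (ν : L → ℂ) (ν : L → ℂ)) →
    N = M ⊓ Subgroup.normalizer ((L ⊔ S : Subgroup H) : Set H) → ∀ (hLN : L ≤ N),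
    cnt p (Subgroup.inclusion hLM) (ν : L → ℂ) = cnt p (Subgroup.inclusion hLN) (ν : L → ℂ) := by
  classical
  intro n
  induction n with
  | zero =>
    intro L M S N hn
    exact absurd (Nat.le_zero.mp hn) Subgroup.index_ne_zero_of_finite
  | succ n ih =>
  intro L M S N hn hLM hML hSM hS hidx ν hν hN hLN
  have hNM : N ≤ M := hN.le.trans inf_le_left
  have hSN : S ≤ N := hN.ge.trans' (le_inf hSM (le_sup_right.trans Subgroup.le_normalizer))
  by_cases hd : p ∣ deg (ν : L → ℂ)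
  · rw [cnt_eq_zero hLM hML ν hd, cnt_eq_zero hLN (fun m hm => hML m (hNM hm)) ν hd]
  let T : Subgroup H :=
    { carrier := {t | t ∈ M ∧ Conj L t (ν : L → ℂ) (ν : L → ℂ)}
      one_mem' := ⟨M.one_mem, conj_one _⟩
      mul_mem' := fun {a b} ha hb => ⟨M.mul_mem ha.1 hb.1, Conj.mul (hML b hb.1) hb.2 ha.2⟩
      inv_mem' := fun {a} ha => ⟨M.inv_mem ha.1, ha.2.inv⟩ }
  have hTM : T ≤ M := fun t ht => ht.1
  have hLT : L ≤ T := fun l hl => ⟨hLM hl, CoprimeTriple.fix_of_mem (isClassFunction_of_isIrr ν.2) hl⟩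
  have hST : S ≤ T := fun s hs => ⟨hSM hs, hν s hs⟩
  by_cases hT : T = M
  swap
  · -- Clifford's correspondence
    have hlt : L.relIndex T < L.relIndex M := by
      have e := Subgroup.relIndex_mul_relIndex L T M hLT hTM
      have h1 : T.relIndex M ≠ 1 := fun h => hT (le_antisymm hTM (Subgroup.relIndex_eq_one.mp h))
      have h2 : T.relIndex M ≠ 0 := Subgroup.index_ne_zero_of_finite
      have h3 : L.relIndex T ≠ 0 := Subgroup.index_ne_zero_of_finite
      rw [← e]
      exact lt_mul_of_one_lt_right (Nat.pos_of_ne_zero h3) (by omega)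
    have hidxT : ¬ p ∣ S.relIndex T := fun hd' => hidx (by
      rw [← Subgroup.relIndex_mul_relIndex S T M hST hTM]
      exact hd'.trans (dvd_mul_right _ _))
    have hLTN : L ≤ T ⊓ N := le_inf hLT hLN
    have e := ih L T S (T ⊓ N) (by omega) hLT (fun m hm => hML m hm.1) hST hS hidxT ν hν
      (by rw [hN, ← inf_assoc, inf_eq_left.mpr hTM]) hLTN
    rw [cnt_inertia p hLT hTM hML ν (fun m hm h => ⟨hm, h⟩)
        (fun hd' => hidx (hd'.trans (Subgroup.relIndex_dvd_of_le_left M hST))), e,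
      cnt_inertia p hLTN (inf_le_right : T ⊓ N ≤ N) (fun m hm => hML m (hNM hm)) ν
        (fun m hm h => ⟨⟨hNM hm, h⟩, hm⟩)
        (fun hd' => hidx (by
          rw [← Subgroup.relIndex_mul_relIndex S N M hSN hNM]
          exact (hd'.trans (Subgroup.relIndex_dvd_of_le_left N (le_inf hST hSN))).trans (dvd_mul_right _ _)))]
  have hinv : ∀ m ∈ M, Conj L m (ν : L → ℂ) (ν : L → ℂ) := fun m hm => (hT.ge hm).2
  by_cases hNeq : N = M
  · subst hNeq; rfl
  -- a section of the chain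
  obtain ⟨r, Hc, h0, h1, hmono, hnorm, hfac⟩ := hH
  let A : Fin (r + 1) → Subgroup H := fun i => L ⊔ (Hc i ⊓ M)
  have hAlast : A (Fin.last r) = M := by
    show L ⊔ (Hc (Fin.last r) ⊓ M) = M
    rw [h1, top_inf_eq, sup_eq_right.mpr hLM]
  have hAzero : A 0 = L := by
    show L ⊔ (Hc 0 ⊓ M) = L
    rw [h0, bot_inf_eq, sup_bot_eq]
  obtain ⟨i, hi0, hi1⟩ : ∃ i : Fin r, A i.castSucc = L ∧ A i.succ ≠ L := by
    by_contra hne
    push Not at hne
    have hall : ∀ i, A i = L := fun i => Fin.induction hAzero (fun j hj => hne j hj) i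
    have hLMeq : M = L := hAlast.symm.trans (hall _)
    refine hNeq (le_antisymm hNM ?_)
    rw [hN, hLMeq]
    exact le_inf le_rfl (le_sup_left.trans Subgroup.le_normalizer)
  set K := A i.succ with hK
  have hLK : L ≤ K := le_sup_left
  have hKM : K ≤ M := sup_le hLM inf_le_right
  haveI := hnorm i.succ
  haveI := hnorm i.castSucc
  have hMK : ∀ m ∈ M, ∀ x ∈ K, m * x * m⁻¹ ∈ K := fun m hm x hx =>
    CoprimeTriple.conj_sup_mem (K := L) (A := Hc i.succ ⊓ M) (hML m hm) (fun a ha => Subgroup.mem_sup_left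
      (show m * a * m⁻¹ ∈ Hc i.succ ⊓ M from
        ⟨Subgroup.Normal.conj_mem inferInstance a ha.1 m, M.mul_mem (M.mul_mem hm ha.2) (M.inv_mem hm)⟩)) hx
  haveI : (L.subgroupOf M).Normal := ⟨fun x hx m => hML m m.2 _ hx⟩
  haveI : (K.subgroupOf M).Normal := ⟨fun x hx m => hMK m m.2 _ hx⟩
  have hdvd : L.relIndex K ∣ (Hc i.castSucc).relIndex (Hc i.succ) := by
    have hle0 : Hc i.castSucc ⊓ M ≤ L := (le_sup_right : _ ≤ A i.castSucc).trans hi0.le
    have e1 : L.relIndex K = L.relIndex (Hc i.succ ⊓ M) := by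
      rw [← Subgroup.relIndex_subgroupOf hKM,
        ← Subgroup.relIndex_subgroupOf (inf_le_right : Hc i.succ ⊓ M ≤ M),
        show K.subgroupOf M = (Hc i.succ ⊓ M).subgroupOf M ⊔ L.subgroupOf M by
          rw [hK, ← Subgroup.subgroupOf_sup inf_le_right hLM, sup_comm]]
      exact Subgroup.relIndex_sup_right _ _
    rw [e1]
    refine (Subgroup.relIndex_dvd_of_le_left _ (show Hc i.castSucc ⊓ (Hc i.succ ⊓ M) ≤ L from
      fun x hx => hle0 ⟨hx.1, hx.2.2⟩)).trans ?_
    rw [Subgroup.inf_relIndex_right, ← Subgroup.relIndex_subgroupOf (inf_le_left : Hc i.succ ⊓ M ≤ Hc i.succ)]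
    exact Subgroup.relIndex_dvd_index_of_normal _ _
  have hKN : K ≤ M ⊓ Subgroup.normalizer ((K ⊔ S : Subgroup H) : Set H) :=
    le_inf hKM (le_sup_left.trans Subgroup.le_normalizer)
  have hltK : L.relIndex K ≠ 1 := fun h => hi1 (le_antisymm (Subgroup.relIndex_eq_one.mp h) le_sup_left)
  have hltM : K.relIndex M < L.relIndex M := by
    rw [← Subgroup.relIndex_mul_relIndex L K M hLK hKM]
    have h2 : L.relIndex K ≠ 0 := Subgroup.index_ne_zero_of_finite
    have h3 : K.relIndex M ≠ 0 := Subgroup.index_ne_zero_of_finite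
    exact lt_mul_of_one_lt_left (Nat.pos_of_ne_zero h3) (by omega)
  have hstep := transfer_step hLK hKM hSM hML hMK hS hidx ν hinv hKN fun μ hμ =>
    ih K M S _ (by omega) hKM hMK hSM hS hidx μ hμ rfl hKN
  rw [hstep]
  set M1 := M ⊓ Subgroup.normalizer ((K ⊔ S : Subgroup H) : Set H) with hM1
  have hM1M : M1 ≤ M := inf_le_left
  have hidxM : ¬ p ∣ (S.subgroupOf M).index := hidx
  rcases hfac i with ⟨a, ha⟩ | hcop
  · -- a `p`-section
    have hle : K ≤ L ⊔ S := by
      have h := le_sup_of_pow (L.subgroupOf M) (K.subgroupOf M) (S.subgroupOf M)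
        (Subgroup.comap_mono hLK) hS.comap_subtype hidxM (k := a)
        (by rw [Subgroup.relIndex_subgroupOf hKM]; exact ha ▸ hdvd)
      intro x hx
      have := h (show (⟨x, hKM hx⟩ : M) ∈ K.subgroupOf M from hx)
      rw [← Subgroup.subgroupOf_sup hLM hSM] at this
      exact this
    have e : K ⊔ S = L ⊔ S := le_antisymm (sup_le hle le_sup_right) (sup_le_sup_right hLK S)
    have eN : M1 = N := by rw [hN, hM1, e]
    exact cnt_congr p (MulEquiv.refl L) (MulEquiv.subgroupCongr eN) _ _ _ _ (fun _ => rfl) (fun _ => rfl)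
  have hKp : ¬ p ∣ L.relIndex K := fun h =>
    hp.out.one_lt.ne' (Nat.Coprime.eq_one_of_dvd hcop.symm (h.trans hdvd))
  have hNM1 : N ≤ M1 := fun g hg => by
    have hg' := hN.le hg
    refine ⟨hg'.1, GoodCount.mem_normalizer_of_forall_conj fun x hx => ?_⟩
    refine CoprimeTriple.conj_sup_mem (hMK g hg'.1) (fun s hs => ?_) hx
    have h1 : g * s * g⁻¹ ∈ L ⊔ S := (Subgroup.mem_normalizer_iff.mp hg'.2 s).mp (Subgroup.mem_sup_right hs)
    rw [sup_comm S K]
    exact sup_le_sup_right hLK S h1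
  have hSM1 : S ≤ M1 := le_inf hSM (le_sup_right.trans Subgroup.le_normalizer)
  by_cases hM1eq : M1 = M
  swap
  · have hlt : L.relIndex M1 < L.relIndex M := by
      rw [← Subgroup.relIndex_mul_relIndex L M1 M (hLK.trans hKN) hM1M]
      have h1 : M1.relIndex M ≠ 1 := fun h => hM1eq (le_antisymm hM1M (Subgroup.relIndex_eq_one.mp h))
      have h2 : M1.relIndex M ≠ 0 := Subgroup.index_ne_zero_of_finite
      have h3 : L.relIndex M1 ≠ 0 := Subgroup.index_ne_zero_of_finite
      exact lt_mul_of_one_lt_right (Nat.pos_of_ne_zero h3) (by omega)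
    refine ih L M1 S N (by omega) (hLK.trans hKN) (fun m hm => hML m hm.1) hSM1 hS
      (fun hd' => hidx (by
        rw [← Subgroup.relIndex_mul_relIndex S M1 M hSM1 hM1M]
        exact hd'.trans (dvd_mul_right _ _))) ν hν ?_ hLN
    refine le_antisymm (le_inf hNM1 (hN.le.trans inf_le_right)) ?_
    rw [hN]
    exact inf_le_inf_right _ hM1M
  -- the central case
  haveI hKSn : ((K.subgroupOf M) ⊔ (S.subgroupOf M)).Normal := by
    rw [← Subgroup.subgroupOf_sup hKM hSM]
    exact ⟨fun x hx m => (Subgroup.mem_normalizer_iff.mp (hM1eq.ge m.2).2 _).mp hx⟩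
  haveI := Fintype.ofFinite M
  let eL := Subgroup.subgroupOfEquivOfLe hLM
  let ν' : IrrCharacter ↥(L.subgroupOf M) := ⟨_, isIrrCharacter_comp eL.toMonoidHom eL.surjective ν.2⟩
  obtain ⟨d, τ, hτ, hτν⟩ := ν'.2
  haveI := hτ
  have hdd : ¬ p ∣ d := by
    intro h
    refine hd ?_
    have : deg (ν : L → ℂ) = d := by
      have e1 : deg (ν' : ↥(L.subgroupOf M) → ℂ) = deg (ν : L → ℂ) := by
        simp [deg, ν']
      rw [← e1, ← hτν]
      simp [deg, Representation.char_one]
    rwa [this]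
  have hinv' : ∀ g : M, Conj (L.subgroupOf M) g τ.character τ.character := fun g k k' he => by
    rw [hτν]
    exact hinv g g.2 (eL k) (eL k') (congrArg Subtype.val he)
  have hPN : (Subgroup.normalizer (((L.subgroupOf M) ⊔ (S.subgroupOf M) : Subgroup M) : Set M)).map M.subtype = N := by
    rw [hN, ← Subgroup.subgroupOf_sup hLM hSM]
    ext g
    constructor
    · rintro ⟨g, hg, rfl⟩
      refine ⟨g.2, GoodCount.mem_normalizer_of_forall_conj fun x hx => ?_⟩
      exact (Subgroup.mem_normalizer_iff.mp hg ⟨x, sup_le hLM hSM hx⟩).mp hx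
    · rintro ⟨hgM, hg⟩
      exact ⟨⟨g, hgM⟩, GoodCount.mem_normalizer_of_forall_conj fun x hx =>
        (Subgroup.mem_normalizer_iff.mp hg _).mp hx, rfl⟩
  have hLN' : L.subgroupOf M ≤ Subgroup.normalizer (((L.subgroupOf M) ⊔ (S.subgroupOf M) : Subgroup M) : Set M) :=
    le_sup_left.trans Subgroup.le_normalizer
  have key := count_aux (L.subgroupOf M) (K.subgroupOf M) (S.subgroupOf M) (Subgroup.comap_mono hLK)
    (by rw [Subgroup.relIndex_subgroupOf hKM]; exact hKp) hS.comap_subtype hidxM hKSn τ hdd hinv' hLN'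
  rw [hτν] at key
  rw [← cnt_congr p eL (Subgroup.topEquiv.trans (MulEquiv.subgroupCongr hM1eq.symm))
      (Subgroup.inclusion (le_top : L.subgroupOf M ≤ ⊤)) (Subgroup.inclusion (hLK.trans hKN))
      (ν' : ↥(L.subgroupOf M) → ℂ) (ν : L → ℂ) (fun _ => rfl) (fun _ => rfl),
    ← cnt_congr p eL ((Subgroup.equivMapOfInjective _ M.subtype M.subtype_injective).trans
        (MulEquiv.subgroupCongr hPN))
      (Subgroup.inclusion hLN') (Subgroup.inclusion hLN)
      (ν' : ↥(L.subgroupOf M) → ℂ) (ν : L → ℂ) (fun _ => rfl) (fun _ => rfl)]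
  exact key

end Cfsg.Agent.RelMcKay
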