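import Cfsg.Agent.Lib.CT.Brauer
import Cfsg.Agent.Lib.CT.Integral
import Cfsg.Prelude.Def_Blocks
import Mathlib.GroupTheory.Nilpotent
import Mathlib.Data.Nat.ChineseRemainder

/-!
# The indicator of a π-section as a combination of characters with algebraic integer coefficients
-/

namespace Cfsg.Agent.CT

open scoped ComplexConjugate Classical

universe u

/-- The power map onto a Hall part of a nilpotent group is a homomorphism. -/
theorem mul_pow_of_nilpotent {E : Type u} [Group E] [Finite E] [Group.IsNilpotent E] {m n k : ℕ}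
    (hcard : Nat.card E ∣ m * n) (hk0 : k ≡ 0 [MOD m]) (hk1 : k ≡ 1 [MOD n]) (a b : E) :
    (a * b) ^ k = a ^ k * b ^ k := by
  obtain ⟨e⟩ := ((Group.isNilpotent_of_finite_tfae (G := E)).out 0 4).mp ‹_›
  apply e.symm.injective
  funext q P
  simp only [map_pow, map_mul, Pi.pow_apply, Pi.mul_apply]
  haveI : Fact (q : ℕ).Prime := ⟨Nat.prime_of_mem_primeFactors q.2⟩
  have hcases : (∀ x : (P : Subgroup E), x ^ k = 1) ∨ ∀ x : (P : Subgroup E), x ^ k = x := by
    obtain ⟨t, ht⟩ := IsPGroup.iff_card.mp P.2
    rcases Nat.eq_zero_or_pos t with rfl | htp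
    · left
      intro x
      haveI : Subsingleton (P : Subgroup E) := (Nat.card_eq_one_iff_unique.mp (by rw [ht, pow_zero])).1
      exact Subsingleton.elim _ _
    have hd : (q : ℕ) ^ t ∣ m * n := ht ▸ (Subgroup.card_subgroup_dvd_card _).trans hcard
    by_cases hm : (q : ℕ) ∣ m
    · left
      intro x
      have hn : ¬ (q : ℕ) ∣ n := fun hn => by
        have h0 := (hk0.of_dvd hm).symm.trans (hk1.of_dvd hn)
        rw [Nat.modEq_iff_dvd' (Nat.zero_le 1)] at h0
        exact (Fact.out : (q : ℕ).Prime).not_dvd_one h0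
      have hqm : (q : ℕ) ^ t ∣ m :=
        (((Fact.out : (q : ℕ).Prime).coprime_iff_not_dvd.mpr hn).pow_left t).dvd_of_dvd_mul_right hd
      exact orderOf_dvd_iff_pow_eq_one.mp
        ((orderOf_dvd_natCard x).trans (ht ▸ hqm.trans (Nat.modEq_zero_iff_dvd.mp hk0)))
    · right
      intro x
      have hqn : (q : ℕ) ^ t ∣ n :=
        (((Fact.out : (q : ℕ).Prime).coprime_iff_not_dvd.mpr hm).pow_left t).dvd_of_dvd_mul_left hd
      conv_rhs => rw [← pow_one x]
      exact pow_eq_pow_iff_modEq.mpr (hk1.of_dvd ((orderOf_dvd_natCard x).trans (ht ▸ hqn)))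
  rcases hcases with h | h <;> simp [h]

variable {G : Type u} [Group G] [Fintype G]

theorem algInt_classInner_sum {ι : Type*} (s : Finset ι) (a : ι → ℂ) (f : ι → G → ℂ)
    (ha : ∀ i ∈ s, a i ∈ Cfsg.AlgInt) (hf : ∀ i ∈ s, IsCharacter G (f i)) {χ : G → ℂ}
    (hχ : IsCharacter G χ) : classInner (∑ i ∈ s, a i • f i) χ ∈ Cfsg.AlgInt := by
  rw [classInner_sum_left]
  refine Subalgebra.sum_mem _ fun i hi => ?_
  rw [classInner_smul_left, mult_spec (hf i hi) hχ]
  exact Subalgebra.mul_mem _ (ha i hi) (Subalgebra.natCast_mem _ _)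

/-- The indicator of the section of `g`, scaled by the Hall order, has algebraic integer
coefficients. -/
theorem section_indicator_coeff {m n k : ℕ} (hmn : Nat.card G = m * n) (hk0 : k ≡ 0 [MOD m])
    (hk1 : k ≡ 1 [MOD n]) (hcop : m.Coprime n) (g : G) (χ : IrrCharacter G) :
    classInner (fun x : G => if IsConj (x ^ k) g then (n : ℂ) else 0) (χ : G → ℂ) ∈ Cfsg.AlgInt := by
  set ϑ : G → ℂ := fun x => if IsConj (x ^ k) g then (n : ℂ) else 0 with hϑ
  have hcl : IsClassFunction G ϑ := fun x c => by
    simp only [hϑ]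
    have : IsConj ((c * x * c⁻¹) ^ k) (x ^ k) := by
      rw [conj_pow]; exact (isConj_iff.mpr ⟨c, rfl⟩).symm
    refine if_congr ⟨fun h => this.symm.trans h, fun h => this.trans h⟩ rfl rfl
  have hle : ∀ f ∈ ⨆ q : {q : ℕ // q.Prime}, elemGen q.1 G,
      ∀ χ : IrrCharacter G, classInner (f * ϑ) (χ : G → ℂ) ∈ Cfsg.AlgInt := by
    intro f hf
    induction hf using AddSubgroup.iSup_induction' with
    | hp q x hx =>
      induction hx using AddSubgroup.closure_induction with
      | mem f hf =>
        obtain ⟨E, η, hEl, hη, rfl⟩ := hf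
        intro χ
        haveI := isNilpotent_of_isElementary q.2 hEl
        have hEc : Nat.card E ∣ m * n := hmn ▸ Subgroup.card_subgroup_dvd_card E
        let π : E →* E := MonoidHom.mk' (fun e => e ^ k) (mul_pow_of_nilpotent hEc hk0 hk1)
        let R := π.range
        have hR : Nat.card R ∣ n := by
          have hcopR : (Nat.card R).Coprime m := by
            refine Nat.coprime_of_dvd fun r hr h1 h2 => ?_
            haveI := Fact.mk hr
            obtain ⟨⟨y, e, rfl⟩, hy⟩ := exists_prime_orderOf_dvd_card' r h1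
            rw [← Subgroup.orderOf_coe] at hy
            change orderOf (π e) = r at hy
            have h3 : (π e) ^ n = 1 := by
              show (e ^ k) ^ n = 1
              rw [← pow_mul, ← orderOf_dvd_iff_pow_eq_one]
              exact ((orderOf_dvd_natCard e).trans hEc).trans
                (Nat.mul_dvd_mul_right (Nat.modEq_zero_iff_dvd.mp hk0) n)
            have h4 : r ∣ n := hy ▸ orderOf_dvd_of_pow_eq_one h3
            exact hr.not_dvd_one (hcop ▸ Nat.dvd_gcd h2 h4)
          exact hcopR.dvd_of_dvd_mul_left ((Subgroup.card_subgroup_dvd_card R).trans hEc)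
        obtain ⟨d, hd⟩ := hR
        letI := Fintype.ofFinite R
        let F : R → ℂ := fun s => if IsConj ((s : E) : G) g then (n : ℂ) else 0
        have hFc : IsClassFunction R F := fun s c => by
          simp only [F]
          have : IsConj (((c * s * c⁻¹ : R) : E) : G) ((s : E) : G) :=
            (isConj_iff.mpr ⟨((c : E) : G), by simp⟩).symm
          refine if_congr ⟨fun h => this.symm.trans h, fun h => this.trans h⟩ rfl rfl
        have hres : (fun e : E => ϑ e) =
            ∑ ξ : IrrCharacter R, classInner F (ξ : R → ℂ) • fun e : E =>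
              (ξ : R → ℂ) (π.rangeRestrict e) := by
          funext e
          have h := congrFun (classFunction_eq_sum hFc) (π.rangeRestrict e)
          simp only [Finset.sum_apply, Pi.smul_apply] at h ⊢
          rw [← h]
          simp [F, hϑ, π]
        have hcoef : ∀ ξ : IrrCharacter R, classInner F (ξ : R → ℂ) ∈ Cfsg.AlgInt := by
          intro ξ
          rw [classInner, Finset.mul_sum]
          refine Subalgebra.sum_mem _ fun s _ => ?_
          simp only [F]
          split_ifs
          · rw [hd, Nat.cast_mul, mul_assoc, inv_mul_cancel_left₀ card_ne_zero]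
            exact Subalgebra.mul_mem _ (Subalgebra.natCast_mem _ _)
              (isIntegral_conj (isIntegral_isCharacter (isCharacter_of_isIrr ξ.2) s))
          · simp
        rw [← indFun_mul_restrict E η hcl, frobenius_reciprocity E _ (isClassFunction_of_isIrr χ.2),
          hres, Finset.mul_sum]
        simp only [mul_smul_comm]
        exact algInt_classInner_sum _ _ _ (fun ξ _ => hcoef ξ)
          (fun ξ _ => isCharacter_mul hη (isCharacter_comp π.rangeRestrict (isCharacter_of_isIrr ξ.2)))
          (isCharacter_restrict E (isCharacter_of_isIrr χ.2))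
      | zero => intro χ; simp [classInner]
      | add a b _ _ iha ihb =>
        intro χ; rw [add_mul, classInner_add_left]; exact Subalgebra.add_mem _ (iha χ) (ihb χ)
      | neg a _ iha => intro χ; rw [neg_mul, classInner_neg_left]; exact neg_mem (iha χ)
    | h1 => intro χ; simp [classInner]
    | hadd a b _ _ iha ihb =>
      intro χ; rw [add_mul, classInner_add_left]; exact Subalgebra.add_mem _ (iha χ) (ihb χ)
  have h := hle _ one_mem_sup_elemGen χ
  convert h using 2
  funext x
  simp

/-- The Hall part of a decomposed element is a fixed power. -/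
theorem pow_eq_of_decomp {m n k : ℕ} (hmn : Nat.card G = m * n) (hk0 : k ≡ 0 [MOD m])
    (hk1 : k ≡ 1 [MOD n]) {x u v : G} (h : x = u * v) (hc : Commute u v)
    (hu : Nat.Coprime (orderOf u) n) (hv : Nat.Coprime (orderOf v) m) : x ^ k = v := by
  have hu' : orderOf u ∣ m := hu.dvd_of_dvd_mul_right (hmn ▸ orderOf_dvd_natCard u)
  have hv' : orderOf v ∣ n := hv.dvd_of_dvd_mul_left (hmn ▸ orderOf_dvd_natCard v)
  rw [h, hc.mul_pow, orderOf_dvd_iff_pow_eq_one.mp (hu'.trans (Nat.modEq_zero_iff_dvd.mp hk0)),
    one_mul]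
  conv_rhs => rw [← pow_one v]
  exact pow_eq_pow_iff_modEq.mpr (hk1.of_dvd hv')

end Cfsg.Agent.CT
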