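import Cfsg.Agent.Lib.CT.Exceptional
import Cfsg.Agent.Lib.CT.Kernel
import Cfsg.Agent.Lib.CT.Clifford
import Mathlib.GroupTheory.Sylow

/-!
# Characters of groups with a self-centralizing subgroup of prime order
-/

set_option autoImplicit false
set_option linter.unusedSectionVars false

namespace Cfsg.Agent.CT.SelfCentralP

open scoped ComplexConjugate

universe u

/-- `P` is a self-centralizing Sylow subgroup of prime order `p`. -/
structure Hyp (G : Type u) [Group G] (P : Subgroup G) (p : ℕ) : Prop where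
  prime : p.Prime
  card : Nat.card P = p
  cent : ∀ g : G, (∀ y ∈ P, g * y = y * g) → g ∈ P
  sq : ¬ p ^ 2 ∣ Nat.card G

variable {G : Type u} [Group G] {P : Subgroup G} {p : ℕ}

/-- Multiplicities in the restriction to `P`. -/
noncomputable def mu (P : Subgroup G) [Fintype P] (χ : G → ℂ) (c : IrrCharacter P) : ℕ :=
  mult (fun y : P => χ y) (c : P → ℂ)

section normalizerAction

variable [Fintype G] [Fintype P]

theorem mu_spec {χ : G → ℂ} (hχ : IsCharacter G χ) (c : IrrCharacter P) :
    classInner (fun y : P => χ y) (c : P → ℂ) = (mu P χ c : ℂ) :=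
  mult_spec (isCharacter_restrict P hχ) (isCharacter_of_isIrr c.2)

/-- Conjugation by an element of the normalizer. -/
def conjHom (g : Subgroup.normalizer (P : Set G)) : P →* P where
  toFun y := ⟨(g : G) * y * (g : G)⁻¹, (Subgroup.mem_normalizer_iff.mp g.2 y).mp y.2⟩
  map_one' := Subtype.ext (by simp)
  map_mul' a b := Subtype.ext (by simp [mul_assoc])

@[simp] theorem conjHom_coe (g : Subgroup.normalizer (P : Set G)) (y : P) :
    ((conjHom g y : P) : G) = (g : G) * y * (g : G)⁻¹ := rfl

theorem conjHom_surjective (g : Subgroup.normalizer (P : Set G)) :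
    Function.Surjective (conjHom g) := fun y => by
  refine ⟨conjHom g⁻¹ y, Subtype.ext ?_⟩
  simp [mul_assoc]

def conjChar (g : Subgroup.normalizer (P : Set G)) (c : IrrCharacter P) : IrrCharacter P :=
  ⟨fun y => (c : P → ℂ) (conjHom g y), isIrrCharacter_comp (conjHom g) (conjHom_surjective g) c.2⟩

theorem conjChar_mul (g h : Subgroup.normalizer (P : Set G)) (c : IrrCharacter P) :
    conjChar (g * h) c = conjChar h (conjChar g c) := by
  refine Subtype.ext (funext fun y => ?_)
  show (c : P → ℂ) (conjHom (g * h) y) = (c : P → ℂ) (conjHom g (conjHom h y))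
  exact congrArg (c : P → ℂ) (Subtype.ext (by simp [mul_assoc]))

theorem conjChar_one (c : IrrCharacter P) : conjChar 1 c = c := by
  refine Subtype.ext (funext fun y => ?_)
  show (c : P → ℂ) (conjHom 1 y) = _
  exact congrArg (c : P → ℂ) (Subtype.ext (by simp))

theorem conjChar_triv (g : Subgroup.normalizer (P : Set G)) :
    conjChar g (trivIrr P) = trivIrr P := Subtype.ext rfl

theorem mu_conjChar {χ : G → ℂ} (hχ : IsCharacter G χ) (g : Subgroup.normalizer (P : Set G))
    (c : IrrCharacter P) : mu P χ (conjChar g c) = mu P χ c := by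
  have h : classInner (fun y : P => χ y) (conjChar g c : P → ℂ) =
      classInner (fun y : P => χ y) (c : P → ℂ) := by
    simp only [classInner]
    congr 1
    have hb : Function.Bijective (conjHom g) :=
      (Finite.surjective_iff_bijective).mp (conjHom_surjective g)
    refine Fintype.sum_equiv (Equiv.ofBijective _ hb) _ _ fun y => ?_
    show χ y * conj ((c : P → ℂ) (conjHom g y)) = χ (conjHom g y) * conj ((c : P → ℂ) (conjHom g y))
    rw [conjHom_coe, isClassFunction_of_isCharacter hχ]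
  rw [mu_spec hχ, mu_spec hχ] at h
  exact_mod_cast h

theorem mu_eq_sum {θ : G → ℂ} (hθ : IsCharacter G θ) (c : IrrCharacter P) :
    mu P θ c = ∑ χ : IrrCharacter G, mult θ χ * mu P (χ : G → ℂ) c := by
  have h := mu_spec hθ c
  have e : (fun y : P => θ y) =
      ∑ χ : IrrCharacter G, (mult θ χ : ℂ) • fun y : P => (χ : G → ℂ) y := by
    funext y
    simp only [Finset.sum_apply, Pi.smul_apply]
    have := congrFun (character_eq_sum hθ) (y : G)
    simpa only [Finset.sum_apply, Pi.smul_apply] using this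
  rw [e, classInner_sum_left] at h
  simp only [classInner_smul_left, mu_spec (isCharacter_of_isIrr (Subtype.prop _))] at h
  exact_mod_cast h.symm

theorem mult_mul_mu_le {θ : G → ℂ} (hθ : IsCharacter G θ) (χ : IrrCharacter G)
    (c : IrrCharacter P) : mult θ χ * mu P (χ : G → ℂ) c ≤ mu P θ c := by
  rw [mu_eq_sum hθ c]
  exact Finset.single_le_sum (f := fun χ : IrrCharacter G => mult θ χ * mu P (χ : G → ℂ) c)
    (fun _ _ => Nat.zero_le _) (Finset.mem_univ χ)

theorem inner_restrict_self {χ : G → ℂ} (hχ : IsCharacter G χ) :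
    classInner (fun y : P => χ y) (fun y : P => χ y) =
      ((∑ c : IrrCharacter P, mu P χ c ^ 2 : ℕ) : ℂ) := by
  rw [classInner_eq_sum (isClassFunction_of_isCharacter (isCharacter_restrict P hχ))]
  push_cast
  refine Finset.sum_congr rfl fun c _ => ?_
  rw [mu_spec hχ, Complex.conj_natCast, pow_two]

theorem inner_restrict {χ θ : G → ℂ} (hχ : IsCharacter G χ) (hθ : IsCharacter G θ) :
    classInner (fun y : P => χ y) (fun y : P => θ y) =
      ((∑ c : IrrCharacter P, mu P χ c * mu P θ c : ℕ) : ℂ) := by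
  rw [classInner_eq_sum (isClassFunction_of_isCharacter (isCharacter_restrict P hθ))]
  push_cast
  refine Finset.sum_congr rfl fun c _ => ?_
  rw [mu_spec hχ, mu_spec hθ, Complex.conj_natCast]

theorem mu_triv_triv : mu P (fun _ : G => (1 : ℂ)) (trivIrr P) = 1 := by
  have h := mu_spec (P := P) (isCharacter_one (G := G)) (trivIrr P)
  rw [show classInner (fun _ : P => (1 : ℂ)) (trivIrr P : P → ℂ) = 1 from
    irr_inner_self (trivIrr P).2] at h
  exact_mod_cast h.symm

theorem mu_triv_of_ne {c : IrrCharacter P} (hc : c ≠ trivIrr P) :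
    mu P (fun _ : G => (1 : ℂ)) c = 0 := by
  have h := mu_spec (P := P) (isCharacter_one (G := G)) c
  rw [irr_inner_of_ne isIrrCharacter_one c.2
    (fun e => hc (Subtype.ext (show (c : P → ℂ) = fun _ => 1 from e.symm)))] at h
  exact_mod_cast h.symm

end normalizerAction

namespace Hyp

variable (h : Hyp G P p)
include h

/-- The index of `P` in its normalizer. -/
noncomputable def e (_h : Hyp G P p) : ℕ := Nat.card (Subgroup.normalizer (P : Set G)) / p

theorem card_normalizer : Nat.card (Subgroup.normalizer (P : Set G)) = h.e * p := by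
  refine (Nat.div_mul_cancel ?_).symm
  rw [← h.card]
  exact Subgroup.card_dvd_of_le Subgroup.le_normalizer

theorem comm_P (a b : P) : a * b = b * a := by
  haveI : Fact p.Prime := ⟨h.prime⟩
  haveI := isCyclic_of_prime_card h.card
  exact (IsCyclic.commGroup (α := P)).mul_comm a b

theorem exists_gen : ∃ y ∈ P, y ≠ 1 ∧ ∀ z ∈ P, ∃ i : ℤ, y ^ i = z := by
  haveI : Fact p.Prime := ⟨h.prime⟩
  haveI := isCyclic_of_prime_card h.card
  obtain ⟨y, hy⟩ := IsCyclic.exists_generator (α := P)
  refine ⟨y, y.2, fun e => ?_, fun z hz => ?_⟩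
  · have : ∀ z : P, z = 1 := fun z => by
      obtain ⟨i, rfl⟩ := Subgroup.mem_zpowers_iff.mp (hy z)
      rw [show y = 1 from Subtype.ext e, one_zpow]
    haveI : Subsingleton P := ⟨fun a b => (this a).trans (this b).symm⟩
    have h1 : Nat.card P = 1 := Nat.card_eq_one_iff_unique.mpr ⟨inferInstance, ⟨1⟩⟩
    exact h.prime.one_lt.ne' (h.card.symm.trans h1)
  · obtain ⟨i, hi⟩ := Subgroup.mem_zpowers_iff.mp (hy ⟨z, hz⟩)
    exact ⟨i, by simpa using congrArg Subtype.val hi⟩

theorem commutator_mem {a b : G} (ha : a ∈ Subgroup.normalizer (P : Set G))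
    (hb : b ∈ Subgroup.normalizer (P : Set G)) : a * b * a⁻¹ * b⁻¹ ∈ P := by
  obtain ⟨y, hy, -, hgen⟩ := h.exists_gen
  obtain ⟨i, hi⟩ := hgen _ ((Subgroup.mem_normalizer_iff.mp ha y).mp hy)
  obtain ⟨j, hj⟩ := hgen _ ((Subgroup.mem_normalizer_iff.mp hb y).mp hy)
  have hconj : ∀ (c : G) (k : ℤ), c * y ^ k * c⁻¹ = (c * y * c⁻¹) ^ k := fun c k => by
    rw [conj_zpow]
  have hab : (a * b) * y * (a * b)⁻¹ = (b * a) * y * (b * a)⁻¹ := by
    calc (a * b) * y * (a * b)⁻¹ = a * (b * y * b⁻¹) * a⁻¹ := by group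
      _ = (y ^ i) ^ j := by rw [← hj, hconj, ← hi]
      _ = (y ^ j) ^ i := by rw [← zpow_mul, ← zpow_mul, mul_comm]
      _ = b * (a * y * a⁻¹) * b⁻¹ := by rw [← hi, hconj, ← hj]
      _ = (b * a) * y * (b * a)⁻¹ := by group
  refine h.cent _ fun z hz => ?_
  obtain ⟨k, rfl⟩ := hgen z hz
  have hy' : (a * b * a⁻¹ * b⁻¹) * ((b * a) * y * (b * a)⁻¹) * (a * b * a⁻¹ * b⁻¹)⁻¹ =
      (b * a) * y * (b * a)⁻¹ := by
    conv_rhs => rw [← hab]
    group
  have hn : b * a ∈ Subgroup.normalizer (P : Set G) := mul_mem hb ha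
  obtain ⟨l, hl⟩ := hgen _ ((Subgroup.mem_normalizer_iff.mp (inv_mem hn) y).mp hy)
  have e1 : y = ((b * a) * y * (b * a)⁻¹) ^ l := by
    rw [← hconj, hl]; group
  set w := a * b * a⁻¹ * b⁻¹
  have hw : Commute w ((b * a) * y * (b * a)⁻¹) := by
    have := congrArg (· * w) hy'
    simp only [inv_mul_cancel_right] at this
    exact this
  conv_lhs => rw [e1]
  conv_rhs => rw [e1]
  exact ((hw.zpow_right l).zpow_right k).eq

theorem le_of_dvd_card [Finite G] {K : Subgroup G} [K.Normal] (hK : p ∣ Nat.card K) : P ≤ K := by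
  by_contra hne
  have hdisj : P ⊓ K = ⊥ := by
    haveI : Fact p.Prime := ⟨h.prime⟩
    have hdvd : Nat.card (P ⊓ K : Subgroup G) ∣ p := h.card ▸ Subgroup.card_dvd_of_le inf_le_left
    rcases h.prime.eq_one_or_self_of_dvd _ hdvd with h1 | h1
    · exact Subgroup.eq_bot_of_card_eq _ h1
    · refine absurd (fun y hy => ?_) hne
      have := Subgroup.eq_of_le_of_card_ge (inf_le_left : P ⊓ K ≤ P) (by rw [h.card, h1])
      exact (this.ge hy).2
  have hinj : Function.Injective ((QuotientGroup.mk' K).comp P.subtype) := by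
    rw [injective_iff_map_eq_one]
    intro y hy
    have hyK : (y : G) ∈ K := by
      simpa using hy
    have : (y : G) ∈ P ⊓ K := ⟨y.2, hyK⟩
    rw [hdisj, Subgroup.mem_bot] at this
    exact Subtype.ext this
  have h2 : p ∣ Nat.card (G ⧸ K) := h.card ▸ Subgroup.card_dvd_of_injective _ hinj
  refine h.sq ?_
  rw [Subgroup.card_eq_card_quotient_mul_card_subgroup K, pow_two]
  exact Nat.mul_dvd_mul h2 hK

/-- The Frattini argument. -/
theorem exists_eq_mul [Finite G] {L : Subgroup G} [L.Normal] (hPL : P ≤ L) (g : G) :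
    ∃ k ∈ L, ∃ n ∈ Subgroup.normalizer (P : Set G), g = k * n := by
  haveI : Fact p.Prime := ⟨h.prime⟩
  have hv : (Nat.card L).factorization p = 1 := by
    have hd : p ∣ Nat.card L := h.card ▸ Subgroup.card_dvd_of_le hPL
    have h1 := (h.prime.dvd_iff_one_le_factorization Nat.card_pos.ne').mp hd
    by_contra hne
    refine h.sq (Nat.dvd_trans ?_ (Subgroup.card_subgroup_dvd_card L))
    exact (h.prime.pow_dvd_iff_le_factorization Nat.card_pos.ne').mpr (by omega)
  let Q : Sylow p L := Sylow.ofCard (P.subgroupOf L) (by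
    rw [Nat.card_congr (Subgroup.subgroupOfEquivOfLe hPL).toEquiv, h.card, hv, pow_one])
  have htop := Sylow.normalizer_sup_eq_top Q
  have hmap : (Q : Subgroup L).map L.subtype = P := by
    show (P.subgroupOf L).map L.subtype = P
    rw [Subgroup.map_subgroupOf_eq_of_le hPL]
  have hg : g ∈ Subgroup.normalizer (((Q : Subgroup L).map L.subtype : Subgroup G) : Set G) ⊔ L := by
    rw [htop]; trivial
  rw [hmap, sup_comm, ← SetLike.mem_coe, Subgroup.normal_mul] at hg
  obtain ⟨k, hk, n, hn, rfl⟩ := Set.mem_mul.mp hg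
  exact ⟨k, hk, n, hn, rfl⟩

variable [Fintype G] [Fintype P]

theorem irr_deg_one (c : IrrCharacter P) : (c : P → ℂ) 1 = 1 :=
  irr_degree_one_of_comm h.comm_P c.2

theorem mem_of_conjChar_eq {g : Subgroup.normalizer (P : Set G)} {c : IrrCharacter P}
    (hc : c ≠ trivIrr P) (hg : conjChar g c = c) : (g : G) ∈ P := by
  obtain ⟨lam, hlam⟩ := exists_hom_of_comm h.comm_P c.2
  have hker : lam.ker = ⊥ := by
    haveI : Fact p.Prime := ⟨h.prime⟩
    have hd : Nat.card lam.ker ∣ p := h.card ▸ Subgroup.card_subgroup_dvd_card _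
    rcases h.prime.eq_one_or_self_of_dvd _ hd with h1 | h1
    · exact Subgroup.eq_bot_of_card_eq _ h1
    · refine absurd (Subtype.ext (hlam.trans (funext fun y => ?_))) hc
      have htop := Subgroup.eq_top_of_card_eq lam.ker (h1.trans h.card.symm)
      show ((lam y : ℂˣ) : ℂ) = 1
      rw [MonoidHom.mem_ker.mp (htop ▸ Subgroup.mem_top y), Units.val_one]
  refine h.cent _ fun y hy => ?_
  have h1 : (c : P → ℂ) (conjHom g ⟨y, hy⟩) = (c : P → ℂ) ⟨y, hy⟩ :=
    congrFun (congrArg Subtype.val hg) ⟨y, hy⟩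
  rw [hlam] at h1
  have h2 : conjHom g ⟨y, hy⟩ = (⟨y, hy⟩ : P) :=
    (MonoidHom.ker_eq_bot_iff lam).mp hker (Units.ext h1)
  exact mul_inv_eq_iff_eq_mul.mp (congrArg Subtype.val h2)

theorem conjChar_eq_of_mem {g : Subgroup.normalizer (P : Set G)} (c : IrrCharacter P)
    (hg : (g : G) ∈ P) : conjChar g c = c := by
  refine Subtype.ext (funext fun y => ?_)
  show (c : P → ℂ) (conjHom g y) = _
  refine congrArg (c : P → ℂ) (Subtype.ext ?_)
  have := congrArg Subtype.val (h.comm_P ⟨(g : G), hg⟩ y)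
  simp only [Subgroup.coe_mul] at this
  rw [conjHom_coe, this, mul_inv_cancel_right]

theorem card_irr : Fintype.card (IrrCharacter P) = p := by
  rw [← Nat.card_eq_fintype_card, card_irr_eq_card_conjClasses P,
    ← Nat.card_eq_of_bijective (ConjClasses.mk : P → ConjClasses P)
      ⟨fun a b hab => by
        obtain ⟨c, hc⟩ := isConj_iff.mp (ConjClasses.mk_eq_mk_iff_isConj.mp hab)
        rwa [h.comm_P c, mul_inv_cancel_right] at hc, ConjClasses.mk_surjective⟩, h.card]

end Hyp

open Classical in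
/-- The orbit of a character of `P` under the normalizer. -/
noncomputable def orb [Fintype G] [Fintype P] (c : IrrCharacter P) : Finset (IrrCharacter P) :=
  Finset.univ.image fun g : Subgroup.normalizer (P : Set G) => conjChar g c

theorem mem_orb [Fintype G] [Fintype P] {c d : IrrCharacter P} :
    d ∈ orb c ↔ ∃ g : Subgroup.normalizer (P : Set G), conjChar g c = d := by
  simp [orb]

theorem self_mem_orb [Fintype G] [Fintype P] (c : IrrCharacter P) : c ∈ orb c :=
  mem_orb.mpr ⟨1, conjChar_one c⟩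

theorem orb_eq_of_mem [Fintype G] [Fintype P] {c d : IrrCharacter P} (hd : d ∈ orb c) :
    orb d = orb c := by
  obtain ⟨g, rfl⟩ := mem_orb.mp hd
  ext x
  simp only [mem_orb]
  constructor
  · rintro ⟨k, rfl⟩; exact ⟨g * k, conjChar_mul g k c⟩
  · rintro ⟨k, rfl⟩; exact ⟨g⁻¹ * k, by rw [← conjChar_mul, mul_inv_cancel_left]⟩

theorem disjoint_orb [Fintype G] [Fintype P] {c d : IrrCharacter P} (hd : d ∉ orb c) :
    Disjoint (orb c) (orb d) := by
  rw [Finset.disjoint_left]
  intro x hx hx'
  exact hd ((orb_eq_of_mem hx).symm.trans (orb_eq_of_mem hx') ▸ self_mem_orb d)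

namespace Hyp

variable [Fintype G] [Fintype P] (h : Hyp G P p)
include h

theorem triv_notMem_orb {c : IrrCharacter P} (hc : c ≠ trivIrr P) : trivIrr P ∉ orb c := by
  intro hm
  obtain ⟨g, hg⟩ := mem_orb.mp hm
  have := congrArg (conjChar g⁻¹) hg
  rw [← conjChar_mul, mul_inv_cancel, conjChar_one, conjChar_triv] at this
  exact hc this

theorem sum_conjChar {M : Type*} [AddCommMonoid M] [Fintype (Subgroup.normalizer (P : Set G))]
    {c : IrrCharacter P} (hc : c ≠ trivIrr P) (F : IrrCharacter P → M) :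
    ∑ g : Subgroup.normalizer (P : Set G), F (conjChar g c) = p • ∑ d ∈ orb c, F d := by
  classical
  have himg : (Finset.univ.image fun g : Subgroup.normalizer (P : Set G) => conjChar g c) = orb c := by
    ext d; simp [mem_orb]
  rw [Finset.sum_comp F (fun g => conjChar g c), himg, Finset.smul_sum]
  refine Finset.sum_congr rfl fun d hd => ?_
  congr 1
  obtain ⟨g₀, rfl⟩ := mem_orb.mp hd
  rw [← h.card, ← Fintype.card_subtype, ← Nat.card_eq_fintype_card]
  have key : ∀ g : Subgroup.normalizer (P : Set G),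
      conjChar g c = conjChar g₀ c ↔ ((g * g₀⁻¹ : Subgroup.normalizer (P : Set G)) : G) ∈ P := by
    intro g
    constructor
    · intro hg
      refine h.mem_of_conjChar_eq hc ?_
      rw [conjChar_mul, hg, ← conjChar_mul, mul_inv_cancel, conjChar_one]
    · intro hg
      have := congrArg (conjChar g₀) (h.conjChar_eq_of_mem c hg)
      rwa [← conjChar_mul, inv_mul_cancel_right] at this
  refine Nat.card_congr
    { toFun := fun g => ⟨_, (key g.1).mp g.2⟩
      invFun := fun y => ⟨⟨(y : G), Subgroup.le_normalizer y.2⟩ * g₀, (key _).mpr (by simp)⟩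
      left_inv := fun g => Subtype.ext (Subtype.ext (by simp))
      right_inv := fun y => Subtype.ext (by simp) }

theorem card_orb {c : IrrCharacter P} (hc : c ≠ trivIrr P) : (orb c).card = h.e := by
  classical
  have e1 := h.sum_conjChar hc (fun _ => (1 : ℕ))
  simp only [Finset.sum_const, Finset.card_univ, smul_eq_mul, mul_one,
    ← Nat.card_eq_fintype_card, h.card_normalizer] at e1
  rw [mul_comm] at e1
  exact (Nat.eq_of_mul_eq_mul_left h.prime.pos e1).symm

theorem orb_subset {c : IrrCharacter P} (hc : c ≠ trivIrr P) [DecidableEq (IrrCharacter P)] :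
    orb c ⊆ Finset.univ.erase (trivIrr P) := fun d hd =>
  Finset.mem_erase.mpr ⟨fun e => h.triv_notMem_orb hc (e ▸ hd), Finset.mem_univ _⟩

theorem exists_ne_triv : ∃ c : IrrCharacter P, c ≠ trivIrr P := by
  have h1 := h.card_irr
  have h2 := h.prime.two_le
  haveI : Nontrivial (IrrCharacter P) := Fintype.one_lt_card_iff_nontrivial.mp (by omega)
  exact exists_ne _

theorem e_pos : 0 < h.e := by
  obtain ⟨c, hc⟩ := h.exists_ne_triv
  rw [← h.card_orb hc]
  exact Finset.card_pos.mpr ⟨c, self_mem_orb c⟩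

theorem exists_notMem_orb (he : h.e < p - 1) {c : IrrCharacter P} (hc : c ≠ trivIrr P) :
    ∃ d : IrrCharacter P, d ≠ trivIrr P ∧ d ∉ orb c := by
  classical
  by_contra hno
  have hsub : Finset.univ.erase (trivIrr P) ⊆ orb c := fun d hd => by
    by_contra hd'
    exact hno ⟨d, Finset.ne_of_mem_erase hd, hd'⟩
  have := Finset.card_le_card hsub
  rw [h.card_orb hc, Finset.card_erase_of_mem (Finset.mem_univ _), Finset.card_univ, h.card_irr] at this
  omega

theorem two_e_le {c d : IrrCharacter P} (hc : c ≠ trivIrr P) (hd : d ≠ trivIrr P)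
    (hcd : d ∉ orb c) : 2 * h.e ≤ p - 1 := by
  classical
  have := Finset.card_le_card (Finset.union_subset (h.orb_subset hc) (h.orb_subset hd))
  rw [Finset.card_union_of_disjoint (disjoint_orb hcd), h.card_orb hc, h.card_orb hd,
    Finset.card_erase_of_mem (Finset.mem_univ _), Finset.card_univ, h.card_irr] at this
  omega

theorem deg_eq_sum_mu {χ : G → ℂ} (hχ : IsCharacter G χ) :
    deg χ = ∑ c : IrrCharacter P, mu P χ c := by
  have e := congrFun (character_eq_sum (isCharacter_restrict P hχ)) 1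
  simp only [Finset.sum_apply, Pi.smul_apply, smul_eq_mul, h.irr_deg_one, mul_one,
    OneMemClass.coe_one, deg_eq hχ] at e
  exact_mod_cast e

theorem e_le_deg {χ : G → ℂ} (hχ : IsCharacter G χ) (h0 : mu P χ (trivIrr P) = 0)
    (hne : deg χ ≠ 0) :
    h.e ≤ deg χ ∧ (deg χ = h.e → ∃ c : IrrCharacter P, c ≠ trivIrr P ∧
      (∀ d ∈ orb c, mu P χ d = 1) ∧ ∀ d ∉ orb c, mu P χ d = 0) := by
  classical
  rw [h.deg_eq_sum_mu hχ] at hne ⊢
  obtain ⟨c, -, hc⟩ := Finset.exists_ne_zero_of_sum_ne_zero hne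
  have hct : c ≠ trivIrr P := fun e => hc (e ▸ h0)
  have hcon : ∀ d ∈ orb c, mu P χ d = mu P χ c := fun d hd => by
    obtain ⟨g, rfl⟩ := mem_orb.mp hd
    exact mu_conjChar hχ g c
  have hs := Finset.sum_add_sum_compl (orb c) (fun d => mu P χ d)
  simp only [Finset.sum_congr rfl hcon, Finset.sum_const, smul_eq_mul, h.card_orb hct] at hs
  have h1 : h.e * 1 ≤ h.e * mu P χ c := Nat.mul_le_mul_left _ (Nat.pos_of_ne_zero hc)
  refine ⟨by omega, fun heq => ⟨c, hct, fun d hd => ?_, fun d hd => ?_⟩⟩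
  · rw [hcon d hd]
    rcases Nat.lt_or_ge (mu P χ c) 2 with h2 | h2
    · omega
    · have h3 : h.e * 2 ≤ h.e * mu P χ c := Nat.mul_le_mul_left _ h2
      have := h.e_pos
      omega
  · have h0' : ∑ d ∈ (orb c)ᶜ, mu P χ d = 0 := by omega
    exact Finset.sum_eq_zero_iff.mp h0' d (Finset.mem_compl.mpr hd)

/-- The difference of the characters induced from two orbits. -/
theorem indFun_restrict {c d : IrrCharacter P} (hc : c ≠ trivIrr P) (hd : d ≠ trivIrr P) :
    (fun y : P => indFun P ((c : P → ℂ) - (d : P → ℂ)) y) =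
      ∑ x ∈ orb c, (x : P → ℂ) - ∑ x ∈ orb d, (x : P → ℂ) := by
  classical
  funext y
  have hsum : ((p : ℂ)) * (∑ x ∈ orb c, (x : P → ℂ) - ∑ x ∈ orb d, (x : P → ℂ)) y =
      ∑ g : Subgroup.normalizer (P : Set G),
        (((conjChar g c : IrrCharacter P) : P → ℂ) y - ((conjChar g d : IrrCharacter P) : P → ℂ) y) := by
    rw [Finset.sum_sub_distrib, h.sum_conjChar hc (fun x => (x : P → ℂ) y),
      h.sum_conjChar hd (fun x => (x : P → ℂ) y)]
    simp [Finset.sum_apply, mul_sub, nsmul_eq_mul]
  have hp0 : (p : ℂ) ≠ 0 := Nat.cast_ne_zero.mpr h.prime.ne_zero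
  apply mul_left_cancel₀ hp0
  rw [hsum]
  simp only [indFun]
  rw [← mul_assoc, h.card, mul_inv_cancel₀ hp0, one_mul]
  set f : P → ℂ := (c : P → ℂ) - (d : P → ℂ) with hf
  by_cases hy : y = 1
  · subst hy
    rw [Finset.sum_eq_zero fun g _ => ?_, Finset.sum_eq_zero fun x _ => ?_]
    · rw [h.irr_deg_one, h.irr_deg_one, sub_self]
    · rw [OneMemClass.coe_one, mul_one, inv_mul_cancel, extendByZero_mem P f P.one_mem, hf,
        Pi.sub_apply, show (⟨1, P.one_mem⟩ : P) = 1 from rfl, h.irr_deg_one, h.irr_deg_one, sub_self]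
  · have hout : ∀ x : G, x ∉ Subgroup.normalizer (P : Set G) →
        extendByZero P f (x⁻¹ * y * x) = 0 := by
      intro x hx
      refine extendByZero_not_mem P f fun hm => hx ?_
      have hgenP : ∀ z ∈ P, x⁻¹ * z * x ∈ P := by
        intro z hz
        haveI : Fact p.Prime := ⟨h.prime⟩
        obtain ⟨i, hi⟩ := Subgroup.mem_zpowers_iff.mp
          (mem_zpowers_of_prime_card h.card hy (g' := ⟨z, hz⟩))
        have hi' : (y : G) ^ i = z := by simpa using congrArg Subtype.val hi
        rw [← hi', show x⁻¹ * (y : G) ^ i * x = (x⁻¹ * y * x) ^ i by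
          simpa using (conj_zpow (i := i) (a := x⁻¹) (b := (y : G))).symm]
        exact zpow_mem hm i
      have : x⁻¹ ∈ Subgroup.normalizer (P : Set G) := by
        refine Subgroup.mem_normalizer_iff.mpr fun z => ⟨fun hz => by simpa using hgenP z hz, fun hz => ?_⟩
        have hinj : Function.Injective (fun z : P => (⟨_, hgenP z z.2⟩ : P)) := fun a b e =>
          Subtype.ext (mul_left_cancel (mul_right_cancel (congrArg Subtype.val e)))
        obtain ⟨w, hw⟩ := (Finite.injective_iff_surjective.mp hinj) ⟨_, hz⟩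
        have hw' := congrArg Subtype.val hw
        simp only [inv_inv] at hw'
        rw [← mul_left_cancel (mul_right_cancel hw')]
        exact w.2
      simpa using inv_mem this
    rw [← Fintype.sum_subset (s := Finset.univ.filter (· ∈ Subgroup.normalizer (P : Set G)))
      fun x hx => Finset.mem_filter.mpr ⟨Finset.mem_univ _, by_contra fun hn => hx (hout x hn)⟩,
      Finset.sum_subtype (Finset.univ.filter (· ∈ Subgroup.normalizer (P : Set G)))
        (p := fun x => x ∈ Subgroup.normalizer (P : Set G)) (fun x => by simp)]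
    refine Fintype.sum_equiv (Equiv.inv _) _ _ fun g => ?_
    have hm : (g : G)⁻¹ * y * g ∈ P := by
      simpa using (Subgroup.mem_normalizer_iff.mp (inv_mem g.2) (y : G)).mp y.2
    rw [extendByZero_mem P f hm]
    show (c : P → ℂ) _ - (d : P → ℂ) _ = (c : P → ℂ) (conjHom g⁻¹ y) - (d : P → ℂ) (conjHom g⁻¹ y)
    rw [show (⟨_, hm⟩ : P) = conjHom g⁻¹ y from Subtype.ext (by simp)]

/-- Two irreducible characters exchanged between two orbits. -/
theorem exists_pair {c d : IrrCharacter P} (hc : c ≠ trivIrr P) (hd : d ≠ trivIrr P)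
    (hcd : d ∉ orb c) :
    ∃ a b : IrrCharacter G, a ≠ b ∧
      (∀ χ : G → ℂ, IsCharacter G χ →
        ((mu P χ c : ℂ) - mu P χ d = classInner ((a : G → ℂ) - (b : G → ℂ)) χ)) ∧
      (∀ x : IrrCharacter P, x ∈ orb c → mu P (a : G → ℂ) x = mu P (b : G → ℂ) x + 1) ∧
      (∀ x : IrrCharacter P, x ∈ orb d → mu P (a : G → ℂ) x + 1 = mu P (b : G → ℂ) x) ∧
      (∀ x : IrrCharacter P, x ∉ orb c → x ∉ orb d → mu P (a : G → ℂ) x = mu P (b : G → ℂ) x) := by
  classical
  set f : P → ℂ := (c : P → ℂ) - (d : P → ℂ) with hf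
  have hgen : IsGeneralizedCharacter G (indFun P f) :=
    isGen_indFun P (isGen_sub (isGen_of_isIrr c.2) (isGen_of_isIrr d.2))
  have h1 : indFun P f 1 = 0 := by
    rw [indFun_one_eval, hf, Pi.sub_apply, h.irr_deg_one, h.irr_deg_one, sub_self, mul_zero]
  have hres := h.indFun_restrict hc hd
  have hdc : c ∉ orb d := fun hm => hcd (orb_eq_of_mem hm ▸ self_mem_orb d)
  have hsum : ∀ (z : IrrCharacter P) (s : Finset (IrrCharacter P)),
      ∑ x ∈ s, classInner (x : P → ℂ) (z : P → ℂ) = if z ∈ s then (1 : ℂ) else 0 := by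
    intro z s
    rw [Finset.sum_congr rfl fun x _ => irr_inner_subtype x z]
    simp
  have hinner : ∀ z : IrrCharacter P, classInner (fun y : P => indFun P f y) (z : P → ℂ) =
      (if z ∈ orb c then (1 : ℂ) else 0) - (if z ∈ orb d then 1 else 0) := fun z => by
    rw [hf, hres, classInner_sub_left, classInner_sum_left, classInner_sum_left, hsum, hsum]
  have h2 : classInner (indFun P f) (indFun P f) = 2 := by
    rw [frobenius_reciprocity P f (isClassFunction_indFun P f)]
    nth_rewrite 1 [hf]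
    rw [classInner_sub_left, ← classInner_conj_symm, hinner, if_pos (self_mem_orb c), if_neg hdc]
    nth_rewrite 1 [← classInner_conj_symm]
    rw [hinner, if_neg hcd, if_pos (self_mem_orb d)]
    simp
    norm_num
  obtain ⟨a, b, hab, hD⟩ := Exceptional.exists_sub_of_norm_two hgen h1 h2
  have hrel : ∀ z : IrrCharacter P, (mu P (a : G → ℂ) z : ℂ) - mu P (b : G → ℂ) z =
      (if z ∈ orb c then (1 : ℂ) else 0) - (if z ∈ orb d then 1 else 0) := fun z => by
    rw [← hinner, hD, ← mu_spec (isCharacter_of_isIrr a.2), ← mu_spec (isCharacter_of_isIrr b.2),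
      ← classInner_sub_left]
    rfl
  refine ⟨a, b, hab, fun χ hχ => ?_, fun z hz => ?_, fun z hz => ?_, fun z hz hz' => ?_⟩
  · rw [← hD, frobenius_reciprocity P f (isClassFunction_of_isCharacter hχ), hf, classInner_sub_left,
      ← classInner_conj_symm, mu_spec hχ, Complex.conj_natCast, ← classInner_conj_symm, mu_spec hχ,
      Complex.conj_natCast]
  · have e := hrel z
    rw [if_pos hz, if_neg fun hm => Finset.disjoint_left.mp (disjoint_orb hcd) hz hm, sub_zero,
      sub_eq_iff_eq_add'] at e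
    exact_mod_cast e
  · have e := hrel z
    rw [if_pos hz, if_neg fun hm => Finset.disjoint_left.mp (disjoint_orb hcd) hm hz, zero_sub] at e
    have e' : (mu P (a : G → ℂ) z : ℂ) + 1 = mu P (b : G → ℂ) z := by linear_combination e
    exact_mod_cast e'
  · have e := hrel z
    rw [if_neg hz, if_neg hz', sub_zero, sub_eq_zero] at e
    exact_mod_cast e

end Hyp

end Cfsg.Agent.CT.SelfCentralP
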