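import Cfsg.Agent.Lib.CT.SelfCentralPSmall

/-!
# Transitive characters of degree `2p` over a self-centralizing subgroup of order `p`
-/

set_option autoImplicit false
set_option linter.unusedSectionVars false

namespace Cfsg.Agent.CT.SelfCentralP

open scoped ComplexConjugate

universe u

variable {G : Type u} [Group G] {P : Subgroup G} {p : ℕ}

theorem isIrr_conj' [Fintype G] {χ : G → ℂ} (hχ : IsIrrCharacter G χ) :
    IsIrrCharacter G (fun g => conj (χ g)) := by
  refine isIrr_of_inner_self (isCharacter_conj (isCharacter_of_isIrr hχ)) ?_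
  have h := irr_inner_self hχ
  rw [classInner] at h ⊢
  have h' := congrArg (starRingEnd ℂ) h
  simpa [map_mul, map_sum, map_inv₀] using h'

theorem inner_conj_conj [Fintype G] (a b : G → ℂ) :
    classInner (fun g => conj (a g)) (fun g => conj (b g)) = conj (classInner a b) := by
  simp [classInner, map_mul, map_sum, map_inv₀]

namespace Hyp

variable [Fintype G] [Fintype P] (h : Hyp G P p)
include h

/-- The possible decompositions of a character of degree `2p` regular on both orbits of `P`. -/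
theorem classify (hp2 : p ≠ 2) (hO : ∀ H : Subgroup G, H.Normal → ¬ p ∣ Nat.card H → H = ⊥)
    (hPn : ¬ P.Normal) {π : G → ℂ} (hπ : IsCharacter G π) (hreal : ∀ g, conj (π g) = π g)
    (h1 : mult π (trivIrr G) = 1) (hreg : ∀ x : IrrCharacter P, mu P π x = 2)
    (hlin : ∀ χ : IrrCharacter G, χ ≠ trivIrr G → mult π χ ≠ 0 → (χ : G → ℂ) 1 ≠ 1) :
    classInner π π = 2 ∨
    (classInner π π = 3 ∧ ∃ a b : IrrCharacter G, π = (fun _ => 1) + (a : G → ℂ) + (b : G → ℂ) ∧
      deg (a : G → ℂ) = p - 1 ∧ deg (b : G → ℂ) = p) ∨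
    (p % 4 = 3 ∧ classInner π π = 4 ∧
      (∃ χ₀ : IrrCharacter G, χ₀ ≠ trivIrr G ∧ classInner π (χ₀ : G → ℂ) = 1 ∧
        deg (χ₀ : G → ℂ) = p ∧ ∀ g, conj ((χ₀ : G → ℂ) g) = (χ₀ : G → ℂ) g) ∧
      ∃ θ : G → ℂ, IsIrrCharacter G θ ∧ classInner π θ ≠ 0 ∧ ∃ g, conj (θ g) ≠ θ g) := by
  classical
  set t := trivIrr P with ht
  have htriv : mu P (trivIrr G : G → ℂ) t = 1 := mu_triv_triv
  have hother : ∀ x : IrrCharacter P,
      ∑ χ ∈ Finset.univ.erase (trivIrr G), mult π χ * mu P (χ : G → ℂ) x =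
        if x = t then 1 else 2 := by
    intro x
    have e := hreg x
    rw [mu_eq_sum hπ, ← Finset.add_sum_erase _ _ (Finset.mem_univ (trivIrr G)), h1, one_mul] at e
    split_ifs with hx
    · subst hx; rw [htriv] at e; omega
    · rw [show mu P (trivIrr G : G → ℂ) x = 0 from mu_triv_of_ne hx] at e; omega
  have hT := hother t
  rw [if_pos rfl] at hT
  obtain ⟨χ₀, hχ₀, hne0⟩ := Finset.exists_ne_zero_of_sum_ne_zero
    (show ∑ χ ∈ Finset.univ.erase (trivIrr G), mult π χ * mu P (χ : G → ℂ) t ≠ 0 by rw [hT]; exact one_ne_zero)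
  have hχ₀1 : mult π χ₀ * mu P (χ₀ : G → ℂ) t = 1 := by
    have hle := Finset.single_le_sum (f := fun χ : IrrCharacter G => mult π χ * mu P (χ : G → ℂ) t)
      (fun _ _ => Nat.zero_le _) hχ₀
    rw [hT] at hle
    omega
  obtain ⟨hm₀, hT₀⟩ := mul_eq_one.mp hχ₀1
  have hχ₀t : χ₀ ≠ trivIrr G := Finset.ne_of_mem_erase hχ₀
  set R := (Finset.univ.erase (trivIrr G)).erase χ₀ with hR
  have hRT : ∀ χ ∈ R, mult π χ ≠ 0 → mu P (χ : G → ℂ) t = 0 := by
    intro χ hχ hm
    rw [← Finset.add_sum_erase _ _ hχ₀, hχ₀1, ← hR] at hT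
    have := Finset.single_le_sum (f := fun χ : IrrCharacter G => mult π χ * mu P (χ : G → ℂ) t)
      (fun _ _ => Nat.zero_le _) hχ
    have h0 : mult π χ * mu P (χ : G → ℂ) t = 0 := by omega
    exact (mul_eq_zero.mp h0).resolve_left hm
  have huniq : ∀ χ : IrrCharacter G, χ ≠ trivIrr G → mult π χ ≠ 0 → mu P (χ : G → ℂ) t ≠ 0 → χ = χ₀ :=
    fun χ hχ hm hTχ => by_contra fun hne => hTχ
      (hRT χ (Finset.mem_erase.mpr ⟨hne, Finset.mem_erase.mpr ⟨hχ, Finset.mem_univ _⟩⟩) hm)
  -- exchanges between two orbits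
  have hpair : ∀ (χ : IrrCharacter G) (x y : IrrCharacter P), x ≠ t → y ≠ t → y ∉ orb x →
      mu P (χ : G → ℂ) x ≠ mu P (χ : G → ℂ) y →
      ∃ a b : IrrCharacter G, a ≠ b ∧ (χ = a ∨ χ = b) ∧ mult π a = mult π b ∧
        mu P (a : G → ℂ) t = mu P (b : G → ℂ) t ∧ a ≠ trivIrr G ∧ b ≠ trivIrr G ∧
        (∀ z, z ∈ orb x → mu P (a : G → ℂ) z = mu P (b : G → ℂ) z + 1) ∧
        (∀ z, z ∈ orb y → mu P (a : G → ℂ) z + 1 = mu P (b : G → ℂ) z) ∧
        ∀ z, z ∉ orb x → z ∉ orb y → mu P (a : G → ℂ) z = mu P (b : G → ℂ) z := by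
    intro χ x y hx hy hxy hne
    obtain ⟨a, b, hab, hD, hDx, hDy, hDo⟩ := h.exists_pair hx hy hxy
    have hmem : χ = a ∨ χ = b := by
      by_contra hno
      push Not at hno
      have e := hD χ (isCharacter_of_isIrr χ.2)
      rw [classInner_sub_left, irr_inner_subtype, irr_inner_subtype, if_neg hno.1.symm,
        if_neg hno.2.symm, sub_zero, sub_eq_zero] at e
      exact hne (by exact_mod_cast e)
    have hmult : mult π a = mult π b := by
      have e := hD π hπ
      rw [hreg x, hreg y, sub_self, classInner_sub_left, eq_comm, sub_eq_zero,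
        classInner_comm_of_char (isCharacter_of_isIrr a.2) hπ,
        classInner_comm_of_char (isCharacter_of_isIrr b.2) hπ,
        mult_spec hπ (isCharacter_of_isIrr a.2), mult_spec hπ (isCharacter_of_isIrr b.2)] at e
      exact_mod_cast e
    have hTab : mu P (a : G → ℂ) t = mu P (b : G → ℂ) t :=
      hDo t (h.triv_notMem_orb hx) (h.triv_notMem_orb hy)
    refine ⟨a, b, hab, hmem, hmult, hTab, fun e => ?_, fun e => ?_, hDx, hDy, hDo⟩
    · have := hDx x (self_mem_orb x)
      rw [e, show mu P (trivIrr G : G → ℂ) x = 0 from mu_triv_of_ne hx] at this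
      omega
    · have := hDy y (self_mem_orb y)
      rw [e, show mu P (trivIrr G : G → ℂ) y = 0 from mu_triv_of_ne hy] at this
      omega
  obtain ⟨c₀, hc₀⟩ := h.exists_ne_triv
  set n := mu P (χ₀ : G → ℂ) c₀ with hn
  have hconst : ∀ x : IrrCharacter P, x ≠ t → mu P (χ₀ : G → ℂ) x = n := by
    intro x hx
    by_cases hxo : x ∈ orb c₀
    · obtain ⟨g, rfl⟩ := mem_orb.mp hxo
      exact mu_conjChar (isCharacter_of_isIrr χ₀.2) g c₀
    · by_contra hne
      obtain ⟨a, b, hab, hmem, hmab, hTab, hat, hbt, -⟩ := hpair χ₀ c₀ x hc₀ hx hxo (Ne.symm hne)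
      have ha : mult π a ≠ 0 ∧ mu P (a : G → ℂ) t ≠ 0 := by
        rcases hmem with e | e
        · rw [← e, hm₀, hT₀]; exact ⟨one_ne_zero, one_ne_zero⟩
        · rw [hmab, hTab, ← e, hm₀, hT₀]; exact ⟨one_ne_zero, one_ne_zero⟩
      exact hab ((huniq a hat ha.1 ha.2).trans
        (huniq b hbt (hmab ▸ ha.1) (hTab ▸ ha.2)).symm)
  have hdeg₀ : deg (χ₀ : G → ℂ) = 1 + n * (p - 1) := by
    rw [h.deg_eq_sum_mu (isCharacter_of_isIrr χ₀.2), ← Finset.add_sum_erase _ _ (Finset.mem_univ t), hT₀,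
      Finset.sum_congr rfl fun x hx => hconst x (Finset.ne_of_mem_erase hx), Finset.sum_const, smul_eq_mul,
      Finset.card_erase_of_mem (Finset.mem_univ _), Finset.card_univ, h.card_irr, mul_comm]
  have hn1 : 1 ≤ n := by
    by_contra hlt
    refine hlin χ₀ hχ₀t (by rw [hm₀]; exact one_ne_zero) ?_
    rw [deg_eq (isCharacter_of_isIrr χ₀.2), hdeg₀, show n = 0 by omega, zero_mul, add_zero, Nat.cast_one]
  have hrest : ∀ x : IrrCharacter P, x ≠ t → n + ∑ χ ∈ R, mult π χ * mu P (χ : G → ℂ) x = 2 := by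
    intro x hx
    have e := hother x
    rw [if_neg hx, ← Finset.add_sum_erase _ _ hχ₀, hm₀, one_mul, hconst x hx, ← hR] at e
    exact e
  have hnorm : classInner π π = ((∑ χ : IrrCharacter G, mult π χ ^ 2 : ℕ) : ℂ) := by
    rw [classInner_eq_sum (isClassFunction_of_isCharacter hπ)]
    push_cast
    refine Finset.sum_congr rfl fun χ _ => ?_
    rw [mult_spec hπ (isCharacter_of_isIrr χ.2), Complex.conj_natCast, pow_two]
  have hnorm' : ∑ χ : IrrCharacter G, mult π χ ^ 2 = 2 + ∑ χ ∈ R, mult π χ ^ 2 := by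
    rw [← Finset.add_sum_erase _ _ (Finset.mem_univ (trivIrr G)), h1,
      ← Finset.add_sum_erase _ _ hχ₀, hm₀, ← hR, one_pow]
    omega
  have hdec : π = (trivIrr G : G → ℂ) + (χ₀ : G → ℂ) + ∑ χ ∈ R, (mult π χ : ℂ) • (χ : G → ℂ) := by
    conv_lhs => rw [character_eq_sum hπ, ← Finset.add_sum_erase _ _ (Finset.mem_univ (trivIrr G)),
      ← Finset.add_sum_erase _ _ hχ₀]
    rw [h1, hm₀, ← hR, Nat.cast_one, one_smul, one_smul, add_assoc]
  have hRdeg : ∑ χ ∈ R, mult π χ * deg (χ : G → ℂ) = (2 - n) * (p - 1) := by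
    calc ∑ χ ∈ R, mult π χ * deg (χ : G → ℂ)
        = ∑ x : IrrCharacter P, ∑ χ ∈ R, mult π χ * mu P (χ : G → ℂ) x := by
          rw [Finset.sum_comm]
          exact Finset.sum_congr rfl fun χ _ => by
            rw [h.deg_eq_sum_mu (isCharacter_of_isIrr χ.2), Finset.mul_sum]
      _ = ∑ x ∈ Finset.univ.erase t, (2 - n) := by
          rw [← Finset.add_sum_erase _ _ (Finset.mem_univ t)]
          rw [Finset.sum_eq_zero (s := R) fun χ hχ => ?_, zero_add]
          · exact Finset.sum_congr rfl fun x hx => by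
              have := hrest x (Finset.ne_of_mem_erase hx); omega
          · by_cases hm : mult π χ = 0
            · rw [hm, zero_mul]
            · rw [hRT χ hχ hm, mul_zero]
      _ = _ := by
          rw [Finset.sum_const, smul_eq_mul, Finset.card_erase_of_mem (Finset.mem_univ _), Finset.card_univ,
            h.card_irr, mul_comm]
  have hRpos : ∀ χ ∈ R, mult π χ ≠ 0 → 0 < mult π χ * deg (χ : G → ℂ) := fun χ _ hm =>
    Nat.mul_pos (Nat.pos_of_ne_zero hm) (deg_pos χ.2)
  have hn2 : n ≤ 2 := by have := hrest c₀ hc₀; omega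
  rcases Nat.lt_or_ge n 2 with hn2' | hn2'
  swap
  · left
    have h0 : ∀ χ ∈ R, mult π χ = 0 := fun χ hχ => by
      by_contra hm
      have hle := Finset.single_le_sum (f := fun χ : IrrCharacter G => mult π χ * deg (χ : G → ℂ))
        (fun _ _ => Nat.zero_le _) hχ
      rw [hRdeg, show 2 - n = 0 by omega, zero_mul] at hle
      have := hRpos χ hχ hm
      omega
    rw [hnorm, hnorm', Finset.sum_eq_zero fun χ hχ => by rw [h0 χ hχ]; rfl]
    norm_num
  have hn1' : n = 1 := by omega
  rw [hn1'] at hdeg₀ hRdeg hrest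
  have hdeg₀' : deg (χ₀ : G → ℂ) = p := by have := h.prime.pos; omega
  -- multiplicities of the remaining constituents
  have hone : ∀ x : IrrCharacter P, x ≠ t → ∀ χ ∈ R, mult π χ * mu P (χ : G → ℂ) x ≤ 1 := by
    intro x hx χ hχ
    have := hrest x hx
    have := Finset.single_le_sum (f := fun χ : IrrCharacter G => mult π χ * mu P (χ : G → ℂ) x)
      (fun _ _ => Nat.zero_le _) hχ
    omega
  have hsupp : ∀ χ ∈ R, mult π χ ≠ 0 → mult π χ = 1 ∧
      ∃ c : IrrCharacter P, c ≠ t ∧ mu P (χ : G → ℂ) c = 1 := by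
    intro χ hχ hm
    have hd := (h.e_le_deg (isCharacter_of_isIrr χ.2) (hRT χ hχ hm) (deg_pos χ.2).ne')
    obtain ⟨c, -, hc⟩ := Finset.exists_ne_zero_of_sum_ne_zero
      (show ∑ x : IrrCharacter P, mu P (χ : G → ℂ) x ≠ 0 by
        rw [← h.deg_eq_sum_mu (isCharacter_of_isIrr χ.2)]; exact (deg_pos χ.2).ne')
    have hct : c ≠ t := fun e => hc (e ▸ hRT χ hχ hm)
    have := hone c hct χ hχ
    have h2 : mult π χ ≤ mult π χ * mu P (χ : G → ℂ) c := Nat.le_mul_of_pos_right _ (Nat.pos_of_ne_zero hc)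
    have hm1 : mult π χ = 1 := by omega
    exact ⟨hm1, c, hct, by rw [hm1, one_mul] at this; omega⟩
  by_cases hfull : ∃ χ ∈ R, mult π χ ≠ 0 ∧ ∀ x : IrrCharacter P, x ≠ t → mu P (χ : G → ℂ) x ≠ 0
  · right; left
    obtain ⟨χ, hχ, hm, hall⟩ := hfull
    have hm1 := (hsupp χ hχ hm).1
    have hothers : ∀ ξ ∈ R, ξ ≠ χ → mult π ξ = 0 := by
      intro ξ hξ hne
      by_contra hmξ
      obtain ⟨-, c, hct, hc⟩ := hsupp ξ hξ hmξ
      have h2 := hrest c hct
      rw [← Finset.add_sum_erase _ _ hχ, ← Finset.add_sum_erase _ _ (Finset.mem_erase.mpr ⟨hne, hξ⟩)] at h2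
      have := Nat.mul_pos (Nat.pos_of_ne_zero hm) (Nat.pos_of_ne_zero (hall c hct))
      have := Nat.mul_pos (Nat.pos_of_ne_zero hmξ) (show 0 < mu P (ξ : G → ℂ) c by omega)
      omega
    refine ⟨?_, χ, χ₀, ?_, ?_, hdeg₀'⟩
    · rw [hnorm, hnorm', Finset.sum_eq_single_of_mem χ hχ fun ξ hξ hne => by rw [hothers ξ hξ hne]; rfl,
        hm1]
      norm_num
    · rw [Finset.sum_eq_single_of_mem χ hχ fun ξ hξ hne => by
        rw [hothers ξ hξ hne, Nat.cast_zero, zero_smul], hm1, Nat.cast_one, one_smul] at hdec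
      rw [hdec]
      show (fun _ => (1 : ℂ)) + (χ₀ : G → ℂ) + (χ : G → ℂ) = _
      rw [add_right_comm]
    · rw [Finset.sum_eq_single_of_mem χ hχ fun ξ hξ hne => by rw [hothers ξ hξ hne, zero_mul], hm1,
        one_mul] at hRdeg
      omega
  · right; right
    push Not at hfull
    -- every remaining constituent is small
    have hsmall : ∀ χ ∈ R, mult π χ ≠ 0 → deg (χ : G → ℂ) = h.e ∧ h.e < p - 1 ∧ 2 * h.e ≤ p - 1 := by
      intro χ hχ hm
      obtain ⟨y, hyt, hy⟩ := hfull χ hχ hm
      obtain ⟨hm1, c, hct, hc⟩ := hsupp χ hχ hm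
      have hyc : y ∉ orb c := fun hmem => by
        obtain ⟨g, rfl⟩ := mem_orb.mp hmem
        rw [mu_conjChar (isCharacter_of_isIrr χ.2), hc] at hy
        exact one_ne_zero hy
      have h2e := h.two_e_le hct hyt hyc
      have hout : ∀ z : IrrCharacter P, z ∉ orb c → mu P (χ : G → ℂ) z = 0 := by
        intro z hz
        by_contra hzne
        have hzt : z ≠ t := fun e => hzne (e ▸ hRT χ hχ hm)
        obtain ⟨a, b, hab, hmem, hmab, hTab, hat, hbt, hDx, hDy, hDo⟩ :=
          hpair χ c y hct hyt hyc (by rw [hc, hy]; exact one_ne_zero)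
        have ha : χ = a := by
          rcases hmem with e | e
          · exact e
          · have := hDx c (self_mem_orb c)
            have := hDy y (self_mem_orb y)
            rw [← e, hy] at this
            omega
        subst ha
        have hzy : z ∉ orb y := fun hmem => hzne (by
          obtain ⟨g, rfl⟩ := mem_orb.mp hmem
          rw [mu_conjChar (isCharacter_of_isIrr χ.2), hy])
        have hbz := hDo z hz hzy
        have hbm : mult π b ≠ 0 := hmab ▸ hm
        have hbR : b ∈ R := by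
          refine Finset.mem_erase.mpr ⟨fun e => ?_, Finset.mem_erase.mpr ⟨hbt, Finset.mem_univ _⟩⟩
          rw [e, hRT χ hχ hm, hT₀] at hTab
          omega
        have h2 := hrest z hzt
        rw [← Finset.add_sum_erase _ _ hχ, ← Finset.add_sum_erase _ _ (Finset.mem_erase.mpr ⟨hab.symm, hbR⟩)] at h2
        have := Nat.mul_pos (Nat.pos_of_ne_zero hm) (Nat.pos_of_ne_zero hzne)
        have := Nat.mul_pos (Nat.pos_of_ne_zero hbm) (show 0 < mu P (b : G → ℂ) z by omega)
        omega
      refine ⟨?_, by have := h.e_pos; omega, h2e⟩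
      rw [h.deg_eq_sum_mu (isCharacter_of_isIrr χ.2),
        ← Finset.sum_subset (Finset.subset_univ (orb c)) (fun z _ hz => hout z hz),
        Finset.sum_congr rfl (g := fun _ => 1) fun z hz => by
          obtain ⟨g, rfl⟩ := mem_orb.mp hz
          rw [mu_conjChar (isCharacter_of_isIrr χ.2), hc],
        Finset.sum_const, smul_eq_mul, mul_one, h.card_orb hct]
    obtain ⟨θ, hθR, hθ0⟩ := Finset.exists_ne_zero_of_sum_ne_zero
      (show ∑ χ ∈ R, mult π χ * deg (χ : G → ℂ) ≠ 0 by
        rw [hRdeg]; have := h.prime.two_le; omega)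
    have hθm : mult π θ ≠ 0 := (mul_ne_zero_iff.mp hθ0).1
    obtain ⟨hθdeg, hlt, h2e⟩ := hsmall θ hθR hθm
    obtain ⟨hle, hodd⟩ := small_character (p := p) (Nat.card G) G P h le_rfl hO hPn θ θ.2
      (hRT θ hθR hθm) hθdeg hlt
    have heq : p - 1 = 2 * h.e := by omega
    obtain ⟨k, hk⟩ := hodd heq
    have hsum2 : ∑ χ ∈ R, mult π χ ^ 2 = 2 := by
      refine Nat.eq_of_mul_eq_mul_right h.e_pos ?_
      rw [Finset.sum_mul, Finset.sum_congr rfl (g := fun χ : IrrCharacter G => mult π χ * deg (χ : G → ℂ))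
        fun χ hχ => ?_, hRdeg]
      · omega
      · by_cases hm : mult π χ = 0
        · rw [hm]; simp
        · rw [(hsupp χ hχ hm).1, (hsmall χ hχ hm).1, one_pow]
    refine ⟨by omega, by rw [hnorm, hnorm', hsum2]; norm_num, ⟨χ₀, hχ₀t,
      by rw [mult_spec hπ (isCharacter_of_isIrr χ₀.2), hm₀, Nat.cast_one], hdeg₀', ?_⟩,
      θ, θ.2, by rw [mult_spec hπ (isCharacter_of_isIrr θ.2)]; exact_mod_cast hθm, ?_⟩
    · let χc : IrrCharacter G := ⟨_, isIrr_conj' χ₀.2⟩
      have hmc : classInner π (χc : G → ℂ) = 1 := by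
        show classInner π (fun g => conj ((χ₀ : G → ℂ) g)) = 1
        rw [show π = fun g => conj (π g) from funext fun g => (hreal g).symm, inner_conj_conj,
          mult_spec hπ (isCharacter_of_isIrr χ₀.2), hm₀, Nat.cast_one, map_one]
      have hTc : mu P (χc : G → ℂ) t = 1 := by
        have e := mu_spec (P := P) (isCharacter_of_isIrr χc.2) t
        rw [show (fun y : P => (χc : G → ℂ) y) = fun y : P => conj ((χ₀ : G → ℂ) y) from rfl,
          show (t : P → ℂ) = fun y => conj ((t : P → ℂ) y) from funext fun y => (map_one _).symm,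
          inner_conj_conj, mu_spec (isCharacter_of_isIrr χ₀.2), hT₀, Nat.cast_one, map_one] at e
        exact_mod_cast e.symm
      have hmc' : mult π χc = 1 := by
        rw [mult_spec hπ (isCharacter_of_isIrr χc.2)] at hmc
        exact_mod_cast hmc
      have hct : χc ≠ trivIrr G := fun e => hχ₀t (Subtype.ext (funext fun g => by
        have := congrArg conj (congrFun (congrArg Subtype.val e) g)
        simpa [χc, trivIrr] using this))
      have := huniq χc hct (by rw [hmc']; exact one_ne_zero) (by rw [hTc]; exact one_ne_zero)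
      exact fun g => congrFun (congrArg Subtype.val this) g
    · by_contra hre
      push Not at hre
      obtain ⟨c, hct, hin, hout⟩ :=
        (h.e_le_deg (isCharacter_of_isIrr θ.2) (hRT θ hθR hθm) (deg_pos θ.2).ne').2 hθdeg
      let cc : IrrCharacter P := ⟨_, isIrr_conj' c.2⟩
      have hcc : mu P (θ : G → ℂ) cc = 1 := by
        have e := mu_spec (P := P) (isCharacter_of_isIrr θ.2) cc
        rw [show (fun y : P => (θ : G → ℂ) y) = fun y : P => conj ((θ : G → ℂ) y) from
            funext fun y => (hre y).symm, show (cc : P → ℂ) = fun y => conj ((c : P → ℂ) y) from rfl,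
          inner_conj_conj, mu_spec (isCharacter_of_isIrr θ.2), hin c (self_mem_orb c), Nat.cast_one,
          map_one] at e
        exact_mod_cast e.symm
      obtain ⟨g, hg⟩ := mem_orb.mp (by_contra fun hn => by
        rw [hout cc hn] at hcc; exact zero_ne_one hcc : cc ∈ orb c)
      have hgc : conjChar (g * g) c = c := by
        rw [conjChar_mul, hg]
        refine Subtype.ext (funext fun y => ?_)
        show conj ((c : P → ℂ) (conjHom g y)) = _
        have := congrFun (congrArg Subtype.val hg) y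
        rw [show (c : P → ℂ) (conjHom g y) = conj ((c : P → ℂ) y) from this, Complex.conj_conj]
      have hg2 := h.mem_of_conjChar_eq hct hgc
      have hgP : (g : G) ∈ P := by
        have hN := h.card_normalizer
        have hpk : p = 2 * (2 * k + 1) + 1 := by omega
        set j := (2 * k + 1) * p with hj
        have hodd' : Odd j := ⟨(2 * k + 1) * (2 * k + 1) + k, by rw [hj, hpk]; ring⟩
        obtain ⟨i, hi⟩ := hodd'
        have e1 : (g : G) ^ j = 1 := by
          have := congrArg Subtype.val (pow_card_eq_one' (x := g))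
          rw [hN, hk, ← hj] at this
          simpa using this
        have e2 : (g : G) ^ (2 * i) ∈ P := by
          rw [pow_mul, pow_two]
          exact pow_mem hg2 i
        rw [hi, pow_succ] at e1
        rw [← inv_inv (g : G), ← eq_inv_of_mul_eq_one_left e1]
        exact inv_mem e2
      have hfix := h.conjChar_eq_of_mem c hgP
      rw [hg] at hfix
      obtain ⟨lam, hlam⟩ := exists_hom_of_comm h.comm_P c.2
      refine hct (Subtype.ext (hlam.trans (funext fun y => ?_)))
      have hr : conj ((lam y : ℂˣ) : ℂ) = ((lam y : ℂˣ) : ℂ) := by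
        have := congrFun (congrArg Subtype.val hfix) y
        show _ = _
        simpa [cc, hlam] using this
      have hpow : ((lam y : ℂˣ) : ℂ) ^ p = 1 := by
        rw [← Units.val_pow_eq_pow_val, ← map_pow, ← h.card, pow_card_eq_one', map_one, Units.val_one]
      obtain ⟨r, hr'⟩ := Complex.conj_eq_iff_real.mp hr
      have hp' : Odd p := h.prime.odd_of_ne_two hp2
      show ((lam y : ℂˣ) : ℂ) = 1
      rw [hr'] at hpow ⊢
      norm_cast at hpow ⊢
      have habs : |r| = 1 := by
        rw [← pow_eq_one_iff_of_nonneg (abs_nonneg r) h.prime.ne_zero, ← abs_pow, hpow, abs_one]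
      rcases abs_eq (zero_le_one (α := ℝ)) |>.mp habs with e | e
      · exact e
      · exfalso
        rw [e, hp'.neg_one_pow] at hpow
        norm_num at hpow

end Hyp

end Cfsg.Agent.CT.SelfCentralP
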