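import Cfsg.Agent.Lib.CT.SelfCentralP

/-!
# Small faithful characters over a self-centralizing subgroup of prime order
-/

set_option autoImplicit false
set_option linter.unusedSectionVars false

namespace Cfsg.Agent.CT.SelfCentralP

open scoped ComplexConjugate

universe u

variable {G : Type u} [Group G] {P : Subgroup G} {p : ℕ}

theorem classInner_subgroupOf [Finite G] [Fintype P] {L : Subgroup G} [Fintype (P.subgroupOf L)]
    (hPL : P ≤ L) (f g : G → ℂ) :
    classInner (fun y : P.subgroupOf L => f ((y : L) : G)) (fun y : P.subgroupOf L => g ((y : L) : G))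
      = classInner (fun y : P => f y) (fun y : P => g y) := by
  simp only [classInner]
  rw [Nat.card_congr (Subgroup.subgroupOfEquivOfLe hPL).toEquiv]
  congr 1
  exact Fintype.sum_equiv (Subgroup.subgroupOfEquivOfLe hPL).toEquiv _ _ fun y => rfl

theorem mu_subgroupOf_triv [Fintype G] [Fintype P] {L : Subgroup G} [Fintype L]
    [Fintype (P.subgroupOf L)] (hPL : P ≤ L) {χ : G → ℂ} (hχ : IsCharacter G χ) :
    mu (P.subgroupOf L) (fun z : L => χ z) (trivIrr _) = mu P χ (trivIrr P) := by
  have h1 := mu_spec (P := P.subgroupOf L) (isCharacter_restrict L hχ) (trivIrr _)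
  have h2 := mu_spec (P := P) hχ (trivIrr P)
  have e := classInner_subgroupOf hPL χ (fun _ => (1 : ℂ))
  have : ((mu (P.subgroupOf L) (fun z : L => χ z) (trivIrr _) : ℕ) : ℂ) = mu P χ (trivIrr P) := by
    rw [← h1, ← h2]; exact e
  exact_mod_cast this

theorem not_dvd_card_sup [Finite G] (hp : p.Prime) (A B : Subgroup G) [B.Normal]
    (hA : ¬ p ∣ Nat.card A) (hB : ¬ p ∣ Nat.card B) : ¬ p ∣ Nat.card (A ⊔ B : Subgroup G) := by
  intro hd
  have e := Subgroup.relIndex_mul_relIndex ⊥ B (A ⊔ B) bot_le le_sup_right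
  rw [Subgroup.relIndex_bot_left, Subgroup.relIndex_bot_left, Subgroup.relIndex_sup_right] at e
  rw [← e] at hd
  rcases hp.dvd_mul.mp hd with h1 | h1
  · exact hB h1
  · exact hA (h1.trans (Subgroup.relIndex_dvd_card B A))

theorem pprime_normal_of_normal [Finite G] (hp : p.Prime) {L : Subgroup G} [L.Normal]
    (hO : ∀ H : Subgroup G, H.Normal → ¬ p ∣ Nat.card H → H = ⊥) (H : Subgroup L) (hH : H.Normal)
    (hpH : ¬ p ∣ Nat.card H) : H = ⊥ := by
  classical
  haveI := Fintype.ofFinite G
  let K : G → Subgroup L := fun g => H.map (MulAut.conjNormal g : MulAut L).toMonoidHom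
  have hK : ∀ g, (K g).Normal ∧ ¬ p ∣ Nat.card (K g) := fun g =>
    ⟨hH.map _ (MulAut.conjNormal g : MulAut L).surjective, by
      rw [show Nat.card (K g) = Nat.card H from (Nat.card_congr (Subgroup.equivMapOfInjective H (MulAut.conjNormal g : MulAut L).toMonoidHom (MulAut.conjNormal g : MulAut L).injective).toEquiv).symm]
      exact hpH⟩
  have hall : ∀ s : Finset G, (s.sup K).Normal ∧ ¬ p ∣ Nat.card (s.sup K : Subgroup L) := fun s => by
    refine Finset.sup_induction (p := fun A : Subgroup L => A.Normal ∧ ¬ p ∣ Nat.card A)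
      ⟨inferInstance, ?_⟩ (fun A hA B hB => ?_) fun g _ => hK g
    · rw [Subgroup.card_bot]; exact hp.not_dvd_one
    · haveI := hA.1; haveI := hB.1
      exact ⟨inferInstance, not_dvd_card_sup hp A B hA.2 hB.2⟩
  set U := (Finset.univ.sup K).map L.subtype with hU
  have hUn : U.Normal := by
    refine ⟨fun u hu g => ?_⟩
    obtain ⟨z, hz, rfl⟩ := hu
    have hle : (Finset.univ.sup K).map (MulAut.conjNormal g : MulAut L).toMonoidHom ≤ Finset.univ.sup K := by
      rw [Subgroup.map_le_iff_le_comap]
      refine Finset.sup_le fun a _ => ?_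
      rw [← Subgroup.map_le_iff_le_comap, Subgroup.map_map]
      refine le_trans (le_of_eq ?_) (Finset.le_sup (f := K) (Finset.mem_univ (g * a)))
      congr 1
      ext w
      simp [mul_assoc]
    exact ⟨_, hle (Subgroup.mem_map_of_mem _ hz), by simp⟩
  have hUc : ¬ p ∣ Nat.card U := by
    rw [hU, Subgroup.card_map_of_injective (Subgroup.subtype_injective L)]
    exact (hall Finset.univ).2
  have hb := hO U hUn hUc
  rw [hU, Subgroup.map_eq_bot_iff_of_injective _ (Subgroup.subtype_injective L)] at hb
  refine eq_bot_iff.mpr (le_trans ?_ hb.le)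
  refine le_trans ?_ (Finset.le_sup (f := K) (Finset.mem_univ (1 : G)))
  intro x hx
  exact ⟨x, hx, by ext; simp⟩

theorem inner_mul_conj [Fintype G] (a b c : G → ℂ) :
    classInner (a * fun g => conj (b g)) c = classInner a (b * c) := by
  simp only [classInner]
  congr 1
  exact Finset.sum_congr rfl fun g _ => by simp [mul_assoc, map_mul]

namespace Hyp

variable (h : Hyp G P p)
include h

theorem restrict [Finite G] {L : Subgroup G} (hPL : P ≤ L) : Hyp L (P.subgroupOf L) p where
  prime := h.prime
  card := (Nat.card_congr (Subgroup.subgroupOfEquivOfLe hPL).toEquiv).trans h.card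
  cent g hg := by
    refine Subgroup.mem_subgroupOf.mpr (h.cent _ fun y hy => ?_)
    simpa using congrArg Subtype.val (hg ⟨y, hPL hy⟩ (Subgroup.mem_subgroupOf.mpr hy))
  sq hd := h.sq (hd.trans (Subgroup.card_subgroup_dvd_card L))

theorem mem_normalizer_subgroupOf {L : Subgroup G} (hPL : P ≤ L) (z : L) :
    z ∈ Subgroup.normalizer ((P.subgroupOf L : Subgroup L) : Set L) ↔
      (z : G) ∈ Subgroup.normalizer (P : Set G) := by
  rw [Subgroup.mem_normalizer_iff, Subgroup.mem_normalizer_iff]
  constructor
  · intro hz w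
    constructor
    · intro hw
      simpa [Subgroup.mem_subgroupOf] using (hz ⟨w, hPL hw⟩).mp (Subgroup.mem_subgroupOf.mpr hw)
    · intro hw
      have hwL : w ∈ L := by
        have := L.mul_mem (L.mul_mem (L.inv_mem z.2) (hPL hw)) z.2
        simpa [mul_assoc] using this
      simpa [Subgroup.mem_subgroupOf] using (hz ⟨w, hwL⟩).mpr (by
        simpa [Subgroup.mem_subgroupOf] using hw)
  · intro hz w
    simpa [Subgroup.mem_subgroupOf] using hz w

theorem e_restrict [Finite G] {L : Subgroup G} (hPL : P ≤ L) :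
    (h.restrict hPL).e = Nat.card (Subgroup.normalizer (P : Set G) ⊓ L : Subgroup G) / p := by
  show Nat.card _ / p = _
  congr 1
  refine Nat.card_congr
    { toFun := fun z => ⟨((z : L) : G), (h.mem_normalizer_subgroupOf hPL z.1).mp z.2, z.1.2⟩
      invFun := fun w => ⟨⟨(w : G), w.2.2⟩, (h.mem_normalizer_subgroupOf hPL _).mpr w.2.1⟩
      left_inv := fun z => rfl
      right_inv := fun w => rfl }

theorem e_restrict_normalizer [Finite G] :
    (h.restrict (Subgroup.le_normalizer (H := P))).e = h.e := by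
  rw [h.e_restrict Subgroup.le_normalizer, inf_idem]
  rfl

/-- An irreducible character with `P` in its kernel is linear. -/
theorem deg_one_of_const [Fintype G] {χ : G → ℂ} (hχ : IsIrrCharacter G χ)
    (hP : ∀ y ∈ P, χ y = χ 1) : χ 1 = 1 := by
  have hc := isCharacter_of_isIrr hχ
  have hcf := isClassFunction_of_isIrr hχ
  set K := kerChar χ
  haveI hKn : K.Normal := ⟨fun k hk g => (mem_kerChar_iff hc).mpr (by
    rw [hcf k g]; exact (mem_kerChar_iff hc).mp hk)⟩
  obtain ⟨ψ, hψ, hψχ⟩ := exists_quotient_irr hχ K fun k hk => (mem_kerChar_iff hc).mp hk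
  have hPK : P ≤ K := fun y hy => (mem_kerChar_iff hc).mpr (hP y hy)
  have hcomm : ∀ a b : G ⧸ K, a * b = b * a := by
    intro a b
    obtain ⟨a, rfl⟩ := QuotientGroup.mk_surjective a
    obtain ⟨b, rfl⟩ := QuotientGroup.mk_surjective b
    obtain ⟨k, hk, n, hn, rfl⟩ := h.exists_eq_mul hPK a
    obtain ⟨k', hk', n', hn', rfl⟩ := h.exists_eq_mul hPK b
    simp only [QuotientGroup.mk_mul, (QuotientGroup.eq_one_iff k).mpr hk,
      (QuotientGroup.eq_one_iff k').mpr hk', one_mul]
    have e := (QuotientGroup.eq_one_iff (N := K) _).mpr (hPK (h.commutator_mem hn hn'))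
    simp only [QuotientGroup.mk_mul, QuotientGroup.mk_inv] at e
    calc (n : G ⧸ K) * n' = ((n : G ⧸ K) * n' * (n : G ⧸ K)⁻¹ * (n' : G ⧸ K)⁻¹) * ((n' : G ⧸ K) * n) := by
          group
      _ = _ := by rw [e, one_mul]
  have := hψχ 1
  rw [QuotientGroup.mk_one, irr_degree_one_of_comm hcomm hψ] at this
  exact this.symm

theorem restrict_normalizer_irr [Fintype G] [Fintype P] {θ : G → ℂ} (hθ : IsCharacter G θ)
    (h0 : mu P θ (trivIrr P) = 0) (hdeg : deg θ = h.e) :
    IsIrrCharacter (Subgroup.normalizer (P : Set G))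
      (fun z : Subgroup.normalizer (P : Set G) => θ z) := by
  classical
  set N := Subgroup.normalizer (P : Set G)
  have hPN : P ≤ N := Subgroup.le_normalizer
  have h' := h.restrict hPN
  have hc : IsCharacter N (fun z : N => θ z) := isCharacter_restrict N hθ
  have hne : (fun z : N => θ z) ≠ 0 := fun e0 => by
    have := congrFun e0 1
    simp only [OneMemClass.coe_one, Pi.zero_apply, deg_eq hθ, Nat.cast_eq_zero, hdeg] at this
    exact h.e_pos.ne' this
  obtain ⟨φ, hφ⟩ := exists_constituent hc hne
  have hm : mult (fun z : N => θ z) φ ≠ 0 := fun e0 => hφ (by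
    rw [mult_spec hc (isCharacter_of_isIrr φ.2), e0, Nat.cast_zero])
  have hle := mult_mul_mu_le (P := P.subgroupOf N) hc φ (trivIrr _)
  rw [mu_subgroupOf_triv hPN hθ, h0] at hle
  have hT : mu (P.subgroupOf N) (φ : N → ℂ) (trivIrr _) = 0 :=
    (mul_eq_zero.mp (Nat.le_zero.mp hle)).resolve_left hm
  have hge := (h'.e_le_deg (isCharacter_of_isIrr φ.2) hT (deg_pos φ.2).ne').1
  rw [h.e_restrict_normalizer, ← hdeg] at hge
  have hdN : deg (fun z : N => θ z) = deg θ := by
    have := deg_eq hc
    rw [OneMemClass.coe_one, deg_eq hθ] at this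
    exact_mod_cast this.symm
  rw [eq_of_deg_le hc φ.2 hφ (hdN ▸ hge)]
  exact φ.2

theorem mult_le_one [Fintype G] [Fintype P] {θ : G → ℂ} (hθ : IsCharacter G θ)
    (h0 : mu P θ (trivIrr P) = 0) (hdeg : deg θ = h.e) (χ : IrrCharacter G)
    (hT : mu P (χ : G → ℂ) (trivIrr P) ≠ 0) :
    mult (θ * fun g => conj (θ g)) χ ≤ 1 := by
  classical
  have hirr := h.restrict_normalizer_irr hθ h0 hdeg
  set N := Subgroup.normalizer (P : Set G)
  have hPN : P ≤ N := Subgroup.le_normalizer
  have h' := h.restrict hPN
  have hχN : IsCharacter N (fun z : N => (χ : G → ℂ) z) :=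
    isCharacter_restrict N (isCharacter_of_isIrr χ.2)
  rw [← mu_subgroupOf_triv (L := N) hPN (isCharacter_of_isIrr χ.2), mu_eq_sum hχN] at hT
  obtain ⟨ω, -, hω⟩ := Finset.exists_ne_zero_of_sum_ne_zero hT
  obtain ⟨hω1, hω2⟩ := mul_ne_zero_iff.mp hω
  haveI : (P.subgroupOf N).Normal := ⟨fun y hy z => by
    have := (Subgroup.mem_normalizer_iff.mp z.2 ((y : N) : G)).mp (Subgroup.mem_subgroupOf.mp hy)
    exact Subgroup.mem_subgroupOf.mpr (by simpa using this)⟩
  have hres := restrict_eq_smul_of_invariant (P.subgroupOf N) ω.2 (trivIrr (P.subgroupOf N)).2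
    (by rw [mu_spec (isCharacter_of_isIrr ω.2)]; exact_mod_cast hω2) (fun z => rfl)
  have hconst : ∀ y ∈ P.subgroupOf N, (ω : N → ℂ) y = (ω : N → ℂ) 1 := fun y hy => by
    have e1 := congrFun hres ⟨y, hy⟩
    have e2 := congrFun hres 1
    simp only [Pi.smul_apply, OneMemClass.coe_one] at e1 e2
    rw [e1, e2]
    rfl
  have hω0 := h'.deg_one_of_const ω.2 hconst
  have hψ : IsCharacter G (θ * fun g => conj (θ g)) := isCharacter_mul hθ (isCharacter_conj hθ)
  have h1 := mult_mul_mu_le (P := N) hψ χ ω
  have h2 : mu N (θ * fun g => conj (θ g)) ω ≤ 1 := by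
    have hprod : IsCharacter N ((fun z : N => θ z) * (ω : N → ℂ)) :=
      isCharacter_mul (isCharacter_of_isIrr hirr) (isCharacter_of_isIrr ω.2)
    have e1 := mu_spec (P := N) hψ ω
    have e2 := mult_spec hprod (isCharacter_of_isIrr hirr)
    have e3 : classInner (fun y : N => (θ * fun g => conj (θ g)) y) (ω : N → ℂ) =
        classInner (fun z : N => θ z) ((fun z : N => θ z) * (ω : N → ℂ)) :=
      inner_mul_conj (fun z : N => θ z) (fun z : N => θ z) _
    rw [e1, classInner_comm_of_char (isCharacter_of_isIrr hirr) hprod, e2] at e3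
    have hle := constituent_deg_le hprod ⟨_, hirr⟩
    have hd : deg ((fun z : N => θ z) * (ω : N → ℂ)) = deg (fun z : N => θ z) := by
      have := deg_eq hprod
      rw [Pi.mul_apply, hω0, mul_one, deg_eq (isCharacter_of_isIrr hirr)] at this
      exact_mod_cast this.symm
    rw [hd] at hle
    have e4 : mu N (θ * fun g => conj (θ g)) ω = mult ((fun z : N => θ z) * (ω : N → ℂ)) (fun z : N => θ z) := by
      exact_mod_cast e3
    rw [e4]
    have hpos := deg_pos hirr
    exact Nat.le_of_mul_le_mul_right (by simpa using hle) hpos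
  have h3 : mu N (χ : G → ℂ) ω = mult (fun z : N => (χ : G → ℂ) z) ω := rfl
  rw [h3] at h1
  calc mult (θ * fun g => conj (θ g)) χ
      ≤ mult (θ * fun g => conj (θ g)) χ * mult (fun z : N => (χ : G → ℂ) z) ω :=
        Nat.le_mul_of_pos_right _ (Nat.pos_of_ne_zero hω1)
    _ ≤ _ := h1
    _ ≤ 1 := h2

variable [Fintype G] [Fintype P]

/-- A character with constant multiplicities on the non-principal characters of `P`. -/
theorem mu_mul_of_const {θ χ : G → ℂ} (hθ : IsCharacter G θ) (hχ : IsCharacter G χ) {n : ℕ}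
    (hn : ∀ x : IrrCharacter P, x ≠ trivIrr P → mu P χ x = n) (x : IrrCharacter P) :
    (mu P (θ * χ) x : ℂ) =
      ((mu P χ (trivIrr P) : ℂ) - n) * mu P θ x + n * deg θ := by
  classical
  set T := mu P χ (trivIrr P)
  have hdec : (fun y : P => χ y) =
      ((T : ℂ) - n) • (trivIrr P : P → ℂ) + (n : ℂ) • ∑ z : IrrCharacter P, (z : P → ℂ) := by
    rw [character_eq_sum (isCharacter_restrict P hχ), Finset.smul_sum,
      ← Finset.add_sum_erase _ _ (Finset.mem_univ (trivIrr P)),
      ← Finset.add_sum_erase _ _ (Finset.mem_univ (trivIrr P))]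
    have : ∀ z ∈ Finset.univ.erase (trivIrr P),
        (mult (fun y : P => χ y) (z : P → ℂ) : ℂ) • (z : P → ℂ) = (n : ℂ) • (z : P → ℂ) := fun z hz => by
      rw [show mult (fun y : P => χ y) (z : P → ℂ) = n from hn z (Finset.ne_of_mem_erase hz)]
    rw [Finset.sum_congr rfl this, ← add_assoc, ← add_smul, sub_add_cancel]
    rfl
  have hreg : ∀ y : P, θ y * ∑ z : IrrCharacter P, (z : P → ℂ) y =
      (deg θ : ℂ) * ∑ z : IrrCharacter P, (z : P → ℂ) y := by
    intro y
    have hr := regular_eq_sum (G := P) y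
    simp only [h.irr_deg_one, one_mul] at hr
    by_cases hy : y = 1
    · subst hy; rw [OneMemClass.coe_one, deg_eq hθ]
    · rw [hr, if_neg hy, mul_zero, mul_zero]
  have hmul : (fun y : P => (θ * χ) y) =
      ((T : ℂ) - n) • (fun y : P => θ y) + ((n : ℂ) * deg θ) • ∑ z : IrrCharacter P, (z : P → ℂ) := by
    funext y
    have := congrFun hdec y
    simp only [Pi.add_apply, Pi.smul_apply, smul_eq_mul, Finset.sum_apply] at this ⊢
    rw [Pi.mul_apply, this, show (trivIrr P : P → ℂ) y = 1 from rfl]
    linear_combination (n : ℂ) * hreg y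
  rw [← mu_spec (isCharacter_mul hθ hχ), hmul, classInner_add_left, classInner_smul_left,
    classInner_smul_left, mu_spec hθ, classInner_sum_left,
    Finset.sum_congr rfl fun z _ => irr_inner_subtype z x]
  simp

theorem const_of_mu_triv {θ : G → ℂ} (hθ : IsIrrCharacter G θ) (h0 : mu P θ (trivIrr P) = 0)
    (hdeg : deg θ = h.e) (he : h.e < p - 1) :
    ∃ c d : IrrCharacter P, ∃ b : IrrCharacter G, c ≠ trivIrr P ∧ d ≠ trivIrr P ∧ d ∉ orb c ∧
      mu P θ c = 1 ∧ mu P θ d = 0 ∧
      (∑ x : IrrCharacter P, mu P θ x ^ 2 = h.e) ∧ mu P (b : G → ℂ) (trivIrr P) = 0 ∧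
      (∀ x, mu P θ x * mu P (b : G → ℂ) x = 0) ∧
      (∀ χ : G → ℂ, IsCharacter G χ →
        (mu P χ c : ℂ) - mu P χ d = classInner θ χ - classInner (b : G → ℂ) χ) ∧
      (∀ χ : IrrCharacter G, mu P (χ : G → ℂ) (trivIrr P) ≠ 0 →
        ∀ x : IrrCharacter P, x ≠ trivIrr P → mu P (χ : G → ℂ) x = mu P (χ : G → ℂ) c) := by
  classical
  have hc := isCharacter_of_isIrr hθ
  obtain ⟨c, hct, hin, hout⟩ :=
    (h.e_le_deg hc h0 (deg_pos hθ).ne').2 hdeg
  obtain ⟨d, hdt, hcd⟩ := h.exists_notMem_orb he hct
  -- every exchange with the orbit of `θ` starts at `θ`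
  have hex : ∀ x : IrrCharacter P, x ≠ trivIrr P → x ∉ orb c → ∃ b : IrrCharacter G,
      mu P (b : G → ℂ) (trivIrr P) = 0 ∧
      (∀ χ : G → ℂ, IsCharacter G χ →
        (mu P χ c : ℂ) - mu P χ x = classInner θ χ - classInner (b : G → ℂ) χ) ∧
      (∀ z, mu P θ z * mu P (b : G → ℂ) z = 0) := by
    intro x hxt hx
    obtain ⟨a, b, hab, hD, hDc, hDx, hDo⟩ := h.exists_pair hct hxt hx
    have e1 := hD θ hc
    rw [hin c (self_mem_orb c), hout x hx, classInner_sub_left] at e1
    have ha : (a : G → ℂ) = θ := by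
      rw [irr_inner a.2 hθ, irr_inner b.2 hθ] at e1
      by_contra hne
      rw [if_neg hne] at e1
      split_ifs at e1 <;> norm_num at e1
    refine ⟨b, ?_, fun χ hχ => by rw [hD χ hχ, classInner_sub_left, ha], fun z => ?_⟩
    · rw [← hDo (trivIrr P) (h.triv_notMem_orb hct) (h.triv_notMem_orb hxt), ha, h0]
    · by_cases hz : z ∈ orb c
      · have := hDc z hz
        rw [ha, hin z hz] at this
        rw [show mu P (b : G → ℂ) z = 0 by omega, mul_zero]
      · rw [hout z hz, zero_mul]
  obtain ⟨b, hb0, hbD, hbdis⟩ := hex d hdt hcd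
  refine ⟨c, d, b, hct, hdt, hcd, hin c (self_mem_orb c), hout d hcd, ?_, hb0, hbdis, hbD,
    fun χ hT x hxt => ?_⟩
  · rw [← h.card_orb hct, ← Finset.sum_add_sum_compl (orb c),
      Finset.sum_congr rfl fun z hz => by rw [hin z hz],
      Finset.sum_eq_zero (s := (orb c)ᶜ) fun z hz => by rw [hout z (Finset.mem_compl.mp hz)]; rfl]
    simp
  · by_cases hx : x ∈ orb c
    · obtain ⟨g, rfl⟩ := mem_orb.mp hx
      exact mu_conjChar (isCharacter_of_isIrr χ.2) g c
    · obtain ⟨b', hb'0, hb'D, -⟩ := hex x hxt hx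
      have e1 := hb'D χ (isCharacter_of_isIrr χ.2)
      rw [irr_inner_of_ne hθ χ.2 (fun e => hT (e ▸ h0)),
        irr_inner_of_ne b'.2 χ.2 (fun e => hT (e ▸ hb'0)), sub_self, sub_eq_zero] at e1
      exact_mod_cast e1.symm

omit h [Fintype G] [Fintype P] in
/-- A small character without fixed vector under `P` forces `p - 1 ≤ 2e`, with `e` odd in case of
equality. -/
theorem small_character (m : ℕ) : ∀ (G : Type u) [Group G] [Fintype G] (P : Subgroup G) [Fintype P]
    (h : Hyp G P p), Nat.card G ≤ m → (∀ H : Subgroup G, H.Normal → ¬ p ∣ Nat.card H → H = ⊥) →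
    ¬ P.Normal → ∀ θ : G → ℂ, IsIrrCharacter G θ → mu P θ (trivIrr P) = 0 → deg θ = h.e →
    h.e < p - 1 → p - 1 ≤ 2 * h.e ∧ (p - 1 = 2 * h.e → Odd h.e) := by
  induction m using Nat.strong_induction_on with
  | _ m ih =>
    intro G _ _ P _ h hGm hO hPn θ hθ h0 hdeg he
    classical
    have hc := isCharacter_of_isIrr hθ
    set ψ : G → ℂ := θ * fun g => conj (θ g) with hψdef
    have hψ : IsCharacter G ψ := isCharacter_mul hc (isCharacter_conj hc)
    obtain ⟨c, d, b, hct, hdt, hcd, hθc, hθd, hsq, hb0, hbdis, hbD, hconst⟩ :=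
      h.const_of_mu_triv hθ h0 hdeg he
    have he1 : h.e ≠ 1 := by
      intro he1
      have h1 : θ 1 = 1 := by rw [deg_eq hc, hdeg, he1, Nat.cast_one]
      set K := kerChar θ
      haveI hKn : K.Normal := ⟨fun k hk g => (mem_kerChar_iff hc).mpr (by
        rw [isClassFunction_of_isIrr hθ k g]; exact (mem_kerChar_iff hc).mp hk)⟩
      have hK : ¬ p ∣ Nat.card K := fun hd => by
        have hPK := h.le_of_dvd_card hd
        have hres : (fun y : P => θ y) = fun _ => 1 := funext fun y =>
          ((mem_kerChar_iff hc).mp (hPK y.2)).trans h1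
        have := mu_spec (P := P) hc (trivIrr P)
        rw [hres, show classInner (fun _ : P => (1 : ℂ)) (trivIrr P : P → ℂ) = 1 from
          irr_inner_self (trivIrr P).2, h0, Nat.cast_zero] at this
        exact one_ne_zero this
      have hKb := hO K hKn hK
      refine hPn ⟨fun y hy g => ?_⟩
      have hm : g * y * g⁻¹ * y⁻¹ ∈ K := (mem_kerChar_iff hc).mpr (by
        refine linear_trivial_on_commutator hc h1 _ ?_
        rw [commutator_def]
        exact Subgroup.commutator_mem_commutator (Subgroup.mem_top g) (Subgroup.mem_top y))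
      rw [hKb, Subgroup.mem_bot, mul_inv_eq_one] at hm
      rwa [hm]
    -- the constituents of `ψ` with a fixed vector
    set S := Finset.univ.filter fun χ : IrrCharacter G =>
      χ ≠ trivIrr G ∧ mult ψ χ ≠ 0 ∧ mu P (χ : G → ℂ) (trivIrr P) ≠ 0
    have hS : ∀ χ ∈ S, mult ψ χ = 1 ∧
        mu P (χ : G → ℂ) (trivIrr P) = mu P (χ : G → ℂ) c + 1 := by
      intro χ hχ
      obtain ⟨-, -, hm, hT⟩ := Finset.mem_filter.mp hχ
      have h1 : mult ψ χ = 1 := by
        have := h.mult_le_one hc h0 hdeg χ hT
        rw [← hψdef] at this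
        omega
      refine ⟨h1, ?_⟩
      have hχc := isCharacter_of_isIrr χ.2
      have hb' : IsCharacter G ((b : G → ℂ) * fun g => conj (θ g)) :=
        isCharacter_mul (isCharacter_of_isIrr b.2) (isCharacter_conj hc)
      have hbT : mu P ((b : G → ℂ) * fun g => conj (θ g)) (trivIrr P) = 0 := by
        have e := mu_spec (P := P) hb' (trivIrr P)
        have e2 : classInner (fun y : P => ((b : G → ℂ) * fun g => conj (θ g)) y) (trivIrr P : P → ℂ) =
            classInner (fun y : P => (b : G → ℂ) y) (fun y : P => θ y) := by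
          show classInner ((fun y : P => (b : G → ℂ) y) * fun y : P => conj (θ y)) _ = _
          rw [inner_mul_conj]
          congr 1
          funext y
          exact mul_one _
        rw [e2, inner_restrict (isCharacter_of_isIrr b.2) hc] at e
        rw [Finset.sum_eq_zero fun x _ => by rw [mul_comm]; exact hbdis x] at e
        exact_mod_cast e.symm
      have hb'' : mult ((b : G → ℂ) * fun g => conj (θ g)) χ = 0 := by
        have := mult_mul_mu_le (P := P) hb' χ (trivIrr P)
        rw [hbT] at this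
        exact (mul_eq_zero.mp (Nat.le_zero.mp this)).resolve_right hT
      have key := hbD (θ * (χ : G → ℂ)) (isCharacter_mul hc hχc)
      rw [h.mu_mul_of_const hc hχc (hconst χ hT) c, h.mu_mul_of_const hc hχc (hconst χ hT) d,
        hθc, hθd, ← inner_mul_conj, ← inner_mul_conj, ← hψdef,
        mult_spec hψ hχc, mult_spec hb' hχc, h1, hb''] at key
      push_cast at key
      have : (mu P (χ : G → ℂ) (trivIrr P) : ℂ) = ((mu P (χ : G → ℂ) c + 1 : ℕ) : ℂ) := by
        push_cast; linear_combination key
      exact_mod_cast this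
    -- multiplicities in `ψ`
    have hψT : mu P ψ (trivIrr P) = h.e := by
      have e := mu_spec (P := P) hψ (trivIrr P)
      have e2 : classInner (fun y : P => ψ y) (trivIrr P : P → ℂ) =
          classInner (fun y : P => θ y) (fun y : P => θ y) := by
        show classInner ((fun y : P => θ y) * fun y : P => conj (θ y)) _ = _
        rw [inner_mul_conj]
        congr 1
        funext y
        exact mul_one _
      rw [e2, inner_restrict_self hc, hsq] at e
      exact_mod_cast e.symm
    have hψ1 : mult ψ (trivIrr G) = 1 := by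
      have e := mult_spec hψ (isCharacter_of_isIrr (trivIrr G).2)
      have e2 : classInner ψ (trivIrr G : G → ℂ) = classInner θ θ := by
        rw [hψdef, inner_mul_conj]
        congr 1
        funext g
        exact mul_one _
      rw [e2, irr_inner_self hθ] at e
      exact_mod_cast e.symm
    have hsum1 : h.e = 1 + ∑ χ ∈ S, (mu P (χ : G → ℂ) c + 1) := by
      conv_lhs => rw [← hψT, mu_eq_sum hψ]
      rw [← Finset.add_sum_erase _ _ (Finset.mem_univ (trivIrr G)), hψ1, one_mul]
      congr 1
      · exact mu_triv_triv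
      · rw [Finset.sum_congr rfl (g := fun χ : IrrCharacter G => if χ ∈ S then mu P (χ : G → ℂ) c + 1 else 0)
          fun χ hχ => ?_, ← Finset.sum_filter]
        · congr 1
          ext χ
          simp only [Finset.mem_filter, Finset.mem_erase, Finset.mem_univ, and_true, S, true_and]
          tauto
        · split_ifs with hm
          · rw [(hS χ hm).1, one_mul, (hS χ hm).2]
          · have hne := Finset.ne_of_mem_erase hχ
            simp only [S, Finset.mem_filter, Finset.mem_univ, true_and, not_and, not_not] at hm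
            by_cases h1 : mult ψ χ = 0
            · rw [h1, zero_mul]
            · rw [hm hne h1, mul_zero]
    have hψdeg : deg ψ = h.e * h.e := by
      have := deg_eq hψ
      rw [hψdef, Pi.mul_apply, deg_eq hc, Complex.conj_natCast, hdeg] at this
      exact_mod_cast this.symm
    have hsum2 : (p - 1) * ∑ χ ∈ S, mu P (χ : G → ℂ) c + h.e ≤ h.e * h.e := by
      rw [← hψdeg, h.deg_eq_sum_mu hψ, ← Finset.add_sum_erase _ _ (Finset.mem_univ (trivIrr P)),
        hψT, add_comm h.e]
      refine Nat.add_le_add_right ?_ _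
      calc (p - 1) * ∑ χ ∈ S, mu P (χ : G → ℂ) c
          = ∑ χ ∈ S, ∑ x ∈ Finset.univ.erase (trivIrr P), mult ψ χ * mu P (χ : G → ℂ) x := by
            rw [Finset.mul_sum]
            refine Finset.sum_congr rfl fun χ hχ => ?_
            rw [Finset.sum_congr rfl fun x hx => by
                rw [(hS χ hχ).1, one_mul, hconst χ (Finset.mem_filter.mp hχ).2.2.2 x
                  (Finset.ne_of_mem_erase hx)],
              Finset.sum_const, smul_eq_mul, Finset.card_erase_of_mem (Finset.mem_univ _),
              Finset.card_univ, h.card_irr]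
        _ ≤ ∑ χ : IrrCharacter G, ∑ x ∈ Finset.univ.erase (trivIrr P),
              mult ψ χ * mu P (χ : G → ℂ) x :=
            Finset.sum_le_sum_of_subset (Finset.subset_univ S)
        _ = _ := by
            rw [Finset.sum_comm]
            exact Finset.sum_congr rfl fun x _ => (mu_eq_sum hψ x).symm
    by_cases hn : ∀ χ ∈ S, 1 ≤ mu P (χ : G → ℂ) c
    · rw [Finset.sum_add_distrib, Finset.sum_const, smul_eq_mul, mul_one] at hsum1
      have hcard : S.card ≤ ∑ χ ∈ S, mu P (χ : G → ℂ) c := by
        rw [Finset.card_eq_sum_ones]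
        exact Finset.sum_le_sum hn
      set σ := ∑ χ ∈ S, mu P (χ : G → ℂ) c
      have hepos := h.e_pos
      have hσ : 0 < σ := by omega
      refine ⟨?_, fun heq => ?_⟩
      · by_contra hlt
        have : (2 * h.e + 1) * σ ≤ (p - 1) * σ := Nat.mul_le_mul_right _ (by omega)
        nlinarith
      · rw [heq] at hsum2
        have : S.card = σ := by nlinarith
        exact ⟨σ, by omega⟩
    · -- descend to the kernel of a linear constituent
      exfalso
      push Not at hn
      obtain ⟨χ, hχS, hχn⟩ := hn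
      have hn0 : mu P (χ : G → ℂ) c = 0 := by omega
      obtain ⟨-, hχt, -, hT⟩ := Finset.mem_filter.mp hχS
      obtain ⟨hm1, hTn⟩ := hS χ hχS
      have hχc := isCharacter_of_isIrr χ.2
      have hdec := character_eq_sum (isCharacter_restrict P hχc)
      rw [Finset.sum_eq_single (trivIrr P) (fun x _ hx => by
          rw [show mult (fun y : P => (χ : G → ℂ) y) (x : P → ℂ) = 0 from
            (hconst χ hT x hx).trans hn0, Nat.cast_zero, zero_smul])
        (fun hx => absurd (Finset.mem_univ _) hx)] at hdec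
      have hPc : ∀ y ∈ P, (χ : G → ℂ) y = (χ : G → ℂ) 1 := fun y hy => by
        have e1 := congrFun hdec ⟨y, hy⟩
        have e2 := congrFun hdec 1
        simp only [OneMemClass.coe_one] at e2
        rw [e1, e2]; rfl
      have hlin := h.deg_one_of_const χ.2 hPc
      set L := kerChar (χ : G → ℂ)
      haveI hLn : L.Normal := ⟨fun k hk g => (mem_kerChar_iff hχc).mpr (by
        rw [isClassFunction_of_isIrr χ.2 k g]; exact (mem_kerChar_iff hχc).mp hk)⟩
      have hPL : P ≤ L := fun y hy => (mem_kerChar_iff hχc).mpr (hPc y hy)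
      have htwist : θ * (χ : G → ℂ) = θ := by
        have hcc : IsCharacter G (θ * (χ : G → ℂ)) := isCharacter_mul hc hχc
        refine eq_of_deg_le hcc hθ ?_ (le_of_eq ?_)
        · rw [classInner_comm_of_char hcc hc, ← inner_mul_conj, ← hψdef, mult_spec hψ hχc, hm1,
            Nat.cast_one]
          exact one_ne_zero
        · have := deg_eq hcc
          rw [Pi.mul_apply, hlin, mul_one, deg_eq hc] at this
          exact_mod_cast this.symm
      have hLtop : L ≠ ⊤ := fun hL => hχt (Subtype.ext (funext fun g =>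
        ((mem_kerChar_iff hχc).mp (show g ∈ L by rw [hL]; trivial)).trans hlin))
      have hvan : ∀ g ∉ L, θ g = 0 := fun g hg => by
        have e := congrFun htwist g
        rw [Pi.mul_apply] at e
        by_contra h0'
        exact hg ((mem_kerChar_iff hχc).mpr (by rw [hlin]; exact mul_left_cancel₀ h0' (by rw [e, mul_one])))
      have hl : 2 ≤ L.index := by
        have h0' := L.index_ne_zero_of_finite
        have h1' : L.index ≠ 1 := fun e => hLtop (Subgroup.index_eq_one.mp e)
        omega
      -- the normalizer in `L`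
      have hNL : Nat.card (Subgroup.normalizer (P : Set G)) =
          L.index * Nat.card (Subgroup.normalizer (P : Set G) ⊓ L : Subgroup G) := by
        set N := Subgroup.normalizer (P : Set G)
        let f : N →* G ⧸ L := (QuotientGroup.mk' L).comp N.subtype
        have hsurj : Function.Surjective f := fun q => by
          obtain ⟨g, rfl⟩ := QuotientGroup.mk_surjective q
          obtain ⟨k, hk, n, hn, rfl⟩ := h.exists_eq_mul hPL g
          refine ⟨⟨n, hn⟩, ?_⟩
          show ((n : G) : G ⧸ L) = _
          rw [QuotientGroup.mk_mul, (QuotientGroup.eq_one_iff k).mpr hk, one_mul]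
        have e := Subgroup.card_eq_card_quotient_mul_card_subgroup f.ker
        rw [Nat.card_congr (QuotientGroup.quotientKerEquivOfSurjective f hsurj).toEquiv] at e
        rw [e, ← Subgroup.index_eq_card]
        congr 1
        exact Nat.card_congr
          { toFun := fun z => ⟨((z : N) : G), (z : N).2,
              (QuotientGroup.eq_one_iff ((z : N) : G)).mp z.2⟩
            invFun := fun w => ⟨⟨(w : G), w.2.1⟩, (QuotientGroup.eq_one_iff (w : G)).mpr w.2.2⟩
            left_inv := fun z => rfl
            right_inv := fun w => rfl }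
      set h' := h.restrict hPL with hh'
      have hpdvd : p ∣ Nat.card (Subgroup.normalizer (P : Set G) ⊓ L : Subgroup G) :=
        h.card ▸ Subgroup.card_dvd_of_le (le_inf Subgroup.le_normalizer hPL)
      have hee : L.index * h'.e = h.e := by
        rw [hh', h.e_restrict hPL]
        show _ = Nat.card _ / p
        rw [hNL, Nat.mul_div_assoc _ hpdvd]
      have hcL : IsCharacter L (fun z : L => θ z) := isCharacter_restrict L hc
      have hnorm : classInner (fun z : L => θ z) (fun z : L => θ z) = (L.index : ℂ) := by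
        have e := irr_inner_self hθ
        rw [classInner] at e ⊢
        rw [← Finset.sum_subtype (Finset.univ.filter (· ∈ L)) (p := fun g => g ∈ L) (fun g => by simp)
            (f := fun g => θ g * conj (θ g)),
          Fintype.sum_subset (s := Finset.univ.filter (· ∈ L))
            fun g hg => Finset.mem_filter.mpr ⟨Finset.mem_univ _, by_contra fun hn =>
              hg (by rw [hvan g hn, zero_mul])⟩]
        rw [← L.index_mul_card, Nat.cast_mul] at e
        have hi : (L.index : ℂ) ≠ 0 := Nat.cast_ne_zero.mpr (by omega)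
        rw [mul_inv, mul_assoc] at e
        rwa [inv_mul_eq_one₀ hi, eq_comm] at e
      set mL := fun φ : IrrCharacter L => mult (fun z : L => θ z) φ
      have hsumsq : ∑ φ, mL φ ^ 2 = L.index := by
        rw [classInner_eq_sum (isClassFunction_of_isCharacter hcL),
          Finset.sum_congr rfl fun φ _ => by rw [mult_spec hcL (isCharacter_of_isIrr φ.2)]] at hnorm
        simp only [Complex.conj_natCast, ← pow_two] at hnorm
        exact_mod_cast hnorm
      have hdegL : deg (fun z : L => θ z) = h.e := by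
        have := deg_eq hcL
        rw [OneMemClass.coe_one, deg_eq hc, hdeg] at this
        exact_mod_cast this.symm
      have hsumdeg : ∑ φ : IrrCharacter L, mL φ * deg (φ : L → ℂ) = h.e := by
        have e := congrFun (character_eq_sum hcL) 1
        rw [deg_eq hcL, hdegL, Finset.sum_apply] at e
        simp only [Pi.smul_apply, smul_eq_mul] at e
        rw [Finset.sum_congr rfl fun φ _ => by rw [deg_eq (isCharacter_of_isIrr φ.2)]] at e
        exact_mod_cast e.symm
      have hTφ : ∀ φ : IrrCharacter L, mL φ ≠ 0 →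
          mu (P.subgroupOf L) (φ : L → ℂ) (trivIrr _) = 0 := by
        intro φ hφ
        have := mult_mul_mu_le (P := P.subgroupOf L) hcL φ (trivIrr _)
        rw [mu_subgroupOf_triv hPL hc, h0] at this
        exact (mul_eq_zero.mp (Nat.le_zero.mp this)).resolve_left hφ
      have hnormP : classInner (fun y : P.subgroupOf L => θ ((y : L) : G))
          (fun y : P.subgroupOf L => θ ((y : L) : G)) = (h.e : ℂ) := by
        rw [classInner_subgroupOf hPL, inner_restrict_self hc, hsq]
      rw [inner_restrict_self (P := P.subgroupOf L) hcL] at hnormP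
      have hnormP' : ∑ x, mu (P.subgroupOf L) (fun z : L => θ z) x ^ 2 = h.e := by exact_mod_cast hnormP
      -- all multiplicities are one, so a constituent has degree `e'`
      have hdeg' : ∀ φ : IrrCharacter L, mL φ ^ 2 * deg (φ : L → ℂ) = mL φ * deg (φ : L → ℂ) := by
        have hle : ∑ φ : IrrCharacter L, mL φ ^ 2 * deg (φ : L → ℂ) ≤ h.e := by
          rw [← hnormP']
          calc ∑ φ : IrrCharacter L, mL φ ^ 2 * deg (φ : L → ℂ)
              ≤ ∑ φ : IrrCharacter L, ∑ x, (mL φ * mu (P.subgroupOf L) (φ : L → ℂ) x) ^ 2 := by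
                refine Finset.sum_le_sum fun φ _ => ?_
                rw [h'.deg_eq_sum_mu (isCharacter_of_isIrr φ.2), Finset.mul_sum]
                exact Finset.sum_le_sum fun x _ => by
                  rw [mul_pow]; exact Nat.mul_le_mul_left _ (Nat.le_self_pow two_ne_zero _)
            _ = ∑ x, ∑ φ : IrrCharacter L, (mL φ * mu (P.subgroupOf L) (φ : L → ℂ) x) ^ 2 :=
                Finset.sum_comm
            _ ≤ _ := Finset.sum_le_sum fun x _ => by
                rw [mu_eq_sum hcL x]
                exact Finset.sum_sq_le_sq_sum_of_nonneg fun i _ => Nat.zero_le _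
        intro φ
        have hge : ∀ φ : IrrCharacter L, mL φ * deg (φ : L → ℂ) ≤ mL φ ^ 2 * deg (φ : L → ℂ) :=
          fun φ => Nat.mul_le_mul_right _ (Nat.le_self_pow two_ne_zero _)
        exact ((Finset.sum_eq_sum_iff_of_le fun φ _ => hge φ).mp
          (le_antisymm (Finset.sum_le_sum fun φ _ => hge φ) (hsumdeg.symm ▸ hle)) φ
          (Finset.mem_univ φ)).symm
      have hge' : ∀ φ : IrrCharacter L, mL φ ^ 2 * h'.e ≤ mL φ * deg (φ : L → ℂ) := by
        intro φ
        rw [← hdeg' φ]
        by_cases hz : mL φ = 0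
        · rw [hz]; simp
        · exact Nat.mul_le_mul_left _
            (h'.e_le_deg (isCharacter_of_isIrr φ.2) (hTφ φ hz) (deg_pos φ.2).ne').1
      have hsums : ∑ φ : IrrCharacter L, mL φ ^ 2 * h'.e = ∑ φ : IrrCharacter L, mL φ * deg (φ : L → ℂ) := by
        rw [hsumdeg, ← Finset.sum_mul, hsumsq, hee]
      have heq := (Finset.sum_eq_sum_iff_of_le fun φ _ => hge' φ).mp hsums
      obtain ⟨φ, -, hφ⟩ : ∃ φ ∈ (Finset.univ : Finset (IrrCharacter L)), mL φ ^ 2 ≠ 0 :=
        Finset.exists_ne_zero_of_sum_ne_zero (by rw [hsumsq]; omega)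
      have hm0 : mL φ ≠ 0 := fun e => hφ (by rw [e]; rfl)
      have hφdeg : deg (φ : L → ℂ) = h'.e := by
        have e1 := heq φ (Finset.mem_univ φ)
        rw [← hdeg' φ] at e1
        exact (Nat.eq_of_mul_eq_mul_left (Nat.pos_of_ne_zero hφ) e1).symm
      have hlt : Nat.card L < m := lt_of_lt_of_le (by
        rw [← L.index_mul_card]
        exact lt_mul_of_one_lt_left Nat.card_pos hl) hGm
      have hO' : ∀ H : Subgroup L, H.Normal → ¬ p ∣ Nat.card H → H = ⊥ := fun H hH hpH =>
        pprime_normal_of_normal h.prime hO H hH hpH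
      have hPn' : ¬ (P.subgroupOf L).Normal := fun hN => hPn ⟨fun y hy g => by
        obtain ⟨k, hk, n, hn, rfl⟩ := h.exists_eq_mul hPL g
        have h1 : n * y * n⁻¹ ∈ P := (Subgroup.mem_normalizer_iff.mp hn y).mp hy
        have h2 := hN.conj_mem ⟨_, hPL h1⟩ (Subgroup.mem_subgroupOf.mpr h1) ⟨k, hk⟩
        rw [Subgroup.mem_subgroupOf] at h2
        simpa [mul_assoc] using h2⟩
      have hlt' : h'.e < p - 1 := by
        rw [← hee] at he
        have : 1 * h'.e ≤ L.index * h'.e := Nat.mul_le_mul_right _ (by omega)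
        omega
      have := (ih (Nat.card L) hlt L (P.subgroupOf L) h' le_rfl hO' hPn' φ φ.2 (hTφ φ hm0) hφdeg hlt').1
      rw [← hee] at he
      have : 2 * h'.e ≤ L.index * h'.e := Nat.mul_le_mul_right _ hl
      omega

end Hyp

end Cfsg.Agent.CT.SelfCentralP
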