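import Cfsg.Agent.Lib.CT.Kernel
import Mathlib.GroupTheory.Sylow
import Mathlib.GroupTheory.Nilpotent
import Mathlib.GroupTheory.Perm.Cycle.Type

/-!
# Automorphisms of coprime prime order fixing a faithful character of small degree

An automorphism of prime order `p` of a `p'`-group fixing a faithful character of degree less
than `p - 1` is trivial.
-/

set_option autoImplicit false

namespace Cfsg.Agent.CT

open scoped ComplexConjugate Pointwise
open Subgroup

universe u

variable {Q : Type u} [Group Q] {p : ℕ}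

theorem constituent_fixed [Fintype Q] (hp : p.Prime) {α : MulAut Q} (hα : α ^ p = 1)
    {θ : Q → ℂ} (hθ : IsCharacter Q θ) (hinv : ∀ g, θ (α g) = θ g) (hdeg : deg θ < p)
    (χ : IrrCharacter Q) (hne : mult θ χ ≠ 0) (g : Q) :
    (χ : Q → ℂ) (α g) = (χ : Q → ℂ) g := by
  classical
  let F : IrrCharacter Q → IrrCharacter Q := fun c =>
    ⟨fun x => (c : Q → ℂ) (α x), isIrrCharacter_comp α.toMonoidHom α.surjective c.2⟩
  have hF : ∀ (k : ℕ) (c : IrrCharacter Q) (x : Q),
      (F^[k] c : Q → ℂ) x = (c : Q → ℂ) ((α ^ k) x) := by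
    intro k c
    induction k with
    | zero => intro x; rfl
    | succ k ih =>
      intro x
      rw [Function.iterate_succ_apply']
      show (F^[k] c : Q → ℂ) (α x) = _
      rw [ih, pow_succ, MulAut.mul_apply]
  have hper : Function.IsPeriodicPt F p χ := Subtype.ext (funext fun x => by
    rw [hF p χ x, hα, MulAut.one_apply])
  rcases (Nat.dvd_prime hp).mp hper.minimalPeriod_dvd with h1 | h1
  · exact congrFun (congrArg Subtype.val (Function.minimalPeriod_eq_one_iff_isFixedPt.mp h1)) g
  · exfalso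
    have hstep : ∀ c : IrrCharacter Q, mult θ (F c : Q → ℂ) = mult θ (c : Q → ℂ) := by
      intro c
      have h : classInner θ (F c : Q → ℂ) = classInner θ (c : Q → ℂ) := by
        unfold classInner
        congr 1
        refine Fintype.sum_equiv α.toEquiv _ _ fun x => ?_
        show θ x * conj ((c : Q → ℂ) (α x)) = θ (α x) * conj ((c : Q → ℂ) (α x))
        rw [hinv]
      simp only [mult, h]
    have hmult : ∀ k, mult θ (F^[k] χ : Q → ℂ) ≠ 0 := by
      intro k
      induction k with
      | zero => exact hne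
      | succ k ih => rw [Function.iterate_succ_apply', hstep]; exact ih
    have hinj : Set.InjOn (fun k => F^[k] χ) (Finset.range p : Set ℕ) := fun i hi j hj e =>
      Function.iterate_injOn_Iio_minimalPeriod (f := F) (x := χ)
        (by simpa [h1] using hi) (by simpa [h1] using hj) e
    have hcard : ((Finset.range p).image fun k => F^[k] χ).card = p := by
      rw [Finset.card_image_of_injOn hinj, Finset.card_range]
    have hsum : deg θ = ∑ c : IrrCharacter Q, mult θ c * deg (c : Q → ℂ) := by
      have h := congrFun (character_eq_sum hθ) 1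
      rw [deg_eq hθ, Finset.sum_apply] at h
      simp only [Pi.smul_apply, smul_eq_mul] at h
      rw [Finset.sum_congr rfl fun c _ => by rw [deg_eq (isCharacter_of_isIrr c.2)]] at h
      exact_mod_cast h
    have hle : p ≤ deg θ := by
      rw [hsum, ← hcard, Finset.card_eq_sum_ones]
      refine le_trans (Finset.sum_le_sum fun c hc => ?_)
        (Finset.sum_le_sum_of_subset (Finset.subset_univ _))
      obtain ⟨k, -, rfl⟩ := Finset.mem_image.mp hc
      exact Nat.one_le_iff_ne_zero.mpr (Nat.mul_ne_zero (hmult k) (deg_pos (F^[k] χ).2).ne')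
    omega

theorem exists_constituent_not_ker [Fintype Q] {θ : Q → ℂ} (hθ : IsCharacter Q θ) {c : Q}
    (hc : θ c ≠ θ 1) : ∃ χ : IrrCharacter Q, mult θ χ ≠ 0 ∧ (χ : Q → ℂ) c ≠ (χ : Q → ℂ) 1 := by
  classical
  by_contra hcon
  push Not at hcon
  apply hc
  rw [character_eq_sum hθ]
  simp only [Finset.sum_apply, Pi.smul_apply, smul_eq_mul]
  refine Finset.sum_congr rfl fun χ _ => ?_
  rcases eq_or_ne (mult θ χ) 0 with h | h
  · simp [h]
  · rw [hcon χ h]

theorem pow_comm_shift (α : MulAut Q) {g c : Q} (hg : α g = g * c) (hc : α c = c) :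
    ∀ k : ℕ, (α ^ k) g = g * c ^ k := by
  intro k
  induction k with
  | zero => simp
  | succ k ih => rw [pow_succ', MulAut.mul_apply, ih, map_mul, map_pow, hg, hc, mul_assoc, ← pow_succ']

theorem aut_fix_of_shift [Finite Q] [Fact p.Prime] (hcard : ¬ p ∣ Nat.card Q) {α : MulAut Q}
    (hα : α ^ p = 1) {g : Q} (hc : α (g⁻¹ * α g) = g⁻¹ * α g) : α g = g := by
  have h := pow_comm_shift α (g := g) (c := g⁻¹ * α g) (by rw [mul_inv_cancel_left]) hc p
  rw [hα, MulAut.one_apply, left_eq_mul] at h
  have h1 : orderOf (g⁻¹ * α g) ∣ Nat.gcd p (Nat.card Q) :=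
    Nat.dvd_gcd (orderOf_dvd_of_pow_eq_one h) (orderOf_dvd_natCard _)
  rw [(Nat.coprime_iff_gcd_eq_one).mp ((Nat.Prime.coprime_iff_not_dvd Fact.out).mpr hcard),
    Nat.dvd_one, orderOf_eq_one_iff, inv_mul_eq_one] at h1
  exact h1.symm

/-- An automorphism of prime order `p` of a `p'`-group fixing a faithful character of degree less
than `p - 1` is trivial. -/
theorem aut_eq_one_of_small_character (p : ℕ) [Fact p.Prime] :
    ∀ (N : ℕ) (Q : Type u) [Group Q] [Fintype Q], Nat.card Q = N → ¬ p ∣ Nat.card Q →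
      ∀ α : MulAut Q, α ^ p = 1 → ∀ θ : Q → ℂ, IsCharacter Q θ → (∀ g, θ (α g) = θ g) →
        deg θ + 1 < p → (∀ g, θ g = θ 1 → g = 1) → ∀ g, α g = g := by
  intro N
  induction N using Nat.strong_induction_on with
  | _ N ih =>
  intro Q _ _ hN hcard α hα θ hθ hinv hdeg hfaith
  classical
  by_contra hmoves
  push Not at hmoves
  obtain ⟨g₀, hg₀⟩ := hmoves
  have hnot : ¬ ∀ g, α g = g := fun h => hg₀ (h g₀)
  -- proper invariant subgroups are fixed
  have hsub : ∀ H : Subgroup Q, H ≠ ⊤ → (∀ x ∈ H, α x ∈ H) → ∀ x ∈ H, α x = x := by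
    intro H hH hHinv
    let f : H →* H := (α.toMonoidHom.comp H.subtype).codRestrict H fun x => hHinv x x.2
    have hf : Function.Bijective f :=
      Finite.injective_iff_bijective.mp fun x y e => Subtype.ext (α.injective (congrArg Subtype.val e))
    let β : MulAut H := MulEquiv.ofBijective f hf
    have hβk : ∀ (k : ℕ) (x : H), (((β ^ k) x : H) : Q) = (α ^ k) x := by
      intro k
      induction k with
      | zero => intro x; rfl
      | succ k ihk =>
        intro x
        rw [pow_succ, pow_succ, MulAut.mul_apply, MulAut.mul_apply, ihk]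
        rfl
    have hlt : Nat.card H < N := by
      rw [← hN]
      exact lt_of_le_of_ne (Subgroup.card_le_card_group H) fun e => hH (Subgroup.eq_top_of_card_eq H e)
    haveI : Fintype H := Fintype.ofFinite H
    have hres := ih (Nat.card H) hlt H rfl (fun h => hcard (h.trans (Subgroup.card_subgroup_dvd_card H))) β
      (MulEquiv.ext fun x => Subtype.ext (by rw [hβk, hα]; rfl)) (fun x : H => θ x)
      (isCharacter_restrict H hθ) (fun x => hinv x) (by simpa [deg] using hdeg)
      (fun x hx => Subtype.ext (hfaith x hx))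
    exact fun x hx => congrArg Subtype.val (hres ⟨x, hx⟩)
  -- `Q` is a group of prime power order
  obtain ⟨q, hq, hQ⟩ : ∃ q : ℕ, q.Prime ∧ IsPGroup q Q := by
    by_contra hcon
    push Not at hcon
    apply hnot
    let F : Subgroup Q :=
      { carrier := {x | α x = x}
        one_mem' := map_one α
        mul_mem' := fun {a b} ha hb => by show α (a * b) = a * b; rw [map_mul, ha, hb]
        inv_mem' := fun {a} ha => by show α a⁻¹ = a⁻¹; rw [map_inv, ha] }
    suffices F = ⊤ from fun g => (this ▸ mem_top g : g ∈ F)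
    by_contra hF
    have hidx : F.index ≠ 1 := fun h => hF (Subgroup.index_eq_one.mp h)
    obtain ⟨q, hq, hqd⟩ := Nat.exists_prime_and_dvd hidx
    haveI := Fact.mk hq
    have hz : IsPGroup p (Subgroup.zpowers α) := fun ⟨x, hx⟩ => ⟨1, Subtype.ext (by
      obtain ⟨k, rfl⟩ := Subgroup.mem_zpowers_iff.mp hx
      show (α ^ k) ^ (p ^ 1) = 1
      rw [pow_one, ← zpow_natCast, ← zpow_mul, mul_comm, zpow_mul, zpow_natCast, hα, one_zpow])⟩
    obtain ⟨P, hP⟩ := hz.nonempty_fixed_point_of_prime_not_dvd_card (Sylow q Q) fun h =>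
      hcard (h.trans ((default : Sylow q Q).card_dvd_index.trans (Subgroup.index_dvd_card _)))
    have hPinv : ∀ x ∈ (P : Subgroup Q), α x ∈ (P : Subgroup Q) := by
      intro x hx
      have e : α • P = P := hP ⟨α, Subgroup.mem_zpowers α⟩
      have e' : α • (P : Subgroup Q) = P := congrArg Sylow.toSubgroup e
      rw [← e']
      exact Subgroup.smul_mem_pointwise_smul x α _ hx
    have hPF : (P : Subgroup Q) ≤ F := fun x hx =>
      hsub P (fun e => hcon q hq (P.isPGroup'.of_equiv
        ((MulEquiv.subgroupCongr e).trans Subgroup.topEquiv))) hPinv x hx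
    exact P.not_dvd_index (hqd.trans (Subgroup.index_dvd_of_le hPF))
  haveI := Fact.mk hq
  haveI := hQ.isNilpotent
  -- a faithful invariant irreducible character
  obtain ⟨χ, hmχ, hχc⟩ := exists_constituent_not_ker hθ (c := g₀⁻¹ * α g₀) fun h => by
    have := hfaith _ h
    rw [inv_mul_eq_one] at this
    exact hg₀ this.symm
  have hfix : ∀ x, (χ : Q → ℂ) (α x) = (χ : Q → ℂ) x :=
    constituent_fixed Fact.out hα hθ hinv (by omega) χ hmχ
  have hdχ : deg (χ : Q → ℂ) ≤ deg θ :=
    le_trans (Nat.le_mul_of_pos_left _ (Nat.pos_of_ne_zero hmχ)) (constituent_deg_le hθ χ)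
  obtain ⟨n, ρ, hρ, hρχ⟩ := χ.2
  haveI := hρ
  set K := MonoidHom.ker ρ with hK
  have hKmem : ∀ x, x ∈ K ↔ (χ : Q → ℂ) x = (χ : Q → ℂ) 1 := fun x => by
    rw [MonoidHom.mem_ker, ← hρχ]
    exact rep_eq_one_iff ρ x
  have hKbot : K = ⊥ := by
    by_contra hKne
    obtain ⟨ψ, hψ, hψe⟩ := exists_quotient_irr χ.2 K fun x hx => (hKmem x).mp hx
    have hmap : K.map α.toMonoidHom = K := by
      ext x
      rw [Subgroup.mem_map]
      constructor
      · rintro ⟨y, hy, rfl⟩
        rw [hKmem] at hy ⊢
        rw [show α.toMonoidHom y = α y from rfl, hfix, hy]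
      · intro hx
        refine ⟨α.symm x, ?_, MulEquiv.apply_symm_apply α x⟩
        rw [hKmem] at hx ⊢
        rw [← hfix (α.symm x), MulEquiv.apply_symm_apply, hx]
    let β : MulAut (Q ⧸ K) := QuotientGroup.congr K K α hmap
    have hβk : ∀ (k : ℕ) (x : Q), (β ^ k) (x : Q ⧸ K) = ((α ^ k) x : Q) := by
      intro k
      induction k with
      | zero => intro x; rfl
      | succ k ihk =>
        intro x
        rw [pow_succ, pow_succ, MulAut.mul_apply, MulAut.mul_apply, ← ihk]
        rfl
    have hlt : Nat.card (Q ⧸ K) < N := by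
      rw [← hN, ← K.index_eq_card, ← K.index_mul_card]
      exact lt_mul_of_one_lt_right (Nat.pos_of_ne_zero K.index_ne_zero_of_finite)
        ((Subgroup.one_lt_card_iff_ne_bot K).mpr hKne)
    have hd : deg ψ = deg (χ : Q → ℂ) := by
      simp only [deg]
      rw [← QuotientGroup.mk_one K, hψe]
    haveI : Fintype (Q ⧸ K) := Fintype.ofFinite _
    have h := ih (Nat.card (Q ⧸ K)) hlt (Q ⧸ K) rfl
      (fun h => hcard (h.trans (by rw [← K.index_eq_card]; exact K.index_dvd_card))) β
      (MulEquiv.ext fun x => QuotientGroup.induction_on x fun y => by rw [hβk, hα]; rfl) ψ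
      (isCharacter_of_isIrr hψ)
      (fun x => QuotientGroup.induction_on x fun y => by
        show ψ (α y : Q ⧸ K) = ψ (y : Q ⧸ K)
        rw [hψe, hψe, hfix])
      (by omega)
      (fun x => QuotientGroup.induction_on x fun y hy => by
        rw [← QuotientGroup.mk_one K, hψe, hψe] at hy
        exact (QuotientGroup.eq_one_iff y).mpr ((hKmem y).mpr hy))
      (g₀ : Q ⧸ K)
    have h' : ((α g₀ : Q) : Q ⧸ K) = (g₀ : Q ⧸ K) := h
    exact hχc ((hKmem _).mp (QuotientGroup.eq.mp h'.symm))
  have hρinj : Function.Injective ρ := (MonoidHom.ker_eq_bot_iff ρ).mp hKbot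
  -- the group is not abelian
  have hna : ¬ ∀ a b : Q, a * b = b * a := by
    intro hc
    obtain ⟨lam, hlam⟩ := exists_hom_of_comm hc χ.2
    refine hg₀ ?_
    have h1 : (χ : Q → ℂ) (g₀⁻¹ * α g₀) = (χ : Q → ℂ) 1 := by
      have h2 := hfix g₀
      rw [hlam] at h2 ⊢
      have h3 : lam (α g₀) = lam g₀ := Units.ext h2
      simp [h3]
    exact absurd h1 hχc
  haveI : Nontrivial Q := not_subsingleton_iff_nontrivial.mp fun hs => hg₀ (Subsingleton.elim _ _)
  set Z := Subgroup.center Q with hZ
  have hZtop : Z ≠ ⊤ := fun e => hna fun a b =>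
    Subgroup.mem_center_iff.mp (show b ∈ Z from e ▸ mem_top b) a
  have hZinv : ∀ z ∈ Z, α z ∈ Z := fun z hz => Subgroup.mem_center_iff.mpr fun g => by
    obtain ⟨y, rfl⟩ := α.surjective g
    rw [← map_mul, ← map_mul, Subgroup.mem_center_iff.mp hz y]
  have hZfix : ∀ z ∈ Z, α z = z := hsub Z hZtop hZinv
  have hQ'top : commutator Q ≠ ⊤ := (Group.IsSolvable.commutator_lt_top_of_nontrivial Q).ne
  have hQ'inv : ∀ x ∈ commutator Q, α x ∈ commutator Q := fun x hx =>
    (Subgroup.characteristic_iff_map_le.mp inferInstance α) (Subgroup.mem_map_of_mem _ hx)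
  have hQ'fix := hsub _ hQ'top hQ'inv
  -- the commutator subgroup is central
  have hcls : ∀ f ∈ commutator Q, f ∈ Z := by
    set C := Subgroup.centralizer (commutator Q : Set Q) with hC
    have hcC : ∀ g, g⁻¹ * α g ∈ C := by
      intro g
      rw [hC, Subgroup.mem_centralizer_iff]
      intro f hf
      have hnorm : (commutator Q).Normal := inferInstance
      have h1 : α g * f * (α g)⁻¹ = g * f * g⁻¹ := by
        have h2 := hQ'fix _ (hnorm.conj_mem f hf g)
        rwa [map_mul, map_mul, map_inv, hQ'fix f hf] at h2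
      calc f * (g⁻¹ * α g) = g⁻¹ * (g * f * g⁻¹) * α g := by group
        _ = g⁻¹ * (α g * f * (α g)⁻¹) * α g := by rw [h1]
        _ = g⁻¹ * α g * f := by group
    have hCinv : ∀ y ∈ C, α y ∈ C := by
      intro y hy
      rw [hC, Subgroup.mem_centralizer_iff] at hy ⊢
      intro f hf
      conv_lhs => rw [← hQ'fix f hf]
      conv_rhs => rw [← hQ'fix f hf]
      rw [← map_mul, ← map_mul, hy f hf]
    have hCtop : C = ⊤ := by
      by_contra h
      exact hnot fun g => aut_fix_of_shift hcard hα (hsub C h hCinv _ (hcC g))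
    exact fun f hf => Subgroup.mem_center_iff.mpr fun g =>
      (Subgroup.mem_centralizer_iff.mp (show g ∈ C from hCtop ▸ mem_top g) f hf).symm
  -- the fixed points are central
  set D := Subgroup.closure ((Z : Set Q) ∪ Set.range fun g => g⁻¹ * α g) with hD
  have hDtop : D = ⊤ := by
    by_contra h
    have hDinv : ∀ y ∈ D, α y ∈ D := fun y hy => by
      have : D.map α.toMonoidHom ≤ D := by
        rw [hD, MonoidHom.map_closure, Subgroup.closure_le]
        rintro _ ⟨w, hw | ⟨g, rfl⟩, rfl⟩
        · exact Subgroup.subset_closure (Or.inl (hZinv w hw))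
        · refine Subgroup.subset_closure (Or.inr ⟨α g, ?_⟩)
          show (α g)⁻¹ * α (α g) = α (g⁻¹ * α g)
          rw [map_mul, map_inv]
      exact this (Subgroup.mem_map_of_mem _ hy)
    exact hnot fun g => aut_fix_of_shift hcard hα
      (hsub D h hDinv _ (Subgroup.subset_closure (Or.inr ⟨g, rfl⟩)))
  have hFZ : ∀ f, α f = f → f ∈ Z := by
    intro f hf
    refine Subgroup.mem_center_iff.mpr fun g => ?_
    have hle : D ≤ Subgroup.centralizer ({f} : Set Q) := by
      rw [hD, Subgroup.closure_le]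
      rintro y (hy | ⟨g, rfl⟩)
      · exact Subgroup.mem_centralizer_singleton_iff.mpr (Subgroup.mem_center_iff.mp hy f).symm
      · have hk : f * g * f⁻¹ * g⁻¹ ∈ commutator Q := by
          rw [commutator_def, ← commutatorElement_def]
          exact Subgroup.commutator_mem_commutator (mem_top f) (mem_top g)
        have h2 := hZfix _ (hcls _ hk)
        simp only [map_mul, map_inv, hf] at h2
        refine Subgroup.mem_centralizer_singleton_iff.mpr ?_
        show g⁻¹ * α g * f = f * (g⁻¹ * α g)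
        calc g⁻¹ * α g * f = g⁻¹ * ((f * g * f⁻¹ * g⁻¹)⁻¹ * (f * α g * f⁻¹ * (α g)⁻¹)) * α g * f := by
              rw [h2, inv_mul_cancel, mul_one]
          _ = f * (g⁻¹ * α g) := by group
    exact Subgroup.mem_centralizer_singleton_iff.mp (hle (hDtop ▸ mem_top g))
  -- counting fixed points on the central quotient
  have hmapZ : Z.map α.toMonoidHom = Z := by
    ext x
    rw [Subgroup.mem_map]
    exact ⟨fun ⟨y, hy, e⟩ => e ▸ hZinv y hy, fun hx => ⟨x, hx, hZfix x hx⟩⟩
  let γ : MulAut (Q ⧸ Z) := QuotientGroup.congr Z Z α hmapZ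
  haveI : Fintype (Q ⧸ Z) := Fintype.ofFinite _
  have hγk : ∀ (k : ℕ) (x : Q), (γ ^ k) (x : Q ⧸ Z) = ((α ^ k) x : Q) := by
    intro k
    induction k with
    | zero => intro x; rfl
    | succ k ihk =>
      intro x
      rw [pow_succ, pow_succ, MulAut.mul_apply, MulAut.mul_apply, ← ihk]
      rfl
  let σ : Equiv.Perm (Q ⧸ Z) := γ.toEquiv
  have hσk : ∀ (k : ℕ) (x : Q ⧸ Z), (σ ^ k) x = (γ ^ k) x := by
    intro k
    induction k with
    | zero => intro x; rfl
    | succ k ihk => intro x; rw [pow_succ, pow_succ, Equiv.Perm.mul_apply, MulAut.mul_apply]; exact ihk _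
  have hσ : σ ^ p ^ 1 = 1 := by
    rw [pow_one]
    refine Equiv.ext fun x => QuotientGroup.induction_on x fun y => ?_
    rw [hσk, hγk, hα]; rfl
  have hmod := Equiv.Perm.card_compl_support_modEq (σ := σ) hσ
  have hsupp : σ.supportᶜ = {1} := by
    ext x
    rw [Finset.mem_compl, Equiv.Perm.notMem_support, Finset.mem_singleton]
    refine ⟨?_, fun h => by rw [h]; exact map_one γ⟩
    refine QuotientGroup.induction_on x fun y hy => ?_
    have h : y⁻¹ * α y ∈ Z := QuotientGroup.eq.mp (hy : ((α y : Q) : Q ⧸ Z) = y).symm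
    exact (QuotientGroup.eq_one_iff y).mpr (hFZ y (aut_fix_of_shift hcard hα (hZfix _ h)))
  rw [hsupp, Finset.card_singleton, ← Nat.card_eq_fintype_card, ← Z.index_eq_card] at hmod
  -- the index of the centre is the square of the degree
  have hdn : deg (χ : Q → ℂ) = n := by rw [← hρχ, deg_eq_finrank, Module.finrank_fin_fun]
  have hscal : ∀ z ∈ Z, ∃ w : ℂ, ‖w‖ = 1 ∧ (w = 1 → z = 1) ∧
      ∀ g, (χ : Q → ℂ) (z * g) = w * (χ : Q → ℂ) g := by
    intro z hz
    obtain ⟨w, hw, hw1⟩ := central_scalar ρ hz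
    refine ⟨w, hw1, fun e => hρinj (by rw [hw, e, one_smul, map_one]; rfl), fun g => ?_⟩
    rw [← hρχ]
    show LinearMap.trace ℂ _ (ρ (z * g)) = w * LinearMap.trace ℂ _ (ρ g)
    rw [map_mul, hw, smul_mul_assoc, map_smul, smul_eq_mul]
    rfl
  have hvanish : ∀ g, g ∉ Z → (χ : Q → ℂ) g = 0 := by
    intro g hg
    obtain ⟨h, hh⟩ : ∃ h, h * g ≠ g * h := by
      by_contra hall
      push Not at hall
      exact hg (Subgroup.mem_center_iff.mpr hall)
    set z := h * g * h⁻¹ * g⁻¹ with hz
    have hzc : z ∈ commutator Q := by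
      rw [commutator_def, hz, ← commutatorElement_def]
      exact Subgroup.commutator_mem_commutator (mem_top h) (mem_top g)
    obtain ⟨w, -, hw, hmul⟩ := hscal z (hcls z hzc)
    have hw1 : w ≠ 1 := fun e => hh (by
      have h1 := hw e
      rw [hz, mul_inv_eq_one, mul_inv_eq_iff_eq_mul] at h1
      exact h1)
    have h1 : (χ : Q → ℂ) g = w * (χ : Q → ℂ) g := by
      conv_lhs => rw [← isClassFunction_of_isIrr χ.2 g h]
      rw [← hmul g]
      congr 1
      rw [hz]; group
    by_contra hne
    exact hw1 ((mul_eq_right₀ hne).mp h1.symm)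
  have hindex : Z.index = n * n := by
    have h1 := irr_inner_self χ.2
    rw [classInner, inv_mul_eq_iff_eq_mul₀ card_ne_zero, mul_one,
      ← Finset.sum_subset (Finset.subset_univ (Finset.univ.filter fun g => g ∈ Z)) (fun g _ hg => by
        rw [hvanish g (fun h => hg (Finset.mem_filter.mpr ⟨Finset.mem_univ g, h⟩)), zero_mul])] at h1
    have h2 : ∀ z ∈ Finset.univ.filter (fun g => g ∈ Z),
        (χ : Q → ℂ) z * conj ((χ : Q → ℂ) z) = ((n * n : ℕ) : ℂ) := by
      intro z hz
      obtain ⟨w, hw1, -, hmul⟩ := hscal z (Finset.mem_filter.mp hz).2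
      have h3 := hmul 1
      rw [mul_one, deg_eq (isCharacter_of_isIrr χ.2), hdn] at h3
      rw [h3, map_mul, Complex.conj_natCast, mul_mul_mul_comm, Complex.mul_conj', hw1]
      simp
    rw [Finset.sum_congr rfl h2, Finset.sum_const, nsmul_eq_mul] at h1
    have h4 : (Finset.univ.filter fun g => g ∈ Z).card = Nat.card Z := by
      rw [Nat.card_eq_fintype_card]
      exact (Fintype.card_of_subtype _ fun x => by simp).symm
    rw [h4, ← Nat.cast_mul, Nat.cast_inj, ← Z.index_mul_card, mul_comm] at h1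
    exact (Nat.eq_of_mul_eq_mul_right Nat.card_pos h1).symm
  have hn1 : n ≠ 1 := fun e => hna fun a b => by
    rw [e] at hindex
    exact Subgroup.mem_center_iff.mp (show b ∈ Z from Subgroup.index_eq_one.mp hindex ▸ mem_top b) a
  have hn0 : 0 < n := hdn ▸ deg_pos χ.2
  rw [hindex] at hmod
  have hdvd : p ∣ (n + 1) * (n - 1) := by
    rw [← Nat.sq_sub_sq, one_pow, pow_two]
    exact (Nat.modEq_iff_dvd' (by nlinarith)).mp hmod
  rcases (Nat.Prime.dvd_mul Fact.out).mp hdvd with h | h
  · have := Nat.le_of_dvd (by omega) h; omega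
  · have := Nat.le_of_dvd (by omega) h; omega

end Cfsg.Agent.CT
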