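import Cfsg.Agent.Lib.CT.SmallDegreeMain

/-!
# An irreducible character of small degree and a Sylow subgroup with uniform centralizers
-/

set_option autoImplicit false
set_option linter.style.haveILetI false

namespace Cfsg.Agent.CT

universe u

theorem small_irr_normal_complement {G : Type u} [Group G] [Finite G] {p : ℕ} [Fact p.Prime]
    (S : Sylow p G)
    (hstar : ∀ x ∈ (S : Subgroup G), x ≠ 1 → Subgroup.centralizer ({x} : Set G) =
      Subgroup.centralizer ((S : Subgroup G) : Set G))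
    {χ : G → ℂ} (hχ : IsIrrCharacter G χ) (h1 : χ ≠ fun _ => 1)
    (hdeg : deg χ ^ 2 + 1 < Nat.card (S : Subgroup G)) :
    (∃ K : Subgroup G, K.Normal ∧ K ≠ ⊤ ∧ (S : Subgroup G) ≤ K) ∨
      ((∃ N : Subgroup G, N.Normal ∧ N.index = Nat.card (S : Subgroup G)) ∧ deg χ = 1) := by
  classical
  haveI := Fintype.ofFinite G
  by_cases hK : ∃ K : Subgroup G, K.Normal ∧ K ≠ ⊤ ∧ (S : Subgroup G) ≤ K
  · exact Or.inl hK
  refine Or.inr ?_
  have hgen : Subgroup.normalClosure ((S : Subgroup G) : Set G) = ⊤ := by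
    by_contra h
    exact hK ⟨_, Subgroup.normalClosure_normal, h, Subgroup.le_normalClosure⟩
  obtain ⟨D⟩ := SmallDeg.exists_data S hstar
  have hc := isCharacter_of_isIrr hχ
  have hP : ¬ ∀ u ∈ (S : Subgroup G), χ u = χ 1 := fun h =>
    h1 (SmallDeg.eq_one_of_kerP hgen hχ h)
  obtain ⟨i, hi, hmi⟩ := D.exists_m_ne_zero hc hP
  have hee : SmallDeg.ee (S : Subgroup G) ≤ deg χ := by
    rw [D.deg_eq_sum hc, ← SmallDeg.card_orb D hi, Finset.card_eq_sum_ones]
    refine le_trans (Finset.sum_le_sum fun j hj => ?_)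
      (Finset.sum_le_sum_of_subset (Finset.subset_univ _))
    obtain ⟨n, rfl⟩ := SmallDeg.mem_orb.mp hj
    rw [D.m_act hc]
    exact Nat.one_le_iff_ne_zero.mpr (mul_ne_zero hmi (SmallDeg.dd_pos _ _).ne')
  have h0 : 0 < deg χ := deg_pos hχ
  have hshape : 2 ≤ deg χ → ∃ i₀, D.Shape χ i₀ := fun h => by
    refine SmallDeg.shape D hχ hP ?_
    have : 2 * deg χ ≤ deg χ ^ 2 := by rw [pow_two]; exact Nat.mul_le_mul_right _ h
    omega
  have he : SmallDeg.ee (S : Subgroup G) = 1 := by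
    rcases Nat.lt_or_ge (deg χ) 2 with h | h
    · have := SmallDeg.ee_pos (P := (S : Subgroup G))
      omega
    · obtain ⟨i₀, hi₀⟩ := hshape h
      exact le_antisymm (SmallDeg.ee_le_one D hgen hχ hi₀ hdeg) SmallDeg.ee_pos
  constructor
  · have hle : Subgroup.normalizer ((S : Subgroup G) : Set G) ≤
        Subgroup.centralizer ((S : Subgroup G) : Set G) :=
      Subgroup.subgroupOf_eq_top.mp (Subgroup.index_eq_one.mp he)
    exact ⟨_, inferInstance, (MonoidHom.ker_transferSylow_isComplement' S hle).symm.index_eq_card⟩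
  · rcases Nat.lt_or_ge (deg χ) 2 with h | h
    · omega
    obtain ⟨i₀, hi₀⟩ := hshape h
    haveI : (kerChar χ).Normal := ⟨fun a ha g => by
      rw [mem_kerChar_iff hc] at ha ⊢
      rw [isClassFunction_of_isIrr hχ a g, ha]⟩
    have hscal : ∀ u ∈ (S : Subgroup G), ∀ g : G, u * g * u⁻¹ * g⁻¹ ∈ kerChar χ := fun u hu g => by
      rw [mem_kerChar_iff hc]
      exact SmallDeg.scalar_of_ee_one D he hχ hi₀ (by omega) ⟨u, hu⟩ g
    have htop : (S : Subgroup G) ⊔ kerChar χ = ⊤ := by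
      by_contra h
      refine hK ⟨_, ?_, h, le_sup_left⟩
      refine ⟨fun x hx g => ?_⟩
      obtain ⟨u, hu, k, hk, rfl⟩ := Subgroup.mem_sup_of_normal_right.mp hx
      have e : g * (u * k) * g⁻¹ = u * (u⁻¹ * g * u * g⁻¹) * (g * k * g⁻¹) := by group
      rw [e]
      refine mul_mem (mul_mem (Subgroup.mem_sup_left hu) (Subgroup.mem_sup_right ?_))
        (Subgroup.mem_sup_right (‹(kerChar χ).Normal›.conj_mem k hk g))
      simpa using hscal u⁻¹ (inv_mem hu) g
    obtain ⟨ψ, hψ, hval⟩ := exists_quotient_irr hχ (kerChar χ) fun n hn => (mem_kerChar_iff hc).mp hn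
    have hcomm : ∀ a b : G ⧸ kerChar χ, a * b = b * a := by
      have hrep : ∀ a : G ⧸ kerChar χ, ∃ u ∈ (S : Subgroup G), (QuotientGroup.mk u : G ⧸ _) = a := by
        intro a
        induction a using QuotientGroup.induction_on with | _ x =>
        obtain ⟨u, hu, k, hk, rfl⟩ :=
          Subgroup.mem_sup_of_normal_right.mp (htop.symm ▸ Subgroup.mem_top x)
        exact ⟨u, hu, by rw [QuotientGroup.mk_mul, (QuotientGroup.eq_one_iff k).mpr hk, mul_one]⟩
      intro a b
      obtain ⟨u, hu, rfl⟩ := hrep a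
      obtain ⟨v, hv, rfl⟩ := hrep b
      rw [← QuotientGroup.mk_mul, ← QuotientGroup.mk_mul, (D.le hv) u hu]
    have h1' : χ 1 = 1 := by
      rw [← hval 1]
      exact irr_degree_one_of_comm hcomm hψ
    rw [deg_eq hc] at h1'
    exact_mod_cast h1'

end Cfsg.Agent.CT
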