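import Cfsg.Agent.Lib.CT.SmallDegree

/-!
# A Sylow subgroup with uniform centralizers and a faithful character of small degree is normal
-/

set_option autoImplicit false
set_option linter.unusedSectionVars false
set_option linter.style.haveILetI false

open scoped ComplexConjugate
open scoped Classical

namespace Cfsg.Agent.CT.SmallDeg

universe u

variable {G : Type u} [Group G] [Fintype G] {P : Subgroup G}

theorem classInner_mul_conj {H : Type u} [Group H] [Fintype H] (f : H → ℂ) :
    classInner (fun h => f h * conj (f h)) (fun _ => (1 : ℂ)) = classInner f f := by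
  simp [classInner]

theorem deg_trivIrr (G : Type u) [Group G] : deg (trivIrr G : G → ℂ) = 1 := by
  simp [deg]

/-- Greedy choice of pairwise inequivalent labels over the trivial one, outside a given orbit. -/
theorem exists_reps (D : Data P) {i₀ : Idx P} (hi₀ : i₀.1 ≠ 1)
    (hP : ee P * ee P + ee P + 1 ≤ Nat.card P) :
    ∀ k ≤ ee P, ∃ s : Finset (Idx P), s.card = k ∧
      (∀ j ∈ s, j.1 ≠ 1 ∧ j.2 = del1 P ∧ j ∉ orb i₀) ∧
      ∀ j ∈ s, ∀ j' ∈ s, j' ∈ orb j → j = j' := by
  intro k hk
  induction k with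
  | zero => exact ⟨∅, by simp, by simp, by simp⟩
  | succ k ih =>
    obtain ⟨s, hs, h1, h2⟩ := ih (by omega)
    let U : Finset (Idx P) := orb i₀ ∪ s.biUnion orb
    obtain ⟨j, hj1, hj2, hjU⟩ : ∃ j : Idx P, j.1 ≠ 1 ∧ j.2 = del1 P ∧ j ∉ U := by
      by_contra h
      push Not at h
      have hsub : (Finset.univ.erase (1 : Dual P)) ⊆ U.image Prod.fst := fun l hl =>
        Finset.mem_image.mpr ⟨(l, del1 P), h _ (Finset.ne_of_mem_erase hl) rfl, rfl⟩
      have a1 := (Finset.card_le_card hsub).trans Finset.card_image_le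
      rw [Finset.card_erase_of_mem (Finset.mem_univ _), Finset.card_univ, card_dual P D] at a1
      have a2 : U.card ≤ ee P + k * ee P := by
        refine (Finset.card_union_le _ _).trans (Nat.add_le_add (card_orb D hi₀).le ?_)
        rw [← hs]
        exact Finset.card_biUnion_le_card_mul _ _ _ fun j hj => (card_orb D (h1 j hj).1).le
      have a3 : k * ee P + ee P ≤ ee P * ee P := by
        rw [← Nat.succ_mul]
        exact Nat.mul_le_mul_right _ hk
      have := ee_pos (P := P)
      omega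
    simp only [U, Finset.mem_union, Finset.mem_biUnion, not_or, not_exists, not_and] at hjU
    have hjs : j ∉ s := fun h => hjU.2 j h (self_mem_orb j)
    refine ⟨insert j s, by rw [Finset.card_insert_of_notMem hjs, hs], ?_, ?_⟩
    · intro x hx
      rcases Finset.mem_insert.mp hx with rfl | hx
      · exact ⟨hj1, hj2, hjU.1⟩
      · exact h1 x hx
    · intro x hx y hy hxy
      rcases Finset.mem_insert.mp hx with ex | hx <;> rcases Finset.mem_insert.mp hy with ey | hy
      · exact ex.trans ey.symm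
      · exact absurd (mem_orb_symm (ex ▸ hxy)) (hjU.2 y hy)
      · exact absurd (ey ▸ hxy) (hjU.2 x hx)
      · exact h2 x hx y hy hxy

variable {η : G → ℂ}

/-- The final configuration is impossible. -/
theorem final_contra (D : Data P) (hP : ee P * ee P + ee P + 1 ≤ Nat.card P)
    (hη : IsIrrCharacter G η) {i₀ : Idx P} (hs : D.Shape η i₀)
    (hall : ∀ i ∈ orb i₀, i.2 = del1 P)
    (htau : ∀ δ, D.m η (1, δ) = if δ = del1 P then 1 else 0)
    (hne : η ≠ fun _ => 1) : False := by
  have hc := isCharacter_of_isIrr hη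
  have hC0 : (Nat.card (cen P) : ℂ) ≠ 0 := Nat.cast_ne_zero.mpr Nat.card_pos.ne'
  have hi₀2 : i₀.2 = del1 P := hall i₀ (self_mem_orb i₀)
  let t : Idx P := (1, del1 P)
  have hfix : ∀ n, act P n t = t := fun n => by
    show act P n ((1 : Dual P), del1 P) = (1, del1 P)
    rw [act_del1, MonoidHom.one_comp]
  have hnt : ∀ {i : Idx P}, i.1 ≠ 1 → ∀ n, act P n i ≠ t := fun {i} hi n h =>
    hi ((act_fst_eq_one P).mp (congrArg Prod.fst h))
  have htn : ∀ {i : Idx P}, i.1 ≠ 1 → t ≠ i := fun {i} hi h => hi (congrArg Prod.fst h).symm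
  obtain ⟨s, hscard, hs1, hs2⟩ := exists_reps D hs.1 hP (ee P) le_rfl
  have mt : D.m η t = 1 := by rw [htau]; simp
  have m0 : D.m η i₀ = 1 := by rw [hs.2 i₀ hs.1, if_pos (self_mem_orb i₀)]
  have mj : ∀ j ∈ s, D.m η j = 0 := fun j hj => by
    rw [hs.2 j (hs1 j hj).1, if_neg (hs1 j hj).2.2]
  have h2j : ∀ j ∈ s, i₀.2 = j.2 := fun j hj => hi₀2.trans (hs1 j hj).2.1.symm
  have hht : t.2 = i₀.2 := hi₀2.symm
  -- the induced characters
  let X : G → ℂ := indFun (cen P) (D.ofC (eI t - eI i₀))
  let F : Idx P → G → ℂ := fun j => indFun (cen P) (D.ofC (eI i₀ - eI j))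
  let Y : Idx P → G → ℂ := fun j => η - F j
  let Z : G → ℂ := fun _ => 1
  have hXη : classInner X η = ((0 : ℤ) : ℂ) := by
    rw [inner_pair_res D hc, mt, m0]
    simp
  have hFη : ∀ j ∈ s, classInner (F j) η = ((1 : ℤ) : ℂ) := fun j hj => by
    rw [inner_pair_res D hc, m0, mj j hj]
    simp
  have hmZ : ∀ i, D.m (fun _ : G => (1 : ℂ)) i = if i = t then 1 else 0 := by
    intro i
    have e : (fun c : cen P => (fun _ : G => (1 : ℂ)) c) = D.lam t := funext fun c => by
      simp [Data.lam, t, del1]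
    simp only [Data.m, mult]
    rw [e, D.lam_inner]
    by_cases h : i = t
    · simp [h]
    · simp [h, Ne.symm h]
  have hXZ : classInner X Z = ((1 : ℤ) : ℂ) := by
    rw [inner_pair_res D isCharacter_one, hmZ, hmZ]
    simp [(htn hs.1).symm]
  have hFZ : ∀ j ∈ s, classInner (F j) Z = ((0 : ℤ) : ℂ) := fun j hj => by
    rw [inner_pair_res D isCharacter_one, hmZ, hmZ]
    simp [(htn hs.1).symm, (htn (hs1 j hj).1).symm]
  have hηZ : classInner η Z = ((0 : ℤ) : ℂ) := by
    rw [irr_inner_of_ne hη isIrrCharacter_one hne]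
    simp
  have hηη : classInner η η = ((1 : ℤ) : ℂ) := by rw [irr_inner_self hη]; simp
  have hZZ : classInner Z Z = ((1 : ℤ) : ℂ) := by
    rw [irr_inner_self isIrrCharacter_one]; simp
  have hcard : (Finset.univ : Finset (nor P)).card = ee P * Nat.card (cen P) := by
    rw [ee_mul, Finset.card_univ, Nat.card_eq_fintype_card]
  have hXX : classInner X X = (((ee P : ℤ) + 1 : ℤ) : ℂ) := by
    rw [inner_pairs D t i₀ t i₀ hht]
    simp only [hfix, hnt hs.1, if_false, if_true, if_neg (htn hs.1), sub_zero, zero_sub,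
      sub_neg_eq_add, Finset.sum_add_distrib, card_filter_fix D hs.1, Finset.sum_const, hcard,
      nsmul_eq_mul, mul_one]
    push_cast
    field_simp
  have hXF : ∀ j ∈ s, classInner X (F j) = ((-1 : ℤ) : ℂ) := by
    intro j hj
    have a1 : ∀ n, act P n j ≠ i₀ :=
      act_ne_of_not_mem fun h => (hs1 j hj).2.2 (mem_orb_symm h)
    rw [inner_pairs D t i₀ i₀ j hht]
    simp only [hnt hs.1, hnt (hs1 j hj).1, a1, if_false, zero_sub, sub_zero,
      Finset.sum_neg_distrib, card_filter_fix D hs.1]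
    push_cast
    field_simp
  have hFF : ∀ j ∈ s, ∀ k ∈ s,
      classInner (F j) (F k) = ((1 + if j = k then 1 else 0 : ℤ) : ℂ) := by
    intro j hj k hk
    have a1 : ∀ n, act P n i₀ ≠ j := act_ne_of_not_mem (hs1 j hj).2.2
    have a2 : ∀ n, act P n k ≠ i₀ :=
      act_ne_of_not_mem fun h => (hs1 k hk).2.2 (mem_orb_symm h)
    rw [inner_pairs D i₀ j i₀ k (h2j j hj)]
    by_cases hjk : j = k
    · subst hjk
      simp only [a1, a2, if_false, if_true, zero_sub, sub_zero, sub_neg_eq_add,
        Finset.sum_add_distrib, card_filter_fix D hs.1, card_filter_fix D (hs1 j hj).1]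
      push_cast
      field_simp
      norm_num
    · have a3 : ∀ n, act P n k ≠ j := fun n h =>
        hjk (hs2 k hk j hj (mem_orb.mpr ⟨n, h⟩)).symm
      simp only [a1, a2, a3, hjk, if_false, sub_zero, add_zero, card_filter_fix D hs.1]
      push_cast
      field_simp
  have hXY : ∀ j ∈ s, classInner X (Y j) = 1 := fun j hj => by
    simp only [Y, classInner_sub_right, hXη, hXF j hj]
    norm_num
  have hYX : ∀ j ∈ s, classInner (Y j) X = 1 := fun j hj => by
    rw [← classInner_conj_symm, hXY j hj, map_one]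
  have hZY : ∀ j ∈ s, classInner Z (Y j) = 0 := fun j hj => by
    simp only [Y, classInner_sub_right, inner_flip hηZ, inner_flip (hFZ j hj)]
    simp
  have hYZ : ∀ j ∈ s, classInner (Y j) Z = 0 := fun j hj => by
    rw [← classInner_conj_symm, hZY j hj, map_zero]
  have hYY : ∀ j ∈ s, ∀ k ∈ s, classInner (Y j) (Y k) = if j = k then 1 else 0 := fun j hj k hk => by
    simp only [Y, classInner_sub_right, classInner_sub_left, hηη, hFη j hj, inner_flip (hFη k hk),
      hFF j hj k hk]
    split_ifs <;> norm_num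
  have hR : X - (Z + ∑ j ∈ s, Y j) = 0 := by
    refine classInner_self_eq_zero ?_
    simp only [classInner_sub_left, classInner_sub_right, classInner_add_left, classInner_add_right,
      classInner_sum_left, classInner_sum_right, Finset.sum_sub_distrib, Finset.sum_add_distrib]
    rw [Finset.sum_congr rfl hXY, Finset.sum_congr rfl hYX, Finset.sum_congr rfl hZY,
      Finset.sum_congr rfl hYZ, hXX, hXZ, inner_flip hXZ, hZZ,
      Finset.sum_congr rfl fun j hj => Finset.sum_congr rfl fun k hk => hYY k hk j hj]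
    simp [hscard]
    ring
  have h1 := congrFun hR 1
  have hY1 : ∀ j ∈ s, Y j 1 = (deg η : ℂ) := fun j hj => by
    simp only [Y, F, Pi.sub_apply, D.ind_ofC_apply_one _ (sum_pair (h2j j hj)), sub_zero,
      deg_eq hc]
  simp only [Pi.sub_apply, Pi.add_apply, Finset.sum_apply, Pi.zero_apply] at h1
  rw [Finset.sum_congr rfl hY1, show X 1 = 0 from D.ind_ofC_apply_one _ (sum_pair hht)] at h1
  simp only [Z, zero_sub, neg_eq_zero, Finset.sum_const, hscard, nsmul_eq_mul] at h1
  have h1' : (((1 + ee P * deg η : ℕ)) : ℂ) = ((0 : ℕ) : ℂ) := by push_cast; exact h1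
  have := Nat.cast_injective h1'
  omega

/-- The centralizer has index one in the normalizer when there is a constituent of small degree. -/
theorem ee_le_one (D : Data P) (hgen : Subgroup.normalClosure (P : Set G) = ⊤)
    {χ₀ : G → ℂ} (h₀ : IsIrrCharacter G χ₀) {i₀ : Idx P} (hs : D.Shape χ₀ i₀)
    (hy : deg χ₀ ^ 2 + 1 < Nat.card P) : ee P ≤ 1 := by
  by_contra hlt
  have he : 2 ≤ ee P := by omega
  have hc₀ := isCharacter_of_isIrr h₀
  set d := dd P i₀.2 with hd
  have hd1 : 0 < d := dd_pos P _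
  have htau := tau_eq_zero D h₀ hs (by omega)
  have hdeg : deg χ₀ = ee P * d := by
    rw [deg_eq_of_shape D hc₀ hs]
    simp [htau, hd]
  -- size of `P`
  obtain ⟨q, hq⟩ := ee_dvd D
  have hqe : ee P * d ^ 2 + 1 ≤ q := by
    have : ee P * (ee P * d ^ 2) < ee P * q := by
      rw [← hq]
      have : deg χ₀ ^ 2 = ee P * (ee P * d ^ 2) := by rw [hdeg]; ring
      omega
    exact Nat.lt_of_mul_lt_mul_left this
  have hPd : ee P * (ee P * d ^ 2) + ee P + 1 ≤ Nat.card P := by
    have h1 := Nat.mul_le_mul_left (ee P) hqe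
    rw [← hq, Nat.mul_succ] at h1
    have : 0 < Nat.card P := Nat.card_pos
    omega
  have hPe : ee P * ee P + ee P + 1 ≤ Nat.card P := by
    have : ee P * ee P ≤ ee P * (ee P * d ^ 2) :=
      Nat.mul_le_mul_left _ (Nat.le_mul_of_pos_right _ (pow_pos hd1 2))
    omega
  -- the character `ψ = χ₀ * conj χ₀`
  set ψ : G → ℂ := fun g => χ₀ g * conj (χ₀ g) with hψdef
  have hψ : IsCharacter G ψ := isCharacter_mul hc₀ (isCharacter_conj hc₀)
  have hψ1 : deg ψ = (ee P * d) ^ 2 := by
    have e : (deg ψ : ℂ) = (((ee P * d) ^ 2 : ℕ) : ℂ) := by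
      rw [← deg_eq hψ, ← hdeg]
      simp [hψdef, deg_eq hc₀, pow_two]
    exact_mod_cast e
  set b : IrrCharacter G → ℕ := fun θ => mult ψ θ with hb
  set Z : IrrCharacter G := trivIrr G
  have hb1 : b Z = 1 := by
    have e := mult_spec hψ (isCharacter_of_isIrr Z.2)
    rw [show classInner ψ (Z : G → ℂ) = classInner χ₀ χ₀ from classInner_mul_conj χ₀,
      irr_inner_self h₀] at e
    exact_mod_cast e.symm
  have hexp := character_eq_sum hψ
  have hsplit : ∀ f : IrrCharacter G → ℕ,
      f Z + ∑ θ ∈ Finset.univ.erase Z, b θ * f θ = ∑ θ, b θ * f θ := fun f => by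
    rw [← Finset.add_sum_erase Finset.univ (fun θ => b θ * f θ) (Finset.mem_univ Z)]
    simp [hb1]
  have eq1 : 1 + ∑ θ ∈ Finset.univ.erase Z, b θ * deg θ.1 = (ee P * d) ^ 2 := by
    have h := congrFun hexp 1
    simp only [Finset.sum_apply, Pi.smul_apply, smul_eq_mul, deg_eq hψ,
      fun θ : IrrCharacter G => deg_eq (isCharacter_of_isIrr θ.2), hψ1] at h
    have e : (ee P * d) ^ 2 = ∑ θ, b θ * deg θ.1 := by exact_mod_cast h
    rw [e, ← hsplit fun θ => deg θ.1, deg_trivIrr]
  set tP : IrrCharacter G → ℕ := fun θ => ∑ δ : Del P, D.m θ.1 (1, δ) * dd P δ with htP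
  set tC : IrrCharacter G → ℕ := fun θ => D.m θ.1 (1, del1 P) with htC
  have hnorm1 : classInner (fun u : P => χ₀ u) (fun u : P => χ₀ u) = ((ee P * d ^ 2 : ℕ) : ℂ) := by
    rw [res_P_norm D hc₀]
    congr 1
    have hl : ∀ l : Dual P, (∑ δ : Del P, D.m χ₀ (l, δ) * dd P δ) =
        if l ∈ (orb i₀).image Prod.fst then d else 0 := by
      intro l
      split_ifs with h
      · obtain ⟨i, hi, rfl⟩ := Finset.mem_image.mp h
        rw [Finset.sum_eq_single i.2 (fun δ _ hδ => ?_) (by simp)]
        · rw [show D.m χ₀ (i.1, i.2) = 1 from (hs.2 i (fst_orb hi hs.1)).trans (if_pos hi), one_mul,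
            dd_orb hi]
        · have hl1 : i.1 ≠ 1 := fst_orb hi hs.1
          rw [hs.2 (i.1, δ) hl1, if_neg, zero_mul]
          exact fun hm => hδ (congrArg Prod.snd (orb_fst_injOn D hs.1 hi hm rfl)).symm
      · refine Finset.sum_eq_zero fun δ _ => ?_
        by_cases hl1 : l = 1
        · rw [hl1, htau, zero_mul]
        · rw [hs.2 (l, δ) hl1, if_neg, zero_mul]
          exact fun hm => h (Finset.mem_image.mpr ⟨_, hm, rfl⟩)
    rw [Finset.sum_congr rfl fun l _ => by rw [hl l]]
    simp only [ite_pow, ne_eq, OfNat.ofNat_ne_zero, not_false_eq_true, zero_pow]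
    rw [Finset.sum_ite_mem, Finset.univ_inter, Finset.sum_const, smul_eq_mul,
      Finset.card_image_of_injOn fun x hx y hy h => orb_fst_injOn D hs.1 hx hy h, card_orb D hs.1]
  have hnorm2 : classInner (fun c : cen P => χ₀ c) (fun c : cen P => χ₀ c) =
      ((ee P : ℕ) : ℂ) := by
    rw [res_cen_norm D hc₀]
    congr 1
    simp only [pow_two]
    rw [sum_m_mul D hs (fun i => D.m χ₀ i),
      Finset.sum_congr rfl fun i hi => (hs.2 i (fst_orb hi hs.1)).trans (if_pos hi),
      Finset.sum_const, smul_eq_mul, mul_one, card_orb D hs.1]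
    simp [htau]
  have hP1 : ∀ θ : IrrCharacter G, classInner (fun u : P => θ.1 u) (fun _ : P => (1 : ℂ)) =
      (tP θ : ℂ) := fun θ => by
    have h := res_P_inner D (isCharacter_of_isIrr θ.2) (1 : Dual P)
    simpa [htP] using h
  have hC1 : ∀ θ : IrrCharacter G, classInner (fun c : cen P => θ.1 c) (fun _ : cen P => (1 : ℂ)) =
      (tC θ : ℂ) := fun θ => res_cen_one D (isCharacter_of_isIrr θ.2)
  have hZP : tP Z = 1 := by
    have e := (hP1 Z).symm
    rw [show classInner (fun u : P => (Z : G → ℂ) u) (fun _ : P => (1 : ℂ)) = 1 from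
      irr_inner_self isIrrCharacter_one] at e
    exact_mod_cast e
  have hZC : tC Z = 1 := by
    have e := (hC1 Z).symm
    rw [show classInner (fun u : cen P => (Z : G → ℂ) u) (fun _ : cen P => (1 : ℂ)) = 1 from
      irr_inner_self isIrrCharacter_one] at e
    exact_mod_cast e
  have eq2 : 1 + ∑ θ ∈ Finset.univ.erase Z, b θ * tP θ = ee P * d ^ 2 := by
    have e : classInner (fun u : P => ψ u) (fun _ : P => (1 : ℂ)) =
        ((∑ θ, b θ * tP θ : ℕ) : ℂ) := by
      rw [show (fun u : P => ψ u) = ∑ θ : IrrCharacter G, (b θ : ℂ) • fun u : P => θ.1 u from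
        funext fun u => by rw [congrFun hexp u]; simp [hb], classInner_sum_left]
      simp [classInner_smul_left, hP1]
    rw [show classInner (fun u : P => ψ u) (fun _ : P => (1 : ℂ)) =
      classInner (fun u : P => χ₀ u) (fun u : P => χ₀ u) from classInner_mul_conj _, hnorm1] at e
    have e' : ee P * d ^ 2 = ∑ θ, b θ * tP θ := by exact_mod_cast e
    rw [e', ← hsplit tP, hZP]
  have eq3 : 1 + ∑ θ ∈ Finset.univ.erase Z, b θ * tC θ = ee P := by
    have e : classInner (fun c : cen P => ψ c) (fun _ : cen P => (1 : ℂ)) =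
        ((∑ θ, b θ * tC θ : ℕ) : ℂ) := by
      rw [show (fun u : cen P => ψ u) = ∑ θ : IrrCharacter G, (b θ : ℂ) • fun u : cen P => θ.1 u from
        funext fun u => by rw [congrFun hexp u]; simp [hb], classInner_sum_left]
      simp [classInner_smul_left, hC1]
    rw [show classInner (fun u : cen P => ψ u) (fun _ : cen P => (1 : ℂ)) =
      classInner (fun u : cen P => χ₀ u) (fun u : cen P => χ₀ u) from classInner_mul_conj _,
      hnorm2] at e
    have e' : ee P = ∑ θ, b θ * tC θ := by exact_mod_cast e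
    rw [← hsplit tC, hZC] at e'
    exact e'.symm
  -- the other constituents
  have hconst : ∀ θ ∈ Finset.univ.erase Z, b θ ≠ 0 →
      (ee P + 1) * tP θ ≤ deg θ.1 ∧ tC θ ≤ tP θ ∧
      ((tP θ = 0 ∧ tC θ = 0) ∨ (tC θ = tP θ →
        ∃ j₀, D.Shape θ.1 j₀ ∧ (∀ i ∈ orb j₀, i.2 = del1 P) ∧
          ∀ δ, D.m θ.1 (1, δ) = if δ = del1 P then 1 else 0)) := by
    intro θ hθ hbθ
    have hθc := isCharacter_of_isIrr θ.2
    have hne : θ.1 ≠ fun _ => 1 := fun h => Finset.ne_of_mem_erase hθ (Subtype.ext h)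
    have hP' : ¬ ∀ u ∈ P, θ.1 u = θ.1 1 := fun h => hne (eq_one_of_kerP hgen θ.2 h)
    have hle : deg θ.1 + 1 ≤ (ee P * d) ^ 2 := by
      rw [← eq1, add_comm]
      exact Nat.add_le_add_left ((Nat.le_mul_of_pos_left _ (Nat.pos_of_ne_zero hbθ)).trans
        (Finset.single_le_sum (f := fun θ => b θ * deg θ.1) (fun _ _ => Nat.zero_le _) hθ)) 1
    obtain ⟨j₀, hj₀⟩ := shape D θ.2 hP' (by
      have : (ee P * d) ^ 2 = ee P * (ee P * d ^ 2) := by ring
      omega)
    rcases tau_cases D he hPe θ.2 hj₀ with hz | ⟨hv, hm⟩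
    · refine ⟨?_, ?_, Or.inl ⟨?_, ?_⟩⟩ <;> simp [htP, htC, hz]
    · have htPv : tP θ = dd P j₀.2 := by simp [htP, hv]
      have htCv : tC θ = if del1 P = j₀.2 then 1 else 0 := hv _
      refine ⟨?_, ?_, Or.inr fun heq => ⟨j₀, hj₀, ?_⟩⟩
      · rw [deg_eq_of_shape D hθc hj₀, htPv]
        simp [hv, add_mul]
      · rw [htPv, htCv]
        split_ifs
        · exact dd_pos P _
        · exact Nat.zero_le _
      · rw [htPv, htCv] at heq
        split_ifs at heq with h
        · exact ⟨fun i hi => (hm i hi).trans h.symm, by rw [h]; exact hv⟩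
        · exact absurd heq (dd_pos P _).ne
  have key1 : ∀ θ ∈ Finset.univ.erase Z, (ee P + 1) * (b θ * tP θ) ≤ b θ * deg θ.1 := by
    intro θ hθ
    by_cases hbθ : b θ = 0
    · simp [hbθ]
    · rw [mul_left_comm]
      exact Nat.mul_le_mul_left _ (hconst θ hθ hbθ).1
  have key2 : ∀ θ ∈ Finset.univ.erase Z, b θ * tC θ ≤ b θ * tP θ := by
    intro θ hθ
    by_cases hbθ : b θ = 0
    · simp [hbθ]
    · exact Nat.mul_le_mul_left _ (hconst θ hθ hbθ).2.1
  have s1 := Finset.sum_le_sum key1
  rw [← Finset.mul_sum] at s1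
  have hd' : d = 1 := by
    have hexp' : (ee P + 1) * (1 + ∑ θ ∈ Finset.univ.erase Z, b θ * tP θ) =
        (ee P + 1) * (ee P * d ^ 2) := by rw [eq2]
    nlinarith
  have s2 : ∑ θ ∈ Finset.univ.erase Z, b θ * tC θ = ∑ θ ∈ Finset.univ.erase Z, b θ * tP θ := by
    rw [hd'] at eq2
    simp only [one_pow, mul_one] at eq2
    omega
  obtain ⟨θ, hθ, hbt⟩ : ∃ θ ∈ Finset.univ.erase Z, b θ * tP θ ≠ 0 := by
    by_contra h
    push Not at h
    rw [Finset.sum_eq_zero h, hd'] at eq2
    simp only [one_pow, mul_one] at eq2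
    omega
  have heq : b θ * tC θ = b θ * tP θ :=
    (Finset.sum_eq_sum_iff_of_le key2).mp s2 θ hθ
  obtain ⟨hbθ, htθ⟩ := mul_ne_zero_iff.mp hbt
  rcases (hconst θ hθ hbθ).2.2 with ⟨h, -⟩ | h
  · exact htθ h
  obtain ⟨j₀, hj₀, hall, hval⟩ := h (mul_left_cancel₀ hbθ heq)
  exact final_contra D hPe θ.2 hj₀ hall hval
    (fun h => Finset.ne_of_mem_erase hθ (Subtype.ext h))

/-- The constituents of a small character make `P` central. -/
theorem central_of_small (D : Data P) (hgen : Subgroup.normalClosure (P : Set G) = ⊤)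
    {χ : G → ℂ} (hχ : IsCharacter G χ) (hfaith : ∀ g : G, χ g = χ 1 → g = 1) (h2 : 2 ≤ deg χ)
    (hx : deg χ ^ 2 + 1 < Nat.card P) : P ≤ Subgroup.center G := by
  have hsmall : ∀ θ : IrrCharacter G, mult χ θ.1 ≠ 0 → (¬ ∀ u ∈ P, θ.1 u = θ.1 1) →
      deg θ.1 ^ 2 + 1 < Nat.card P ∧ ∃ i₀, D.Shape θ.1 i₀ := by
    intro θ hm hP
    have hle : deg θ.1 ≤ deg χ :=
      (Nat.le_mul_of_pos_left _ (Nat.pos_of_ne_zero hm)).trans (constituent_deg_le hχ θ)
    have hθc := isCharacter_of_isIrr θ.2
    obtain ⟨i, hi, hmi⟩ := D.exists_m_ne_zero hθc hP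
    have hee : ee P ≤ deg θ.1 := by
      rw [D.deg_eq_sum hθc, ← card_orb D hi, Finset.card_eq_sum_ones]
      refine le_trans (Finset.sum_le_sum fun j hj => ?_)
        (Finset.sum_le_sum_of_subset (Finset.subset_univ _))
      obtain ⟨n, rfl⟩ := mem_orb.mp hj
      rw [D.m_act hθc]
      exact Nat.one_le_iff_ne_zero.mpr (mul_ne_zero hmi (dd_pos P _).ne')
    have := Nat.pow_le_pow_left hle 2
    refine ⟨by omega, shape D θ.2 hP ?_⟩
    have : 2 * deg χ ≤ deg χ ^ 2 := by rw [pow_two]; exact Nat.mul_le_mul_right _ h2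
    omega
  intro u hu
  rw [Subgroup.mem_center_iff]
  intro g
  have hk : χ (u * g * u⁻¹ * g⁻¹) = χ 1 := by
    have hexp := character_eq_sum hχ
    rw [congrFun hexp, congrFun hexp]
    simp only [Finset.sum_apply, Pi.smul_apply, smul_eq_mul]
    refine Finset.sum_congr rfl fun θ _ => ?_
    by_cases hm : mult χ θ.1 = 0
    · simp [hm]
    congr 1
    by_cases hP : ∀ v ∈ P, θ.1 v = θ.1 1
    · rw [eq_one_of_kerP hgen θ.2 hP]
    obtain ⟨hy, i₀, hi₀⟩ := hsmall θ hm hP
    have he : ee P = 1 := le_antisymm (ee_le_one D hgen θ.2 hi₀ hy) ee_pos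
    exact scalar_of_ee_one D he θ.2 hi₀ (by omega) ⟨u, hu⟩ g
  have := hfaith _ hk
  rw [mul_inv_eq_one, mul_inv_eq_iff_eq_mul] at this
  exact this.symm

/-- The data attached to a Sylow subgroup with uniform centralizers. -/
theorem exists_data {p : ℕ} [Fact p.Prime] (S : Sylow p G)
    (hstar : ∀ x ∈ (S : Subgroup G), x ≠ 1 → Subgroup.centralizer ({x} : Set G) =
      Subgroup.centralizer ((S : Subgroup G) : Set G)) :
    Nonempty (Data (S : Subgroup G)) := by
  have hle : (S : Subgroup G) ≤ cen (S : Subgroup G) := fun x hx => by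
    by_cases h1 : x = 1
    · rw [h1]; exact one_mem _
    · have := hstar x hx h1
      show x ∈ Subgroup.centralizer ((S : Subgroup G) : Set G)
      rw [← this, Subgroup.mem_centralizer_singleton_iff]
  letI : CommGroup (S : Subgroup G) :=
    { (inferInstance : Group (S : Subgroup G)) with
      mul_comm := fun a b => Subtype.ext (hle b.2 a a.2) }
  set Z : Subgroup (cen (S : Subgroup G)) := (S : Subgroup G).subgroupOf _ with hZdef
  have hZc : Z ≤ Subgroup.center _ := fun z hz => Subgroup.mem_center_iff.mpr fun c =>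
    Subtype.ext (c.2 _ hz).symm
  have hidx : ¬ p ∣ Z.index := (S.subtype hle).not_dvd_index
  have hp := (Fact.out : p.Prime)
  have hZp : IsPGroup p Z := S.2.of_equiv (Subgroup.subgroupOfEquivOfLe hle).symm
  obtain ⟨τ, hτ⟩ := Transfer.exists_retraction_of_central Z Z hZc hZp le_rfl hidx S.2
    (Subgroup.subgroupOfEquivOfLe hle).toMonoidHom
  have hτS : ∀ u : (S : Subgroup G), τ ⟨u, hle u.2⟩ = u := fun u => by
    rw [show (⟨u, hle u.2⟩ : cen (S : Subgroup G)) = ((⟨⟨u, hle u.2⟩, u.2⟩ : Z) : cen _) from rfl,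
      hτ]
    rfl
  haveI : Z.Normal := ⟨fun z hz c => by
    rwa [Subgroup.mem_center_iff.mp (hZc hz) c, mul_inv_cancel_right]⟩
  have hcop : ∀ u : (S : Subgroup G), u ^ Z.index = 1 → u = 1 := fun u hu => by
    obtain ⟨k, hk⟩ := S.2 u
    have hc : Nat.Coprime Z.index (p ^ k) :=
      Nat.Coprime.pow_right k (hp.coprime_iff_not_dvd.mpr hidx).symm
    have h1 : u ^ Nat.gcd Z.index (p ^ k) = 1 := pow_gcd_eq_one.mpr ⟨hu, hk⟩
    rwa [hc.gcd_eq_one, pow_one] at h1
  have hpow : ∀ c : cen (S : Subgroup G), ((c ^ Z.index : cen (S : Subgroup G)) : G) ∈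
      (S : Subgroup G) := fun c => Subgroup.mem_subgroupOf.mp (Z.pow_index_mem c)
  refine ⟨⟨hle, τ, hτS, ?_, ?_, ?_⟩⟩
  · intro n c
    have hk : ∀ c, (τ (cc _ n c) * (pc _ n (τ c))⁻¹) ^ Z.index = 1 := by
      intro c
      rw [mul_pow, inv_pow, ← map_pow, ← map_pow, ← map_pow, ← map_pow]
      have e1 : τ (c ^ Z.index) = ⟨_, hpow c⟩ := hτS ⟨_, hpow c⟩
      have e2 : τ (cc _ n (c ^ Z.index)) = pc _ n (τ (c ^ Z.index)) := by
        rw [e1]
        exact (congrArg τ (Subtype.ext rfl)).trans (hτS (pc _ n ⟨_, hpow c⟩))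
      rw [e2, mul_inv_cancel]
    exact mul_inv_eq_one.mp (hcop _ (hk c))
  · intro g c hc hg
    set y : cen (S : Subgroup G) := c ^ Z.index with hy
    have hyS : (y : G) ∈ (S : Subgroup G) := hpow c
    have hy1 : (y : G) ≠ 1 := fun h => hc (hcop _ (by
      rw [← map_pow, ← hy, show y = 1 from Subtype.ext h, map_one]))
    have hy' : g * y * g⁻¹ ∈ (S : Subgroup G) := by
      have := hpow ⟨_, hg⟩
      simpa [hy, conj_pow] using this
    have hy1' : g * y * g⁻¹ ≠ 1 := fun h => hy1 (by simpa using h)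
    have hC : ∀ z ∈ cen (S : Subgroup G), g * z * g⁻¹ ∈ cen (S : Subgroup G) := by
      intro z hz
      show g * z * g⁻¹ ∈ Subgroup.centralizer ((S : Subgroup G) : Set G)
      rw [← hstar _ hy' hy1', Subgroup.mem_centralizer_singleton_iff]
      have := hz y hyS
      simp only [mul_assoc, inv_mul_cancel_left]
      rw [← mul_assoc z, ← mul_assoc (y : G), ← this]
    have hS : ∀ v ∈ (S : Subgroup G), g * v * g⁻¹ ∈ (S : Subgroup G) := by
      intro v hv
      obtain ⟨k, hk⟩ := S.2 ⟨v, hv⟩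
      have hk' : v ^ p ^ k = 1 := congrArg Subtype.val hk
      set w : cen (S : Subgroup G) := ⟨_, hC v (hle hv)⟩ with hw
      have hwk : w ^ p ^ k = 1 := Subtype.ext (by simp [hw, conj_pow, hk'])
      have hc' : Nat.Coprime Z.index (orderOf w) :=
        Nat.Coprime.coprime_dvd_right (orderOf_dvd_of_pow_eq_one hwk)
          (Nat.Coprime.pow_right k (hp.coprime_iff_not_dvd.mpr hidx).symm)
      obtain ⟨m, hm⟩ := exists_pow_eq_self_of_coprime hc'
      have : ((w : cen (S : Subgroup G)) : G) ∈ (S : Subgroup G) := by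
        rw [← hm, SubmonoidClass.coe_pow]
        exact pow_mem (hpow w) m
      exact this
    intro v
    refine ⟨hS v, fun hv => ?_⟩
    let f : ↥(S : Subgroup G) → ↥(S : Subgroup G) := fun x => ⟨_, hS x x.2⟩
    have hinj : Function.Injective f := fun a b hab =>
      Subtype.ext (mul_left_cancel (mul_right_cancel (congrArg Subtype.val hab)))
    obtain ⟨x, hx⟩ := Finite.injective_iff_surjective.mp hinj ⟨_, hv⟩
    have hx' : g * (x : G) * g⁻¹ = g * v * g⁻¹ := congrArg Subtype.val hx
    rw [← mul_left_cancel (mul_right_cancel hx')]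
    exact x.2
  · intro n u hu1 hnu
    have h : (n : G) * u * (n : G)⁻¹ = u := congrArg Subtype.val hnu
    show (n : G) ∈ Subgroup.centralizer ((S : Subgroup G) : Set G)
    rw [← hstar u u.2 (fun h1 => hu1 (Subtype.ext h1)), Subgroup.mem_centralizer_singleton_iff]
    exact mul_inv_eq_iff_eq_mul.mp h

end Cfsg.Agent.CT.SmallDeg

namespace Cfsg.Agent.CT

universe u

theorem normal_sylow_of_small_aux (p : ℕ) [Fact p.Prime] :
    ∀ (k : ℕ) {G : Type u} [Group G] [Finite G], Nat.card G ≤ k → ∀ (S : Sylow p G),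
      (∀ x ∈ (S : Subgroup G), x ≠ 1 → Subgroup.centralizer ({x} : Set G) =
        Subgroup.centralizer ((S : Subgroup G) : Set G)) →
      ∀ (χ : G → ℂ), IsCharacter G χ → (∀ g : G, χ g = χ 1 → g = 1) →
        deg χ ^ 2 + 1 < Nat.card (S : Subgroup G) → (S : Subgroup G).Normal := by
  intro k
  induction k with
  | zero => intro G _ _ h; exact absurd h (by have := Nat.card_pos (α := G); omega)
  | succ k ih =>
    intro G _ _ hcard S hstar χ hχ hfaith hx
    classical
    haveI := Fintype.ofFinite G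
    by_cases h2 : deg χ ≤ 1
    · have hc : ∀ a b : G, a * b = b * a := by
        intro a b
        rcases Nat.le_one_iff_eq_zero_or_eq_one.mp h2 with h0 | h1
        · have hz := char_eq_zero_of_deg hχ (by rw [deg_eq hχ, h0, Nat.cast_zero])
          rw [hfaith a (by simp [hz]), hfaith b (by simp [hz])]
        · obtain ⟨l, hl⟩ := exists_hom_of_degree_one hχ (by rw [deg_eq hχ, h1, Nat.cast_one])
          refine eq_of_div_eq_one (hfaith _ ?_)
          simp [hl, mul_comm]
      exact ⟨fun x hx g => by rwa [hc g x, mul_inv_cancel_right]⟩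
    by_cases hK : Subgroup.normalClosure ((S : Subgroup G) : Set G) = ⊤
    · obtain ⟨D⟩ := SmallDeg.exists_data S hstar
      have hcen := SmallDeg.central_of_small D hK hχ hfaith (by omega) hx
      exact ⟨fun x hx g => by
        rw [Subgroup.mem_center_iff.mp (hcen hx) g, mul_inv_cancel_right]; exact hx⟩
    set K := Subgroup.normalClosure ((S : Subgroup G) : Set G) with hKdef
    have hle : (S : Subgroup G) ≤ K := Subgroup.le_normalClosure
    have hlt : Nat.card K < Nat.card G := by
      refine lt_of_le_of_ne (Subgroup.card_le_card_group K) fun h => hK ?_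
      exact K.eq_top_of_card_eq h
    have hcoe : ((S.subtype hle : Sylow p K) : Subgroup K) = (S : Subgroup G).subgroupOf K := rfl
    have hcardS : Nat.card ((S.subtype hle : Sylow p K) : Subgroup K) = Nat.card (S : Subgroup G) := by
      rw [hcoe]; exact Nat.card_congr (Subgroup.subgroupOfEquivOfLe hle).toEquiv
    have hnK := ih (G := K) (by omega) (S.subtype hle) ?_ (fun x : K => χ x)
      (isCharacter_restrict K hχ) (fun g hg => Subtype.ext (hfaith g (by simpa using hg))) ?_
    · haveI : ((S.subtype hle : Sylow p K) : Subgroup K).Characteristic :=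
        Sylow.characteristic_of_normal _ hnK
      have : (((S.subtype hle : Sylow p K) : Subgroup K).map K.subtype).Normal :=
        ConjAct.normal_of_characteristic_of_normal
      rwa [hcoe, Subgroup.map_subgroupOf_eq_of_le hle] at this
    · intro x hxS hx1
      have h := hstar x (Subgroup.mem_subgroupOf.mp hxS) fun h => hx1 (Subtype.ext h)
      ext z
      rw [Subgroup.mem_centralizer_singleton_iff]
      constructor
      · intro hz u hu
        have hz' : (z : G) ∈ Subgroup.centralizer ({(x : G)} : Set G) := by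
          rw [Subgroup.mem_centralizer_singleton_iff]
          exact congrArg Subtype.val hz
        rw [h] at hz'
        exact Subtype.ext (hz' _ hu)
      · intro hz
        exact (hz x hxS).symm
    · rw [hcardS]
      have : deg (fun x : K => χ x) = deg χ := by simp [deg]
      rwa [this]

end Cfsg.Agent.CT
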