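import Cfsg.Agent.Lib.CT.SylowPair
import Cfsg.Agent.Lib.CT.GoodCount
import Cfsg.Agent.Lib.CT.Degree
import Cfsg.Agent.Lib.CT.Integral
import Mathlib.GroupTheory.SchurZassenhaus

/-!
# Counting over a normal subgroup with a Sylow subgroup on top
-/

set_option autoImplicit false
set_option linter.all false

namespace Cfsg.Agent.SylowKernel

open Cfsg.Agent.CT Cfsg.Agent.CoprimeTriple Cfsg.Agent.RelCount Cfsg.Agent.SylowPair
open scoped Pointwise

universe u

section Central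

variable {B Z : Type u} [Group B] [Finite B] [Group Z] [Finite Z]

theorem exists_omega (ι : Z →* B) (hι : ∀ z, ι z ∈ Subgroup.center B) {f : B → ℂ}
    (hf : IsIrrCharacter B f) : ∃ ω : Z →* ℂˣ, ∀ z, f (ι z) = f 1 * (ω z : ℂ) := by
  obtain ⟨d, ρ, hρ, rfl⟩ := hf
  haveI := Fintype.ofFinite B
  haveI := hρ
  choose w hw _ using fun z => central_scalar ρ (hι z)
  have hd : (d : ℂ) = ρ.character 1 := by simp [Representation.char_one]
  have hd0 : ρ.character 1 ≠ 0 := irr_one_ne_zero (isIrrCharacter_character ρ)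
  have hval : ∀ z, ρ.character (ι z) = ρ.character 1 * w z := fun z => by
    rw [← hd, Representation.character, hw, map_smul, LinearMap.trace_id]
    simp [mul_comm]
  let ωM : Z →* ℂ :=
    { toFun := w
      map_one' := by
        have h := hval 1
        rw [map_one] at h
        exact mul_left_cancel₀ hd0 (h.symm.trans (mul_one _).symm)
      map_mul' := fun a b => by
        have h : (LinearMap.trace ℂ (Fin d → ℂ)) (ρ (ι (a * b))) = ρ.character 1 * (w a * w b) := by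
          rw [map_mul, map_mul, hw, hw, ← hd, smul_mul_smul_comm, ← Module.End.one_eq_id, one_mul,
            Module.End.one_eq_id, map_smul, LinearMap.trace_id]
          simp [mul_comm, mul_left_comm]
        exact mul_left_cancel₀ hd0 ((hval _).symm.trans h) }
  exact ⟨ωM.toHomUnits, fun z => by rw [hval]; rfl⟩

/-- Lying over a character of a central subgroup. -/
theorem ov_central (ι : Z →* B) (hι : ∀ z, ι z ∈ Subgroup.center B) (hinj : Function.Injective ι)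
    {f : B → ℂ} (hf : IsIrrCharacter B f) (ζ : IrrCharacter Z) :
    Ov ι (ζ : Z → ℂ) f ↔ ∀ z, f (ι z) = f 1 * (ζ : Z → ℂ) z := by
  classical
  haveI := Fintype.ofFinite Z
  obtain ⟨ω, hω⟩ := exists_omega ι hι hf
  rw [ov_def, show (fun z => f (ι z)) = f 1 • fun z => (ω z : ℂ) from funext hω, classInner_smul_left]
  constructor
  · intro h z
    rw [hω, ← eq_of_inner_ne_zero (isIrrCharacter_lin ω) ζ.2 (right_ne_zero_of_mul h)]
  · intro h
    have e : (fun z => (ω z : ℂ)) = (ζ : Z → ℂ) :=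
      funext fun z => mul_left_cancel₀ (irr_one_ne_zero hf) ((hω z).symm.trans (h z))
    rw [e, irr_inner_self ζ.2, mul_one]
    exact irr_one_ne_zero hf

end Central

variable {H : Type u} [Group H] [Fintype H] {p : ℕ} [Fact p.Prime]

theorem dvd_deg_quotient {X M : Subgroup H} (hXM : X ≤ M) (hMX : ∀ m ∈ M, ∀ x ∈ X, m * x * m⁻¹ ∈ X)
    (φ : IrrCharacter X) (χ : IrrCharacter M) (h : Ov (Subgroup.inclusion hXM) (φ : X → ℂ) χ) :
    ∃ k, deg (χ : M → ℂ) = k * deg (φ : X → ℂ) ∧ k ∣ X.relIndex M := by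
  classical
  haveI : (X.subgroupOf M).Normal := ⟨fun x hx m => hMX m m.2 _ hx⟩
  haveI := Fintype.ofFinite X
  haveI := Fintype.ofFinite M
  haveI := Fintype.ofFinite ↥(X.subgroupOf M)
  let e := Subgroup.subgroupOfEquivOfLe hXM
  have hφ' : IsIrrCharacter ↥(X.subgroupOf M) (fun y => (φ : X → ℂ) (e y)) :=
    isIrrCharacter_comp e.toMonoidHom e.surjective φ.2
  rw [ov_def] at h
  obtain ⟨k, hk, hk'⟩ := deg_ratio_dvd_index (X.subgroupOf M) χ.2 hφ' (fun h0 => h (by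
    refine Eq.trans ?_ h0
    simp only [classInner]
    rw [Nat.card_congr e.toEquiv]
    congr 1
    exact (Fintype.sum_equiv e.toEquiv _ _ fun y => rfl).symm))
  refine ⟨k, ?_, hk'⟩
  rw [hk]
  congr 1 <;> simp [deg]

theorem cnt_eq_all {X M : Subgroup H} (hXM : X ≤ M) (hMX : ∀ m ∈ M, ∀ x ∈ X, m * x * m⁻¹ ∈ X)
    (hidx : ¬ p ∣ X.relIndex M) (φ : IrrCharacter X) (hφ : ¬ p ∣ deg (φ : X → ℂ))
    [Fintype ↥(X.subgroupOf M)] :
    cnt p (Subgroup.inclusion hXM) (φ : X → ℂ) =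
      Nat.card {χ : IrrCharacter M // classInner (fun n : ↥(X.subgroupOf M) => (χ : M → ℂ) n)
        (fun y => (φ : X → ℂ) (Subgroup.subgroupOfEquivOfLe hXM y)) ≠ 0} := by
  let e := Subgroup.subgroupOfEquivOfLe hXM
  rw [cnt_congr p e.symm (MulEquiv.refl M) (Subgroup.inclusion hXM) (X.subgroupOf M).subtype
    (φ : X → ℂ) (fun y => (φ : X → ℂ) (e y)) (fun _ => rfl) (fun a => by simp)]
  refine Nat.card_congr (Equiv.subtypeEquivRight fun χ => ?_)
  rw [ov_def]
  refine ⟨fun h => h.2, fun h => ⟨fun hd => ?_, h⟩⟩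
  obtain ⟨k, hk, hk'⟩ := dvd_deg_quotient hXM hMX φ χ (by
    haveI := Fintype.ofFinite X
    rw [ov_def]
    refine fun h0 => h (Eq.trans ?_ h0)
    simp only [classInner]
    rw [Nat.card_congr e.toEquiv]
    congr 1
    exact Fintype.sum_equiv e.toEquiv _ _ fun y => rfl)
  rw [hk] at hd
  exact ((Fact.out : p.Prime).dvd_mul.mp hd).elim (fun h => hidx (h.trans hk')) hφ

theorem sup_zpowers_congr {X : Subgroup H} {a b : H} (h : a⁻¹ * b ∈ X) :
    X ⊔ Subgroup.zpowers a = X ⊔ Subgroup.zpowers b := by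
  have key : ∀ a b : H, a⁻¹ * b ∈ X → X ⊔ Subgroup.zpowers b ≤ X ⊔ Subgroup.zpowers a := by
    intro a b h
    refine sup_le le_sup_left (Subgroup.zpowers_le.mpr ?_)
    rw [show b = a * (a⁻¹ * b) by group]
    exact Subgroup.mul_mem _ (Subgroup.mem_sup_right (Subgroup.mem_zpowers a)) (Subgroup.mem_sup_left h)
  exact le_antisymm (key b a (by simpa using X.inv_mem h)) (key a b h)

/-- Extensions seen inside an intermediate subgroup. -/
theorem extTo_iff {X M : Subgroup H} (hXM : X ≤ M) [(X.subgroupOf M).Normal] [Fintype M]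
    [Fintype ↥(X.subgroupOf M)]
    (φ : IrrCharacter X) (φ' : IrrCharacter ↥(X.subgroupOf M))
    (h : ∀ y, (φ' : ↥(X.subgroupOf M) → ℂ) y = (φ : X → ℂ) (Subgroup.subgroupOfEquivOfLe hXM y))
    (B : Subgroup M) :
    GoodCount.ExtTo (X.subgroupOf M) φ' B ↔ Ext X (φ : X → ℂ) (B.map M.subtype) := by
  let eB := B.equivMapOfInjective M.subtype M.subtype_injective
  constructor
  · rintro ⟨E, hE, hres⟩
    refine ⟨fun z => E (eB.symm z), isIrrCharacter_comp eB.symm.toMonoidHom eB.symm.surjective hE,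
      fun x hx => ?_⟩
    obtain ⟨m, hm, hmx⟩ := hx
    have e1 : eB ⟨m, hm⟩ = ⟨(x : H), ⟨m, hm, hmx⟩⟩ := Subtype.ext hmx
    show E (eB.symm ⟨(x : H), _⟩) = _
    rw [← e1, MulEquiv.symm_apply_apply]
    have hmX : m ∈ X.subgroupOf M := Subgroup.mem_subgroupOf.mpr (by
      rw [show (m : H) = x from hmx]; exact x.2)
    exact (hres ⟨m, hmX⟩ hm).trans ((h _).trans (congrArg (φ : X → ℂ) (Subtype.ext hmx)))
  · rintro ⟨E, hE, hres⟩
    refine ⟨fun z => E (eB z), isIrrCharacter_comp eB.toMonoidHom eB.surjective hE, fun n hn => ?_⟩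
    exact (hres ⟨_, n.2⟩ ⟨(n : M), hn, rfl⟩).trans (h n).symm

/-- The correspondence of characters of `K S` and `C S`. -/
def R {K S X C Y : Subgroup H} [Fintype C] (p : ℕ) [Fact p.Prime] (D : Data p K S X) (D' : Data p C S Y)
    (hCK : C ≤ K) (φ : IrrCharacter X) (φ' : IrrCharacter Y) : Prop :=
  ∃ (F : IrrCharacter X) (F' : IrrCharacter Y) (L : X →* ℂˣ) (L' : Y →* ℂˣ),
    Can (le_left D) p (F : X → ℂ) ∧ Can (le_left D') p (F' : Y → ℂ) ∧
    Rel p hCK (fun k => (F : X → ℂ) (Subgroup.inclusion (le_left D) k))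
      (fun c => (F' : Y → ℂ) (Subgroup.inclusion (le_left D') c)) ∧
    (∀ k : K, L (Subgroup.inclusion (le_left D) k) = 1) ∧
    (∀ c : C, L' (Subgroup.inclusion (le_left D') c) = 1) ∧
    (∀ s : S, L (Subgroup.inclusion (le_right D) s) = L' (Subgroup.inclusion (le_right D') s)) ∧
    (∀ x, (φ : X → ℂ) x = (L x : ℂ) * (F : X → ℂ) x) ∧
    ∀ y, (φ' : Y → ℂ) y = (L' y : ℂ) * (F' : Y → ℂ) y

section Corr

variable {K S X C Y : Subgroup H} (D : Data p K S X) (D' : Data p C S Y)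
  (hC : C = K ⊓ Subgroup.centralizer (S : Set H)) (hCK : C ≤ K)

theorem can_fix {K S X : Subgroup H} (D : Data p K S X) {F : X → ℂ} (hF : IsClassFunction X F) :
    ∀ s ∈ S, Fix K s (fun k => F (Subgroup.inclusion (le_left D) k)) := fun s hs k k' he => by
  show F _ = F _
  rw [show Subgroup.inclusion (le_left D) k' = (⟨s, le_right D hs⟩ : X) *
    Subgroup.inclusion (le_left D) k * (⟨s, le_right D hs⟩ : X)⁻¹ from Subtype.ext he,
    isClassFunction_mul_comm hF, inv_mul_cancel_left]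

theorem r_deg [Fintype C] {φ : IrrCharacter X} {φ' : IrrCharacter Y} (h : R p D D' hCK φ φ') :
    ¬ p ∣ deg (φ : X → ℂ) ∧ ¬ p ∣ deg (φ' : Y → ℂ) := by
  obtain ⟨F, F', L, L', hF, hF', -, -, -, -, hφ, hφ'⟩ := h
  haveI := Fintype.ofFinite K
  constructor
  · rw [show deg (φ : X → ℂ) = deg (fun k : K => (F : X → ℂ) (Subgroup.inclusion (le_left D) k)) by
      simp [deg, hφ]]
    exact fun h => D.coprime (h.trans (Glauberman.deg_dvd_card ⟨_, hF.2.1⟩))
  · rw [show deg (φ' : Y → ℂ) = deg (fun k : C => (F' : Y → ℂ) (Subgroup.inclusion (le_left D') k)) by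
      simp [deg, hφ']]
    exact fun h => D'.coprime (h.trans (Glauberman.deg_dvd_card ⟨_, hF'.2.1⟩))

include hC in
theorem r_total [Fintype C] (φ : IrrCharacter X) (hφ : ¬ p ∣ deg (φ : X → ℂ)) :
    ∃ φ', R p D D' hCK φ φ' := by
  obtain ⟨F, L, hF, hL, hφ⟩ := exists_decomp D φ hφ
  obtain ⟨η, hη, -⟩ := (rel_data K S D.norm D.pgroup D.coprime C hC hCK).1 ⟨_, hF.2.1⟩
    (can_fix D (isClassFunction_of_isIrr F.2))
  obtain ⟨F', ⟨hF', hres⟩, -⟩ := exists_can D' η fun s hs k k' he => by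
    refine fix_of_commute (fun c hc => ?_) k k' he
    exact Subgroup.mem_centralizer_iff.mp (hC.le hc).2 s hs
  obtain ⟨L', hL'1, hL'2⟩ := exists_lin D' (L.comp (Subgroup.inclusion (le_right D)))
  refine ⟨⟨_, prod_irr D' hF' L' hL'1⟩, F, F', L, L', hF, hF', ?_, hL, hL'1, fun s => (hL'2 s).symm,
    hφ, fun y => rfl⟩
  rw [show (fun c => (F' : Y → ℂ) (Subgroup.inclusion (le_left D') c)) = (η : C → ℂ) from funext hres]
  exact hη

include hC in
theorem r_surj [Fintype C] (φ' : IrrCharacter Y) (hφ : ¬ p ∣ deg (φ' : Y → ℂ)) :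
    ∃ φ, R p D D' hCK φ φ' := by
  obtain ⟨F', L', hF', hL', hφ⟩ := exists_decomp D' φ' hφ
  obtain ⟨θ, hθ, hrel⟩ := (rel_data K S D.norm D.pgroup D.coprime C hC hCK).2.2 ⟨_, hF'.2.1⟩
  obtain ⟨F, ⟨hF, hres⟩, -⟩ := exists_can D θ hθ
  obtain ⟨L, hL1, hL2⟩ := exists_lin D (L'.comp (Subgroup.inclusion (le_right D')))
  refine ⟨⟨_, prod_irr D hF L hL1⟩, F, F', L, L', hF, hF', ?_, hL1, hL', hL2,
    fun y => rfl, hφ⟩
  rw [show (fun k => (F : X → ℂ) (Subgroup.inclusion (le_left D) k)) = (θ : K → ℂ) from funext hres]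
  exact hrel

include hC in
theorem r_inj [Fintype C] {φ : IrrCharacter X} {φ' φ'' : IrrCharacter Y} (h1 : R p D D' hCK φ φ')
    (h2 : R p D D' hCK φ φ'') : φ' = φ'' := by
  obtain ⟨F, F', L, L', hF, hF', hr, hL, hL', hLL, hφ, hφ'⟩ := h1
  obtain ⟨G, G', M, M', hG, hG', hr', hM, hM', hMM, hψ, hψ'⟩ := h2
  obtain ⟨e1, rfl⟩ := decomp_unique D hF hG hL hM fun x => (hφ x).symm.trans (hψ x)
  obtain rfl := Subtype.ext e1
  have e2 := ((rel_data K S D.norm D.pgroup D.coprime C hC hCK).1 ⟨_, hF.2.1⟩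
    (can_fix D (isClassFunction_of_isIrr F.2))).unique (y₁ := ⟨_, hF'.2.1⟩) (y₂ := ⟨_, hG'.2.1⟩) hr hr'
  obtain rfl := Subtype.ext (can_unique D' hF' hG' (congrFun (congrArg Subtype.val e2)))
  obtain rfl := lin_ext D' hL' hM' fun s => (hLL s).symm.trans (hMM s)
  exact Subtype.ext (funext fun y => (hφ' y).trans (hψ' y).symm)

include hC in
theorem r_inj' [Fintype C] {φ φ0 : IrrCharacter X} {φ' : IrrCharacter Y} (h1 : R p D D' hCK φ φ')
    (h2 : R p D D' hCK φ0 φ') : φ = φ0 := by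
  obtain ⟨F, F', L, L', hF, hF', hr, hL, hL', hLL, hφ, hφ'⟩ := h1
  obtain ⟨G, G', M, M', hG, hG', hr', hM, hM', hMM, hψ, hψ'⟩ := h2
  obtain ⟨e1, rfl⟩ := decomp_unique D' hF' hG' hL' hM' fun x => (hφ' x).symm.trans (hψ' x)
  obtain rfl := Subtype.ext e1
  have e2 := (rel_data K S D.norm D.pgroup D.coprime C hC hCK).2.1 ⟨_, hF.2.1⟩ ⟨_, hG.2.1⟩
    (can_fix D (isClassFunction_of_isIrr F.2)) (can_fix D (isClassFunction_of_isIrr G.2))
    ⟨_, hF'.2.1⟩ hr hr'
  obtain rfl := Subtype.ext (can_unique D hF hG (congrFun (congrArg Subtype.val e2)))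
  obtain rfl := lin_ext D hL hM fun s => (hLL s).trans (hMM s).symm
  exact Subtype.ext (funext fun y => (hφ y).trans (hψ y).symm)

/-- The correspondence commutes with conjugation. -/
theorem r_conj [Fintype C] {n : H} (hnX : ∀ x ∈ X, n * x * n⁻¹ ∈ X) (hnY : ∀ y ∈ Y, n * y * n⁻¹ ∈ Y)
    (hnK : ∀ k ∈ K, n * k * n⁻¹ ∈ K) (hnC : ∀ c ∈ C, n * c * n⁻¹ ∈ C) (hnS : ∀ s ∈ S, n * s * n⁻¹ ∈ S)
    {φ φ2 : IrrCharacter X} {φ' : IrrCharacter Y} (hc : Conj X n (φ : X → ℂ) (φ2 : X → ℂ))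
    (h : R p D D' hCK φ φ') :
    ∃ φ2' : IrrCharacter Y, Conj Y n (φ' : Y → ℂ) (φ2' : Y → ℂ) ∧ R p D D' hCK φ2 φ2' := by
  obtain ⟨F, F', L, L', hF, hF', hr, hL, hL', hLL, hφ, hφ'⟩ := h
  have mk : ∀ Z : Subgroup H, (∀ z ∈ Z, n * z * n⁻¹ ∈ Z) →
      ∃ e : Z ≃* Z, ∀ z : Z, (z : H) = n * ((e z : Z) : H) * n⁻¹ := by
    intro Z hZ
    let c0 : Z →* Z :=
      { toFun := fun x => ⟨n * x * n⁻¹, hZ x x.2⟩
        map_one' := Subtype.ext (by simp)
        map_mul' := fun a b => Subtype.ext (by simp [mul_assoc]) }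
    have hinj : Function.Injective c0 := fun a b h =>
      Subtype.ext (mul_left_cancel (mul_right_cancel (congrArg Subtype.val h)))
    let e : Z ≃* Z := MulEquiv.ofBijective c0 ⟨hinj, Finite.surjective_of_injective hinj⟩
    exact ⟨e.symm, fun z => (congrArg Subtype.val (e.apply_symm_apply z)).symm⟩
  obtain ⟨eX, heX⟩ := mk X hnX
  obtain ⟨eY, heY⟩ := mk Y hnY
  obtain ⟨eK, heK⟩ := mk K hnK
  obtain ⟨eC, heC⟩ := mk C hnC
  obtain ⟨eS, heS⟩ := mk S hnS
  have cancel : ∀ a b : H, n * a * n⁻¹ = n * b * n⁻¹ → a = b := fun a b h =>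
    mul_left_cancel (mul_right_cancel h)
  have xk : ∀ k : K, eX (Subgroup.inclusion (le_left D) k) = Subgroup.inclusion (le_left D) (eK k) :=
    fun k => Subtype.ext (cancel _ _ ((heX _).symm.trans (heK k)))
  have yc : ∀ c : C, eY (Subgroup.inclusion (le_left D') c) = Subgroup.inclusion (le_left D') (eC c) :=
    fun c => Subtype.ext (cancel _ _ ((heY _).symm.trans (heC c)))
  have xs : ∀ s : S, eX (Subgroup.inclusion (le_right D) s) = Subgroup.inclusion (le_right D) (eS s) :=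
    fun k => Subtype.ext (cancel _ _ ((heX _).symm.trans (heS k)))
  have ys : ∀ s : S, eY (Subgroup.inclusion (le_right D') s) = Subgroup.inclusion (le_right D') (eS s) :=
    fun k => Subtype.ext (cancel _ _ ((heY _).symm.trans (heS k)))
  have kc : ∀ c : C, eK (Subgroup.inclusion hCK c) = Subgroup.inclusion hCK (eC c) :=
    fun c => Subtype.ext (cancel _ _ ((heK _).symm.trans (heC c)))
  let φ2' : IrrCharacter Y := ⟨_, isIrrCharacter_comp eY.toMonoidHom eY.surjective φ'.2⟩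
  refine ⟨φ2', fun k k' he => congrArg (φ' : Y → ℂ) (Subtype.ext (cancel _ _ ((heY k').symm.trans he))),
    ⟨_, isIrrCharacter_comp eX.toMonoidHom eX.surjective F.2⟩,
    ⟨_, isIrrCharacter_comp eY.toMonoidHom eY.surjective F'.2⟩,
    L.comp eX.toMonoidHom, L'.comp eY.toMonoidHom,
    can_comp D hF eX (fun k => by rw [xk]; exact (eK k).2),
    can_comp D' hF' eY (fun c => by rw [yc]; exact (eC c).2), ?_,
    fun k => (congrArg L (xk k)).trans (hL _), fun c => (congrArg L' (yc c)).trans (hL' _),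
    fun s => (congrArg L (xs s)).trans ((hLL _).trans (congrArg L' (ys s)).symm),
    fun x => (hc (eX x) x (heX x)).trans (hφ _), fun y => hφ' _⟩
  unfold CoprimeTriple.Rel at hr ⊢
  convert hr using 2
  simp only [mult]
  congr 2
  simp only [classInner]
  congr 1
  refine Fintype.sum_equiv eC.toEquiv _ _ fun c => ?_
  simp only [MulEquiv.coe_toMonoidHom, MulEquiv.toEquiv_eq_coe, MulEquiv.coe_toEquiv, yc, xk, kc]

include hC in
/-- Central characters are preserved. -/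
theorem r_central [Fintype C] {Z : Subgroup H} (hZ : Z ≤ Subgroup.center H) (hZX : Z ≤ X) (hZY : Z ≤ Y)
    (ζ : IrrCharacter Z) {φ : IrrCharacter X} {φ' : IrrCharacter Y} (h : R p D D' hCK φ φ') :
    Ov (Subgroup.inclusion hZX) (ζ : Z → ℂ) (φ : X → ℂ) ↔
      Ov (Subgroup.inclusion hZY) (ζ : Z → ℂ) (φ' : Y → ℂ) := by
  classical
  have hp := (Fact.out : p.Prime)
  obtain ⟨F, F', L, L', hF, hF', hr, hL, hL', hLL, hφ, hφ'⟩ := h
  have cen : ∀ (W B : Subgroup H) (hWB : W ≤ B), W ≤ Subgroup.center H →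
      ∀ z, Subgroup.inclusion hWB z ∈ Subgroup.center B := fun W B hWB hW z =>
    Subgroup.mem_center_iff.mpr fun b => Subtype.ext (Subgroup.mem_center_iff.mp (hW z.2) b)
  obtain ⟨ω, hω⟩ := exists_omega (Subgroup.inclusion hZX) (cen _ _ hZX hZ) φ.2
  obtain ⟨ω', hω'⟩ := exists_omega (Subgroup.inclusion hZY) (cen _ _ hZY hZ) φ'.2
  suffices hωω : ω = ω' by
    rw [ov_central _ (cen _ _ hZX hZ) (Subgroup.inclusion_injective hZX) φ.2,
      ov_central _ (cen _ _ hZY hZ) (Subgroup.inclusion_injective hZY) φ'.2]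
    simp only [hω, hω', hωω, mul_right_inj' (irr_one_ne_zero φ.2), mul_right_inj' (irr_one_ne_zero φ'.2)]
  have hd : (φ : X → ℂ) 1 = (F : X → ℂ) 1 := by rw [hφ, map_one, Units.val_one, one_mul]
  have hd' : (φ' : Y → ℂ) 1 = (F' : Y → ℂ) 1 := by rw [hφ', map_one, Units.val_one, one_mul]
  have onK : ∀ z : Z, (z : H) ∈ K → ω z = ω' z := by
    intro z hz
    have hzC : (z : H) ∈ C := hC.ge ⟨hz, Subgroup.mem_centralizer_iff.mpr fun s _ =>
      Subgroup.mem_center_iff.mp (hZ z.2) s⟩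
    let W : Subgroup H := Z ⊓ C
    have hWK : W ≤ K := inf_le_right.trans hCK
    have hW : W ≤ Subgroup.center H := inf_le_left.trans hZ
    obtain ⟨α, hα⟩ := exists_omega (Subgroup.inclusion hWK) (cen _ _ hWK hW) hF.2.1
    obtain ⟨β, hβ⟩ := exists_omega (Subgroup.inclusion (inf_le_right : W ≤ C))
      (cen _ _ _ hW) hF'.2.1
    let βχ : IrrCharacter W := ⟨_, isIrrCharacter_lin β⟩
    have h1 : Ov ((Subgroup.inclusion hCK).comp (Subgroup.inclusion (inf_le_right : W ≤ C)))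
        (βχ : W → ℂ) (fun k => (F : X → ℂ) (Subgroup.inclusion (le_left D) k)) := by
      refine ov_trans (Subgroup.inclusion hCK) (Subgroup.inclusion (inf_le_right : W ≤ C))
        (isCharacter_of_isIrr βχ.2) ⟨_, hF'.2.1⟩ (isCharacter_of_isIrr hF.2.1) ?_ ?_
      · rw [ov_def, mult_spec (isCharacter_comp (Subgroup.inclusion hCK) (isCharacter_of_isIrr hF.2.1))
          (isCharacter_of_isIrr hF'.2.1), Nat.cast_ne_zero]
        exact fun h0 => hr (by rw [h0]; exact dvd_zero p)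
      · exact (ov_central _ (cen _ _ _ hW) (Subgroup.inclusion_injective _) hF'.2.1 βχ).mpr hβ
    have h2 := (ov_central (Subgroup.inclusion hWK) (cen _ _ hWK hW) (Subgroup.inclusion_injective _)
      hF.2.1 βχ).mp h1 ⟨z, z.2, hzC⟩
    have h3 := hβ ⟨z, z.2, hzC⟩
    have e1 := hω z
    rw [hφ, show Subgroup.inclusion hZX z = Subgroup.inclusion (le_left D) ⟨z, hz⟩ from rfl, hL,
      Units.val_one, one_mul, hd] at e1
    have e2 := hω' z
    rw [hφ', show Subgroup.inclusion hZY z = Subgroup.inclusion (le_left D') ⟨z, hzC⟩ from rfl, hL',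
      Units.val_one, one_mul, hd'] at e2
    apply Units.ext
    have h2' : (F : X → ℂ) (Subgroup.inclusion (le_left D) ⟨z, hz⟩) =
        (F : X → ℂ) 1 * (β ⟨z, z.2, hzC⟩ : ℂ) := h2
    have h3' : (F' : Y → ℂ) (Subgroup.inclusion (le_left D') ⟨z, hzC⟩) =
        (F' : Y → ℂ) 1 * (β ⟨z, z.2, hzC⟩ : ℂ) := h3
    exact (mul_left_cancel₀ (irr_one_ne_zero F.2) (e1.symm.trans h2')).trans
      (mul_left_cancel₀ (irr_one_ne_zero F'.2) (e2.symm.trans h3')).symm
  have canS : ∀ {K S X : Subgroup H} (D : Data p K S X) (F : IrrCharacter X),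
      Can (le_left D) p (F : X → ℂ) → ∀ s : S, (s : H) ∈ Subgroup.center H →
        (F : X → ℂ) (Subgroup.inclusion (le_right D) s) = (F : X → ℂ) 1 := by
    intro K S X D F hF s hs
    obtain ⟨d, ρ, hρ, hρF⟩ := F.2
    haveI := hρ
    haveI := Fintype.ofFinite X
    have hxc : Subgroup.inclusion (le_right D) s ∈ Subgroup.center X :=
      Subgroup.mem_center_iff.mpr fun b => Subtype.ext (Subgroup.mem_center_iff.mp hs b)
    obtain ⟨w, hw, -⟩ := central_scalar ρ hxc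
    obtain ⟨n, hn⟩ := D.pgroup s
    haveI := ((isIrreducible_iff ρ).mp hρ).1
    have hwp : w ^ (p ^ n) = 1 := by
      have h : ρ (Subgroup.inclusion (le_right D) s ^ p ^ n) = (1 : Module.End ℂ (Fin d → ℂ)) := by
        rw [← map_pow (Subgroup.inclusion (le_right D)), hn, map_one, map_one]
      rw [map_pow, hw, smul_pow, ← Module.End.one_eq_id, one_pow] at h
      obtain ⟨v, hv⟩ := exists_ne (0 : Fin d → ℂ)
      have := LinearMap.congr_fun h v
      simp only [LinearMap.smul_apply, Module.End.one_apply] at this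
      exact (smul_left_injective ℂ hv (this.trans (one_smul ℂ v).symm))
    have hwd : w ^ (d * Cfsg.detOrder (F : X → ℂ)) = 1 := by
      have h : CoprimeExt.detHom ρ ^ Cfsg.detOrder (F : X → ℂ) = 1 := by
        rw [← hρF, CoprimeExt.detOrder_eq]; exact pow_orderOf_eq_one _
      have h' := congrArg Units.val (DFunLike.congr_fun h (Subgroup.inclusion (le_right D) s))
      rw [MonoidHom.pow_apply, Units.val_pow_eq_pow_val, CoprimeExt.detHom_apply, hw, LinearMap.det_smul,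
        LinearMap.det_id, mul_one, Module.finrank_fin_fun, ← pow_mul] at h'
      exact h'
    have hdp : ¬ p ∣ d := fun h => D.coprime (h.trans (by
      have h2 := Glauberman.deg_dvd_card (G := K) ⟨_, hF.2.1⟩
      have hd : deg (fun k : K => (F : X → ℂ) (Subgroup.inclusion (le_left D) k)) = d := by
        simp [deg, ← hρF, Representation.char_one]
      rwa [hd] at h2))
    have hcop : Nat.Coprime (p ^ n) (d * Cfsg.detOrder (F : X → ℂ)) :=
      (hp.coprime_iff_not_dvd.mpr fun h => (hp.dvd_mul.mp h).elim hdp hF.2.2).pow_left n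
    have hw1 : w = 1 := by simpa [hcop.gcd_eq_one] using pow_gcd_eq_one.mpr ⟨hwp, hwd⟩
    rw [← hρF]
    show LinearMap.trace ℂ _ (ρ _) = LinearMap.trace ℂ _ (ρ 1)
    rw [hw, hw1, one_smul, map_one]
    rfl
  have onS : ∀ z : Z, (z : H) ∈ S → ω z = ω' z := by
    intro z hz
    have e1 := hω z
    rw [hφ, show Subgroup.inclusion hZX z = Subgroup.inclusion (le_right D) ⟨z, hz⟩ from rfl,
      canS D F hF _ (hZ z.2), hd, mul_comm] at e1
    have e2 := hω' z
    rw [hφ', show Subgroup.inclusion hZY z = Subgroup.inclusion (le_right D') ⟨z, hz⟩ from rfl,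
      canS D' F' hF' _ (hZ z.2), hd', mul_comm, ← hLL] at e2
    exact Units.ext ((mul_left_cancel₀ (irr_one_ne_zero F.2) e1).symm.trans
      (mul_left_cancel₀ (irr_one_ne_zero F'.2) e2))
  refine MonoidHom.ext fun z => ?_
  obtain ⟨k, hk, s, hs, he⟩ := exists_mul D (hZX z.2)
  have hcom : Commute k s := by
    have h := Subgroup.mem_center_iff.mp (hZ z.2) k
    rw [← he, mul_assoc] at h
    exact mul_left_cancel h
  have hpow : s ^ Nat.card K ∈ Z := by
    have h : (k * s) ^ Nat.card K = s ^ Nat.card K := by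
      have hk1 : k ^ Nat.card K = 1 := congrArg Subtype.val (pow_card_eq_one' (x := (⟨k, hk⟩ : K)))
      rw [hcom.mul_pow, hk1, one_mul]
    rw [← h, he]
    exact Z.pow_mem z.2 _
  have hsZ : s ∈ Z := by
    obtain ⟨n, hn⟩ := D.pgroup ⟨s, hs⟩
    have hcop : Nat.Coprime (orderOf s) (Nat.card K) :=
      Nat.Coprime.coprime_dvd_left (orderOf_dvd_of_pow_eq_one (congrArg Subtype.val hn))
        ((hp.coprime_iff_not_dvd.mpr D.coprime).pow_left n)
    obtain ⟨m, hm⟩ := exists_pow_eq_self_of_coprime hcop.symm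
    exact hm ▸ Z.pow_mem hpow m
  have hkZ : k ∈ Z := by
    rw [show k = (z : H) * s⁻¹ by rw [← he]; group]
    exact Z.mul_mem z.2 (Z.inv_mem hsZ)
  rw [show z = (⟨k, hkZ⟩ : Z) * ⟨s, hsZ⟩ from Subtype.ext he.symm, map_mul, map_mul,
    onK ⟨k, hkZ⟩ hk, onS ⟨s, hsZ⟩ hs]

end Corr


/-- Elements whose commutators of generators lie in a normalized subgroup. -/
theorem commutator_mem_of_pair {C : Subgroup H} {a b : H} (ha : ∀ c ∈ C, a * c * a⁻¹ ∈ C)
    (hb : ∀ c ∈ C, b * c * b⁻¹ ∈ C) (hab : a * b * a⁻¹ * b⁻¹ ∈ C) :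
    ∀ x ∈ C ⊔ Subgroup.zpowers a ⊔ Subgroup.zpowers b, ∀ y ∈ C ⊔ Subgroup.zpowers a ⊔ Subgroup.zpowers b,
      x * y * x⁻¹ * y⁻¹ ∈ C := by
  set A := C ⊔ Subgroup.zpowers a ⊔ Subgroup.zpowers b with hA
  have hle : A ≤ Subgroup.normalizer (C : Set H) :=
    sup_le (sup_le Subgroup.le_normalizer (Subgroup.zpowers_le.mpr (GoodCount.mem_normalizer_of_forall_conj ha)))
      (Subgroup.zpowers_le.mpr (GoodCount.mem_normalizer_of_forall_conj hb))
  have hCA : C ≤ A := le_sup_left.trans le_sup_left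
  haveI : (C.subgroupOf A).Normal := Subgroup.normal_subgroupOf_iff_le_normalizer hCA |>.mpr hle
  let q := QuotientGroup.mk' (C.subgroupOf A)
  let a' : A := ⟨a, Subgroup.mem_sup_left (Subgroup.mem_sup_right (Subgroup.mem_zpowers a))⟩
  let b' : A := ⟨b, Subgroup.mem_sup_right (Subgroup.mem_zpowers b)⟩
  have hgen : (⊤ : Subgroup A) = C.subgroupOf A ⊔ Subgroup.zpowers a' ⊔ Subgroup.zpowers b' := by
    refine Subgroup.map_injective A.subtype_injective ?_
    rw [Subgroup.map_sup, Subgroup.map_sup, MonoidHom.map_zpowers, MonoidHom.map_zpowers,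
      Subgroup.subgroupOf_map_subtype, inf_eq_left.mpr hCA, ← MonoidHom.range_eq_map, Subgroup.range_subtype]
    rfl
  let s : Set (↥A ⧸ C.subgroupOf A) := {q a', q b'}
  have hcomm : q a' * q b' = q b' * q a' := by
    have h1 : q (a' * b' * a'⁻¹ * b'⁻¹) = 1 := (QuotientGroup.eq_one_iff _).mpr (Subgroup.mem_subgroupOf.mpr hab)
    simp only [map_mul, map_inv] at h1
    exact mul_inv_eq_iff_eq_mul.mp (mul_inv_eq_one.mp h1)
  have h1 : ∀ z : A, q z ∈ Subgroup.centralizer s := by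
    have hle : (⊤ : Subgroup A) ≤ (Subgroup.centralizer s).comap q := by
      rw [hgen]
      refine sup_le (sup_le (fun c hc => ?_) (Subgroup.zpowers_le.mpr ?_)) (Subgroup.zpowers_le.mpr ?_)
      · rw [Subgroup.mem_comap, show q c = 1 from (QuotientGroup.eq_one_iff c).mpr hc]
        exact Subgroup.one_mem _
      · refine Subgroup.mem_centralizer_iff.mpr fun t ht => ?_
        rcases ht with rfl | rfl
        · rfl
        · exact hcomm.symm
      · refine Subgroup.mem_centralizer_iff.mpr fun t ht => ?_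
        rcases ht with rfl | rfl
        · exact hcomm
        · rfl
    exact fun z => hle (Subgroup.mem_top z)
  intro x hx y hy
  have h2 : (⊤ : Subgroup A) ≤ (Subgroup.centralizer ({q ⟨x, hx⟩} : Set _)).comap q := by
    rw [hgen]
    refine sup_le (sup_le (fun c hc => ?_) (Subgroup.zpowers_le.mpr ?_)) (Subgroup.zpowers_le.mpr ?_)
    · rw [Subgroup.mem_comap, show q c = 1 from (QuotientGroup.eq_one_iff c).mpr hc]
      exact Subgroup.one_mem _
    · exact Subgroup.mem_centralizer_singleton_iff.mpr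
        (Subgroup.mem_centralizer_iff.mp (h1 ⟨x, hx⟩) _ (Or.inl rfl))
    · exact Subgroup.mem_centralizer_singleton_iff.mpr
        (Subgroup.mem_centralizer_iff.mp (h1 ⟨x, hx⟩) _ (Or.inr rfl))
  have h3 := Subgroup.mem_centralizer_singleton_iff.mp (h2 (Subgroup.mem_top (⟨y, hy⟩ : A)))
  have h4 : q (⟨x, hx⟩ * ⟨y, hy⟩ * ⟨x, hx⟩⁻¹ * ⟨y, hy⟩⁻¹) = 1 := by
    simp only [map_mul, map_inv]
    rw [← h3]
    group
  exact Subgroup.mem_subgroupOf.mp ((QuotientGroup.eq_one_iff _).mp h4)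

/-- The fixer of a character. -/
def fixer (X : Subgroup H) [hX : X.Normal] (φ : X → ℂ) : Subgroup H where
  carrier := {h | Conj X h φ φ}
  one_mem' := conj_one φ
  mul_mem' := fun {a b} ha hb => Conj.mul (fun x hx => hX.conj_mem x hx b) hb ha
  inv_mem' := fun {a} ha => Conj.inv ha

open Classical in
/-- **The count for a Sylow subgroup on top of a normal subgroup of order prime to `p`.** -/
theorem count (K S Z : Subgroup H) [K.Normal] (hK : ¬ p ∣ Nat.card K) (hS : IsPGroup p S)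
    (hidx : ¬ p ∣ S.index) [(K ⊔ S).Normal] (hZ : Z ≤ Subgroup.center H) (hZX : Z ≤ K ⊔ S)
    (ζ : IrrCharacter Z) (hZN : Z ≤ Subgroup.normalizer (S : Set H)) :
    cnt p Z.subtype (ζ : Z → ℂ) = cnt p (Subgroup.inclusion hZN) (ζ : Z → ℂ) := by
  have hp := (Fact.out : p.Prime)
  set N := Subgroup.normalizer (S : Set H) with hN
  set C := K ⊓ Subgroup.centralizer (S : Set H) with hC
  set X := K ⊔ S with hX
  set Y := C ⊔ S with hY
  have hCK : C ≤ K := inf_le_left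
  have hSN : S ≤ N := Subgroup.le_normalizer
  have hCN : C ≤ N := fun c hc => GoodCount.mem_normalizer_of_forall_conj fun s hs => by
    rwa [← Subgroup.mem_centralizer_iff.mp hc.2 s hs, mul_inv_cancel_right]
  have D : Data p K S X := ⟨fun s _ k hk => Subgroup.Normal.conj_mem inferInstance k hk s, hS, hK, rfl⟩
  have D' : Data p C S Y := ⟨fun s hs c hc => by
    rw [Subgroup.mem_centralizer_iff.mp hc.2 s hs, mul_inv_cancel_right]; exact hc, hS,
    fun h => hK (h.trans (Subgroup.card_dvd_of_le hCK)), rfl⟩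
  have hYN : Y ≤ N := sup_le hCN hSN
  have hYX : Y ≤ X := sup_le_sup_right hCK S
  have hnS : ∀ n ∈ N, ∀ s ∈ S, n * s * n⁻¹ ∈ S := fun n hn s hs => (Subgroup.mem_normalizer_iff.mp hn s).mp hs
  have hnK : ∀ n : H, ∀ k ∈ K, n * k * n⁻¹ ∈ K := fun n k hk => Subgroup.Normal.conj_mem inferInstance k hk n
  have hnC : ∀ n ∈ N, ∀ c ∈ C, n * c * n⁻¹ ∈ C := fun n hn c hc => by
    refine ⟨hnK n c hc.1, Subgroup.mem_centralizer_iff.mpr fun s hs => ?_⟩
    have hs' : n⁻¹ * s * n ∈ S := by simpa using hnS _ (N.inv_mem hn) s hs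
    have h1 := Subgroup.mem_centralizer_iff.mp hc.2 _ hs'
    calc s * (n * c * n⁻¹) = n * (n⁻¹ * s * n * c) * n⁻¹ := by group
      _ = n * (c * (n⁻¹ * s * n)) * n⁻¹ := by rw [h1]
      _ = n * c * n⁻¹ * s := by group
  have hnX : ∀ n : H, ∀ x ∈ X, n * x * n⁻¹ ∈ X := fun n x hx => Subgroup.Normal.conj_mem inferInstance x hx n
  have hnY : ∀ n ∈ N, ∀ y ∈ Y, n * y * n⁻¹ ∈ Y := fun n hn y hy => by
    rw [hY, sup_comm] at hy ⊢
    exact CoprimeTriple.conj_sup_mem (hnS n hn) (fun c hc => Subgroup.mem_sup_left (hnC n hn c hc)) hy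
  have hXN : X ⊓ N ≤ Y := by
    rintro x ⟨hx, hxN⟩
    obtain ⟨k, hk, s, hs, rfl⟩ := exists_mul D hx
    have hkN : k ∈ N := by simpa using N.mul_mem hxN (N.inv_mem (hSN hs))
    refine Y.mul_mem (Subgroup.mem_sup_left ⟨hk, Subgroup.mem_centralizer_iff.mpr fun t ht => ?_⟩)
      (Subgroup.mem_sup_right hs)
    have h1 : k * t * k⁻¹ * t⁻¹ ∈ K ⊓ S := by
      refine ⟨?_, S.mul_mem (hnS k hkN t ht) (S.inv_mem ht)⟩
      rw [show k * t * k⁻¹ * t⁻¹ = k * (t * k⁻¹ * t⁻¹) by group]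
      exact K.mul_mem hk (hnK t _ (K.inv_mem hk))
    rw [inf_eq_bot D, Subgroup.mem_bot] at h1
    exact (mul_inv_eq_iff_eq_mul.mp (mul_inv_eq_one.mp h1)).symm
  have hZY : Z ≤ Y := fun z hz => hXN ⟨hZX hz, hZN hz⟩
  have hXidx : ¬ p ∣ X.index := fun h => hidx (h.trans (Subgroup.index_dvd_of_le le_sup_right))
  have hYidx : ¬ p ∣ Y.relIndex N := fun h => hidx (by
    rw [← Subgroup.relIndex_mul_index hSN]
    exact (h.trans (Subgroup.relIndex_dvd_of_le_left N (le_sup_right : S ≤ Y))).trans (dvd_mul_right _ _))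
  -- Frattini
  have hfrat : N ⊔ X = ⊤ := by
    let P : Sylow p H := hS.toSylow hidx
    exact Sylow.normalizer_sup_eq_top' (N := X) P (by rw [IsPGroup.toSylow_coe]; exact le_sup_right)
  have hdec : ∀ h : H, ∃ n ∈ N, ∃ x ∈ X, n * x = h := fun h => by
    have : h ∈ (N : Set H) * (X : Set H) := by
      rw [← Subgroup.mul_normal, hfrat]; trivial
    obtain ⟨n, hn, x, hx, e⟩ := this
    exact ⟨n, hn, x, hx, e⟩
  -- the correspondence
  haveI := Fintype.ofFinite C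
  let Φ : {φ : IrrCharacter X // ¬ p ∣ deg (φ : X → ℂ)} → {φ : IrrCharacter Y // ¬ p ∣ deg (φ : Y → ℂ)} :=
    fun φ => ⟨(r_total D D' hC hCK φ.1 φ.2).choose,
      (r_deg D D' hCK (r_total D D' hC hCK φ.1 φ.2).choose_spec).2⟩
  have hΦ : ∀ φ, R p D D' hCK φ.1 (Φ φ).1 := fun φ => (r_total D D' hC hCK φ.1 φ.2).choose_spec
  have hbij : Function.Bijective Φ := ⟨fun a b h => Subtype.ext
    (r_inj' D D' hC hCK (hΦ a) (h ▸ hΦ b)), fun φ' => by
    obtain ⟨φ, hφ⟩ := r_surj D D' hC hCK φ'.1 φ'.2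
    exact ⟨⟨φ, (r_deg D D' hCK hφ).1⟩, Subtype.ext (r_inj D D' hC hCK (hΦ _) hφ)⟩⟩
  have hconj : ∀ a b, ∀ n ∈ N, Conj X n (a.1 : X → ℂ) (b.1 : X → ℂ) ↔
      Conj Y n ((Φ a).1 : Y → ℂ) ((Φ b).1 : Y → ℂ) := by
    intro a b n hn
    constructor
    · intro hc
      obtain ⟨ψ, hψ, hr⟩ := r_conj D D' hCK (hnX n) (hnY n hn) (hnK n) (hnC n hn) (hnS n hn) hc (hΦ a)
      rwa [r_inj D D' hC hCK (hΦ b) hr]
    · intro hc
      obtain ⟨c, hc'⟩ := exists_conj (hnX n) a.1
      obtain ⟨ψ, hψ, hr⟩ := r_conj D D' hCK (hnX n) (hnY n hn) (hnK n) (hnC n hn) (hnS n hn) hc' (hΦ a)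
      rw [show ψ = (Φ b).1 from Subtype.ext (conj_eq (hnY n hn) hψ hc)] at hr
      rwa [r_inj' D D' hC hCK (hΦ b) hr]
  have hXinv : ∀ (φ : IrrCharacter X) (x : H), x ∈ X → Conj X x (φ : X → ℂ) (φ : X → ℂ) :=
    fun φ x hx => fix_of_mem (isClassFunction_of_isIrr φ.2) hx
  -- the weights
  let wX : IrrCharacter X → ℕ := fun φ => Nat.card {φ' : IrrCharacter X //
    ¬ p ∣ deg (φ' : X → ℂ) ∧ ∃ m ∈ (⊤ : Subgroup H), Conj X m (φ : X → ℂ) (φ' : X → ℂ)}
  let wY : IrrCharacter Y → ℕ := fun φ => Nat.card {φ' : IrrCharacter Y //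
    ¬ p ∣ deg (φ' : Y → ℂ) ∧ ∃ m ∈ N, Conj Y m (φ : Y → ℂ) (φ' : Y → ℂ)}
  have hw : ∀ a, wX a.1 = wY (Φ a).1 := by
    intro a
    refine Nat.card_congr (((Equiv.subtypeSubtypeEquivSubtypeInter _ _).symm.trans
      ((Equiv.ofBijective Φ hbij).subtypeEquiv fun b => ?_)).trans (Equiv.subtypeSubtypeEquivSubtypeInter
        (fun φ : IrrCharacter Y => ¬ p ∣ deg (φ : Y → ℂ))
        (fun φ => ∃ m ∈ N, Conj Y m ((Φ a).1 : Y → ℂ) (φ : Y → ℂ))))
    constructor
    · rintro ⟨m, -, hm⟩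
      obtain ⟨n, hn, x, hx, rfl⟩ := hdec m
      obtain ⟨c, hc⟩ := exists_conj (hnX n) a.1
      refine ⟨n, hn, (hconj a b n hn).mp ?_⟩
      rwa [show b.1 = c from Subtype.ext (conj_eq (hnX _) hm (Conj.mul (hnX x) (hXinv a.1 x hx) hc))]
    · rintro ⟨n, hn, h⟩
      exact ⟨n, trivial, (hconj a b n hn).mpr h⟩
  -- the counts over one character
  have hcnt : ∀ a : {φ : IrrCharacter X // ¬ p ∣ deg (φ : X → ℂ)},
      cnt p (Subgroup.inclusion (le_top : X ≤ ⊤)) (a.1 : X → ℂ) =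
        cnt p (Subgroup.inclusion hYN) ((Φ a).1 : Y → ℂ) := by
    intro a
    let T := fixer X (a.1 : X → ℂ)
    have hXT : X ≤ T := fun x hx => hXinv a.1 x hx
    let T' := T ⊓ N
    have hYT : Y ≤ T' := le_inf (hYX.trans hXT) hYN
    rw [cnt_inertia p hXT le_top (fun m _ => hnX m) a.1 (fun m _ h => h)
        (fun h => hXidx (by rw [Subgroup.relIndex_top_right] at h; exact h.trans (Subgroup.index_dvd_of_le hXT))),
      cnt_inertia p hYT inf_le_right hnY (Φ a).1 (fun m hm h => ⟨(hconj a a m hm).mpr h, hm⟩)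
        (fun h => hYidx (h.trans (Subgroup.relIndex_dvd_of_le_left N hYT)))]
    haveI : (X.subgroupOf T).Normal := Subgroup.Normal.subgroupOf inferInstance T
    haveI : (Y.subgroupOf T').Normal := ⟨fun y hy t => hnY t t.2.2 _ hy⟩
    haveI := Fintype.ofFinite T
    haveI := Fintype.ofFinite T'
    haveI := Fintype.ofFinite ↥(X.subgroupOf T)
    haveI := Fintype.ofFinite ↥(Y.subgroupOf T')
    let eX := Subgroup.subgroupOfEquivOfLe hXT
    let eY := Subgroup.subgroupOfEquivOfLe hYT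
    let φX : IrrCharacter ↥(X.subgroupOf T) := ⟨_, isIrrCharacter_comp eX.toMonoidHom eX.surjective a.1.2⟩
    let φY : IrrCharacter ↥(Y.subgroupOf T') := ⟨_, isIrrCharacter_comp eY.toMonoidHom eY.surjective (Φ a).1.2⟩
    have hXT' : ¬ p ∣ X.relIndex T := fun h => hXidx (h.trans (Subgroup.relIndex_dvd_index_of_normal X T))
    have hYT' : ¬ p ∣ Y.relIndex T' := fun h => hYidx (by
      rw [← Subgroup.relIndex_mul_relIndex Y T' N hYT inf_le_right]
      exact h.trans (dvd_mul_right _ _))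
    rw [cnt_eq_all hXT (fun m _ => hnX m) hXT' a.1 a.2,
      cnt_eq_all hYT (fun m hm => hnY m hm.2) hYT' (Φ a).1 (Φ a).2]
    -- the isomorphism of quotients
    let j : ↥T' ⧸ Y.subgroupOf T' →* ↥T ⧸ X.subgroupOf T :=
      QuotientGroup.map _ _ (Subgroup.inclusion (inf_le_left : T' ≤ T)) fun y hy => hYX hy
    have hj : Function.Bijective j := by
      refine ⟨(injective_iff_map_eq_one j).mpr fun q hq => ?_, fun q => ?_⟩
      · obtain ⟨t, rfl⟩ := QuotientGroup.mk_surjective q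
        exact (QuotientGroup.eq_one_iff t).mpr (Subgroup.mem_subgroupOf.mpr
          (hXN ⟨Subgroup.mem_subgroupOf.mp ((QuotientGroup.eq_one_iff (Subgroup.inclusion (inf_le_left : T' ≤ T) t)).mp hq), t.2.2⟩))
      · obtain ⟨t, rfl⟩ := QuotientGroup.mk_surjective q
        obtain ⟨n, hn, x, hx, e⟩ := hdec t
        have hnT : n ∈ T := by
          rw [show n = (t : H) * x⁻¹ by rw [← e, mul_inv_cancel_right]]
          exact T.mul_mem t.2 (T.inv_mem (hXT hx))
        refine ⟨((⟨n, hnT, hn⟩ : T') : ↥T' ⧸ Y.subgroupOf T'), ?_⟩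
        refine QuotientGroup.eq.mpr (Subgroup.mem_subgroupOf.mpr ?_)
        show n⁻¹ * (t : H) ∈ X
        rw [← e, inv_mul_cancel_left]; exact hx
    let e := MulEquiv.ofBijective j hj
    refine (GoodCount.card_over_eq (X.subgroupOf T) φX (Y.subgroupOf T') φY (fun t => ?_) (fun t => ?_) e
      fun q r hqr => ?_).symm
    · funext y
      exact t.2 (eX y) ⟨(t : H) * ((eX y : X) : H) * (t : H)⁻¹, hnX t _ (eX y).2⟩ rfl
    · funext y
      exact (hconj a a (t : H) t.2.2).mp t.2.1 (eY y)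
        ⟨(t : H) * ((eY y : Y) : H) * (t : H)⁻¹, hnY t t.2.2 _ (eY y).2⟩ rfl
    -- a complement of the Sylow subgroup
    haveI : (S.subgroupOf N).Normal := ⟨fun s hs n => hnS n n.2 _ hs⟩
    obtain ⟨H0, hH0⟩ := Subgroup.exists_right_complement'_of_coprime (N := S.subgroupOf N) (by
      obtain ⟨k, hk⟩ := IsPGroup.iff_card.mp hS
      rw [Nat.card_congr (Subgroup.subgroupOfEquivOfLe hSN).toEquiv, hk]
      refine ((hp.coprime_iff_not_dvd).mpr fun h => hidx ?_).pow_left k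
      rw [← Subgroup.relIndex_mul_index hSN]
      exact h.trans (dvd_mul_right _ _))
    let H1 := H0.map N.subtype
    have hH1p : ¬ p ∣ Nat.card H1 := by
      rw [Nat.card_congr (H0.equivMapOfInjective N.subtype N.subtype_injective).toEquiv.symm]
      intro h
      rw [← hH0.symm.index_eq_card] at h
      exact hidx (by rw [← Subgroup.relIndex_mul_index hSN]; exact h.trans (dvd_mul_right _ _))
    have hH1N : H1 ≤ N := Subgroup.map_subtype_le H0
    have hsplit : ∀ t ∈ N, ∃ s ∈ S, ∃ h ∈ H1, s * h = t := fun t ht => by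
      obtain ⟨⟨s, h⟩, e⟩ := hH0.2 ⟨t, ht⟩
      exact ⟨(s.1 : H), s.2, (h.1 : H), ⟨h.1, h.2, rfl⟩, congrArg Subtype.val e⟩
    have hCH1 : C ≤ H1 := fun c hc => by
      obtain ⟨s, hs, h, hh, e⟩ := hsplit c (hCN hc)
      have hcomm : Commute s c := Subgroup.mem_centralizer_iff.mp hc.2 s hs
      have h1 : (h : H) ^ Nat.card H1 = 1 :=
        congrArg Subtype.val (pow_card_eq_one' (x := (⟨h, hh⟩ : H1)))
      rw [show h = s⁻¹ * c by rw [← e, inv_mul_cancel_left], hcomm.inv_left.mul_pow] at h1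
      have h2 : s ^ Nat.card H1 ∈ K ⊓ S := by
        refine ⟨?_, S.pow_mem hs _⟩
        rw [inv_pow, inv_mul_eq_one] at h1
        rw [h1]
        exact K.pow_mem hc.1 _
      rw [inf_eq_bot D, Subgroup.mem_bot] at h2
      obtain ⟨k, hk⟩ := hS ⟨s, hs⟩
      have hs1 : s = 1 := by
        have h3 := pow_gcd_eq_one.mpr ⟨(congrArg Subtype.val hk : s ^ p ^ k = 1), h2⟩
        rwa [((hp.coprime_iff_not_dvd.mpr hH1p).pow_left k).gcd_eq_one, pow_one] at h3
      rw [hs1, one_mul] at e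
      exact e ▸ hh
    have hrep : ∀ q : ↥T' ⧸ Y.subgroupOf T', ∃ h : T', (h : H) ∈ H1 ∧ (h : ↥T' ⧸ Y.subgroupOf T') = q := by
      intro q
      obtain ⟨t, rfl⟩ := QuotientGroup.mk_surjective q
      obtain ⟨s, hs, h, hh, e⟩ := hsplit t t.2.2
      have hsY : s ∈ Y := Subgroup.mem_sup_right hs
      have hhT : h ∈ T' := by
        rw [show h = s⁻¹ * (t : H) by rw [← e, inv_mul_cancel_left]]
        exact T'.mul_mem (T'.inv_mem (hYT hsY)) t.2
      refine ⟨⟨h, hhT⟩, hh, QuotientGroup.eq.mpr (Subgroup.mem_subgroupOf.mpr ?_)⟩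
      show h⁻¹ * (t : H) ∈ Y
      rw [← e, show h⁻¹ * (s * h) = h⁻¹ * s * h by group]
      simpa using hnY _ (N.inv_mem hhT.2) s hsY
    obtain ⟨qa, hqa, hqa'⟩ := hrep q
    obtain ⟨rb, hrb, hrb'⟩ := hrep r
    set a0 : H := (qa : H)
    set b0 : H := (rb : H)
    -- both sides in terms of the representatives
    have hL : (Y.subgroupOf T' ⊔ Subgroup.zpowers q.out ⊔ Subgroup.zpowers r.out).map T'.subtype =
        Y ⊔ Subgroup.zpowers a0 ⊔ Subgroup.zpowers b0 := by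
      rw [Subgroup.map_sup, Subgroup.map_sup, MonoidHom.map_zpowers, MonoidHom.map_zpowers,
        Subgroup.subgroupOf_map_subtype, inf_eq_left.mpr hYT]
      have ha : Y ⊔ Subgroup.zpowers (T'.subtype q.out) = Y ⊔ Subgroup.zpowers a0 := sup_zpowers_congr
        (Subgroup.mem_subgroupOf.mp (QuotientGroup.eq.mp ((QuotientGroup.out_eq' q).trans hqa'.symm)))
      have hb : Y ⊔ Subgroup.zpowers (T'.subtype r.out) = Y ⊔ Subgroup.zpowers b0 := sup_zpowers_congr
        (Subgroup.mem_subgroupOf.mp (QuotientGroup.eq.mp ((QuotientGroup.out_eq' r).trans hrb'.symm)))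
      rw [ha, sup_right_comm, hb, sup_right_comm]
    have hR : (X.subgroupOf T ⊔ Subgroup.zpowers (e q).out ⊔ Subgroup.zpowers (e r).out).map T.subtype =
        X ⊔ Subgroup.zpowers a0 ⊔ Subgroup.zpowers b0 := by
      rw [Subgroup.map_sup, Subgroup.map_sup, MonoidHom.map_zpowers, MonoidHom.map_zpowers,
        Subgroup.subgroupOf_map_subtype, inf_eq_left.mpr hXT]
      have ha' : ((e q).out : ↥T ⧸ X.subgroupOf T) = ((Subgroup.inclusion (inf_le_left : T' ≤ T) qa : T) :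
          ↥T ⧸ X.subgroupOf T) := by
        rw [QuotientGroup.out_eq', ← hqa']; rfl
      have hb' : ((e r).out : ↥T ⧸ X.subgroupOf T) = ((Subgroup.inclusion (inf_le_left : T' ≤ T) rb : T) :
          ↥T ⧸ X.subgroupOf T) := by
        rw [QuotientGroup.out_eq', ← hrb']; rfl
      have ha : X ⊔ Subgroup.zpowers (T.subtype (e q).out) = X ⊔ Subgroup.zpowers a0 :=
        sup_zpowers_congr (Subgroup.mem_subgroupOf.mp (QuotientGroup.eq.mp ha'))
      have hb : X ⊔ Subgroup.zpowers (T.subtype (e r).out) = X ⊔ Subgroup.zpowers b0 :=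
        sup_zpowers_congr (Subgroup.mem_subgroupOf.mp (QuotientGroup.eq.mp hb'))
      rw [ha, sup_right_comm, hb, sup_right_comm]
    rw [extTo_iff hYT (Φ a).1 φY (fun _ => rfl), extTo_iff hXT a.1 φX (fun _ => rfl), hL, hR]
    set A := C ⊔ Subgroup.zpowers a0 ⊔ Subgroup.zpowers b0 with hA
    have hCT : C ≤ T' := le_sup_left.trans hYT
    have hAT : A ≤ T' := sup_le (sup_le hCT (Subgroup.zpowers_le.mpr qa.2)) (Subgroup.zpowers_le.mpr rb.2)
    have hAH : A ≤ H1 := sup_le (sup_le hCH1 (Subgroup.zpowers_le.mpr hqa)) (Subgroup.zpowers_le.mpr hrb)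
    have hAp : ¬ p ∣ Nat.card A := fun h => hH1p (h.trans (Subgroup.card_dvd_of_le hAH))
    have hCA : C ≤ A := le_sup_left.trans le_sup_left
    have hab : ∀ x ∈ A, ∀ y ∈ A, x * y * x⁻¹ * y⁻¹ ∈ C := by
      refine commutator_mem_of_pair (hnC a0 qa.2.2) (hnC b0 rb.2.2) ?_
      have h1 : ((qa * rb * qa⁻¹ * rb⁻¹ : T') : ↥T' ⧸ Y.subgroupOf T') = 1 := by
        simp only [QuotientGroup.mk_mul, QuotientGroup.mk_inv, hqa', hrb']
        rw [← hqr]
        group
      have hY0 : a0 * b0 * a0⁻¹ * b0⁻¹ ∈ Y := Subgroup.mem_subgroupOf.mp ((QuotientGroup.eq_one_iff _).mp h1)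
      exact SylowPair.inf_le D' hH1p ⟨hY0, H1.mul_mem (H1.mul_mem (H1.mul_mem hqa hrb) (H1.inv_mem hqa))
        (H1.inv_mem hrb)⟩
    rw [show Y ⊔ Subgroup.zpowers a0 ⊔ Subgroup.zpowers b0 = Y ⊔ (C ⊔ A) by
        rw [sup_eq_right.mpr hCA, hA, ← sup_assoc, ← sup_assoc, sup_eq_left.mpr (le_sup_left : C ≤ Y)],
      show X ⊔ Subgroup.zpowers a0 ⊔ Subgroup.zpowers b0 = X ⊔ (K ⊔ A) by
        rw [hA, ← sup_assoc, ← sup_assoc, ← sup_assoc, sup_eq_left.mpr (le_left D),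
          sup_eq_left.mpr (hCK.trans (le_left D))]]
    obtain ⟨F, F', L, L', hF, hF', hrel, hL1, hL1', -, hφ, hφ'⟩ := hΦ a
    have hKA : ¬ p ∣ Nat.card ↥(K ⊔ A) := CoprimeTriple.card_sup_not_dvd (fun x _ => hnK x) hK hAp
    have hAfix : ∀ t ∈ A, Conj X t (a.1 : X → ℂ) (a.1 : X → ℂ) := fun t ht => (hAT ht).1
    have hAfix' : ∀ t ∈ A, Conj Y t ((Φ a).1 : Y → ℂ) ((Φ a).1 : Y → ℂ) := fun t ht =>
      (hconj a a t (hAT ht).2).mp (hAT ht).1
    have hresK : ∀ k : K, (a.1 : X → ℂ) (Subgroup.inclusion (le_left D) k) =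
        (F : X → ℂ) (Subgroup.inclusion (le_left D) k) := fun k => by
      rw [hφ, hL1, Units.val_one, one_mul]
    have hresC : ∀ c : C, ((Φ a).1 : Y → ℂ) (Subgroup.inclusion (le_left D') c) =
        (F' : Y → ℂ) (Subgroup.inclusion (le_left D') c) := fun c => by
      rw [hφ', hL1', Units.val_one, one_mul]
    rw [Glue.glue (le_left D') (le_sup_left : C ≤ C ⊔ A) (fun y hy => hnY y
          ((sup_le hCN (hAT.trans inf_le_right) : C ⊔ A ≤ N) hy))
        (SylowPair.inf_le D' (by rw [sup_eq_right.mpr hCA]; exact hAp)) (Φ a).1 ⟨_, hF'.2.1⟩ hresC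
        (fun y hy => hAfix' y (by rwa [sup_eq_right.mpr hCA] at hy)),
      Glue.glue (le_left D) (le_sup_left : K ≤ K ⊔ A) (fun y _ => hnX y) (SylowPair.inf_le D hKA)
        a.1 ⟨_, hF.2.1⟩ hresK
        (fun y hy => (sup_le ((le_left D).trans hXT) (hAT.trans inf_le_left) : K ⊔ A ≤ T) hy),
      sup_eq_right.mpr hCA]
    refine (CoprimeTriple.main K S A C (fun s _ => hnK s) hS hK (fun x _ => hnK x)
      (fun x hx => hnS x (hAT hx).2) hAp hC hCA hab hCK ⟨_, hF.2.1⟩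
      (can_fix D (isClassFunction_of_isIrr F.2)) (fun x hx k k' he => ?_) ⟨_, hF'.2.1⟩ hrel).symm
    show (F : X → ℂ) _ = (F : X → ℂ) _
    rw [← hresK, ← hresK]
    exact hAfix x hx _ _ he
  -- the two decompositions
  haveI := Fintype.ofFinite (IrrCharacter X)
  haveI := Fintype.ofFinite (IrrCharacter Y)
  have hfixZ : ∀ m : H, ∀ z ∈ Z, m * z * m⁻¹ = z := fun m z hz => by
    rw [Subgroup.mem_center_iff.mp (hZ hz) m, mul_inv_cancel_right]
  have hZfix : ∀ m : H, Conj Z m (ζ : Z → ℂ) (ζ : Z → ℂ) := fun m k k' he =>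
    congrArg (ζ : Z → ℂ) (Subtype.ext (he.trans (hfixZ m k k.2)))
  have hex : ∀ (V M : Subgroup H) (hVM : V ≤ M), Z ≤ V → (∀ m ∈ M, ∀ x ∈ V, m * x * m⁻¹ ∈ V) →
      ∀ χ : IrrCharacter M, ¬ p ∣ deg (χ : M → ℂ) →
      ∃ φ : IrrCharacter V, ¬ p ∣ deg (φ : V → ℂ) ∧ Ov (Subgroup.inclusion hVM) (φ : V → ℂ) χ := by
    intro V M hVM _ hMV χ hχ
    haveI := Fintype.ofFinite V
    obtain ⟨φ, hφ⟩ := exists_constituent (isCharacter_comp (Subgroup.inclusion hVM) (isCharacter_of_isIrr χ.2))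
      (fun h => irr_one_ne_zero χ.2 (by simpa using congrFun h 1))
    refine ⟨φ, fun hd => hχ ?_, (ov_def _ _ _).mpr hφ⟩
    obtain ⟨k, hk, -⟩ := dvd_deg_quotient hVM hMV φ χ ((ov_def _ _ _).mpr hφ)
    exact hk ▸ hd.trans (dvd_mul_left _ _)
  have e1 := cnt_decompose p (M := ⊤) hZX (le_top : X ≤ ⊤) (fun m _ => hnX m) ζ
    (fun m _ z hz => by rw [hfixZ m z hz]; exact hz) (fun m _ => hZfix m)
    (fun φ => ¬ p ∣ deg (φ : X → ℂ))
    (fun χ hχ _ => hex X ⊤ le_top hZX (fun m _ => hnX m) χ hχ)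
  have e2 := cnt_decompose p (M := N) hZY hYN hnY ζ
    (fun m _ z hz => by rw [hfixZ m z hz]; exact hz) (fun m _ => hZfix m)
    (fun φ => ¬ p ∣ deg (φ : Y → ℂ))
    (fun χ hχ _ => hex Y N hYN hZY hnY χ hχ)
  rw [cnt_congr p (MulEquiv.refl Z) Subgroup.topEquiv.symm Z.subtype
    (Subgroup.inclusion (hZX.trans le_top)) (ζ : Z → ℂ) (ζ : Z → ℂ) (fun _ => rfl) (fun _ => rfl)]
  apply Nat.cast_injective (R := ℚ)
  rw [e1, e2]
  have conv : ∀ {ι : Type u} [Fintype ι] (q : ι → Prop) (i1 : DecidablePred q) (f : ι → ℚ),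
      (∑ x, @ite ℚ (q x) (i1 x) (f x) 0) = ∑ x ∈ @Finset.filter ι q (Classical.decPred q) Finset.univ, f x := by
    intro ι _ q i1 f
    rw [Finset.sum_filter]
    exact Finset.sum_congr rfl fun x _ => by congr
  have memF : ∀ {ι : Type u} [Fintype ι] {q : ι → Prop} {x : ι},
      x ∈ @Finset.filter ι q (Classical.decPred q) Finset.univ ↔ x ∈ (Finset.univ : Finset ι) ∧ q x :=
    fun {ι} _ {q} {x} => @Finset.mem_filter ι q (Classical.decPred q) Finset.univ x
  refine (conv _ _ _).trans (Eq.trans ?_ (conv _ _ _).symm)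
  refine Finset.sum_bij (fun φ hφ => (Φ ⟨φ, (memF.mp hφ).2.1⟩).1)
    (fun φ hφ => ?_) (fun φ hφ ψ hψ h => ?_) (fun φ' hφ' => ?_) (fun φ hφ => ?_)
  · obtain ⟨-, hd, hov⟩ := memF.mp hφ
    exact memF.mpr ⟨Finset.mem_univ _, (Φ ⟨φ, hd⟩).2,
      (r_central D D' hC hCK hZ hZX hZY ζ (hΦ ⟨φ, hd⟩)).mp hov⟩
  · exact congrArg Subtype.val (hbij.1 (Subtype.ext h))
  · obtain ⟨-, hd, hov⟩ := memF.mp hφ'
    obtain ⟨b, hb⟩ := hbij.2 ⟨φ', hd⟩
    have hb' : (Φ b).1 = φ' := congrArg Subtype.val hb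
    refine ⟨b.1, memF.mpr ⟨Finset.mem_univ _, b.2, ?_⟩, hb'⟩
    exact (r_central D D' hC hCK hZ hZX hZY ζ (hΦ b)).mpr (by rw [hb']; exact hov)
  · rw [hcnt ⟨φ, (memF.mp hφ).2.1⟩]
    exact congrArg (fun n : ℕ => (_ : ℚ) / (n : ℚ)) (hw ⟨φ, (memF.mp hφ).2.1⟩)

end Cfsg.Agent.SylowKernel
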