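import Cfsg.Agent.Lib.CT.Glue
import Cfsg.Agent.Lib.CT.RelCount
import Cfsg.Agent.Lib.CT.RelCorrBase
import Cfsg.Agent.Lib.CT.Degree

/-!
# Characters of degree prime to `p` of a `p`-closed-by-`p'` product
-/

set_option autoImplicit false
set_option linter.all false

namespace Cfsg.Agent.SylowPair

open Cfsg.Agent.CT Cfsg.Agent.CoprimeTriple Cfsg.Agent.RelCount

universe u

variable {H : Type u} [Group H] [Finite H] {p : ℕ} [Fact p.Prime] {K S X : Subgroup H}

/-- The hypotheses: `X = K S` with `K` normal in `X` of order prime to `p` and `S` a `p`-group. -/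
structure Data (p : ℕ) (K S X : Subgroup H) : Prop where
  norm : ∀ s ∈ S, ∀ k ∈ K, s * k * s⁻¹ ∈ K
  pgroup : IsPGroup p S
  coprime : ¬ p ∣ Nat.card K
  eq : X = K ⊔ S

variable (D : Data p K S X)

include D in
theorem le_left : K ≤ X := D.eq ▸ le_sup_left

include D in
theorem le_right : S ≤ X := D.eq ▸ le_sup_right

include D in
theorem x_norm : ∀ x ∈ X, ∀ k ∈ K, x * k * x⁻¹ ∈ K := by
  intro x hx k hk
  have hle : X ≤ Subgroup.normalizer (K : Set H) := by
    rw [D.eq]
    exact sup_le Subgroup.le_normalizer fun s hs => GoodCount.mem_normalizer_of_forall_conj (D.norm s hs)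
  exact (Subgroup.mem_normalizer_iff.mp (hle hx) k).mp hk

include D in
theorem inf_eq_bot : K ⊓ S = ⊥ := by
  refine (Subgroup.eq_bot_iff_forall _).mpr fun z hz => ?_
  obtain ⟨n, hn⟩ := D.pgroup ⟨z, hz.2⟩
  have h1 : orderOf z ∣ p ^ n := orderOf_dvd_of_pow_eq_one (congrArg Subtype.val hn)
  have h2 : orderOf z ∣ Nat.card K := by
    simpa [Subgroup.orderOf_coe] using orderOf_dvd_natCard (⟨z, hz.1⟩ : K)
  have hcop : Nat.Coprime (p ^ n) (Nat.card K) :=
    ((Fact.out : p.Prime).coprime_iff_not_dvd.mpr D.coprime).pow_left n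
  exact orderOf_eq_one_iff.mp (Nat.eq_one_of_dvd_coprimes hcop h1 h2)

include D in
theorem exists_mul {x : H} (hx : x ∈ X) : ∃ k ∈ K, ∃ s ∈ S, k * s = x := by
  have hle : S ≤ Subgroup.normalizer (K : Set H) := fun s hs =>
    GoodCount.mem_normalizer_of_forall_conj (D.norm s hs)
  rw [D.eq, ← SetLike.mem_coe, Subgroup.coe_mul_of_right_le_normalizer_left _ _ hle] at hx
  obtain ⟨k, hk, s, hs, h⟩ := hx
  exact ⟨k, hk, s, hs, h⟩

include D in
theorem unique_mul {k k' s s' : H} (hk : k ∈ K) (hk' : k' ∈ K) (hs : s ∈ S) (hs' : s' ∈ S)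
    (h : k * s = k' * s') : k = k' ∧ s = s' := by
  have h1 : k'⁻¹ * k = s' * s⁻¹ := by
    calc k'⁻¹ * k = k'⁻¹ * (k * s) * s⁻¹ := by group
      _ = s' * s⁻¹ := by rw [h]; group
  have h2 : k'⁻¹ * k ∈ K ⊓ S := ⟨K.mul_mem (K.inv_mem hk') hk, h1 ▸ S.mul_mem hs' (S.inv_mem hs)⟩
  rw [inf_eq_bot D, Subgroup.mem_bot, inv_mul_eq_one] at h2
  subst h2
  exact ⟨rfl, mul_left_cancel h⟩

include D in
/-- Elements of order prime to `p` lie in `K`. -/
theorem mem_of_not_dvd {x : H} (hx : x ∈ X) (ho : ¬ p ∣ orderOf x) : x ∈ K := by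
  haveI : (K.subgroupOf X).Normal := ⟨fun k hk x => x_norm D x x.2 _ hk⟩
  let q : ↥X ⧸ K.subgroupOf X := ((⟨x, hx⟩ : X) : ↥X ⧸ K.subgroupOf X)
  obtain ⟨k, hk, s, hs, he⟩ := exists_mul D hx
  have hq : q = ((⟨s, le_right D hs⟩ : X) : ↥X ⧸ K.subgroupOf X) := by
    refine QuotientGroup.eq.mpr (Subgroup.mem_subgroupOf.mpr ?_)
    show x⁻¹ * s ∈ K
    have := D.norm _ (S.inv_mem hs) _ (K.inv_mem hk)
    rw [← he]
    simpa [mul_assoc] using this
  obtain ⟨n, hn⟩ := D.pgroup ⟨s, hs⟩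
  have h1 : orderOf q ∣ p ^ n := by
    refine orderOf_dvd_of_pow_eq_one ?_
    rw [hq, ← QuotientGroup.mk_pow]
    refine (QuotientGroup.eq_one_iff _).mpr (Subgroup.mem_subgroupOf.mpr ?_)
    rw [Subgroup.coe_pow, show s ^ p ^ n = 1 from congrArg Subtype.val hn]
    exact K.one_mem
  have h2 : orderOf q ∣ orderOf x := by
    have := orderOf_map_dvd (QuotientGroup.mk' (K.subgroupOf X)) (⟨x, hx⟩ : X)
    rwa [Subgroup.orderOf_mk] at this
  have hcop : Nat.Coprime (p ^ n) (orderOf x) :=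
    ((Fact.out : p.Prime).coprime_iff_not_dvd.mpr ho).pow_left n
  have h3 := orderOf_eq_one_iff.mp (Nat.eq_one_of_dvd_coprimes hcop h1 h2)
  exact Subgroup.mem_subgroupOf.mp ((QuotientGroup.eq_one_iff _).mp h3)

include D in
/-- A subgroup of order prime to `p` meets `X` in `K`. -/
theorem inf_le {Y : Subgroup H} (hY : ¬ p ∣ Nat.card Y) : X ⊓ Y ≤ K := fun x hx =>
  mem_of_not_dvd D hx.1 fun h => hY (h.trans (by
    simpa [Subgroup.orderOf_coe] using orderOf_dvd_natCard (⟨x, hx.2⟩ : Y)))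

include D in
/-- Linear characters of `S` seen on `X`. -/
theorem exists_lin (lam : S →* ℂˣ) : ∃ L : X →* ℂˣ, (∀ k : K, L (Subgroup.inclusion (le_left D) k) = 1) ∧
    ∀ s : S, L (Subgroup.inclusion (le_right D) s) = lam s := by
  choose fk hfk fs hfs he using fun x : X => exists_mul D x.2
  let L : X →* ℂˣ := MonoidHom.mk' (fun x => lam ⟨fs x, hfs x⟩) fun a b => by
    have h : fk (a * b) * fs (a * b) = (fk a * (fs a * fk b * (fs a)⁻¹)) * (fs a * fs b) := by
      rw [he, Subgroup.coe_mul]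
      conv_lhs => rw [← he a, ← he b]
      group
    have h2 := (unique_mul D (hfk _) (K.mul_mem (hfk a) (D.norm _ (hfs a) _ (hfk b))) (hfs _)
      (S.mul_mem (hfs a) (hfs b)) h).2
    rw [← map_mul]
    exact congrArg lam (Subtype.ext h2)
  refine ⟨L, fun k => ?_, fun s => ?_⟩
  · have h := unique_mul D (hfk _) k.2 (hfs _) S.one_mem
      ((he (Subgroup.inclusion (le_left D) k)).trans (mul_one _).symm)
    show lam ⟨_, _⟩ = 1
    rw [← map_one lam]
    exact congrArg lam (Subtype.ext h.2)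
  · have h := unique_mul D (hfk _) K.one_mem (hfs _) s.2
      ((he (Subgroup.inclusion (le_right D) s)).trans (one_mul _).symm)
    exact congrArg lam (Subtype.ext h.2)

include D in
theorem lin_ext {L L' : X →* ℂˣ} (h1 : ∀ k : K, L (Subgroup.inclusion (le_left D) k) = 1)
    (h1' : ∀ k : K, L' (Subgroup.inclusion (le_left D) k) = 1)
    (h2 : ∀ s : S, L (Subgroup.inclusion (le_right D) s) = L' (Subgroup.inclusion (le_right D) s)) :
    L = L' := by
  refine MonoidHom.ext fun x => ?_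
  obtain ⟨k, hk, s, hs, he⟩ := exists_mul D x.2
  rw [show x = Subgroup.inclusion (le_left D) ⟨k, hk⟩ * Subgroup.inclusion (le_right D) ⟨s, hs⟩ from
    Subtype.ext he.symm, map_mul, map_mul, h1, h1', h2]

/-- A canonical extension: irreducible on `K`, with determinantal order prime to `p`. -/
def Can (hKX : K ≤ X) (p : ℕ) (F : X → ℂ) : Prop :=
  IsIrrCharacter X F ∧ IsIrrCharacter K (fun k => F (Subgroup.inclusion hKX k)) ∧
    ¬ p ∣ Cfsg.detOrder F

include D in
theorem index_eq : (K.subgroupOf X).index ∣ Nat.card S := by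
  haveI : (K.subgroupOf X).Normal := ⟨fun k hk x => x_norm D x x.2 _ hk⟩
  rw [Subgroup.index_eq_card]
  refine Subgroup.card_dvd_of_surjective
    ((QuotientGroup.mk' (K.subgroupOf X)).comp (Subgroup.inclusion (le_right D))) fun q => ?_
  obtain ⟨x, rfl⟩ := QuotientGroup.mk_surjective q
  obtain ⟨k, hk, s, hs, he⟩ := exists_mul D x.2
  refine ⟨⟨s, hs⟩, QuotientGroup.eq.mpr (Subgroup.mem_subgroupOf.mpr ?_)⟩
  show s⁻¹ * (x : H) ∈ K
  have := D.norm _ (S.inv_mem hs) _ hk
  rw [← he]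
  simpa [mul_assoc] using this

include D in
theorem exists_can (θ : IrrCharacter K) (hθ : ∀ s ∈ S, Conj K s (θ : K → ℂ) (θ : K → ℂ)) :
    ∃ F : IrrCharacter X, (Can (le_left D) p (F : X → ℂ) ∧
      ∀ k, (F : X → ℂ) (Subgroup.inclusion (le_left D) k) = (θ : K → ℂ) k) ∧
      ∀ F' : X → ℂ, Can (le_left D) p F' →
        (∀ k, F' (Subgroup.inclusion (le_left D) k) = (θ : K → ℂ) k) → F' = F := by
  classical
  haveI : (K.subgroupOf X).Normal := ⟨fun k hk x => x_norm D x x.2 _ hk⟩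
  haveI := Fintype.ofFinite H
  haveI := Fintype.ofFinite X
  haveI := Fintype.ofFinite ↥(K.subgroupOf X)
  let e := Subgroup.subgroupOfEquivOfLe (le_left D)
  let θ' : IrrCharacter ↥(K.subgroupOf X) :=
    ⟨fun y => (θ : K → ℂ) (e y), isIrrCharacter_comp e.toMonoidHom e.surjective θ.2⟩
  have hp := (Fact.out : p.Prime)
  obtain ⟨j, hj⟩ := IsPGroup.iff_card.mp D.pgroup
  have hidx := hj ▸ index_eq D
  have hcardK : ¬ p ∣ Nat.card ↥(K.subgroupOf X) := by
    rw [Nat.card_congr e.toEquiv]; exact D.coprime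
  have hcop : ∀ m, ¬ p ∣ m → Nat.Coprime (K.subgroupOf X).index m := fun m hm =>
    (RelCorr.coprime_of_dvd_pow hp hm hidx).symm
  have hdeg : ¬ p ∣ deg (θ' : ↥(K.subgroupOf X) → ℂ) := fun h =>
    hcardK (h.trans (Glauberman.deg_dvd_card θ'))
  have hdet : ¬ p ∣ Cfsg.detOrder (θ' : ↥(K.subgroupOf X) → ℂ) := fun h =>
    hcardK (h.trans (RelCorr.detOrder_dvd_card (isCharacter_of_isIrr θ'.2)))
  obtain ⟨F, ⟨hF, hFd⟩, huniq⟩ := CoprimeExt.exists_coprime_ext (K.subgroupOf X) θ' (fun g n => by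
      obtain ⟨k, hk, s, hs, he⟩ := exists_mul D g.2
      have h := fix_mul (a := k) (b := s) (fun x hx => D.norm s hs x hx) (fix_of_mem (isClassFunction_of_isIrr θ.2) hk)
        (hθ s hs)
      exact h (e n) _ (by
        show (g : H) * (n : X) * (g : H)⁻¹ = k * s * (n : X) * (k * s)⁻¹
        rw [he])) (hcop _ hdeg) (hcop _ hdet)
  have hres : ∀ k, (F : X → ℂ) (Subgroup.inclusion (le_left D) k) = (θ : K → ℂ) k := fun k =>
    hF (e.symm k)
  refine ⟨F, ⟨⟨F.2, ?_, fun h => hdet (hFd ▸ h)⟩, hres⟩, fun F' hF' hres' => ?_⟩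
  · rw [show (fun k => (F : X → ℂ) (Subgroup.inclusion (le_left D) k)) = (θ : K → ℂ) from funext hres]
    exact θ.2
  · exact huniq F' (isCharacter_of_isIrr hF'.1) (fun n => hres' (e n)) (hcop _ hF'.2.2)

include D in
theorem can_unique {F F' : X → ℂ} (hF : Can (le_left D) p F) (hF' : Can (le_left D) p F')
    (h : ∀ k, F (Subgroup.inclusion (le_left D) k) = F' (Subgroup.inclusion (le_left D) k)) : F = F' := by
  have hfix : ∀ s ∈ S, Conj K s (fun k => F (Subgroup.inclusion (le_left D) k))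
      (fun k => F (Subgroup.inclusion (le_left D) k)) := by
    intro s hs k k' he
    have hcl := isClassFunction_of_isIrr hF.1
    show F _ = F _
    rw [show Subgroup.inclusion (le_left D) k' = (⟨s, le_right D hs⟩ : X) *
      Subgroup.inclusion (le_left D) k * (⟨s, le_right D hs⟩ : X)⁻¹ from Subtype.ext he,
      isClassFunction_mul_comm hcl, inv_mul_cancel_left]
  obtain ⟨F0, -, hu⟩ := exists_can D ⟨_, hF.2.1⟩ hfix
  rw [hu F hF fun k => rfl, hu F' hF' fun k => (h k).symm]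

include D in
theorem prod_irr {F : X → ℂ} (hF : Can (le_left D) p F) (L : X →* ℂˣ)
    (hL : ∀ k : K, L (Subgroup.inclusion (le_left D) k) = 1) :
    IsIrrCharacter X (fun x => (L x : ℂ) * F x) := by
  refine Glue.isIrr_of_res (Subgroup.inclusion (le_left D))
    (isCharacter_mul (isCharacter_lin L) (isCharacter_of_isIrr hF.1)) ?_
  simp only [hL, Units.val_one, one_mul]
  exact hF.2.1

include D in
/-- Characters of degree prime to `p` are twists of canonical extensions. -/
theorem exists_decomp (φ : IrrCharacter X) (hφ : ¬ p ∣ deg (φ : X → ℂ)) :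
    ∃ (F : IrrCharacter X) (L : X →* ℂˣ), Can (le_left D) p (F : X → ℂ) ∧
      (∀ k : K, L (Subgroup.inclusion (le_left D) k) = 1) ∧
      ∀ x, (φ : X → ℂ) x = (L x : ℂ) * (F : X → ℂ) x := by
  classical
  haveI : (K.subgroupOf X).Normal := ⟨fun k hk x => x_norm D x x.2 _ hk⟩
  haveI := Fintype.ofFinite X
  haveI := Fintype.ofFinite ↥(K.subgroupOf X)
  set N := K.subgroupOf X
  have hp := (Fact.out : p.Prime)
  obtain ⟨j, hj⟩ := IsPGroup.iff_card.mp D.pgroup
  obtain ⟨θ', hθ'⟩ := exists_constituent_restrict N φ.2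
  obtain ⟨k, hk, hkd⟩ := deg_ratio_dvd_index N φ.2 θ'.2 hθ'
  obtain ⟨i, -, rfl⟩ := (Nat.dvd_prime_pow hp).mp (hkd.trans (hj ▸ index_eq D))
  rcases Nat.eq_zero_or_pos i with rfl | hi
  swap
  · exact absurd (hk ▸ (dvd_pow_self p hi.ne').trans (dvd_mul_right _ _)) hφ
  have hres : (fun n : N => (φ : X → ℂ) n) = (θ' : N → ℂ) :=
    eq_of_deg_le (isCharacter_restrict N (isCharacter_of_isIrr φ.2)) θ'.2 hθ' (le_of_eq (by
      rw [show deg (fun n : N => (φ : X → ℂ) n) = deg (φ : X → ℂ) from rfl, hk, pow_zero, one_mul]))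
  let e := Subgroup.subgroupOfEquivOfLe (le_left D)
  let θ : IrrCharacter K := ⟨_, isIrrCharacter_comp e.symm.toMonoidHom e.symm.surjective θ'.2⟩
  have hθ : ∀ k, (φ : X → ℂ) (Subgroup.inclusion (le_left D) k) = (θ : K → ℂ) k := fun k =>
    congrFun hres (e.symm k)
  have hcl := isClassFunction_of_isIrr φ.2
  obtain ⟨F, ⟨hF, hFres⟩, -⟩ := exists_can D θ fun s hs k k' he => by
    rw [← hθ, ← hθ, show Subgroup.inclusion (le_left D) k' = (⟨s, le_right D hs⟩ : X) *
      Subgroup.inclusion (le_left D) k * (⟨s, le_right D hs⟩ : X)⁻¹ from Subtype.ext he,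
      isClassFunction_mul_comm hcl, inv_mul_cancel_left]
  have hθ1 : ∀ g : X, conjFun N g (θ' : N → ℂ) = θ' := fun g => by
    rw [← hres]
    funext n
    show (φ : X → ℂ) (g * n * g⁻¹) = _
    rw [isClassFunction_mul_comm hcl, inv_mul_cancel_left]
  have hone : ((fun _ : N => (1 : ℂ)) * (θ' : N → ℂ)) = (θ' : N → ℂ) := funext fun n => one_mul _
  have hbij := GallagherExt.bijOn_mul_ext N (φ := fun _ : N => (1 : ℂ)) (θ := (θ' : N → ℂ))
    isIrrCharacter_one (fun g => rfl) hθ1 (hone.symm ▸ θ'.2) (χ := (F : X → ℂ)) F.2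
    (fun n => (hFres (e n)).trans ((hθ (e n)).symm.trans (congrFun hres n)))
  obtain ⟨β, ⟨hβ, hβ1⟩, hβφ⟩ := hbij.surjOn (show (φ : X → ℂ) ∈ _ from ⟨φ.2, by
    rw [hone, frobenius_reciprocity N _ hcl,
      classInner_comm_of_char (isCharacter_of_isIrr θ'.2) (isCharacter_restrict N (isCharacter_of_isIrr φ.2))]
    exact hθ'⟩)
  have h1 : β 1 = 1 := by
    have h := congrFun hβφ 1
    have h2 : (F : X → ℂ) 1 = (φ : X → ℂ) 1 := by
      rw [show (1 : X) = Subgroup.inclusion (le_left D) 1 from (map_one _).symm, hFres, hθ]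
    simp only [Pi.mul_apply, h2] at h
    exact mul_right_cancel₀ (irr_one_ne_zero φ.2) (h.trans (one_mul _).symm)
  obtain ⟨L, hL⟩ := GoodCount.exists_lin_of_deg_one hβ h1
  refine ⟨F, L, hF, fun k => ?_, fun x => ?_⟩
  · rw [frobenius_reciprocity N _ (isClassFunction_of_isIrr hβ)] at hβ1
    have hlin : IsIrrCharacter N (fun n : N => β n) := by
      rw [show (fun n : N => β n) = fun n : N => ((L.comp N.subtype) n : ℂ) from funext fun n => (hL n).symm]
      exact isIrrCharacter_lin _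
    have := congrFun (eq_of_inner_ne_zero isIrrCharacter_one hlin hβ1) (e.symm k)
    exact Units.ext ((hL _).trans this.symm)
  · rw [hL]
    exact (congrFun hβφ x).symm

include D in
theorem decomp_unique {F F' : X → ℂ} (hF : Can (le_left D) p F) (hF' : Can (le_left D) p F')
    {L L' : X →* ℂˣ} (hL : ∀ k : K, L (Subgroup.inclusion (le_left D) k) = 1)
    (hL' : ∀ k : K, L' (Subgroup.inclusion (le_left D) k) = 1)
    (h : ∀ x, (L x : ℂ) * F x = (L' x : ℂ) * F' x) : F = F' ∧ L = L' := by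
  classical
  have hFF : F = F' := can_unique D hF hF' fun k => by
    have := h (Subgroup.inclusion (le_left D) k)
    rwa [hL, hL', Units.val_one, one_mul, one_mul] at this
  refine ⟨hFF, ?_⟩
  subst hFF
  haveI : (K.subgroupOf X).Normal := ⟨fun k hk x => x_norm D x x.2 _ hk⟩
  haveI := Fintype.ofFinite X
  haveI := Fintype.ofFinite ↥(K.subgroupOf X)
  let e := Subgroup.subgroupOfEquivOfLe (le_left D)
  let θ : IrrCharacter ↥(K.subgroupOf X) :=
    ⟨_, isIrrCharacter_comp e.toMonoidHom e.surjective hF.2.1⟩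
  have hinfl : ∀ M : X →* ℂˣ, (∀ k : K, M (Subgroup.inclusion (le_left D) k) = 1) →
      classInner (fun n : K.subgroupOf X => (M n : ℂ)) (fun _ => (1 : ℂ)) ≠ 0 := fun M hM => by
    rw [show (fun n : K.subgroupOf X => (M n : ℂ)) = fun _ => (1 : ℂ) from funext fun n => by
      show ((M (Subgroup.inclusion (le_left D) (e n)) : ℂˣ) : ℂ) = 1
      rw [hM, Units.val_one],
      irr_inner_self isIrrCharacter_one]
    exact one_ne_zero
  have h1 := CoprimeExt.inner_mul_ext (K.subgroupOf X) (⟨F, hF.1⟩ : IrrCharacter X) θ (fun n => rfl)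
    ⟨_, isIrrCharacter_lin L⟩ ⟨_, isIrrCharacter_lin L'⟩ (hinfl L hL) (hinfl L' hL')
  rw [show ((fun x => (L x : ℂ)) * F) = ((fun x => (L' x : ℂ)) * F) from funext h,
    irr_inner_self (show IsIrrCharacter X ((fun x => (L' x : ℂ)) * F) from prod_irr D hF' L' hL')] at h1
  split_ifs at h1 with e'
  · exact MonoidHom.ext fun x => Units.ext (congrFun (congrArg Subtype.val e') x)
  · exact absurd h1 one_ne_zero

include D in
/-- Canonical extensions are preserved by automorphisms. -/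
theorem can_comp {F : X → ℂ} (hF : Can (le_left D) p F) (eX : X ≃* X)
    (hK : ∀ k : K, ((eX (Subgroup.inclusion (le_left D) k) : X) : H) ∈ K) :
    Can (le_left D) p (fun x => F (eX x)) := by
  refine ⟨isIrrCharacter_comp eX.toMonoidHom eX.surjective hF.1, ?_,
    fun h => hF.2.2 (h.trans (RelCorr.detOrder_comp_dvd eX.toMonoidHom (isCharacter_of_isIrr hF.1)))⟩
  let c : K →* K :=
    { toFun := fun k => ⟨_, hK k⟩
      map_one' := Subtype.ext (by simp)
      map_mul' := fun a b => Subtype.ext (by simp) }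
  have hinj : Function.Injective c := fun a b h =>
    Subgroup.inclusion_injective (le_left D) (eX.injective (Subtype.ext (congrArg (fun z : K => (z : H)) h)))
  exact isIrrCharacter_comp c (Finite.surjective_of_injective hinj) hF.2.1

end Cfsg.Agent.SylowPair
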