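import Cfsg.Agent.Lib.Zassenhaus.QuatAut
import Cfsg.Agent.Lib.InvChar.OneSubgroup
import Cfsg.Agent.Lib.Basics.Cores
import Cfsg.Prelude.Def_Transfer

/-!
# Solvable linear groups transitive on the non-trivial vectors with `p`-group stabilisers

Such a group has abelian Sylow `p`-subgroups and a normal `p`-complement.
-/

set_option autoImplicit false
set_option linter.all false
set_option maxHeartbeats 1000000

namespace Cfsg.Agent.CT.TwoClassLinear

open Cfsg Cfsg.Agent

universe u v

section Setting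

variable {Q : Type u} [Group Q] [Finite Q] {M : Type v} [CommGroup M] [Finite M] {p : ℕ}
  [hp : Fact p.Prime] (hexp : ∀ m : M, m ^ p = 1) (α : Q →* MulAut M)
  (hinj : Function.Injective α)
  (htrans : ∀ v w : M, v ≠ 1 → w ≠ 1 → ∃ g, α g v = w)
  (hstab : ∀ (g : Q) (v : M), v ≠ 1 → α g v = v → ∃ k : ℕ, g ^ p ^ k = 1)

include hexp in
theorem eq_one_of_pow {v : M} {n : ℕ} (hn : ¬ p ∣ n) (h : v ^ n = 1) : v = 1 :=
  orderOf_eq_one_iff.mp (Nat.eq_one_of_dvd_coprimes (hp.out.coprime_iff_not_dvd.mpr hn)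
    (orderOf_dvd_of_pow_eq_one (hexp v)) (orderOf_dvd_of_pow_eq_one h))

include hstab in
theorem fpf {r k : ℕ} (hr : r.Prime) (hrp : r ≠ p) {g : Q} (hg : g ^ r ^ k = 1) {v : M}
    (hv : α g v = v) (hv1 : v ≠ 1) : g = 1 := by
  obtain ⟨j, hj⟩ := hstab g v hv1 hv
  exact orderOf_eq_one_iff.mp (Nat.eq_one_of_dvd_coprimes
    (Nat.coprime_pow_primes k j hr hp.out hrp) (orderOf_dvd_of_pow_eq_one hg)
    (orderOf_dvd_of_pow_eq_one hj))

include hexp hstab in
/-- No two independent commuting elements of prime order `r ≠ p`. -/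
theorem commuting_mem [Nontrivial M] {r : ℕ} (hr : r.Prime) (hrp : r ≠ p) {a z : Q}
    (ha : a ^ r = 1) (hz : z ^ r = 1) (hza : Commute a z) (ha1 : a ≠ 1) :
    ∃ i : ℕ, z = a ^ i := by
  classical
  haveI : Fact r.Prime := ⟨hr⟩
  haveI : NeZero r := ⟨hr.ne_zero⟩
  by_contra hne
  push Not at hne
  obtain ⟨v, hv⟩ := exists_ne (1 : M)
  -- orbit products under a non-trivial element vanish
  have horb : ∀ (c : Q), c ^ r = 1 → c ≠ 1 → ∀ w : M, ∏ i : ZMod r, α (c ^ i.val) w = 1 := by
    intro c hc hc1 w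
    by_contra hw
    refine hc1 (fpf α hstab (k := 1) hr hrp (by rwa [pow_one]) ?_ hw)
    rw [map_prod]
    refine Fintype.prod_equiv (Equiv.addLeft (1 : ZMod r)) _ _ fun i => ?_
    rw [← MulAut.mul_apply, ← map_mul, Equiv.coe_addLeft, ← pow_succ']
    congr 2
    rw [ZMod.val_add, ZMod.val_one, ← pow_eq_pow_mod _ hc, add_comm]
  have hline : ∀ i : ZMod r, ∏ j : ZMod r, α ((a ^ i.val * z) ^ j.val) v = 1 := by
    intro i
    refine horb _ ?_ (fun h => ?_) v
    · rw [(hza.pow_left i.val).mul_pow, ← pow_mul, mul_comm i.val, pow_mul, ha, one_pow, one_mul, hz]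
    · refine hne ((r - 1) * i.val) ?_
      have hz' : z = (a ^ i.val)⁻¹ := eq_inv_of_mul_eq_one_right h
      have hi : (a ^ i.val) ^ r = 1 := by rw [← pow_mul, mul_comm, pow_mul, ha, one_pow]
      rw [hz', mul_comm (r - 1), pow_mul]
      refine inv_eq_of_mul_eq_one_right ?_
      rw [← pow_succ', Nat.sub_add_cancel hr.one_le, hi]
  have htot : ∏ i : ZMod r, ∏ j : ZMod r, α ((a ^ i.val * z) ^ j.val) v = 1 :=
    Finset.prod_eq_one fun i _ => hline i
  rw [Finset.prod_comm, Finset.prod_eq_single (0 : ZMod r) (fun j _ hj => ?_)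
    (fun h => absurd (Finset.mem_univ _) h)] at htot
  · simp only [ZMod.val_zero, pow_zero, map_one, MulAut.one_apply, Finset.prod_const,
      Finset.card_univ, ZMod.card] at htot
    exact hv (eq_one_of_pow hexp (fun h => hrp ((Nat.prime_dvd_prime_iff_eq hp.out hr).mp h).symm) htot)
  · rw [← horb a ha ha1 (α (z ^ j.val) v)]
    refine Fintype.prod_equiv (Equiv.mulRight₀ j hj) _ _ fun i => ?_
    show _ = α (a ^ (i * j).val) (α (z ^ j.val) v)
    rw [← MulAut.mul_apply, ← map_mul, (hza.pow_left i.val).mul_pow, ← pow_mul]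
    congr 3
    rw [ZMod.val_mul, ← pow_eq_pow_mod _ ha]

include hexp hstab in
theorem cyclic_or_quaternion [Nontrivial M] {r : ℕ} [hr : Fact r.Prime] (hrp : r ≠ p) (T : Subgroup Q)
    (hT : IsPGroup r T) : IsCyclic T ∨ (r = 2 ∧ ∃ n : ℕ, Nonempty (T ≃* QuaternionGroup (2 ^ n))) := by
  refine InvChar.cyclic_or_quaternion hT fun A B hA hB => ?_
  obtain ⟨a, ha⟩ := exists_prime_orderOf_dvd_card' (G := A) r (by rw [hA])
  haveI : Nontrivial T := ⟨⟨(a : T), 1, fun h => hr.out.one_lt.ne
    (by rw [← ha, orderOf_eq_one_iff.mpr (OneMemClass.coe_eq_one.mp h)])⟩⟩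
  haveI := hT.center_nontrivial
  obtain ⟨z, hz⟩ := exists_prime_orderOf_dvd_card' (G := Subgroup.center T) r
    (((hT.to_subgroup _).card_eq_or_dvd).resolve_left Finite.one_lt_card.ne')
  suffices key : ∀ C : Subgroup T, Nat.card C = r → C = Subgroup.zpowers (z : T) by
    rw [key A hA, key B hB]
  intro C hC
  have hzT : orderOf (z : T) = r := by rw [Subgroup.orderOf_coe, hz]
  obtain ⟨c, hc⟩ := exists_prime_orderOf_dvd_card' (G := C) r (by rw [hC])
  rw [← Subgroup.orderOf_coe] at hc
  have hCc : Subgroup.zpowers (c : T) = C := Subgroup.eq_of_le_of_card_ge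
    (Subgroup.zpowers_le.mpr c.2) (by rw [Nat.card_zpowers, hc, hC])
  obtain ⟨i, hi⟩ := commuting_mem hexp α hstab hr.out hrp (a := ((z : T) : Q)) (z := ((c : T) : Q))
    (by rw [← SubmonoidClass.coe_pow, ← hzT, pow_orderOf_eq_one, OneMemClass.coe_one])
    (by rw [← SubmonoidClass.coe_pow, ← hc, pow_orderOf_eq_one, OneMemClass.coe_one])
    (congrArg Subtype.val (Subgroup.mem_center_iff.mp z.2 (c : T)).symm)
    (fun h => hr.out.one_lt.ne (by
      rw [← hzT, orderOf_eq_one_iff.mpr (OneMemClass.coe_eq_one.mp h)]))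
  rw [← hCc]
  refine Subgroup.eq_of_le_of_card_ge (Subgroup.zpowers_le.mpr ?_) ?_
  · have : (c : T) = (z : T) ^ i := Subtype.ext (by rw [SubmonoidClass.coe_pow]; exact hi)
    rw [this]; exact Subgroup.npow_mem_zpowers _ i
  · rw [Nat.card_zpowers, Nat.card_zpowers, hc, hzT]

end Setting

/-- A group with `Q'` of order prime to `p` up to a normal subgroup has a normal complement. -/
theorem hasNormalPComplement_of_commutator {Q : Type u} [Group Q] [Finite Q] {p : ℕ}
    [hp : Fact p.Prime] (h : ¬ p ∣ Nat.card (commutator Q)) : HasNormalPComplement p Q := by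
  classical
  set n := Nat.card Q with hn
  set m := n / p ^ n.factorization p with hm
  have hn0 : n ≠ 0 := Nat.card_pos.ne'
  have hmp : (m).Coprime p := (Nat.coprime_ordCompl hp.out hn0).symm
  have hsplit : p ^ n.factorization p * m = n := Nat.ordProj_mul_ordCompl_eq_self n p
  let π : Q →* Abelianization Q := Abelianization.of
  let ψ : Q →* Abelianization Q := (powMonoidHom m).comp π
  have hker : ∀ g, g ∈ ψ.ker ↔ g ^ m ∈ commutator Q := fun g => by
    rw [MonoidHom.mem_ker, ← Abelianization.ker_of Q, MonoidHom.mem_ker, map_pow]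
    rfl
  let P : Sylow p Q := default
  refine ⟨P, ψ.ker, inferInstance, ?_⟩
  have hNp : ¬ p ∣ Nat.card ψ.ker := by
    intro hd
    obtain ⟨g, hg⟩ := exists_prime_orderOf_dvd_card' (G := ψ.ker) p hd
    rw [← Subgroup.orderOf_coe] at hg
    have hgm : (g : Q) ^ m ∈ commutator Q := (hker g).mp g.2
    have h1 : orderOf ((g : Q) ^ m) = p := by
      rw [Nat.Coprime.orderOf_pow (by rw [hg]; exact hmp.symm), hg]
    refine h ?_
    rw [← h1, ← Subgroup.orderOf_mk _ hgm]
    exact orderOf_dvd_natCard _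
  have hcardP : Nat.card P = p ^ n.factorization p := P.card_eq_multiplicity
  have hdisj : (Nat.card ψ.ker).Coprime (Nat.card P) := by
    rw [hcardP]; exact Nat.Coprime.pow_right _ ((hp.out.coprime_iff_not_dvd.mpr hNp).symm)
  refine Subgroup.isComplement'_of_coprime ?_ hdisj
  have hidx : ψ.ker.index ∣ p ^ n.factorization p := by
    have hp_pow : IsPGroup p ψ.range := fun x => ⟨n.factorization p, by
      obtain ⟨_, ⟨g, rfl⟩⟩ := x
      refine Subtype.ext ?_
      show (ψ g) ^ p ^ n.factorization p = 1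
      show ((π g) ^ m) ^ p ^ n.factorization p = 1
      rw [← pow_mul, mul_comm, hsplit, ← map_pow, hn, pow_card_eq_one', map_one]⟩
    rw [Subgroup.index_ker]
    obtain ⟨k, hk⟩ := IsPGroup.iff_card.mp hp_pow
    rw [hk]
    refine Nat.pow_dvd_pow p ((hp.out.pow_dvd_iff_le_factorization hn0).mp ?_)
    rw [← hk, ← Subgroup.index_ker]
    exact Subgroup.index_dvd_card _
  have h2 : Nat.card ψ.ker ∣ m := by
    have h3 : Nat.card ψ.ker ∣ p ^ n.factorization p * m := by rw [hsplit]; exact Subgroup.card_subgroup_dvd_card _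
    exact (Nat.Coprime.pow_right _ ((hp.out.coprime_iff_not_dvd.mpr hNp).symm)).dvd_of_dvd_mul_left h3
  have h4 := ψ.ker.card_mul_index
  rw [hcardP, mul_comm (Nat.card ψ.ker)]
  refine Nat.dvd_antisymm ?_ (h4 ▸ mul_comm (Nat.card ψ.ker) ψ.ker.index ▸ Nat.mul_dvd_mul_right hidx _)
  calc p ^ n.factorization p * Nat.card ψ.ker ∣ p ^ n.factorization p * m := Nat.mul_dvd_mul_left _ h2
    _ = n := hsplit

theorem cross {G : Type u} [CommGroup G] {a b c d e f g h : G}
    (H : a * b * (c * d) = e * f * (g * h)) : a * e⁻¹ * (b * f⁻¹) = g * c⁻¹ * (h * d⁻¹) := by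
  rw [← div_eq_mul_inv, ← div_eq_mul_inv, ← div_eq_mul_inv, ← div_eq_mul_inv, div_mul_div_comm,
    div_mul_div_comm, div_eq_div_iff_mul_eq_mul, H, mul_comm (e * f)]

/-- The automorphism group of the quaternion group of order eight is small. -/
theorem card_aut_q8 {T : Type u} [Group T] [Finite T] (e : T ≃* QuaternionGroup (2 ^ 1)) :
    Nat.card (MulAut T) ≤ 24 := by
  classical
  have h2 : (2 : ℕ) ^ 1 = 2 := rfl
  let e' : T ≃* QuaternionGroup 2 := e
  have h24 := Zassenhaus.q8_table.2.1
  rw [← Nat.card_eq_fintype_card] at h24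
  rw [← h24]
  let i := e'.symm (QuaternionGroup.a 1)
  let j := e'.symm (QuaternionGroup.xa 0)
  have htab : QuaternionGroup.a 1 * QuaternionGroup.a 1 ≠ (1 : QuaternionGroup 2) ∧
      QuaternionGroup.xa 0 * QuaternionGroup.xa 0 ≠ (1 : QuaternionGroup 2) ∧
      QuaternionGroup.a 1 * QuaternionGroup.xa 0 ≠
        (QuaternionGroup.xa 0 * QuaternionGroup.a 1 : QuaternionGroup 2) ∧
      ∀ x : QuaternionGroup 2, ∃ s : Fin 4, ∃ t : Fin 2,
        x = QuaternionGroup.a 1 ^ (s : ℕ) * QuaternionGroup.xa 0 ^ (t : ℕ) := by decide +kernel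
  obtain ⟨hi, hj, hij, hgen⟩ := htab
  let F : MulAut T → {x : QuaternionGroup 2 × QuaternionGroup 2 //
      x.1 * x.1 ≠ 1 ∧ x.2 * x.2 ≠ 1 ∧ x.1 * x.2 ≠ x.2 * x.1} := fun φ =>
    ⟨((e'.symm.trans (φ.trans e')) (QuaternionGroup.a 1), (e'.symm.trans (φ.trans e')) (QuaternionGroup.xa 0)),
      by
        refine ⟨fun h => hi ?_, fun h => hj ?_, fun h => hij ?_⟩ <;>
          refine (e'.symm.trans (φ.trans e')).injective ?_
        · rw [map_mul, map_one]; exact h
        · rw [map_mul, map_one]; exact h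
        · rw [map_mul, map_mul]; exact h⟩
  refine Nat.card_le_card_of_injective F fun φ φ' h => ?_
  have h1 := congrArg (fun x => x.1.1) h
  have h2 := congrArg (fun x => x.1.2) h
  ext t
  obtain ⟨s, s', hs⟩ := hgen (e' t)
  have ht : t = e'.symm (QuaternionGroup.a 1) ^ (s : ℕ) * e'.symm (QuaternionGroup.xa 0) ^ (s' : ℕ) := by
    rw [← map_pow, ← map_pow, ← map_mul, ← hs, MulEquiv.symm_apply_apply]
  have h1' : φ (e'.symm (QuaternionGroup.a 1)) = φ' (e'.symm (QuaternionGroup.a 1)) := e'.injective h1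
  have h2' : φ (e'.symm (QuaternionGroup.xa 0)) = φ' (e'.symm (QuaternionGroup.xa 0)) := e'.injective h2
  rw [ht, map_mul, map_mul, map_pow, map_pow, map_pow, map_pow, h1', h2']

section Main

variable {Q : Type u} [Group Q] [Finite Q] [Group.IsSolvable Q] {M : Type v} [CommGroup M]
  [Finite M] [Nontrivial M] {p : ℕ} [hp : Fact p.Prime]

/-- The action by conjugation on a core. -/
noncomputable def coreAct (r : ℕ) : Q →* MulAut (Cfsg.pCore r Q) :=
  haveI : (Cfsg.pCore r Q).Normal := Subgroup.normal_of_characteristic _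
  MulAut.conjNormal

theorem coreAct_eq_one {r : ℕ} {g : Q} (h : coreAct r g = 1) {y : Q} (hy : y ∈ Cfsg.pCore r Q) :
    g * y = y * g := by
  haveI : (Cfsg.pCore r Q).Normal := Subgroup.normal_of_characteristic _
  have h1 := congrArg Subtype.val (DFunLike.congr_fun h ⟨y, hy⟩)
  simp only [coreAct, MulAut.one_apply] at h1
  rw [MulAut.conjNormal_apply] at h1
  exact mul_inv_eq_iff_eq_mul.mp h1

omit [Nontrivial M] in
/-- A `p`-element centralising all cores is trivial. -/
theorem eq_one_of_centralises (hcore : Cfsg.pCore p Q = ⊥) {g : Q} {k : ℕ} (hg : g ^ p ^ k = 1)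
    (h : ∀ r : ℕ, r.Prime → coreAct r g = 1) : g = 1 := by
  set F := Cfsg.fittingSubgroup Q with hF
  have hgF : g ∈ F := by
    refine Basics.centralizer_fittingSubgroup_le ?_
    rw [Basics.fittingSubgroup_eq_iSup_pCore]
    have hle : (⨆ r : Nat.Primes, Cfsg.pCore (r : ℕ) Q) ≤ Subgroup.centralizer ({g} : Set Q) :=
      iSup_le fun r y hy => Subgroup.mem_centralizer_singleton_iff.mpr (coreAct_eq_one (h r r.2) hy).symm
    exact Subgroup.mem_centralizer_iff.mpr fun y hy =>
      Subgroup.mem_centralizer_singleton_iff.mp (hle hy)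
  haveI : F.Normal := by rw [hF, Basics.fittingSubgroup_eq_iSup_pCore]; infer_instance
  obtain ⟨P, hP⟩ : ∃ P : Sylow p F, (⟨g, hgF⟩ : F) ∈ (P : Subgroup F) := by
    have hz : IsPGroup p (Subgroup.zpowers (⟨g, hgF⟩ : F)) := by
      refine IsPGroup.of_card (n := Nat.log p (orderOf g)) ?_
      obtain ⟨j, -, hj⟩ := (Nat.dvd_prime_pow hp.out).mp (orderOf_dvd_of_pow_eq_one hg)
      rw [Nat.card_zpowers, Subgroup.orderOf_mk, hj, Nat.log_pow hp.out.one_lt]
    obtain ⟨P, hP⟩ := hz.exists_le_sylow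
    exact ⟨P, hP (Subgroup.mem_zpowers _)⟩
  haveI : (P : Subgroup F).Characteristic := P.characteristic_of_normal inferInstance
  have hn : ((P : Subgroup F).map F.subtype).Normal := ConjAct.normal_of_characteristic_of_normal
  have h1 : g ∈ Cfsg.pCore p Q :=
    Basics.le_pCore (P.isPGroup'.map F.subtype) ⟨⟨g, hgF⟩, hP, rfl⟩
  rwa [hcore, Subgroup.mem_bot] at h1

variable (hexp : ∀ m : M, m ^ p = 1) (α : Q →* MulAut M) (hinj : Function.Injective α)
  (htrans : ∀ v w : M, v ≠ 1 → w ≠ 1 → ∃ g, α g v = w)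
  (hstab : ∀ (g : Q) (v : M), v ≠ 1 → α g v = v → ∃ k : ℕ, g ^ p ^ k = 1)
  (hcore : Cfsg.pCore p Q = ⊥)

include hexp hstab hcore in
theorem core_cases (r : ℕ) (hr : r.Prime) :
    IsCyclic (Cfsg.pCore r Q) ∨
      (r ≠ p ∧ r = 2 ∧ ∃ n : ℕ, Nonempty (Cfsg.pCore r Q ≃* QuaternionGroup (2 ^ n))) := by
  haveI := Fact.mk hr
  rcases eq_or_ne r p with rfl | hrp
  · rw [hcore]; exact Or.inl inferInstance
  · exact (cyclic_or_quaternion hexp α hstab hrp _ (Basics.pCore_isPGroup r)).imp_right
      fun h => ⟨hrp, h⟩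

include hexp hstab hcore in
/-- The Sylow subgroup is commutative. -/
theorem sylow_commutative (P : Sylow p Q) : IsMulCommutative (P : Subgroup Q) := by
  refine ⟨⟨fun x y => Subtype.ext ?_⟩⟩
  show (x : Q) * y = y * x
  obtain ⟨k, hk⟩ : ∃ k : ℕ, (((x * y) * (y * x)⁻¹ : P) : Q) ^ p ^ k = 1 := by
    obtain ⟨k, hk⟩ := P.isPGroup' ((x * y) * (y * x)⁻¹)
    exact ⟨k, by rw [← SubmonoidClass.coe_pow, hk, OneMemClass.coe_one]⟩
  have := eq_one_of_centralises hcore hk fun r hr => by
    haveI := Fact.mk hr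
    have hcomm : coreAct r (x : Q) * coreAct r (y : Q) = coreAct r (y : Q) * coreAct r (x : Q) := by
      rcases core_cases hexp α hstab hcore r hr with hc | ⟨hrp, rfl, n, ⟨e⟩⟩
      · haveI := hc
        letI := IsCyclic.commGroup (α := Cfsg.pCore r Q)
        obtain ⟨c, hcgen⟩ := IsCyclic.exists_generator (α := Cfsg.pCore r Q)
        have hφ : ∀ φ : MulAut (Cfsg.pCore r Q), ∃ i : ℤ, ∀ t, φ t = t ^ i := fun φ => by
          obtain ⟨i, hi⟩ := Subgroup.mem_zpowers_iff.mp (hcgen (φ c))
          refine ⟨i, fun t => ?_⟩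
          obtain ⟨j, rfl⟩ := Subgroup.mem_zpowers_iff.mp (hcgen t)
          rw [map_zpow, ← hi, ← zpow_mul, ← zpow_mul, mul_comm]
        obtain ⟨i, hi⟩ := hφ (coreAct r (x : Q))
        obtain ⟨j, hj⟩ := hφ (coreAct r (y : Q))
        ext t
        simp only [MulAut.mul_apply, hi, hj, ← zpow_mul, mul_comm]
      · -- the image of `P` is a small group of odd order
        set f := coreAct (Q := Q) 2 |>.comp (P : Subgroup Q).subtype
        have hRp : IsPGroup p f.range := P.isPGroup'.of_surjective f.rangeRestrict f.rangeRestrict_surjective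
        have hodd : ∀ φ ∈ f.range, Odd (orderOf φ) := fun φ hφ => by
          obtain ⟨j, hj⟩ := hRp ⟨φ, hφ⟩
          have h1 : φ ^ p ^ j = 1 := congrArg Subtype.val hj
          exact ((hp.out.odd_of_ne_two fun h => hrp h.symm).pow).of_dvd_nat (orderOf_dvd_of_pow_eq_one h1)
        by_cases hn : n = 1
        · subst hn
          obtain ⟨j, hj⟩ := IsPGroup.iff_card.mp hRp
          have h24 : Nat.card f.range ≤ 24 :=
            (Subgroup.card_le_card_group _).trans (card_aut_q8 e)
          have hp3 : 3 ≤ p := by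
            have := hp.out.two_le
            omega
          have hj2 : j ≤ 2 := by
            by_contra hcon
            have h27 : 3 ^ 3 ≤ p ^ j :=
              (Nat.pow_le_pow_left hp3 3).trans (Nat.pow_le_pow_right (by omega) (by omega))
            omega
          have hc : ∀ a b : f.range, a * b = b * a := by
            haveI : IsMulCommutative f.range := by
              interval_cases j
              · haveI : Subsingleton f.range := (Nat.card_eq_one_iff_unique.mp (by rw [hj, pow_zero])).1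
                exact ⟨⟨fun a b => Subsingleton.elim _ _⟩⟩
              · haveI : IsCyclic f.range := isCyclic_of_prime_card (p := p) (by rw [hj, pow_one])
                letI := IsCyclic.commGroup (α := f.range)
                exact ⟨⟨mul_comm⟩⟩
              · exact ⟨⟨IsPGroup.commutative_of_card_eq_prime_sq hj⟩⟩
            exact fun a b => mul_comm' a b
          exact congrArg Subtype.val (hc ⟨_, x, rfl⟩ ⟨_, y, rfl⟩)
        · have h1 : ∀ φ ∈ f.range, φ = 1 := fun φ hφ => by
            by_contra hne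
            exact hn (Zassenhaus.quaternion_n_eq_one e φ (hodd φ hφ) hne)
          rw [show coreAct 2 (x : Q) = 1 from h1 _ ⟨x, rfl⟩, show coreAct 2 (y : Q) = 1 from h1 _ ⟨y, rfl⟩]
    show coreAct r ((x : Q) * y * ((y : Q) * x)⁻¹) = 1
    rw [map_mul, map_inv, map_mul, map_mul, hcomm, mul_inv_cancel]
  exact mul_inv_eq_one.mp this

include hexp hinj htrans hstab hcore in
/-- The normal complement. -/
theorem complement : HasNormalPComplement p Q := by
  classical
  haveI := Fintype.ofFinite M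
  by_cases hall : ∀ (x : Q) (r : ℕ), r.Prime → (∃ k : ℕ, x ^ p ^ k = 1) →
      ¬ IsCyclic (Cfsg.pCore r Q) → coreAct r x = 1
  · -- the derived group centralises the cyclic cores
    refine hasNormalPComplement_of_commutator fun hd => ?_
    obtain ⟨g, hg⟩ := exists_prime_orderOf_dvd_card' (G := commutator Q) p hd
    rw [← Subgroup.orderOf_coe] at hg
    have hgk : (g : Q) ^ p ^ 1 = 1 := by rw [pow_one, ← hg, pow_orderOf_eq_one]
    have h1 : (g : Q) = 1 := eq_one_of_centralises hcore hgk fun r hr => by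
      by_cases hc : IsCyclic (Cfsg.pCore r Q)
      · haveI := hc
        letI := IsCyclic.commGroup (α := Cfsg.pCore r Q)
        obtain ⟨c, hcgen⟩ := IsCyclic.exists_generator (α := Cfsg.pCore r Q)
        have hcomm : ∀ φ ψ : MulAut (Cfsg.pCore r Q), φ * ψ = ψ * φ := fun φ ψ => by
          obtain ⟨i, hi⟩ := Subgroup.mem_zpowers_iff.mp (hcgen (φ c))
          obtain ⟨j, hj⟩ := Subgroup.mem_zpowers_iff.mp (hcgen (ψ c))
          ext t
          obtain ⟨l, rfl⟩ := Subgroup.mem_zpowers_iff.mp (hcgen t)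
          simp only [MulAut.mul_apply, map_zpow, ← hi, ← hj, ← zpow_mul, mul_comm, mul_left_comm]
        have hle : commutator Q ≤ (coreAct (Q := Q) r).ker := by
          rw [_root_.commutator_def, Subgroup.commutator_le]
          intro a _ b _
          rw [MonoidHom.mem_ker, commutatorElement_def, map_mul, map_mul, map_mul, map_inv, map_inv,
            hcomm (coreAct r a), mul_assoc (coreAct r b), mul_inv_cancel, mul_one, mul_inv_cancel]
        exact MonoidHom.mem_ker.mp (hle g.2)
      · exact hall _ r hr ⟨1, hgk⟩ hc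
    rw [h1, orderOf_one] at hg
    exact hp.out.one_lt.ne hg
  -- the exceptional case
  push Not at hall
  obtain ⟨x, r, hr, ⟨k, hxk⟩, hnc, hx⟩ := hall
  obtain ⟨hrp, rfl, n, ⟨e⟩⟩ := (core_cases hexp α hstab hcore r hr).resolve_left hnc
  have hp2 : Odd p := hp.out.odd_of_ne_two fun h => hrp h.symm
  have hxodd : Odd (orderOf (coreAct 2 x)) :=
    (hp2.pow (n := k)).of_dvd_nat (orderOf_dvd_of_pow_eq_one (by rw [← map_pow, hxk, map_one]))
  obtain rfl : n = 1 := Zassenhaus.quaternion_n_eq_one e _ hxodd hx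
  set T := Cfsg.pCore 2 Q with hT
  haveI hTn : T.Normal := Subgroup.normal_of_characteristic _
  have hTcard : Nat.card T = 8 := by
    rw [Nat.card_congr e.toEquiv]; rw [Nat.card_eq_fintype_card]; rfl
  have hTfpf : ∀ t ∈ T, ∀ v : M, v ≠ 1 → α t v = v → t = 1 := fun t ht v hv hf => by
    obtain ⟨j, hj⟩ := Basics.pCore_isPGroup (G := Q) 2 ⟨t, ht⟩
    exact fpf α hstab Nat.prime_two hrp (congrArg Subtype.val hj) hf hv
  let e' : T ≃* QuaternionGroup 2 := e
  have htab : (QuaternionGroup.xa 0 * QuaternionGroup.xa 0 = (QuaternionGroup.a 1 * QuaternionGroup.a 1 :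
      QuaternionGroup 2)) ∧ (QuaternionGroup.a 1 * QuaternionGroup.a 1 ≠ (1 : QuaternionGroup 2)) ∧
      (QuaternionGroup.a 1 * QuaternionGroup.a 1 * (QuaternionGroup.a 1 * QuaternionGroup.a 1) =
        (1 : QuaternionGroup 2)) ∧
      (QuaternionGroup.xa 0 * QuaternionGroup.a 1 = (QuaternionGroup.a 1 * QuaternionGroup.a 1 *
        (QuaternionGroup.a 1 * QuaternionGroup.xa 0) : QuaternionGroup 2)) ∧
      ∀ y : QuaternionGroup 2, ∃ s : Fin 4, ∃ t : Fin 2,
        y = QuaternionGroup.a 1 ^ (s : ℕ) * QuaternionGroup.xa 0 ^ (t : ℕ) := by decide +kernel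
  obtain ⟨hjj, hz1, hzz, hji, hgen⟩ := htab
  set i := e'.symm (QuaternionGroup.a 1) with hi
  set j := e'.symm (QuaternionGroup.xa 0) with hj
  -- the central involution inverts
  set z : Q := ((i * i : T) : Q) with hz
  have hzne : z ≠ 1 := fun h => hz1 (by
    have h' : i * i = 1 := Subtype.ext h
    have := congrArg e' h'
    rwa [map_mul, hi, e'.apply_symm_apply, map_one] at this)
  have hzsq : z * z = 1 := by
    have : (i * i) * (i * i) = 1 := e'.injective (by
      simp only [map_mul, map_one, hi, e'.apply_symm_apply, hzz])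
    exact congrArg Subtype.val this
  have hinv : ∀ v : M, α z v = v⁻¹ := by
    intro v
    have h1 : α z (α z v * v) = α z v * v := by
      rw [map_mul, ← MulAut.mul_apply, ← map_mul, hzsq, map_one, MulAut.one_apply, mul_comm]
    by_contra hne
    exact hzne (hTfpf z (i * i).2 _ (fun h => hne (eq_inv_of_mul_eq_one_left h)) h1)
  let I : MulAut M := α (i : Q)
  let J : MulAut M := α (j : Q)
  have hII : ∀ v, I (I v) = v⁻¹ := fun v => by
    rw [← hinv v]; show α _ (α _ v) = _; rw [← MulAut.mul_apply, ← map_mul]; rfl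
  have hJJ : ∀ v, J (J v) = v⁻¹ := fun v => by
    have : j * j = i * i := e'.injective (by simp only [map_mul, hi, hj, e'.apply_symm_apply, hjj])
    rw [← hinv v]; show α _ (α _ v) = _
    rw [← MulAut.mul_apply, ← map_mul, ← Subgroup.coe_mul, this]
  have hJI : ∀ v, J (I v) = (I (J v))⁻¹ := fun v => by
    have : j * i = i * i * (i * j) := e'.injective (by
      simp only [map_mul, hi, hj, e'.apply_symm_apply, hji])
    show α _ (α _ v) = _
    rw [← MulAut.mul_apply, ← map_mul, ← Subgroup.coe_mul, this, Subgroup.coe_mul, map_mul,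
      MulAut.mul_apply, hinv]
    rw [Subgroup.coe_mul, map_mul, MulAut.mul_apply]
  -- the prime is three
  obtain rfl : p = 3 := by
    obtain ⟨l, -, hl⟩ := (Nat.dvd_prime_pow hp.out).mp (orderOf_dvd_of_pow_eq_one
      (show coreAct 2 x ^ p ^ k = 1 by rw [← map_pow, hxk, map_one]))
    let A := Subgroup.zpowers (coreAct 2 x)
    have hA : IsPGroup p A := IsPGroup.of_card (n := l) (by rw [Nat.card_zpowers, hl])
    have hmod := hA.card_modEq_card_fixedPoints T
    let F : Subgroup T :=
      { carrier := {t | coreAct 2 x t = t}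
        one_mem' := map_one _
        mul_mem' := fun {a b} ha hb => by
          show coreAct 2 x (a * b) = a * b
          rw [map_mul, ha, hb]
        inv_mem' := fun {a} ha => by
          show coreAct 2 x a⁻¹ = a⁻¹
          rw [map_inv, ha] }
    have hF : Nat.card (MulAction.fixedPoints A T) = Nat.card F :=
      Nat.card_congr (Equiv.subtypeEquivRight fun t => ⟨fun h => h ⟨_, Subgroup.mem_zpowers _⟩,
        fun h a => by
          obtain ⟨m, hm⟩ := Subgroup.mem_zpowers_iff.mp a.2
          show (a : MulAut T) t = t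
          rw [← hm]
          exact Subgroup.zpow_mem (MulAction.stabilizer (MulAut T) t) h m⟩)
    rw [hF, hTcard] at hmod
    have hinvol : ∀ y : QuaternionGroup 2, y * y = 1 → y = 1 ∨ y = QuaternionGroup.a 1 * QuaternionGroup.a 1 := by
      decide +kernel
    have hzF : i * i ∈ F := by
      show coreAct 2 x (i * i) = i * i
      have h1 : coreAct 2 x (i * i) * coreAct 2 x (i * i) = 1 := by
        rw [← map_mul, show i * i * (i * i) = 1 from Subtype.ext hzsq, map_one]
      rcases hinvol (e' (coreAct 2 x (i * i))) (by rw [← map_mul, h1, map_one]) with h2 | h2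
      · rw [MulEquiv.map_eq_one_iff, MulEquiv.map_eq_one_iff] at h2
        exact absurd (congrArg Subtype.val h2) hzne
      · apply e'.injective
        rw [h2, map_mul, hi, e'.apply_symm_apply]
    have h2F : 2 ∣ Nat.card F := by
      rw [← orderOf_eq_prime (x := (⟨i * i, hzF⟩ : F)) (p := 2)
        (by rw [pow_two]; exact Subtype.ext (Subtype.ext hzsq))
        (fun h => hzne (congrArg (fun f : F => (((f : T)) : Q)) h))]
      exact orderOf_dvd_natCard _
    have hF8 : Nat.card F ∣ 8 := hTcard ▸ Subgroup.card_subgroup_dvd_card F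
    have hne8 : Nat.card F ≠ 8 := fun h => hx (MulEquiv.ext fun t =>
      (Subgroup.eq_top_of_card_eq F (h.trans hTcard.symm)).ge (Subgroup.mem_top t))
    obtain ⟨m, hm, hmF⟩ := (Nat.dvd_prime_pow Nat.prime_two).mp (show Nat.card F ∣ 2 ^ 3 from hF8)
    have hpd : p ∣ 8 - Nat.card F := (Nat.modEq_iff_dvd' (Nat.le_of_dvd (by omega) hF8)).mp hmod.symm
    have hp3 : 3 ≤ p := by
      have := hp.out.two_le
      omega
    interval_cases m
    · rw [hmF] at h2F; norm_num at h2F
    · rw [hmF] at hpd; norm_num at hpd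
      have h6 := Nat.le_of_dvd (by norm_num) hpd
      interval_cases p <;> first | rfl | omega | exact absurd hp.out (by norm_num)
    · rw [hmF] at hpd; norm_num at hpd
      have h4 := Nat.le_of_dvd (by norm_num) hpd
      interval_cases p <;> first | rfl | omega | exact absurd hp.out (by norm_num)
    · exact absurd hmF hne8
  -- spans
  let W : M → Subgroup M := fun v =>
    { carrier := {y | ∃ a b : ℕ, y = v ^ a * I v ^ b}
      one_mem' := ⟨0, 0, by simp⟩
      mul_mem' := fun {y y'} ⟨a, b, h⟩ ⟨a', b', h'⟩ =>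
        ⟨a + a', b + b', by rw [h, h', pow_add, pow_add, mul_mul_mul_comm]⟩
      inv_mem' := fun {y} ⟨a, b, h⟩ => ⟨a * 2, b * 2, by
        rw [h, pow_mul, pow_mul, ← mul_pow]
        refine inv_eq_of_mul_eq_one_right ?_
        rw [← pow_succ']
        exact hexp _⟩ }
  have hmem : ∀ v y, y ∈ W v ↔ ∃ a b : ℕ, y = v ^ a * I v ^ b := fun v y => Iff.rfl
  have hself : ∀ v, v ∈ W v ∧ I v ∈ W v := fun v => ⟨⟨1, 0, by simp⟩, ⟨0, 1, by simp⟩⟩
  have hWI : ∀ v y, y ∈ W v → I y ∈ W v := by
    rintro v y ⟨a, b, rfl⟩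
    rw [map_mul, map_pow, map_pow, hII]
    exact (W v).mul_mem ((W v).pow_mem (hself v).2 a) ((W v).pow_mem ((W v).inv_mem (hself v).1) b)
  have hmod3 : ∀ (v : M) (a : ℕ), v ^ a = v ^ (a % 3) := fun v a => pow_eq_pow_mod a (hexp v)
  have hcard9 : ∀ v, Nat.card (W v) ≤ 9 := by
    intro v
    refine le_trans (Nat.card_le_card_of_surjective (α := Fin 3 × Fin 3)
      (fun ab => (⟨v ^ (ab.1 : ℕ) * I v ^ (ab.2 : ℕ), _, _, rfl⟩ : W v)) ?_) (by simp)
    rintro ⟨y, a, b, rfl⟩
    exact ⟨(⟨a % 3, Nat.mod_lt _ (by norm_num)⟩, ⟨b % 3, Nat.mod_lt _ (by norm_num)⟩),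
      Subtype.ext (by show v ^ (a % 3) * I v ^ (b % 3) = _; rw [← hmod3, ← hmod3])⟩
  have hindep : ∀ v : M, v ≠ 1 → ∀ a b : ℕ, v ^ a * I v ^ b = 1 → a % 3 = 0 ∧ b % 3 = 0 := by
    intro v hv a b h
    have hv2 : v ^ 2 ≠ 1 := fun h2 => hv (eq_one_of_pow hexp (by norm_num) h2)
    have h3 := hexp v
    have hIv : ∀ c : ℕ, I v ≠ v ^ c := by
      intro c hc
      have h4 : v ^ (c * c + 1) = 1 := by
        have h5 := hII v
        rw [hc, map_pow, hc, ← pow_mul] at h5
        rw [pow_succ, h5, inv_mul_cancel]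
      rw [hmod3] at h4
      have h6 : (c * c + 1) % 3 = 1 ∨ (c * c + 1) % 3 = 2 := by
        have := Nat.mod_lt c (show 3 > 0 by norm_num)
        rw [Nat.add_mod, Nat.mul_mod]
        interval_cases (c % 3) <;> simp
      rcases h6 with h6 | h6 <;> rw [h6] at h4
      · exact hv (by simpa using h4)
      · exact hv2 h4
    have hb3 := Nat.mod_lt b (show 3 > 0 by norm_num)
    rw [hmod3 v a, hmod3 (I v) b] at h
    have hb : b % 3 = 0 := by
      by_contra hb
      have h7 : b % 3 = 1 ∨ b % 3 = 2 := by omega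
      rcases h7 with h7 | h7 <;> rw [h7] at h
      · refine hIv (a % 3 * 2) ?_
        rw [pow_one] at h
        rw [pow_mul, eq_inv_of_mul_eq_one_right h]
        exact inv_eq_of_mul_eq_one_right (by rw [← pow_succ']; exact hexp _)
      · refine hIv (a % 3) ?_
        have h8 : I v ^ 2 = (I v)⁻¹ := (inv_eq_of_mul_eq_one_right (by rw [← pow_succ']; exact hexp _)).symm
        rw [h8, mul_inv_eq_one] at h
        exact h.symm
    rw [hb, pow_zero, mul_one] at h
    refine ⟨?_, hb⟩
    by_contra ha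
    exact hv (eq_one_of_pow hexp (fun hd => ha (by
      have := Nat.mod_lt a (show 3 > 0 by norm_num)
      have := Nat.le_of_dvd (by omega) hd
      omega)) h)
  have hcard_eq : ∀ v : M, v ≠ 1 → Nat.card (W v) = 9 := by
    intro v hv
    refine le_antisymm (hcard9 v) (le_trans (by simp) (Nat.card_le_card_of_injective
      (α := Fin 3 × Fin 3) (fun ab => (⟨v ^ (ab.1 : ℕ) * I v ^ (ab.2 : ℕ), _, _, rfl⟩ : W v))
      fun ab cd h => ?_))
    have h1 : v ^ (ab.1 : ℕ) * I v ^ (ab.2 : ℕ) = v ^ (cd.1 : ℕ) * I v ^ (cd.2 : ℕ) :=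
      congrArg Subtype.val h
    have h2 := hindep v hv ((ab.1 : ℕ) + 2 * (cd.1 : ℕ)) ((ab.2 : ℕ) + 2 * (cd.2 : ℕ)) (by
      rw [pow_add, pow_add, mul_mul_mul_comm, h1, ← mul_mul_mul_comm, ← pow_add, ← pow_add,
        show (cd.1 : ℕ) + 2 * (cd.1 : ℕ) = 3 * (cd.1 : ℕ) by ring,
        show (cd.2 : ℕ) + 2 * (cd.2 : ℕ) = 3 * (cd.2 : ℕ) by ring, pow_mul, pow_mul, hexp, hexp,
        one_pow, one_pow, one_mul])
    exact Prod.ext (Fin.ext (by omega)) (Fin.ext (by omega))
  have hWeq : ∀ v y : M, y ≠ 1 → y ∈ W v → W y = W v := by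
    intro v y hy hyW
    refine Subgroup.eq_of_le_of_card_ge ?_ ((hcard9 v).trans_eq (hcard_eq y hy).symm)
    rintro u ⟨a, b, rfl⟩
    exact (W v).mul_mem ((W v).pow_mem hyW a) ((W v).pow_mem (hWI v y hyW) b)
  -- every vector spans an invariant plane
  have hJW : ∀ v, J v ∈ W v := by
    have hT : ∀ v, J v ∈ W v → ∀ t : T, ∀ y ∈ W v, α (t : Q) y ∈ W v := by
      intro v hv t y hy
      have hJ : ∀ y ∈ W v, J y ∈ W v := by
        rintro y ⟨a, b, rfl⟩
        rw [map_mul, map_pow, map_pow, hJI]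
        exact (W v).mul_mem ((W v).pow_mem hv a) ((W v).pow_mem ((W v).inv_mem (hWI v _ hv)) b)
      let S : Subgroup T :=
        { carrier := {t | ∀ y ∈ W v, α (t : Q) y ∈ W v}
          one_mem' := fun y hy => by rw [OneMemClass.coe_one, map_one]; exact hy
          mul_mem' := fun {s t} hs ht y hy => by
            rw [Subgroup.coe_mul, map_mul, MulAut.mul_apply]; exact hs _ (ht y hy)
          inv_mem' := fun {s} hs y hy => by
            obtain ⟨u, hu, hue⟩ : ∃ u ∈ W v, α (s : Q) u = y := by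
              have hinjS : Function.Injective (fun u : W v => (⟨α (s : Q) u, hs u u.2⟩ : W v)) :=
                fun a b h => Subtype.ext ((α (s : Q)).injective (congrArg Subtype.val h))
              obtain ⟨u, hu⟩ := Finite.surjective_of_injective hinjS ⟨y, hy⟩
              exact ⟨u, u.2, congrArg Subtype.val hu⟩
            rw [← hue, ← MulAut.mul_apply, ← map_mul, Subgroup.coe_inv, inv_mul_cancel, map_one]
            exact hu }
      obtain ⟨s, s', hs⟩ := hgen (e' t)
      have ht : t = i ^ (s : ℕ) * j ^ (s' : ℕ) := by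
        rw [hi, hj, ← map_pow, ← map_pow, ← map_mul, ← hs, MulEquiv.symm_apply_apply]
      have hmem' : t ∈ S := ht ▸ S.mul_mem (S.pow_mem (fun y hy => hWI v y hy) _) (S.pow_mem hJ _)
      exact hmem' y hy
    -- one such vector
    obtain ⟨v₀, hv₀⟩ := exists_ne (1 : M)
    obtain ⟨v, hv, hvJ⟩ : ∃ v : M, v ≠ 1 ∧ J v ∈ W v := by
      have key : ∀ (w : M) (c : ℕ), I w * J w = w ^ c → J w ∈ W w := fun w c h => by
        rw [show J w = (I w)⁻¹ * w ^ c by rw [← h, inv_mul_cancel_left]]
        exact (W w).mul_mem ((W w).inv_mem (hself w).2) ((W w).pow_mem (hself w).1 c)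
      set u := I v₀ * J v₀ with hu
      have hSS : I u * J u = v₀ := by
        rw [hu, map_mul, map_mul, hII, hJJ, hJI]
        calc v₀⁻¹ * I (J v₀) * ((I (J v₀))⁻¹ * v₀⁻¹) = v₀⁻¹ * v₀⁻¹ := by group
          _ = v₀ := by
            rw [← mul_inv, ← pow_two]
            exact inv_eq_of_mul_eq_one_left (by rw [← pow_succ']; exact hexp _)
      by_cases hw : v₀ * u = 1
      · exact ⟨v₀, hv₀, key v₀ 2 (by
          rw [← hu, eq_inv_of_mul_eq_one_right hw]
          exact inv_eq_of_mul_eq_one_right (by rw [← pow_succ']; exact hexp _))⟩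
      · refine ⟨v₀ * u, hw, key _ 1 ?_⟩
        rw [map_mul I v₀ u, map_mul J v₀ u, mul_mul_mul_comm, hSS, ← hu, pow_one, mul_comm]
    intro y
    rcases eq_or_ne y 1 with rfl | hy
    · rw [map_one]; exact (W 1).one_mem
    obtain ⟨g, rfl⟩ := htrans v y hv hy
    set U := (W v).map (α g).toMonoidHom with hU
    have hUinv : ∀ t : T, ∀ u ∈ U, α (t : Q) u ∈ U := by
      rintro t _ ⟨u, hu, rfl⟩
      refine ⟨_, hT v hvJ ⟨g⁻¹ * (t : Q) * g, by simpa using hTn.conj_mem _ t.2 g⁻¹⟩ u hu, ?_⟩
      show α g (α (g⁻¹ * (t : Q) * g) u) = α (t : Q) (α g u)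
      rw [← MulAut.mul_apply, ← map_mul, ← MulAut.mul_apply, ← map_mul]
      congr 2
      group
    have hgU : α g v ∈ U := ⟨v, (hself v).1, rfl⟩
    have hWU : W (α g v) = U := by
      refine Subgroup.eq_of_le_of_card_ge ?_ ?_
      · rintro u ⟨a, b, rfl⟩
        exact U.mul_mem (U.pow_mem hgU a) (U.pow_mem (hUinv i _ hgU) b)
      · rw [hcard_eq _ hy, hU, Subgroup.card_map_of_injective (f := (α g).toMonoidHom) (α g).injective]
        exact hcard9 v
    rw [hWU]
    exact hUinv j _ hgU
  obtain ⟨v, hv⟩ := exists_ne (1 : M)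
  have htop : ∀ y, y ∈ W v := by
    by_contra hcon
    push Not at hcon
    obtain ⟨w, hw⟩ := hcon
    have hw1 : w ≠ 1 := fun h => hw (h ▸ (W v).one_mem)
    have hdisj : ∀ v' : M, W v' = W v → ∀ y, y ∈ W v' → y ∈ W w → y = 1 := by
      intro v' hv' y h1 h2
      by_contra hy
      exact hw (by rw [← hv', ← hWeq v' y hy h1, hWeq w y hy h2]; exact (hself w).1)
    obtain ⟨c, d, hcd⟩ := hJW w
    have hcoef : ∀ v' : M, v' ≠ 1 → W v' = W v → J v' = v' ^ c * I v' ^ d := by
      intro v' hv' hW'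
      obtain ⟨a, b, hab⟩ := hJW v'
      have hvw : v' * w ≠ 1 := fun h => hw (by
        rw [← hW', eq_inv_of_mul_eq_one_right h]; exact (W v').inv_mem (hself v').1)
      obtain ⟨e, f, hef⟩ := hJW (v' * w)
      rw [map_mul, map_mul, hab, hcd, mul_pow, mul_pow] at hef
      have h1 : v' ^ (a + 2 * e) * I v' ^ (b + 2 * f) = w ^ (e + 2 * c) * I w ^ (f + 2 * d) := by
        have h3 : ∀ (y : M) (n : ℕ), y ^ (2 * n) = (y ^ n)⁻¹ := fun y n => by
          refine (inv_eq_of_mul_eq_one_right ?_).symm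
          rw [← pow_add, show n + 2 * n = 3 * n by ring, pow_mul, hexp, one_pow]
        simp only [pow_add, h3]
        have h4 : v' ^ a * I v' ^ b * (w ^ c * I w ^ d) =
            v' ^ e * I v' ^ f * (w ^ e * I w ^ f) := by
          rw [hef]; exact mul_mul_mul_comm _ _ _ _
        exact cross h4
      have hy1 := hdisj v' hW' (v' ^ (a + 2 * e) * I v' ^ (b + 2 * f)) ⟨_, _, rfl⟩ (by rw [h1]; exact ⟨_, _, rfl⟩)
      have h5 := hindep v' hv' _ _ hy1
      have h6 := hindep w hw1 _ _ (h1.symm.trans hy1)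
      rw [hab, hmod3 v' a, hmod3 (I v') b, hmod3 v' c, hmod3 (I v') d]
      congr 2 <;> omega
    have h1 := hcoef v hv rfl
    have hIv1 : I v ≠ 1 := fun h => hv (I.injective (by rw [h, map_one]))
    have h2 := hcoef (I v) hIv1 (hWeq v _ hIv1 (hself v).2)
    rw [hJI, h1, map_mul, map_pow, map_pow] at h2
    have h7 : (I v ^ c * I (I v) ^ d) ^ 2 = 1 := by
      rw [pow_two]
      nth_rewrite 1 [← h2]
      exact inv_mul_cancel _
    have h8 : I (J v) = 1 := by
      rw [h1, map_mul, map_pow, map_pow]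
      exact eq_one_of_pow hexp (by norm_num) h7
    exact hv (J.injective (by rw [map_one]; exact I.injective (by rw [map_one]; exact h8)))
  -- the group is small
  let Stab : Subgroup Q :=
    { carrier := {g | α g v = v}
      one_mem' := by simp
      mul_mem' := fun {g g'} hg hg' => by
        show α (g * g') v = v
        rw [map_mul, MulAut.mul_apply, hg', hg]
      inv_mem' := fun {g} hg => by
        show α g⁻¹ v = v
        conv_lhs => rw [← hg]
        rw [← MulAut.mul_apply, ← map_mul, inv_mul_cancel, map_one, MulAut.one_apply] }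
  have hM9 : Nat.card M = 9 := by
    rw [← hcard_eq v hv, show W v = ⊤ from eq_top_iff.mpr fun y _ => htop y, Subgroup.card_top]
  have hS : Nat.card Stab ≤ 6 := by
    let L : Finset M := Finset.univ.image fun a : Fin 3 => v ^ (a : ℕ)
    have hL : L.card = 3 := by
      rw [Finset.card_image_of_injective _ (fun a b h => ?_), Finset.card_univ, Fintype.card_fin]
      have h' : v ^ (a : ℕ) = v ^ (b : ℕ) := h
      have := hindep v hv ((a : ℕ) + 2 * (b : ℕ)) 0 (by
        rw [pow_zero, mul_one, pow_add, h', ← pow_add, show (b : ℕ) + 2 * (b : ℕ) = 3 * (b : ℕ) by ring,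
          pow_mul, hexp, one_pow])
      exact Fin.ext (by omega)
    have hout : ∀ g : Stab, α (g : Q) (I v) ∈ (Lᶜ : Finset M) := fun g => by
      rw [Finset.mem_compl, Finset.mem_image]
      rintro ⟨a, -, ha⟩
      have h1 : I v = v ^ (a : ℕ) := (α (g : Q)).injective (by rw [map_pow, g.2, ha])
      have := hindep v hv ((a : ℕ) * 2) 1 (by
        rw [pow_one, h1, ← pow_add, show (a : ℕ) * 2 + a = 3 * (a : ℕ) by ring, pow_mul, hexp, one_pow])
      omega
    refine (Nat.card_le_card_of_injective (fun g : Stab => (⟨_, hout g⟩ : (Lᶜ : Finset M))) ?_).trans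
      (le_of_eq ?_)
    · intro g g' h
      have h1 : α (g : Q) (I v) = α (g' : Q) (I v) := congrArg Subtype.val h
      refine Subtype.ext (hinj (MulEquiv.ext fun y => ?_))
      obtain ⟨a, b, rfl⟩ := htop y
      rw [map_mul, map_mul, map_pow, map_pow, map_pow, map_pow, g.2, g'.2, h1]
    · rw [Nat.card_eq_fintype_card, Fintype.card_coe, Finset.card_compl, hL,
        ← Nat.card_eq_fintype_card, hM9]
  have hQ24 : Nat.card Q = 8 * Nat.card Stab := by
    have h1 : Nat.card (Q ⧸ Stab) = 8 := by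
      have e1 : (Q ⧸ Stab) ≃ {y : M // y ≠ 1} := Equiv.ofBijective
        (fun q => Quotient.liftOn q (fun g => (⟨α g v, fun h => hv ((α g).injective
            (h.trans (map_one _).symm))⟩ : {y : M // y ≠ 1})) fun a b hab => Subtype.ext (by
          have h2 : α (a⁻¹ * b) v = v := QuotientGroup.leftRel_apply.mp hab
          show α a v = α b v
          conv_lhs => rw [← h2]
          rw [← MulAut.mul_apply, ← map_mul, mul_inv_cancel_left]))
        ⟨fun q q' h => by
          induction q using QuotientGroup.induction_on with | _ a =>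
          induction q' using QuotientGroup.induction_on with | _ b =>
          refine QuotientGroup.eq.mpr ?_
          show α (a⁻¹ * b) v = v
          have h3 : α a v = α b v := congrArg Subtype.val h
          rw [map_mul, MulAut.mul_apply, ← h3, ← MulAut.mul_apply, ← map_mul, inv_mul_cancel,
            map_one, MulAut.one_apply],
        fun y => by
          obtain ⟨g, hg⟩ := htrans v y hv y.2
          exact ⟨(g : Q ⧸ Stab), Subtype.ext hg⟩⟩
      rw [Nat.card_congr e1, Nat.card_eq_fintype_card, Fintype.card_subtype_compl,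
        Fintype.card_subtype_eq, ← Nat.card_eq_fintype_card, hM9]
    rw [← h1]; exact Subgroup.card_eq_card_quotient_mul_card_subgroup Stab
  have hS3 : Nat.card Stab ∣ 3 := by
    have hP : IsPGroup 3 Stab := fun g => by
      obtain ⟨m, hm⟩ := hstab g v hv g.2
      exact ⟨m, Subtype.ext (by rw [SubmonoidClass.coe_pow]; exact hm)⟩
    obtain ⟨m, hm⟩ := IsPGroup.iff_card.mp hP
    rw [hm]
    rcases Nat.lt_or_ge m 2 with h | h
    · interval_cases m <;> norm_num
    · have : 3 ^ 2 ≤ 3 ^ m := Nat.pow_le_pow_right (by norm_num) h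
      omega
  have hidx : T.index ∣ 3 := by
    have h1 := T.card_mul_index
    rw [hTcard, hQ24] at h1
    rwa [Nat.eq_of_mul_eq_mul_left (by norm_num) h1]
  refine hasNormalPComplement_of_commutator fun hd => ?_
  have hle : commutator Q ≤ T := by
    haveI : IsCyclic (Q ⧸ T) := by
      rcases (Nat.dvd_prime Nat.prime_three).mp hidx with h | h
      · haveI : Subsingleton (Q ⧸ T) := (Nat.card_eq_one_iff_unique.mp h).1
        infer_instance
      · exact isCyclic_of_prime_card (p := 3) h
    letI := IsCyclic.commGroup (α := Q ⧸ T)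
    intro g hg
    have := Abelianization.commutator_subset_ker (QuotientGroup.mk' T) hg
    rwa [QuotientGroup.ker_mk'] at this
  have h := hd.trans (Subgroup.card_dvd_of_le hle)
  rw [hTcard] at h
  norm_num at h

end Main

end Cfsg.Agent.CT.TwoClassLinear
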