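import Cfsg.Agent.Lib.CT.Induced
import Mathlib.GroupTheory.GroupAction.MultipleTransitivity
import Mathlib.GroupTheory.GroupAction.SubMulAction.Combination
import Mathlib.GroupTheory.Perm.Cycle.Type

/-!
# The characters `n - 1`, `n (n - 3) / 2`, `(n - 1) (n - 2) / 2` of a four-transitive group
-/

set_option autoImplicit false
set_option linter.unusedSectionVars false

namespace Cfsg.Agent.CT.TwoSet

open MulAction

universe u v

variable (G : Type u) [Group G] [Fintype G] (α : Type v) [Finite α] [MulAction G α]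

/-- The number of embeddings which `g` permutes by `σ`. -/
noncomputable def twisted {ι : Type} (σ : Equiv.Perm ι) (g : G) : ℕ :=
  Nat.card {t : ι ↪ α // g • t = σ.toEmbedding.trans t}

theorem sum_twisted {ι : Type} [Finite ι] [IsPretransitive G (ι ↪ α)] (hne : Nonempty (ι ↪ α))
    (σ : Equiv.Perm ι) : ∑ g : G, (twisted G α σ g : ℤ) = Nat.card G := by
  classical
  haveI := Fintype.ofFinite ι
  haveI := Fintype.ofFinite α
  obtain ⟨t₀⟩ := hne
  have hfib : ∀ t u : ι ↪ α, (Finset.univ.filter fun g : G => g • t = u).card = Nat.card (stabilizer G t) := by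
    intro t u
    obtain ⟨g₀, hg₀⟩ := exists_smul_eq G t u
    rw [Nat.card_eq_fintype_card, Fintype.card_subtype]
    refine Finset.card_bij' (fun g _ => g₀⁻¹ * g) (fun g _ => g₀ * g) (fun g hg => ?_) (fun g hg => ?_)
      (fun g _ => by simp) (fun g _ => by simp)
    · simp only [Finset.mem_filter, Finset.mem_univ, true_and, mem_stabilizer_iff] at hg ⊢
      rw [mul_smul, hg, ← hg₀, inv_smul_smul]
    · simp only [Finset.mem_filter, Finset.mem_univ, true_and, mem_stabilizer_iff] at hg ⊢
      rw [mul_smul, hg, hg₀]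
  have hidx : ∀ t : ι ↪ α, Nat.card (ι ↪ α) * Nat.card (stabilizer G t) = Nat.card G := fun t => by
    rw [← index_stabilizer_of_transitive G t, Subgroup.index_mul_card]
  have h1 : ∑ g : G, twisted G α σ g = ∑ t : ι ↪ α, Nat.card (stabilizer G t) := by
    simp only [twisted, Nat.card_eq_fintype_card, Fintype.card_subtype, Finset.card_filter]
    rw [Finset.sum_comm]
    refine Finset.sum_congr rfl fun t _ => ?_
    rw [← Finset.card_filter, hfib, Nat.card_eq_fintype_card, Fintype.card_subtype, Finset.card_filter]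
  rw [← Nat.cast_sum, h1, Nat.cast_inj]
  have hpos : 0 < Nat.card (ι ↪ α) := Nat.card_pos_iff.mpr ⟨⟨t₀⟩, inferInstance⟩
  apply Nat.eq_of_mul_eq_mul_left hpos
  rw [Finset.mul_sum, Finset.sum_congr rfl fun t _ => hidx t, Finset.sum_const, Finset.card_univ,
    smul_eq_mul, ← Nat.card_eq_fintype_card]

theorem pretransitive_congr {ι κ : Type} (e : ι ≃ κ) [IsPretransitive G (ι ↪ α)] :
    IsPretransitive G (κ ↪ α) := by
  refine ⟨fun x y => ?_⟩
  obtain ⟨g, hg⟩ := exists_smul_eq G (e.toEmbedding.trans x) (e.toEmbedding.trans y)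
  refine ⟨g, Function.Embedding.ext fun k => ?_⟩
  obtain ⟨i, rfl⟩ := e.surjective k
  have := DFunLike.congr_fun hg i
  simpa using this

/-- The number of fixed points. -/
noncomputable def fixed (g : G) : ℕ := Nat.card (fixedBy α g)

/-- The number of ordered pairs interchanged by `g`. -/
noncomputable def swapped (g : G) : ℕ := twisted G α (Equiv.swap (0 : Fin 2) 1) g

theorem twisted_one (k : ℕ) (g : G) :
    twisted G α (1 : Equiv.Perm (Fin k)) g = (fixed G α g).descFactorial k := by
  classical
  haveI := Fintype.ofFinite α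
  have e : {t : Fin k ↪ α // g • t = (1 : Equiv.Perm (Fin k)).toEmbedding.trans t} ≃
      (Fin k ↪ fixedBy α g) :=
    { toFun := fun t => ⟨fun i => ⟨t.1 i, by simpa using DFunLike.congr_fun t.2 i⟩,
        fun i j h => t.1.injective (congrArg Subtype.val h)⟩
      invFun := fun t => ⟨t.trans (Function.Embedding.subtype _),
        Function.Embedding.ext fun i => (t i).2⟩
      left_inv := fun t => rfl
      right_inv := fun t => rfl }
  rw [twisted, Nat.card_congr e, Nat.card_eq_fintype_card, Fintype.card_embedding_eq, Fintype.card_fin,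
    fixed, Nat.card_eq_fintype_card]

/-- Splitting the index set. -/
def splitEquiv {ι κ : Type} (σ : Equiv.Perm ι) (π : Equiv.Perm κ) (g : G) :
    {t : ι ⊕ κ ↪ α // g • t = (Equiv.sumCongr σ π).toEmbedding.trans t} ≃
      {p : {a : ι ↪ α // g • a = σ.toEmbedding.trans a} × {b : κ ↪ α // g • b = π.toEmbedding.trans b} //
        Disjoint (Set.range p.1.1) (Set.range p.2.1)} where
  toFun t := ⟨(⟨Function.Embedding.inl.trans t.1, Function.Embedding.ext fun i => by
      simpa using DFunLike.congr_fun t.2 (Sum.inl i)⟩,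
      ⟨Function.Embedding.inr.trans t.1, Function.Embedding.ext fun i => by
      simpa using DFunLike.congr_fun t.2 (Sum.inr i)⟩), by
    rw [Set.disjoint_left]
    rintro x ⟨i, rfl⟩ ⟨j, hj⟩
    exact Sum.inl_ne_inr (t.1.injective hj).symm⟩
  invFun p := ⟨⟨Sum.elim p.1.1.1 p.1.2.1, Function.Injective.sumElim p.1.1.1.injective p.1.2.1.injective
      fun i j h => Set.disjoint_left.mp p.2 ⟨i, rfl⟩ ⟨j, h.symm⟩⟩, Function.Embedding.ext fun x => by
    cases x with
    | inl i => simpa using DFunLike.congr_fun p.1.1.2 i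
    | inr i => simpa using DFunLike.congr_fun p.1.2.2 i⟩
  left_inv t := Subtype.ext (Function.Embedding.ext fun x => by cases x <;> rfl)
  right_inv p := rfl

theorem swap_pair {g : G} {a : Fin 2 ↪ α} (h : g • a = (Equiv.swap (0 : Fin 2) 1).toEmbedding.trans a) :
    g • a 0 = a 1 ∧ g • a 1 = a 0 :=
  ⟨by simpa using DFunLike.congr_fun h 0, by simpa using DFunLike.congr_fun h 1⟩

theorem twisted_swap_one (j : ℕ) (g : G) :
    twisted G α (Equiv.sumCongr (Equiv.swap (0 : Fin 2) 1) (1 : Equiv.Perm (Fin j))) g =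
      swapped G α g * (fixed G α g).descFactorial j := by
  rw [twisted, Nat.card_congr (splitEquiv G α _ _ g)]
  rw [Nat.card_congr (Equiv.subtypeUnivEquiv fun p => ?_), Nat.card_prod]
  · exact congrArg _ (twisted_one G α j g)
  · rw [Set.disjoint_left]
    rintro x ⟨i, rfl⟩ ⟨k, hk⟩
    have hfix : g • p.2.1 k = p.2.1 k := by simpa using DFunLike.congr_fun p.2.2 k
    rw [hk] at hfix
    obtain ⟨h0, h1⟩ := swap_pair G α p.1.2
    have hne : p.1.1 0 ≠ p.1.1 1 := fun e => by simpa using p.1.1.injective e
    fin_cases i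
    · exact hne (hfix.symm.trans h0)
    · exact hne (h1.symm.trans hfix)

theorem twisted_swap_swap (g : G) :
    (twisted G α (Equiv.sumCongr (Equiv.swap (0 : Fin 2) 1) (Equiv.swap (0 : Fin 2) 1)) g : ℤ) =
      (swapped G α g : ℤ) ^ 2 - 2 * swapped G α g := by
  classical
  haveI := Fintype.ofFinite α
  set P := {a : Fin 2 ↪ α // g • a = (Equiv.swap (0 : Fin 2) 1).toEmbedding.trans a}
  have hs : swapped G α g = Fintype.card P := Nat.card_eq_fintype_card
  let fl : P → P := fun a => ⟨(Equiv.swap (0 : Fin 2) 1).toEmbedding.trans a.1, Function.Embedding.ext fun i => by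
    simpa using DFunLike.congr_fun a.2 (Equiv.swap (0 : Fin 2) 1 i)⟩
  have hnd : ∀ a : P, (Finset.univ.filter fun b : P => ¬ Disjoint (Set.range a.1) (Set.range b.1)) = {a, fl a} := by
    intro a
    ext b
    simp only [Finset.mem_filter, Finset.mem_univ, true_and, Finset.mem_insert, Finset.mem_singleton]
    constructor
    · intro h
      obtain ⟨_, ⟨i, rfl⟩, j, hj⟩ := Set.not_disjoint_iff.mp h
      obtain ⟨a0, a1⟩ := swap_pair G α a.2
      obtain ⟨b0, b1⟩ := swap_pair G α b.2
      fin_cases i <;> fin_cases j <;> simp only [Fin.isValue, Fin.zero_eta, Fin.mk_one] at hj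
      · refine Or.inl (Subtype.ext (Function.Embedding.ext fun k => ?_))
        fin_cases k
        · exact hj
        · show b.1 1 = a.1 1
          rw [← b0, ← a0, hj]
      · refine Or.inr (Subtype.ext (Function.Embedding.ext fun k => ?_))
        fin_cases k
        · show b.1 0 = a.1 1
          rw [← b1, ← a0, hj]
        · exact hj
      · refine Or.inr (Subtype.ext (Function.Embedding.ext fun k => ?_))
        fin_cases k
        · exact hj
        · show b.1 1 = a.1 0
          rw [← b0, ← a1, hj]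
      · refine Or.inl (Subtype.ext (Function.Embedding.ext fun k => ?_))
        fin_cases k
        · show b.1 0 = a.1 0
          rw [← b1, ← a1, hj]
        · exact hj
    · rintro (rfl | rfl)
      · exact Set.not_disjoint_iff.mpr ⟨_, ⟨0, rfl⟩, ⟨0, rfl⟩⟩
      · exact Set.not_disjoint_iff.mpr ⟨_, ⟨0, rfl⟩, ⟨1, by simp [fl]⟩⟩
  have hne : ∀ a : P, a ≠ fl a := fun a h => by
    have h' := DFunLike.congr_fun (congrArg Subtype.val h) 0
    simpa [fl] using a.1.injective h'
  rw [twisted, Nat.card_congr (splitEquiv G α _ _ g), Nat.card_eq_fintype_card, Fintype.card_subtype,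
    Finset.card_filter, Fintype.sum_prod_type]
  push_cast
  rw [Finset.sum_congr rfl (g := fun _ => (swapped G α g : ℤ) - 2) fun a _ => ?_, Finset.sum_const,
    Finset.card_univ, nsmul_eq_mul, ← hs]
  · ring
  · have h := Finset.card_filter_add_card_filter_not (s := (Finset.univ : Finset P))
      (fun b : P => Disjoint (Set.range a.1) (Set.range b.1))
    rw [hnd a, Finset.card_pair (hne a), Finset.card_univ, ← hs, Finset.card_filter] at h
    have h' := congrArg (Nat.cast : ℕ → ℤ) h
    push_cast at h'
    linarith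

theorem cast_desc (m : ℕ) :
    (m.descFactorial 2 : ℤ) = m * (m - 1) ∧ (m.descFactorial 3 : ℤ) = m * (m - 1) * (m - 2) ∧
      (m.descFactorial 4 : ℤ) = m * (m - 1) * (m - 2) * (m - 3) := by
  rcases m with _ | _ | _ | m <;> simp [Nat.descFactorial]
  push_cast
  refine ⟨?_, ?_, ?_⟩ <;> ring

/-- The permutation character on two-element subsets, doubled. -/
theorem two_mul_fixed_pairs [DecidableEq α] (g : G) :
    2 * Nat.card (fixedBy (Set.powersetCard α 2) g) = (fixed G α g).descFactorial 2 + swapped G α g := by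
  classical
  haveI := Fintype.ofFinite α
  haveI := Fintype.ofFinite (Set.powersetCard α 2)
  set f : (Fin 2 ↪ α) → Set.powersetCard α 2 := fun t => Set.powersetCard.mulActionHom_of_embedding G α 2 t with hf
  set sw : (Fin 2 ↪ α) → (Fin 2 ↪ α) := fun t => (Equiv.swap (0 : Fin 2) 1).toEmbedding.trans t with hsw
  have hval : ∀ t, ((f t : Set.powersetCard α 2) : Finset α) = {t 0, t 1} := fun t => by
    show Finset.univ.map t = _
    ext x
    simp [Fin.exists_fin_two, eq_comm]
  have hiff : ∀ t u, f t = f u ↔ t = u ∨ t = sw u := by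
    intro t u
    constructor
    · intro h
      have h' := congrArg (fun s : Set.powersetCard α 2 => (s : Finset α)) h
      simp only [hval] at h'
      have hne : t 0 ≠ t 1 := fun e => by simpa using t.injective e
      have h0 : t 0 = u 0 ∨ t 0 = u 1 := by
        simpa using (Finset.ext_iff.mp h' (t 0)).mp (by simp)
      have h1 : t 1 = u 0 ∨ t 1 = u 1 := by
        simpa using (Finset.ext_iff.mp h' (t 1)).mp (by simp)
      rcases h0 with a | a <;> rcases h1 with b | b
      · exact absurd (a.trans b.symm) hne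
      · exact Or.inl (Function.Embedding.ext (Fin.forall_fin_two.mpr ⟨a, b⟩))
      · exact Or.inr (Function.Embedding.ext (Fin.forall_fin_two.mpr ⟨by simpa [hsw] using a, by simpa [hsw] using b⟩))
      · exact absurd (a.trans b.symm) hne
    · rintro (rfl | rfl)
      · rfl
      · apply Subtype.ext
        rw [hval, hval]
        simp [hsw, Finset.pair_comm]
  set T := Finset.univ.filter fun t : Fin 2 ↪ α => g • t = t ∨ g • t = sw t with hT
  have hmem : ∀ t, t ∈ T ↔ g • f t = f t := fun t => by
    rw [show g • f t = f (g • t) from (map_smul _ g t).symm, hiff]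
    simp [hT]
  have hfib : ∀ x ∈ (Finset.univ.filter fun x : Set.powersetCard α 2 => g • x = x),
      (T.filter fun t => f t = x).card = 2 := by
    intro x hx
    obtain ⟨t, rfl⟩ : ∃ t, f t = x := Set.powersetCard.mulActionHom_of_embedding_surjective G α x
    have : T.filter (fun u => f u = f t) = {t, sw t} := by
      ext u
      rw [Finset.mem_filter, hmem, Finset.mem_insert, Finset.mem_singleton, ← hiff]
      exact ⟨fun h => h.2, fun h => ⟨by rw [h]; exact (Finset.mem_filter.mp hx).2, h⟩⟩
    rw [this, Finset.card_pair]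
    intro e
    simpa [hsw] using t.injective (DFunLike.congr_fun e 0)
  have h := Finset.card_eq_sum_card_fiberwise (s := T)
    (t := Finset.univ.filter fun x : Set.powersetCard α 2 => g • x = x) (f := f)
    (fun t ht => Finset.mem_filter.mpr ⟨Finset.mem_univ _, (hmem t).mp ht⟩)
  rw [Finset.sum_const_nat hfib, mul_comm] at h
  have h2 : T.card = (fixed G α g).descFactorial 2 + swapped G α g := by
    rw [hT, Finset.filter_or, Finset.card_union_of_disjoint, ← twisted_one G α 2 g, twisted, swapped, twisted,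
      Nat.card_eq_fintype_card, Nat.card_eq_fintype_card, Fintype.card_subtype, Fintype.card_subtype]
    · congr 2
    · rw [Finset.disjoint_filter]
      intro t _ e1 e2
      simpa [hsw] using t.injective (DFunLike.congr_fun (e1.symm.trans e2) 0)
  rw [← h2, h, Nat.card_eq_fintype_card, Fintype.card_subtype]
  rfl

/-- The natural character minus one. -/
noncomputable def stdChar (g : G) : ℂ := (fixed G α g : ℂ) - 1

/-- The character of degree `n (n - 3) / 2`. -/
noncomputable def symChar (g : G) : ℂ :=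
  (((fixed G α g : ℤ) * (fixed G α g - 1) + swapped G α g - 2 * fixed G α g : ℤ) : ℂ) / 2

/-- The character of degree `(n - 1) (n - 2) / 2`. -/
noncomputable def altChar (g : G) : ℂ :=
  (((fixed G α g : ℤ) * (fixed G α g - 1) - swapped G α g - 2 * fixed G α g + 2 : ℤ) : ℂ) / 2

theorem fixed_one : fixed G α 1 = Nat.card α := by
  rw [fixed]
  exact Nat.card_congr (Equiv.subtypeUnivEquiv fun a => by simp [mem_fixedBy])

theorem swapped_one : swapped G α 1 = 0 := by
  rw [swapped, twisted, Nat.card_eq_zero]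
  refine Or.inl ⟨fun t => ?_⟩
  have h := (swap_pair G α t.2).1
  rw [one_smul] at h
  simpa using t.1.injective h

theorem classInner_int_div {f : G → ℂ} (z : G → ℤ) (d : ℤ) (hd : (d : ℂ) ≠ 0) (hf : f = fun g => (z g : ℂ) / d)
    (h : ∑ g : G, z g ^ 2 = d ^ 2 * Nat.card G) : classInner f f = 1 := by
  simp only [classInner, hf, map_div₀, map_intCast]
  rw [Finset.sum_congr rfl (g := fun g => ((z g ^ 2 : ℤ) : ℂ) / ((d : ℂ) ^ 2)) fun g _ => by push_cast; ring,
    ← Finset.sum_div, ← Int.cast_sum, h]
  have : (Nat.card G : ℂ) ≠ 0 := CT.card_ne_zero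
  push_cast
  field_simp

theorem irr_of_four_transitive (hn : 5 ≤ Nat.card α) (h2 : IsMultiplyPretransitive G α 2)
    (h3 : IsMultiplyPretransitive G α 3) (h4 : IsMultiplyPretransitive G α 4) :
    IsIrrCharacter G (stdChar G α) ∧ IsIrrCharacter G (symChar G α) ∧ IsIrrCharacter G (altChar G α) := by
  classical
  haveI := Fintype.ofFinite α
  haveI : IsPretransitive G (Fin 2 ⊕ Fin 1 ↪ α) := pretransitive_congr G α finSumFinEquiv.symm
  haveI : IsPretransitive G (Fin 2 ⊕ Fin 2 ↪ α) := pretransitive_congr G α finSumFinEquiv.symm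
  haveI h1 : IsMultiplyPretransitive G α 1 := isMultiplyPretransitive_of_le (n := 2) (by norm_num) (by omega)
  have ne : ∀ k ≤ 4, Nonempty (Fin k ↪ α) := fun k hk => Function.Embedding.nonempty_of_card_le (by
    rw [Fintype.card_fin, ← Nat.card_eq_fintype_card]; omega)
  have ne' : ∀ j ≤ 2, Nonempty (Fin 2 ⊕ Fin j ↪ α) := fun j hj => Function.Embedding.nonempty_of_card_le (by
    rw [Fintype.card_sum, Fintype.card_fin, Fintype.card_fin, ← Nat.card_eq_fintype_card]; omega)
  have F1 := sum_twisted G α (ι := Fin 1) (ne 1 (by norm_num)) 1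
  have F2 := sum_twisted G α (ι := Fin 2) (ne 2 (by norm_num)) 1
  have F3 := sum_twisted G α (ι := Fin 3) (ne 3 (by norm_num)) 1
  have F4 := sum_twisted G α (ι := Fin 4) (ne 4 le_rfl) 1
  have S0 := sum_twisted G α (ne 2 (by norm_num)) (Equiv.swap (0 : Fin 2) 1)
  have S1 := sum_twisted G α (ne' 1 (by norm_num)) (Equiv.sumCongr (Equiv.swap (0 : Fin 2) 1) (1 : Equiv.Perm (Fin 1)))
  have S2 := sum_twisted G α (ne' 2 le_rfl) (Equiv.sumCongr (Equiv.swap (0 : Fin 2) 1) (1 : Equiv.Perm (Fin 2)))
  have SS := sum_twisted G α (ne' 2 le_rfl) (Equiv.sumCongr (Equiv.swap (0 : Fin 2) 1) (Equiv.swap (0 : Fin 2) 1))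
  simp only [twisted_one, twisted_swap_one, twisted_swap_swap, Nat.descFactorial_one, Nat.cast_mul,
    (cast_desc _).1, (cast_desc _).2.1, (cast_desc _).2.2] at F1 F2 F3 F4 S1 S2 SS
  change ∑ g : G, (swapped G α g : ℤ) = _ at S0
  have hf := CT.isCharacter_perm (G := G) α
  have hp := CT.isCharacter_perm (G := G) (Set.powersetCard α 2)
  have ho := CT.isCharacter_perm (G := G) (Fin 2 ↪ α)
  have hpv : ∀ g, (2 * Nat.card (fixedBy (Set.powersetCard α 2) g) : ℤ) =
      (fixed G α g : ℤ) * (fixed G α g - 1) + swapped G α g := fun g => by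
    rw [← (cast_desc _).1]; exact_mod_cast two_mul_fixed_pairs G α g
  have hov : ∀ g, (Nat.card (fixedBy (Fin 2 ↪ α) g) : ℤ) = (fixed G α g : ℤ) * (fixed G α g - 1) := fun g => by
    rw [← (cast_desc _).1, ← twisted_one, twisted]
    exact congrArg _ (Nat.card_congr (Equiv.subtypeEquivRight fun t => by
      rw [mem_fixedBy, show (1 : Equiv.Perm (Fin 2)).toEmbedding.trans t = t from
        Function.Embedding.ext fun _ => rfl]))
  have g1 := isGen_of_isCharacter (CT.isCharacter_one (G := G))
  refine ⟨isIrr_of_isGen_norm_one ?_ ?_ ?_, isIrr_of_isGen_norm_one ?_ ?_ ?_,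
    isIrr_of_isGen_norm_one ?_ ?_ ?_⟩
  · exact isGen_sub (isGen_of_isCharacter hf) g1
  · refine classInner_int_div G (fun g => (fixed G α g : ℤ) - 1) 1 (by norm_num) (by funext g; simp [stdChar]) ?_
    rw [Finset.sum_congr rfl (g := fun g => ((fixed G α g : ℤ) * (fixed G α g - 1)) - (fixed G α g : ℤ) + 1)
      fun g _ => by ring, Finset.sum_add_distrib, Finset.sum_sub_distrib, F1, F2, Finset.sum_const,
      Finset.card_univ, Nat.card_eq_fintype_card]
    simp
  · simp [stdChar, fixed_one]
    exact_mod_cast (by rw [← Nat.card_eq_fintype_card]; omega : 1 < Fintype.card α)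
  · convert isGen_sub (isGen_of_isCharacter hp) (isGen_of_isCharacter hf) using 1
    funext g
    have h := congrArg (Int.cast : ℤ → ℂ) (hpv g)
    simp only [symChar, Pi.sub_apply, fixed] at h ⊢
    push_cast at h ⊢
    linear_combination (-1 / 2 : ℂ) * h
  · refine classInner_int_div G _ 2 (by norm_num) rfl ?_
    rw [Finset.sum_congr rfl (g := fun g =>
      (fixed G α g : ℤ) * (fixed G α g - 1) * (fixed G α g - 2) * (fixed G α g - 3)
        - 2 * ((fixed G α g : ℤ) * (fixed G α g - 1))
        + ((swapped G α g : ℤ) ^ 2 - 2 * swapped G α g) + 2 * (swapped G α g : ℤ) + 4 * (fixed G α g : ℤ)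
        + 2 * ((swapped G α g : ℤ) * ((fixed G α g : ℤ) * (fixed G α g - 1)))
        - 4 * ((swapped G α g : ℤ) * (fixed G α g : ℤ))) fun g _ => by ring]
    simp only [Finset.sum_add_distrib, Finset.sum_sub_distrib, ← Finset.mul_sum] at SS ⊢
    linarith
  · simp [symChar, fixed_one, swapped_one]
    have : (5 : ℝ) ≤ Fintype.card α := by rw [← Nat.card_eq_fintype_card]; exact_mod_cast hn
    nlinarith
  · convert isGen_add (isGen_sub (isGen_sub (isGen_of_isCharacter ho) (isGen_of_isCharacter hp))
      (isGen_of_isCharacter hf)) g1 using 1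
    funext g
    have h := congrArg (Int.cast : ℤ → ℂ) (hpv g)
    have h' := congrArg (Int.cast : ℤ → ℂ) (hov g)
    simp only [altChar, Pi.sub_apply, Pi.add_apply, fixed] at h h' ⊢
    push_cast at h h' ⊢
    linear_combination (1 / 2 : ℂ) * h - h'
  · refine classInner_int_div G _ 2 (by norm_num) rfl ?_
    rw [Finset.sum_congr rfl (g := fun g =>
      (fixed G α g : ℤ) * (fixed G α g - 1) * (fixed G α g - 2) * (fixed G α g - 3)
        + ((swapped G α g : ℤ) ^ 2 - 2 * swapped G α g) - 2 * (swapped G α g : ℤ)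
        + 2 * ((fixed G α g : ℤ) * (fixed G α g - 1))
        - 4 * (fixed G α g : ℤ) + 4
        - 2 * ((swapped G α g : ℤ) * ((fixed G α g : ℤ) * (fixed G α g - 1)))
        + 4 * ((swapped G α g : ℤ) * (fixed G α g : ℤ))) fun g _ => by ring]
    have h4' : ∑ _g : G, (4 : ℤ) = 4 * Nat.card G := by
      rw [Finset.sum_const, Finset.card_univ, Nat.card_eq_fintype_card, nsmul_eq_mul, mul_comm]
    simp only [Finset.sum_add_distrib, Finset.sum_sub_distrib, ← Finset.mul_sum] at SS ⊢
    linarith
  · simp [altChar, fixed_one, swapped_one]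
    have : (5 : ℝ) ≤ Fintype.card α := by rw [← Nat.card_eq_fintype_card]; exact_mod_cast hn
    nlinarith

end Cfsg.Agent.CT.TwoSet
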