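import Cfsg.Agent.Lib.CT.Quasielementary
import Cfsg.Agent.Lib.CT.Clifford
import Cfsg.Agent.Lib.CT.Glue
import Cfsg.Agent.Lib.CT.Kernel
import Cfsg.Agent.Lib.CoprimeExt.Gallagher
import Mathlib.GroupTheory.RegularWreathProduct

/-!
# Characters of products and of regular wreath products

Irreducible characters of finite powers, the Kaloujnine–Krasner embedding, and monomiality of a
wreath product of a monomial group with a group of prime order.
-/

set_option autoImplicit false
set_option linter.all false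

universe u

namespace Cfsg.Agent.WreathChar

open Cfsg

section pi

variable {ι : Type u} [Fintype ι] {D : Type u} [Group D]

/-- The product character on a power. -/
def piChar (ψ : ι → D → ℂ) : (ι → D) → ℂ := fun f => ∏ i, ψ i (f i)

theorem isCharacter_piChar {ψ : ι → D → ℂ} (h : ∀ i, IsCharacter D (ψ i)) :
    IsCharacter (ι → D) (piChar ψ) := by
  classical
  have key : ∀ s : Finset ι, IsCharacter (ι → D) (fun f => ∏ i ∈ s, ψ i (f i)) := by
    intro s
    induction s using Finset.induction_on with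
    | empty =>
      simp only [Finset.prod_empty]
      exact CT.isCharacter_one
    | insert a s ha ih =>
      simp only [Finset.prod_insert ha]
      exact CT.isCharacter_mul (CT.isCharacter_comp (Pi.evalMonoidHom (fun _ : ι => D) a) (h a)) ih
  exact key Finset.univ

variable [Fintype D]

theorem classInner_piChar [DecidableEq ι] (ψ ψ' : ι → D → ℂ) :
    classInner (piChar ψ) (piChar ψ') = ∏ i, classInner (ψ i) (ψ' i) := by
  simp only [classInner, piChar, map_prod, ← Finset.prod_mul_distrib]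
  rw [Finset.prod_mul_distrib, Finset.prod_const, Nat.card_fun, Finset.card_univ, Fintype.prod_sum,
    ← Nat.card_eq_fintype_card]
  push_cast
  rw [inv_pow]

theorem isIrr_piChar [DecidableEq ι] {ψ : ι → D → ℂ} (h : ∀ i, IsIrrCharacter D (ψ i)) :
    IsIrrCharacter (ι → D) (piChar ψ) := by
  refine CT.isIrr_of_inner_self (isCharacter_piChar fun i => CT.isCharacter_of_isIrr (h i)) ?_
  rw [classInner_piChar]
  exact Finset.prod_eq_one fun i _ => CT.irr_inner_self (h i)

/-- Every irreducible character of a power is a product. -/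
theorem exists_piChar [DecidableEq ι] {θ : (ι → D) → ℂ} (hθ : IsIrrCharacter (ι → D) θ) :
    ∃ ψ : ι → IrrCharacter D, θ = piChar (fun i => (ψ i : D → ℂ)) := by
  classical
  by_contra hne
  push Not at hne
  let F : (ι → IrrCharacter D) → IrrCharacter (ι → D) := fun ψ =>
    ⟨piChar (fun i => (ψ i : D → ℂ)), isIrr_piChar fun i => (ψ i).2⟩
  have hinj : Function.Injective F := by
    intro a b hab
    funext i
    by_contra h
    have h1 := CT.irr_inner_self (F a).2
    have h2 : classInner (F a : (ι → D) → ℂ) (F b : (ι → D) → ℂ) = 0 := by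
      show classInner (piChar _) (piChar _) = 0
      rw [classInner_piChar]
      refine Finset.prod_eq_zero (Finset.mem_univ i) ?_
      exact CT.irr_inner_of_ne (a i).2 (b i).2 fun e => h (Subtype.ext e)
    rw [← hab, h1] at h2
    exact one_ne_zero h2
  have hsum : ∑ c ∈ Finset.univ.image F, (c : (ι → D) → ℂ) 1 ^ 2 =
      (Nat.card (ι → D) : ℂ) := by
    rw [Finset.sum_image hinj.injOn]
    show ∑ ψ : ι → IrrCharacter D, (∏ i, (ψ i : D → ℂ) ((1 : ι → D) i)) ^ 2 = _
    simp only [Pi.one_apply, ← Finset.prod_pow]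
    rw [← Fintype.prod_sum (fun (i : ι) (c : IrrCharacter D) => (c : D → ℂ) 1 ^ 2)]
    simp only [CT.sum_degree_sq, Finset.prod_const, Nat.card_fun, Finset.card_univ,
      ← Nat.card_eq_fintype_card]
    push_cast
    rfl
  have h := CT.sum_degree_sq (G := ι → D)
  rw [← Finset.sum_sdiff (Finset.subset_univ (Finset.univ.image F)), hsum, add_eq_right] at h
  have hc : ∀ c : IrrCharacter (ι → D), (c : (ι → D) → ℂ) 1 ^ 2 =
      ((CT.deg (c : (ι → D) → ℂ) ^ 2 : ℕ) : ℂ) := fun c => by
    rw [CT.deg_eq (CT.isCharacter_of_isIrr c.2)]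
    push_cast
    rfl
  simp only [hc, ← Nat.cast_sum, Nat.cast_eq_zero, Finset.sum_eq_zero_iff] at h
  have h0 := h ⟨θ, hθ⟩ (Finset.mem_sdiff.mpr ⟨Finset.mem_univ _, fun hm => by
    obtain ⟨ψ, -, hψ⟩ := Finset.mem_image.mp hm
    exact hne ψ (congrArg Subtype.val hψ).symm⟩)
  exact (CT.deg_pos hθ).ne' (pow_eq_zero_iff two_ne_zero |>.mp h0)

end pi

section wreath

variable {D Q : Type u} [Group D] [Group Q]

open RegularWreathProduct

/-- The base subgroup. -/
def base (D Q : Type u) [Group D] [Group Q] : Subgroup (D ≀ᵣ Q) := (rightHom : D ≀ᵣ Q →* Q).ker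

theorem mem_base {w : D ≀ᵣ Q} : w ∈ base D Q ↔ w.right = 1 := Iff.rfl

instance : (base D Q).Normal := MonoidHom.normal_ker _

/-- The base is the power. -/
def baseEquiv : (Q → D) ≃* base D Q where
  toFun f := ⟨⟨f, 1⟩, rfl⟩
  invFun w := w.1.left
  left_inv f := rfl
  right_inv w := Subtype.ext (RegularWreathProduct.ext rfl (mem_base.mp w.2).symm)
  map_mul' f g := by
    apply Subtype.ext
    show (⟨f * g, 1⟩ : D ≀ᵣ Q) = ⟨f, 1⟩ * ⟨g, 1⟩
    refine RegularWreathProduct.ext ?_ ?_
    · funext x; simp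
    · simp

theorem index_base [Finite Q] : (base D Q).index = Nat.card Q := by
  rw [base, Subgroup.index_ker, MonoidHom.range_eq_top.mpr fun q => ⟨inl q, rfl⟩, Subgroup.card_top]

theorem conj_base (x : D ≀ᵣ Q) (f : Q → D) :
    x⁻¹ * ⟨f, 1⟩ * x = ⟨fun q => (x.left (x.right * q))⁻¹ * f (x.right * q) * x.left (x.right * q), 1⟩ := by
  refine RegularWreathProduct.ext ?_ ?_
  · funext q
    simp
  · simp

variable [Fintype Q]

/-- The product of linear characters on the coordinates. -/
noncomputable def prodLin (K : Q → Subgroup D) (lam : ∀ q, K q →* ℂˣ) (L : Subgroup (D ≀ᵣ Q))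
    (hL : ∀ w ∈ L, ∀ q, w.left q ∈ K q)
    (hshift : ∀ w ∈ L, ∀ (q : Q) (d : D) (h : d ∈ K (w.right⁻¹ * q)) (h' : d ∈ K q),
      lam q ⟨d, h'⟩ = lam (w.right⁻¹ * q) ⟨d, h⟩)
    (hK : ∀ w ∈ L, ∀ q, K (w.right⁻¹ * q) = K q) : L →* ℂˣ where
  toFun w := ∏ q, lam q ⟨w.1.left q, hL w.1 w.2 q⟩
  map_one' := Finset.prod_eq_one fun q _ => map_one (lam q)
  map_mul' a b := by
    show ∏ q, lam q ⟨(a.1 * b.1).left q, _⟩ = _
    have hb : ∀ q, b.1.left (a.1.right⁻¹ * q) ∈ K q := fun q => hK a.1 a.2 q ▸ hL b.1 b.2 _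
    have e : ∀ q, lam q ⟨(a.1 * b.1).left q, hL _ (L.mul_mem a.2 b.2) q⟩ =
        lam q ⟨a.1.left q, hL a.1 a.2 q⟩ * lam q ⟨b.1.left (a.1.right⁻¹ * q), hb q⟩ := by
      intro q
      rw [← map_mul]
      congr 1
    simp only [e, Finset.prod_mul_distrib]
    congr 1
    refine Fintype.prod_equiv (Equiv.mulLeft a.1.right⁻¹) _ _ fun q => ?_
    exact hshift a.1 a.2 q _ (hL b.1 b.2 _) (hb q)

theorem ext_prodLin (K : Q → Subgroup D) (lam : ∀ q, K q →* ℂˣ) (L : Subgroup (D ≀ᵣ Q))
    (hL : ∀ w ∈ L, ∀ q, w.left q ∈ K q) (hshift) (hK)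
    (hL' : ∀ f : Q → D, (∀ q, f q ∈ K q) → (⟨f, 1⟩ : D ≀ᵣ Q) ∈ L) (f : Q → D) :
    extendByZero L (fun w => (prodLin K lam L hL hshift hK w : ℂ)) ⟨f, 1⟩ =
      ∏ q, extendByZero (K q) (fun d => (lam q d : ℂ)) (f q) := by
  by_cases h : ∀ q, f q ∈ K q
  · rw [CT.extendByZero_mem L _ (hL' f h)]
    show ((∏ q, lam q ⟨f q, _⟩ : ℂˣ) : ℂ) = _
    rw [Units.coe_prod]
    exact Finset.prod_congr rfl fun q _ =>
      (CT.extendByZero_mem (K q) (fun d => (lam q d : ℂ)) (h q)).symm
  · rw [CT.extendByZero_not_mem L _ fun hm => h (hL _ hm)]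
    push Not at h
    obtain ⟨q, hq⟩ := h
    exact (Finset.prod_eq_zero (Finset.mem_univ q) (CT.extendByZero_not_mem (K q) _ hq)).symm

variable [Fintype D] [DecidableEq Q]

/-- An induced product, restricted along the base. -/
theorem sum_prod_ext (K : Q → Subgroup D) (lam : ∀ q, K q →* ℂˣ) (f : Q → D) :
    (∑ g : Q → D, ∏ q, extendByZero (K q) (fun d => (lam q d : ℂ)) ((g q)⁻¹ * f q * g q)) =
      (∏ q, (Nat.card (K q) : ℂ)) * ∏ q, indFun (K q) (fun d => (lam q d : ℂ)) (f q) := by
  rw [← Finset.prod_mul_distrib, ← Fintype.prod_sum (fun q (d : D) =>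
    extendByZero (K q) (fun k => (lam q k : ℂ)) (d⁻¹ * f q * d))]
  refine Finset.prod_congr rfl fun q _ => ?_
  rw [indFun, ← mul_assoc, mul_inv_cancel₀ (Nat.cast_ne_zero.mpr Nat.card_pos.ne'), one_mul]

end wreath

/-- Every irreducible character is induced from a linear one. -/
def IsMGroup (M : Type u) [Group M] [Fintype M] : Prop :=
  ∀ χ : M → ℂ, IsIrrCharacter M χ →
    ∃ (H : Subgroup M) (lam : H →* ℂˣ), χ = indFun H (fun h => (lam h : ℂ))

section monomial

open RegularWreathProduct

variable {D Q : Type u} [Group D] [Group Q] [Fintype D] [Fintype Q]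

/-- A wreath product of a monomial group with a group of prime order is monomial. -/
theorem isMGroup_wreath [Fintype (D ≀ᵣ Q)] (hD : IsMGroup D) (hQ : (Nat.card Q).Prime) :
    IsMGroup (D ≀ᵣ Q) := by
  classical
  intro χ hχ
  letI := Fintype.ofFinite (base D Q)
  haveI := Fact.mk hQ
  haveI : IsCyclic Q := isCyclic_of_prime_card rfl
  have hQc : ∀ a b : Q, a * b = b * a := fun a b =>
    IsMulCommutative.is_comm.comm a b
  obtain ⟨φ, hφ⟩ := CT.exists_constituent_restrict (base D Q) hχ
  obtain ⟨ψ, hψ⟩ := exists_piChar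
    (CT.isIrrCharacter_comp (baseEquiv (D := D) (Q := Q)).toMonoidHom baseEquiv.surjective φ.2)
  have hφv : ∀ f : Q → D, (φ : base D Q → ℂ) (baseEquiv f) = ∏ q, (ψ q : D → ℂ) (f q) :=
    fun f => congrFun hψ f
  choose K lam hlam using fun q => hD _ (ψ q).2
  have hBI : base D Q ≤ CT.inertia (base D Q) (φ : base D Q → ℂ) :=
    CT.le_inertia _ (CT.isClassFunction_of_isIrr φ.2)
  have hcard : ∀ (L : Subgroup (D ≀ᵣ Q)), (∀ w, w ∈ L ↔ w.right = 1 ∧ ∀ q, w.left q ∈ K q) →
      Nat.card (L.subgroupOf (base D Q)) = ∏ q, Nat.card (K q) := by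
    intro L hL
    rw [← Nat.card_pi]
    refine Nat.card_congr
      { toFun := fun w q => ⟨w.1.1.left q, ((hL _).mp (Subgroup.mem_subgroupOf.mp w.2)).2 q⟩
        invFun := fun k => ⟨baseEquiv (fun q => (k q : D)),
          Subgroup.mem_subgroupOf.mpr ((hL _).mpr ⟨rfl, fun q => (k q).2⟩)⟩
        left_inv := fun w => Subtype.ext (baseEquiv.apply_symm_apply w.1)
        right_inv := fun k => rfl }
  by_cases hI : CT.inertia (base D Q) (φ : base D Q → ℂ) = base D Q
  · -- induced from the base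
    obtain ⟨ψ', hψ', hind, hover⟩ := CT.exists_correspondent (base D Q) φ.2 (base D Q) hI.symm le_rfl
      hχ hφ
    have hψφ : ψ' = (φ : base D Q → ℂ) := by
      by_contra h
      apply hφ
      rw [← hover]
      show classInner ψ' _ = 0
      exact CT.irr_inner_of_ne hψ' φ.2 h
    let L : Subgroup (D ≀ᵣ Q) :=
      { carrier := {w | w.right = 1 ∧ ∀ q, w.left q ∈ K q}
        one_mem' := ⟨rfl, fun q => one_mem _⟩
        mul_mem' := fun {a b} ha hb => ⟨by simp [ha.1, hb.1], fun q => by
          simpa [ha.1] using mul_mem (ha.2 q) (hb.2 q)⟩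
        inv_mem' := fun {a} ha => ⟨by simp [ha.1], fun q => by
          simpa [ha.1] using inv_mem (ha.2 q)⟩ }
    let μ : L →* ℂˣ := prodLin K lam L (fun w hw => hw.2)
      (fun w hw q d h h' => by
        have e : w.right⁻¹ * q = q := by rw [hw.1, inv_one, one_mul]
        revert h
        rw [e]
        exact fun h => rfl)
      (fun w hw q => by rw [hw.1, inv_one, one_mul])
    refine ⟨L, μ, ?_⟩
    letI := Fintype.ofFinite L
    rw [← hind, hψφ, ← CT.indFun_trans L (base D Q) (fun w hw => hw.1)]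
    congr 1
    funext b
    obtain ⟨f, rfl⟩ := baseEquiv.surjective b
    rw [hφv]
    unfold indFun
    rw [hcard L fun w => Iff.rfl, ← (baseEquiv (D := D) (Q := Q)).toEquiv.sum_comp]
    have e : ∀ g : Q → D, extendByZero (L.subgroupOf (base D Q))
        (fun x => (μ ⟨((x : base D Q) : D ≀ᵣ Q), Subgroup.mem_subgroupOf.mp x.2⟩ : ℂ))
        ((baseEquiv g)⁻¹ * baseEquiv f * baseEquiv g) =
        ∏ q, extendByZero (K q) (fun d => (lam q d : ℂ)) ((g q)⁻¹ * f q * g q) := by
      intro g
      rw [← map_inv, ← map_mul, ← map_mul,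
        ← ext_prodLin K lam L (fun w hw => hw.2) _ _ (fun f hf => ⟨rfl, hf⟩)
          (fun q => (g q)⁻¹ * f q * g q)]
      by_cases hm : (⟨fun q => (g q)⁻¹ * f q * g q, 1⟩ : D ≀ᵣ Q) ∈ L
      · rw [CT.extendByZero_mem L _ hm, CT.extendByZero_mem (L.subgroupOf (base D Q)) _
          (Subgroup.mem_subgroupOf.mpr (show ((baseEquiv (g⁻¹ * f * g) : base D Q) : D ≀ᵣ Q) ∈ L
            from hm))]
        rfl
      · rw [CT.extendByZero_not_mem L _ hm,
          CT.extendByZero_not_mem (L.subgroupOf (base D Q)) _ (fun h =>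
            hm (Subgroup.mem_subgroupOf.mp h))]
    simp only [MulEquiv.toEquiv_eq_coe, EquivLike.coe_coe, e, sum_prod_ext, Nat.cast_prod]
    rw [← mul_assoc, inv_mul_cancel₀ (Finset.prod_ne_zero_iff.mpr fun q _ =>
      Nat.cast_ne_zero.mpr Nat.card_pos.ne'), one_mul]
    exact Finset.prod_congr rfl fun q _ => congrFun (hlam q) _
  · -- invariant: all factors agree
    have hItop : CT.inertia (base D Q) (φ : base D Q → ℂ) = ⊤ := by
      have h1 := Subgroup.index_dvd_of_le hBI
      rw [index_base] at h1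
      rcases (Nat.dvd_prime hQ).mp h1 with h | h
      · exact Subgroup.index_eq_one.mp h
      · exfalso
        refine hI ((lt_or_eq_of_le hBI).resolve_left fun hlt => ?_).symm
        have := Subgroup.index_strictAnti hlt
        rw [h, index_base] at this
        omega
    have hshiftφ : ∀ (s : Q) (f : Q → D),
        ∏ q, (ψ q : D → ℂ) (f (s * q)) = ∏ q, (ψ q : D → ℂ) (f q) := by
      intro s f
      have hs : (inl s⁻¹ : D ≀ᵣ Q) ∈ CT.inertia (base D Q) (φ : base D Q → ℂ) := by
        rw [hItop]; trivial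
      have h := (CT.mem_inertia_iff (base D Q)).mp hs (baseEquiv f)
      rw [hφv] at h
      rw [← h, ← hφv]
      refine congrArg (φ : base D Q → ℂ) (Subtype.ext ?_)
      show (⟨fun q => f (s * q), 1⟩ : D ≀ᵣ Q) = inl s⁻¹ * ⟨f, 1⟩ * (inl s⁻¹)⁻¹
      refine RegularWreathProduct.ext ?_ ?_
      · funext q; simp
      · simp
    have hall : ∀ q, ψ q = ψ 1 := by
      intro q
      have key : ∀ d : D, (ψ q : D → ℂ) d * ∏ r ∈ Finset.univ.erase q, (ψ r : D → ℂ) 1 =
          (ψ 1 : D → ℂ) d * ∏ r ∈ Finset.univ.erase 1, (ψ r : D → ℂ) 1 := by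
        intro d
        have h := hshiftφ q (fun r => if r = q then d else 1)
        rw [← Finset.mul_prod_erase _ _ (Finset.mem_univ (1 : Q)),
          ← Finset.mul_prod_erase _ _ (Finset.mem_univ q)] at h
        rw [if_pos (mul_one q), if_pos rfl] at h
        rw [Finset.prod_congr rfl fun r hr => by
          rw [if_neg (fun e : q * r = q => Finset.ne_of_mem_erase hr (mul_eq_left.mp e))],
          Finset.prod_congr (s₂ := Finset.univ.erase q) rfl fun r hr => by
          rw [if_neg (Finset.ne_of_mem_erase hr)]] at h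
        exact h.symm
      set a := ∏ r ∈ Finset.univ.erase q, CT.deg (ψ r : D → ℂ) with ha
      set b := ∏ r ∈ Finset.univ.erase 1, CT.deg (ψ r : D → ℂ) with hb
      have key' : (a : ℂ) • (ψ q : D → ℂ) = (b : ℂ) • (ψ 1 : D → ℂ) := by
        funext d
        have h := key d
        simp only [fun r : Q => CT.deg_eq (CT.isCharacter_of_isIrr (ψ r).2), ← Nat.cast_prod] at h
        rw [Pi.smul_apply, Pi.smul_apply, smul_eq_mul, smul_eq_mul, mul_comm, h, mul_comm]
      by_contra hne
      have h := congrArg (fun F => classInner F (ψ q : D → ℂ)) key'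
      simp only [CT.classInner_smul_left, CT.irr_inner_self (ψ q).2,
        CT.irr_inner_of_ne (ψ 1).2 (ψ q).2 (fun e => hne (Subtype.ext e.symm))] at h
      simp only [mul_one, mul_zero, Nat.cast_eq_zero] at h
      exact (Finset.prod_pos fun r _ => CT.deg_pos (ψ r).2).ne' h
    let L : Subgroup (D ≀ᵣ Q) :=
      { carrier := {w | ∀ q, w.left q ∈ K 1}
        one_mem' := fun q => one_mem _
        mul_mem' := fun {a b} ha hb q => mul_mem (ha q) (hb _)
        inv_mem' := fun {a} ha q => inv_mem (ha _) }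
    let μ : L →* ℂˣ := prodLin (fun _ => K 1) (fun _ => lam 1) L (fun w hw => hw)
      (fun _ _ _ _ _ _ => rfl) (fun _ _ _ => rfl)
    letI := Fintype.ofFinite L
    have hLcard : Nat.card L = Nat.card Q * Nat.card (K 1) ^ Nat.card Q := by
      rw [← Nat.card_fun, ← Nat.card_prod]
      exact Nat.card_congr
        { toFun := fun w => (w.1.right, fun q => ⟨w.1.left q, w.2 q⟩)
          invFun := fun k => ⟨⟨fun q => (k.2 q : D), k.1⟩, fun q => (k.2 q).2⟩
          left_inv := fun w => rfl
          right_inv := fun k => rfl }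
    have hEB : ∀ n : base D Q, indFun L (fun w => (μ w : ℂ)) n = (φ : base D Q → ℂ) n := by
      intro n
      obtain ⟨f, rfl⟩ := baseEquiv.surjective n
      rw [hφv]
      unfold indFun
      rw [hLcard, ← (equivProd D Q).symm.sum_comp, Fintype.sum_prod_type_right]
      have e : ∀ (s : Q) (g : Q → D), extendByZero L (fun w => (μ w : ℂ))
          (((equivProd D Q).symm (g, s))⁻¹ * ((baseEquiv f : base D Q) : D ≀ᵣ Q) *
            (equivProd D Q).symm (g, s)) =
          ∏ q, extendByZero (K 1) (fun d => (lam 1 d : ℂ)) ((g q)⁻¹ * f q * g q) := by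
        intro s g
        show extendByZero L _ ((⟨g, s⟩ : D ≀ᵣ Q)⁻¹ * ⟨f, 1⟩ * ⟨g, s⟩) = _
        rw [conj_base, ext_prodLin (fun _ => K 1) (fun _ => lam 1) L (fun w hw => hw) _ _
          (fun f hf => hf)]
        exact Fintype.prod_equiv (Equiv.mulLeft s) _ _ fun q => rfl
      simp only [e, sum_prod_ext (fun _ => K 1) (fun _ => lam 1), Finset.sum_const, Finset.card_univ,
        Finset.prod_const, nsmul_eq_mul, ← Nat.card_eq_fintype_card, hall]
      rw [← hlam 1]
      push_cast
      rw [← mul_assoc, ← mul_assoc, mul_assoc _ (Nat.card Q : ℂ), inv_mul_cancel₀, one_mul]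
      exact mul_ne_zero (Nat.cast_ne_zero.mpr Nat.card_pos.ne')
        (pow_ne_zero _ (Nat.cast_ne_zero.mpr Nat.card_pos.ne'))
    have hE : IsIrrCharacter (D ≀ᵣ Q) (indFun L (fun w => (μ w : ℂ))) :=
      Glue.isIrr_of_res (base D Q).subtype (CT.isCharacter_indFun L (CT.isCharacter_lin μ))
        (by
          have e : (fun a : base D Q => indFun L (fun w => (μ w : ℂ)) ((base D Q).subtype a)) =
              (φ : base D Q → ℂ) := funext hEB
          rw [e]; exact φ.2)
    obtain ⟨η, hη, hprod⟩ := CoprimeExt.exists_eq_mul_of_over (base D Q) ⟨_, hE⟩ φ hEB ⟨χ, hχ⟩ hφ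
    obtain ⟨η', hη', hηe⟩ := CT.exists_quotient_irr η.2 (base D Q) hη
    have hlin : (η : D ≀ᵣ Q → ℂ) 1 = 1 := by
      rw [← hηe 1]
      refine CT.irr_degree_one_of_comm (fun x y => ?_) hη'
      induction x using QuotientGroup.induction_on with | _ a =>
      induction y using QuotientGroup.induction_on with | _ b =>
      rw [← QuotientGroup.mk_mul, ← QuotientGroup.mk_mul, QuotientGroup.eq, mem_base]
      simp only [RegularWreathProduct.mul_right, RegularWreathProduct.inv_right]
      rw [hQc a.right b.right]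
      group
    obtain ⟨l, hl⟩ := CT.exists_hom_of_degree_one (CT.isCharacter_of_isIrr η.2) hlin
    refine ⟨L, μ * l.comp L.subtype, ?_⟩
    have h2 := CT.indFun_mul_restrict L (fun w => (μ w : ℂ))
      (CT.isClassFunction_of_isIrr η.2)
    have h3 : χ = (η : D ≀ᵣ Q → ℂ) * indFun L (fun w => (μ w : ℂ)) := hprod
    rw [h3, mul_comm, ← h2]
    congr 1
    funext w
    rw [Pi.mul_apply, hl, MonoidHom.mul_apply, Units.val_mul]
    rfl

end monomial

section KK

open RegularWreathProduct

variable {G : Type u} [Group G] (N : Subgroup G) [N.Normal]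

/-- The Kaloujnine–Krasner embedding. -/
theorem exists_embedding : ∃ f : G →* N ≀ᵣ (G ⧸ N), Function.Injective f := by
  classical
  let t : G ⧸ N → G := Quotient.out
  have ht : ∀ q, (t q : G ⧸ N) = q := QuotientGroup.out_eq'
  let c : G → (G ⧸ N) → N := fun g q =>
    ⟨(t q)⁻¹ * g * t ((g : G ⧸ N)⁻¹ * q), by
      rw [← QuotientGroup.eq_one_iff, QuotientGroup.mk_mul, QuotientGroup.mk_mul,
        QuotientGroup.mk_inv, ht, ht]
      group⟩
  let f : G →* N ≀ᵣ (G ⧸ N) :=
    { toFun := fun g => ⟨c g, (g : G ⧸ N)⟩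
      map_one' := by
        refine RegularWreathProduct.ext (funext fun q => Subtype.ext ?_) rfl
        show (t q)⁻¹ * 1 * t ((1 : G ⧸ N)⁻¹ * q) = 1
        rw [inv_one, one_mul, mul_one, inv_mul_cancel]
      map_mul' := fun g h => by
        refine RegularWreathProduct.ext (funext fun q => Subtype.ext ?_) rfl
        show (t q)⁻¹ * (g * h) * t (((g * h : G) : G ⧸ N)⁻¹ * q) =
          (t q)⁻¹ * g * t ((g : G ⧸ N)⁻¹ * q) * ((t ((g : G ⧸ N)⁻¹ * q))⁻¹ * h *
            t ((h : G ⧸ N)⁻¹ * ((g : G ⧸ N)⁻¹ * q)))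
        rw [QuotientGroup.mk_mul, mul_inv_rev, mul_assoc (h : G ⧸ N)⁻¹]
        group }
  refine ⟨f, (injective_iff_map_eq_one f).mpr fun g hg => ?_⟩
  have h1 : (g : G ⧸ N) = 1 := congrArg RegularWreathProduct.right hg
  have h2 : (t 1)⁻¹ * g * t ((g : G ⧸ N)⁻¹ * 1) = 1 :=
    congrArg Subtype.val (congrFun (congrArg RegularWreathProduct.left hg) 1)
  rw [h1, inv_one, one_mul] at h2
  calc g = t 1 * ((t 1)⁻¹ * g * t 1) * (t 1)⁻¹ := by group
    _ = 1 := by rw [h2]; group

/-- Functoriality of the wreath product in the first factor. -/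
theorem exists_wreath_map {D D' Q : Type u} [Group D] [Group D'] [Group Q] (φ : D →* D')
    (hφ : Function.Injective φ) : ∃ f : D ≀ᵣ Q →* D' ≀ᵣ Q, Function.Injective f := by
  refine ⟨{ toFun := fun w => ⟨fun q => φ (w.left q), w.right⟩
            map_one' := RegularWreathProduct.ext (funext fun q => map_one φ) rfl
            map_mul' := fun a b => RegularWreathProduct.ext (funext fun q => map_mul φ _ _) rfl },
    fun a b h => RegularWreathProduct.ext (funext fun q => hφ ?_) ?_⟩
  · exact (congrFun (congrArg RegularWreathProduct.left h) q :)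
  · exact (congrArg RegularWreathProduct.right h :)

end KK

/-- A nontrivial finite solvable group has a normal subgroup of prime index. -/
theorem exists_prime_index {G : Type u} [Group G] [Finite G] [Nontrivial G]
    (hs : Group.IsSolvable G) : ∃ N : Subgroup G, N.Normal ∧ N.index.Prime := by
  classical
  have hlt : commutator G < ⊤ := Group.IsSolvable.commutator_lt_top_of_nontrivial G
  obtain ⟨N, hN, hle⟩ := (eq_top_or_exists_le_coatom (commutator G)).resolve_left hlt.ne
  haveI hn : N.Normal := ⟨fun x hx g => by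
    have h := N.mul_mem (hle (Subgroup.commutator_mem_commutator (Subgroup.mem_top g)
      (Subgroup.mem_top x))) hx
    rwa [commutatorElement_def, inv_mul_cancel_right] at h⟩
  refine ⟨N, hn, ?_⟩
  have h1 : N.index ≠ 1 := fun h => hN.1 (Subgroup.index_eq_one.mp h)
  obtain ⟨q, hq, hqd⟩ := Nat.exists_prime_and_dvd h1
  haveI := Fact.mk hq
  rw [Subgroup.index_eq_card] at hqd ⊢
  obtain ⟨x, hx⟩ := exists_prime_orderOf_dvd_card' q hqd
  have htop : Subgroup.zpowers x = ⊤ := by
    have hle' : N ≤ (Subgroup.zpowers x).comap (QuotientGroup.mk' N) := fun n hn' => by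
      show (n : G ⧸ N) ∈ Subgroup.zpowers x
      rw [(QuotientGroup.eq_one_iff n).mpr hn']
      exact one_mem _
    rcases lt_or_eq_of_le hle' with h | h
    · have := hN.2 _ h
      rw [← Subgroup.map_comap_eq_self_of_surjective (QuotientGroup.mk'_surjective N)
        (Subgroup.zpowers x), this, Subgroup.map_top_of_surjective _ (QuotientGroup.mk'_surjective N)]
    · exfalso
      obtain ⟨g, rfl⟩ := QuotientGroup.mk_surjective x
      have hg : g ∈ N := h ▸ Subgroup.mem_zpowers _
      rw [(QuotientGroup.eq_one_iff g).mpr hg, orderOf_one] at hx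
      exact hq.ne_one hx.symm
  rw [← Subgroup.card_top, ← htop, Nat.card_zpowers, hx]
  exact hq

end Cfsg.Agent.WreathChar
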